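import Cfsg.Agent.Lib.helper51.Amalgam

set_option autoImplicit false

namespace Cfsg.Agent.Lib.helper51

open Cfsg

section PCoreOf

variable {G : Type*} [Group G] {p : ℕ}

/-- Ambient criterion for lying in `O_p(N)`. -/
theorem le_pCoreOf {N K : Subgroup G} (hKN : K ≤ N)
    (hnorm : N ≤ Subgroup.normalizer (K : Set G)) (hp : IsPGroup p K) : K ≤ pCoreOf p N := by
  have h1 : (K.subgroupOf N).Normal :=
    (Subgroup.normal_subgroupOf_iff_le_normalizer hKN).mpr hnorm
  have h2 : IsPGroup p (K.subgroupOf N) := hp.comap_subtype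
  have h3 : K.subgroupOf N ≤ pCore p ↥N := le_pCore h1 h2
  have h4 := Subgroup.map_mono (f := N.subtype) h3
  rwa [Subgroup.map_subgroupOf_eq_of_le hKN] at h4

theorem le_normalizer_pCoreOf (p : ℕ) (N : Subgroup G) :
    N ≤ Subgroup.normalizer (pCoreOf p N : Set G) := by
  rw [← Subgroup.normal_subgroupOf_iff_le_normalizer (pCoreOf_le p N)]
  have h : (pCoreOf p N).subgroupOf N = pCore p ↥N := by
    unfold pCoreOf
    exact Subgroup.comap_map_eq_self_of_injective (Subgroup.subtype_injective N) _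
  rw [h]
  infer_instance

theorem pCoreOf_map_conj_le [Fact p.Prime] {N : Subgroup G} {g : G}
    (hg : g ∈ Subgroup.normalizer (N : Set G)) :
    (pCoreOf p N).map (MulAut.conj g).toMonoidHom ≤ pCoreOf p N := by
  apply le_pCoreOf
  · calc (pCoreOf p N).map (MulAut.conj g).toMonoidHom
        ≤ N.map (MulAut.conj g).toMonoidHom := Subgroup.map_mono (pCoreOf_le p N)
      _ = N := map_conj_eq_of_mem_normalizer hg
  · rw [← Subgroup.map_equiv_normalizer_eq]
    calc N = N.map (MulAut.conj g).toMonoidHom := (map_conj_eq_of_mem_normalizer hg).symm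
      _ ≤ _ := Subgroup.map_mono (le_normalizer_pCoreOf p N)
  · exact (isPGroup_pCoreOf N).map _

theorem normalizer_le_normalizer_pCoreOf [Fact p.Prime] (N : Subgroup G) :
    Subgroup.normalizer (N : Set G) ≤ Subgroup.normalizer (pCoreOf p N : Set G) :=
  le_normalizer_of_map_conj_le (fun _ hg => pCoreOf_map_conj_le hg)

/-- `C_N(O_p(N)) ≤ O_p(N)` as soon as `C_N(O_p(N))` is a `p`-group. -/
theorem inf_centralizer_pCoreOf_le [Fact p.Prime] (N : Subgroup G)
    (hp : IsPGroup p ↥(N ⊓ Subgroup.centralizer (pCoreOf p N : Set G))) :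
    N ⊓ Subgroup.centralizer (pCoreOf p N : Set G) ≤ pCoreOf p N := by
  apply le_pCoreOf inf_le_left _ hp
  apply le_normalizer_of_map_conj_le
  rintro g hg _ ⟨c, hc, rfl⟩
  obtain ⟨hcN, hcR⟩ := Subgroup.mem_inf.mp hc
  refine Subgroup.mem_inf.mpr ⟨N.mul_mem (N.mul_mem hg hcN) (N.inv_mem hg), ?_⟩
  refine Subgroup.mem_centralizer_iff.mpr ?_
  intro x hx
  have hx' : g⁻¹ * x * g ∈ pCoreOf p N :=
    (Subgroup.mem_normalizer_iff''.mp (le_normalizer_pCoreOf p N hg) x).mp hx
  have h1 := Subgroup.mem_centralizer_iff.mp hcR _ hx'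
  change x * (g * c * g⁻¹) = g * c * g⁻¹ * x
  calc x * (g * c * g⁻¹) = g * ((g⁻¹ * x * g) * c) * g⁻¹ := by group
    _ = g * (c * (g⁻¹ * x * g)) * g⁻¹ := by rw [h1]
    _ = g * c * g⁻¹ * x := by group

theorem isPGroup_two_of_odd_trivial [Finite G] (K : Subgroup G)
    (h : ∀ c ∈ K, ∀ m : ℕ, Odd m → c ^ m = 1 → c = 1) : IsPGroup 2 K := by
  intro c
  obtain ⟨k, m, hm, hn⟩ := Nat.exists_eq_two_pow_mul_odd (orderOf_pos (c : G)).ne'
  refine ⟨k, ?_⟩
  have h1 : ((c : G) ^ 2 ^ k) ^ m = 1 := by rw [← pow_mul, ← hn, pow_orderOf_eq_one]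
  have h2 := h _ (K.pow_mem c.2 _) m hm h1
  exact Subtype.ext (by simpa using h2)

theorem eq_one_of_pow_two_pow_of_odd {x : G} {a m : ℕ} (h1 : x ^ 2 ^ a = 1) (hm : Odd m)
    (h2 : x ^ m = 1) : x = 1 := by
  have d1 := orderOf_dvd_of_pow_eq_one h1
  have d2 := orderOf_dvd_of_pow_eq_one h2
  have hc : Nat.Coprime (2 ^ a) m := Nat.Coprime.pow_left a (Nat.coprime_two_left.mpr hm)
  have := Nat.eq_one_of_dvd_coprimes hc d1 d2
  exact orderOf_eq_one_iff.mp this

/-- If `C_G(O₂(G)) ≤ O₂(G)` and `N` is normal in `G`, then `C_N(O₂(N)) ≤ O₂(N)` (ambient form). -/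
theorem charp_normal_ambient [Finite G]
    (hchar : Subgroup.centralizer (pCore 2 G : Set G) ≤ pCore 2 G) (N : Subgroup G)
    (hN : N.Normal) :
    ∀ z ∈ N, (∀ x ∈ pCoreOf 2 N, x * z = z * x) → z ∈ pCoreOf 2 N := by
  have : Fact (Nat.Prime 2) := ⟨Nat.prime_two⟩
  have hRnorm : (pCoreOf 2 N).Normal := by
    rw [← Subgroup.normalizer_eq_top_iff, eq_top_iff]
    refine le_trans ?_ (normalizer_le_normalizer_pCoreOf N)
    rw [Subgroup.normalizer_eq_top_iff.mpr hN]
  have hQR : pCore 2 G ⊓ N ≤ pCoreOf 2 N := by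
    apply le_pCoreOf inf_le_right
    · have : (pCore 2 G ⊓ N).Normal := inferInstance
      rw [Subgroup.normalizer_eq_top_iff.mpr this]
      exact le_top
    · exact (isPGroup_pCore (p := 2) (G := G)).to_le inf_le_left
  have hCp : IsPGroup 2 ↥(N ⊓ Subgroup.centralizer (pCoreOf 2 N : Set G)) := by
    apply isPGroup_two_of_odd_trivial
    rintro c ⟨hcN, hcR⟩ m hm hcm
    have hcQ : c ∈ Subgroup.centralizer (pCore 2 G : Set G) := by
      rw [Subgroup.mem_centralizer_iff]
      intro q hq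
      have hr : c * q * c⁻¹ * q⁻¹ ∈ pCoreOf 2 N := by
        apply hQR
        constructor
        · exact (pCore 2 G).mul_mem ((pCore_normal 2 G).conj_mem q hq c) ((pCore 2 G).inv_mem hq)
        · have h1 : q * c⁻¹ * q⁻¹ ∈ N := hN.conj_mem _ (N.inv_mem hcN) q
          have h' := N.mul_mem hcN h1
          simpa [mul_assoc] using h'
      obtain ⟨r, hrdef⟩ : ∃ r, r = c * q * c⁻¹ * q⁻¹ := ⟨_, rfl⟩
      rw [← hrdef] at hr
      have hrc : r * c = c * r := Subgroup.mem_centralizer_iff.mp hcR r hr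
      have hconj : c * q * c⁻¹ = r * q := by rw [hrdef]; group
      have hrj : ∀ j : ℕ, c * r ^ j * c⁻¹ = r ^ j := by
        intro j
        have : c * r ^ j = r ^ j * c := by
          induction j with
          | zero => simp
          | succ j ih =>
            rw [pow_succ, ← mul_assoc, ih, mul_assoc, ← hrc, ← mul_assoc]
        rw [this]; group
      have hpow : ∀ j : ℕ, c ^ j * q * (c ^ j)⁻¹ = r ^ j * q := by
        intro j
        induction j with
        | zero => simp
        | succ j ih =>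
          calc c ^ (j + 1) * q * (c ^ (j + 1))⁻¹
              = c * (c ^ j * q * (c ^ j)⁻¹) * c⁻¹ := by rw [pow_succ']; group
            _ = c * (r ^ j * q) * c⁻¹ := by rw [ih]
            _ = (c * r ^ j * c⁻¹) * (c * q * c⁻¹) := by group
            _ = r ^ j * (r * q) := by rw [hconj, hrj]
            _ = r ^ (j + 1) * q := by rw [pow_succ]; group
      have hrm : r ^ m = 1 := by
        have h3 := hpow m
        rw [hcm] at h3
        simpa using h3.symm
      obtain ⟨a, ha⟩ := (isPGroup_pCoreOf (p := 2) N) ⟨r, hr⟩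
      have hr1 : r = 1 :=
        eq_one_of_pow_two_pow_of_odd (by simpa using congrArg Subtype.val ha) hm hrm
      have h4 : c * q * c⁻¹ * q⁻¹ = 1 := by rw [← hrdef, hr1]
      calc q * c = (c * q * c⁻¹ * q⁻¹)⁻¹ * (c * q) := by group
        _ = c * q := by rw [h4]; simp
    have hcQ' := hchar hcQ
    obtain ⟨b, hb⟩ := (isPGroup_pCore (p := 2) (G := G)) ⟨c, hcQ'⟩
    exact eq_one_of_pow_two_pow_of_odd (by simpa using congrArg Subtype.val hb) hm hcm
  have hCle := inf_centralizer_pCoreOf_le N hCp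
  intro z hz hzc
  apply hCle
  exact ⟨hz, Subgroup.mem_centralizer_iff.mpr (fun x hx => hzc x hx)⟩

end PCoreOf

end Cfsg.Agent.Lib.helper51
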