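import Mathlib
import Cfsg.Prelude.Def_JComponents
import Cfsg.Agent.Lib.helper13.JOver
import Cfsg.Agent.Lib.helper13.JComp
import Cfsg.Agent.Lib.helper13.JComp2
import Cfsg.Agent.Lib.helper55.Conj
import Cfsg.Agent.S0606
import Cfsg.Agent.S0610
import Cfsg.Agent.S0611
import Cfsg.Agent.S0612
import Cfsg.Agent.S0617
import Cfsg.Agent.S0618

/-!
Fine structure of the overgroups `L ∈ jOvergroups T`: besides the subgroups `V`, `N` of
`helper13`'s `overgroup_structure`, the Thompson subgroup `J(T)` is generated by elements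
centralizing `V` and by elements inducing transvections on `V` ("minimal generators").
-/

set_option autoImplicit false

namespace Cfsg.Agent.Lib.helper51

open Cfsg Cfsg.Agent.Lib.helper13

/-- `a` acts on `V` trivially or as a transvection. -/
def IsTransv {G : Type*} [Group G] (V : Subgroup G) (a : G) : Prop :=
  ∃ v₀ ∈ V, ∀ v ∈ V, a * v * a⁻¹ = v ∨ a * v * a⁻¹ = v * v₀

/-- `x` lies in a maximal elementary abelian subgroup `A` of `T` with `|A : C_A(V)| ≤ 2` and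
acts on `V` as a transvection. -/
def IsMinGen {G : Type*} [Group G] (T V : Subgroup G) (x : G) : Prop :=
  ∃ A ∈ maxIn 2 T, x ∈ A ∧ IsTransv V x ∧
    ∀ y ∈ A, y ∈ Subgroup.centralizer (V : Set G) ∨ x * y ∈ Subgroup.centralizer (V : Set G)

theorem eq_one_or_eq_of_card_two {X : Type*} [Group X] {H : Subgroup X} (h : Nat.card H = 2)
    {x y : X} (hx : x ∈ H) (hx1 : x ≠ 1) (hy : y ∈ H) : y = 1 ∨ y = x := by
  obtain ⟨z, hz, huniq⟩ := (Nat.card_eq_two_iff' (1 : H)).mp h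
  by_cases hy1 : y = 1
  · exact Or.inl hy1
  · right
    have h1 : (⟨x, hx⟩ : H) = z := huniq _ (fun h' => hx1 (congrArg Subtype.val h'))
    have h2 : (⟨y, hy⟩ : H) = z := huniq _ (fun h' => hy1 (congrArg Subtype.val h'))
    have := h2.trans h1.symm
    exact congrArg Subtype.val this

/-- A maximal elementary abelian subgroup of a Sylow subgroup is one of the whole group. -/
theorem maxIn_sylow_mem_max {Λ : Type*} [Group Λ] [Finite Λ] {p : ℕ} [Fact p.Prime]
    (P : Sylow p Λ) {A₀ : Subgroup Λ} (h : A₀ ∈ maxIn p (P : Subgroup Λ)) :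
    A₀ ∈ maxElementaryAbelianSubgroups p Λ := by
  refine ⟨h.2.1, fun E hE => ?_⟩
  obtain ⟨g, hg⟩ := exists_conj_map_le_sylow (elemAb_isPGroup hE) P
  have h1 := h.2.2 (E.map (MulAut.conj g).toMonoidHom) hg (elemAb_map _ hE)
  rwa [Subgroup.card_map_of_injective (MulAut.conj g).injective] at h1

/-- Generation of a maximal elementary abelian subgroup by "minimal" ones modulo `C(W)`. -/
theorem minGen_core {Λ : Type*} [Group Λ] [Finite Λ] (hsolv : Group.IsSolvable Λ)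
    (W : Subgroup Λ) [W.Normal] (hWel : IsElementaryAbelian 2 W)
    (hOq : Cfsg.pCore 2 (Λ ⧸ Subgroup.centralizer (W : Set Λ)) = ⊥)
    (B : Subgroup Λ) (hB : B ∈ maxElementaryAbelianSubgroups 2 Λ) :
    B ≤ Subgroup.closure {x : Λ | (x ∈ B ∧ x ∈ Subgroup.centralizer (W : Set Λ)) ∨
      ∃ A ∈ maxElementaryAbelianSubgroups 2 Λ, A ≤ B ⊔ W ∧ x ∈ A ∧ IsTransv W x ∧
        ∀ y ∈ A, y ∈ Subgroup.centralizer (W : Set Λ) ∨
          x * y ∈ Subgroup.centralizer (W : Set Λ)} := by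
  have hp2 : Fact (Nat.Prime 2) := ⟨Nat.prime_two⟩
  have hsep : Cfsg.IsPSolvable 2 Λ := Cfsg.Agent.Lib.helper29.isPSolvable_of_isSolvable 2 hsolv
  have hfin := fm_finite W
  have hJn : (Cfsg.thompsonSubgroup 2 Λ).Normal := by
    have := thompsonSubgroup_characteristic 2 Λ
    infer_instance
  have hbo : ∀ B ∈ Cfsg.maxElementaryAbelianSubgroups 2 Λ, Cfsg.IsBestOffenderOn 2 W B :=
    fun B hB => Cfsg.Agent.S0606.result W hWel B hB
  have hV' := fmV_elemAb W hWel
  have hHV := fm_hHV W (Cfsg.thompsonSubgroup 2 Λ)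
  have hf := fm_faithful W (Cfsg.thompsonSubgroup 2 Λ)
  have hS1 := fm_hS1 W hsep hOq (Cfsg.thompsonSubgroup 2 Λ)
  have hS3 : (Cfsg.thompsonSubgroup 2 Λ).map (fmPi W) =
      ⨆ A : {A : Subgroup (FM W) // A ≤ (Cfsg.thompsonSubgroup 2 Λ).map (fmPi W) ∧
        IsBestOffenderOn 2 (fmV W) A}, (A : Subgroup (FM W)) :=
    fm_hS3 W (Cfsg.maxElementaryAbelianSubgroups 2 Λ) hbo
  have hker : ∀ x : Λ, fmPi W x = 1 ↔ x ∈ Subgroup.centralizer (W : Set Λ) := by
    intro x
    rw [← MonoidHom.mem_ker, fmPi_ker]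
  obtain ⟨hBc, hB2⟩ := (isElementaryAbelian_iff B).mp hB.1
  obtain ⟨hWc, hW2⟩ := (isElementaryAbelian_iff W).mp hWel
  have hWC : W ≤ Subgroup.centralizer (W : Set Λ) := by
    intro w hw
    rw [Subgroup.mem_centralizer_iff]
    intro v hv
    exact hWc v hv w hw
  by_cases hBC : B ≤ Subgroup.centralizer (W : Set Λ)
  · intro b hb
    exact Subgroup.subset_closure (Or.inl ⟨hb, hBC hb⟩)
  have hBbar : B.map (fmPi W) ≠ ⊥ := by
    intro h
    apply hBC
    intro b hb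
    rw [← hker]
    have h1 : fmPi W b ∈ B.map (fmPi W) := Subgroup.mem_map_of_mem _ hb
    rw [h] at h1
    exact Subgroup.mem_bot.mp h1
  have hBJ : B.map (fmPi W) ≤ (Cfsg.thompsonSubgroup 2 Λ).map (fmPi W) :=
    Subgroup.map_mono (le_thompsonSubgroup hB)
  have hH1 : (Cfsg.thompsonSubgroup 2 Λ).map (fmPi W) ≠ ⊥ := by
    intro h
    rw [h] at hBJ
    exact hBbar (le_bot_iff.mp hBJ)
  have hBbo := isBestOffenderOn_map W (hbo B hB)
  have hexact := Cfsg.Agent.S0610.result (fmV W) _ hV' hHV hf hS1 hS3 hH1 (B.map (fmPi W)) hBJ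
    hBbo hBbar
  obtain ⟨k, Bi, hBi, -, hsup⟩ := Cfsg.Agent.S0612.result (fmV W) _ hV' hHV hf hS1 hS3 hH1
    (B.map (fmPi W)) hBJ hBbo hBbar
  -- the generating set
  obtain ⟨S, hS⟩ : ∃ S : Subgroup Λ, S = Subgroup.closure {x : Λ |
      (x ∈ B ∧ x ∈ Subgroup.centralizer (W : Set Λ)) ∨
      ∃ A ∈ maxElementaryAbelianSubgroups 2 Λ, A ≤ B ⊔ W ∧ x ∈ A ∧ IsTransv W x ∧
        ∀ y ∈ A, y ∈ Subgroup.centralizer (W : Set Λ) ∨
          x * y ∈ Subgroup.centralizer (W : Set Λ)} := ⟨_, rfl⟩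
  rw [← hS]
  -- each `B_i` lifts into `S ⊓ B`
  have hlift : ∀ i, Bi i ≤ (S ⊓ B).map (fmPi W) := by
    intro i
    obtain ⟨hBiB, hBibo, hBiV, hBimin⟩ := hBi i
    obtain ⟨hcard2, -, hrel⟩ := Cfsg.Agent.S0611.result (fmV W) _ hV' hHV hf hS1 hS3 hH1 (Bi i)
      (hBiB.trans hBJ) hBibo hBiV hBimin
    obtain ⟨B', hB'⟩ : ∃ B' : Subgroup Λ, B' = B ⊓ (Bi i).comap (fmPi W) := ⟨_, rfl⟩
    have hB'B : B' ≤ B := by rw [hB']; exact inf_le_left
    have hB'map : B'.map (fmPi W) = Bi i := by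
      rw [hB']
      apply le_antisymm
      · rintro _ ⟨b, hb, rfl⟩
        exact (Subgroup.mem_inf.mp hb).2
      · intro x hx
        obtain ⟨a, ha, rfl⟩ := hBiB hx
        exact ⟨a, Subgroup.mem_inf.mpr ⟨ha, hx⟩, rfl⟩
    have hB'C : B' ⊓ Subgroup.centralizer (W : Set Λ) = B ⊓ Subgroup.centralizer (W : Set Λ) := by
      apply le_antisymm (inf_le_inf_right _ hB'B)
      intro x hx
      obtain ⟨hxA, hxC⟩ := Subgroup.mem_inf.mp hx
      refine Subgroup.mem_inf.mpr ⟨?_, hxC⟩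
      rw [hB']
      refine Subgroup.mem_inf.mpr ⟨hxA, ?_⟩
      rw [Subgroup.mem_comap]
      have : fmPi W x = 1 := (hker x).mpr hxC
      rw [this]; exact (Bi i).one_mem
    obtain ⟨D, hD⟩ : ∃ D : Subgroup Λ, D = W ⊓ Subgroup.centralizer (B' : Set Λ) := ⟨_, rfl⟩
    have hDW : D ≤ W := by rw [hD]; exact inf_le_left
    have hDB' : D ≤ Subgroup.centralizer (B' : Set Λ) := by rw [hD]; exact inf_le_right
    have hAel : IsElementaryAbelian 2 (B' ⊔ D) :=
      elemAb_sup (elemAb_mono hB.1 hB'B) (elemAb_mono hWel hDW) hDB'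
    have hDmap : D.map (fmPi W) = ⊥ := by
      rw [eq_bot_iff]
      rintro _ ⟨x, hx, rfl⟩
      rw [Subgroup.mem_bot, hker]
      exact hWC (hDW hx)
    have hAmap : (B' ⊔ D).map (fmPi W) = Bi i := by
      rw [Subgroup.map_sup, hB'map, hDmap, sup_bot_eq]
    -- cardinalities
    have c1 := card_map_fmPi W B'
    rw [hB'map, hB'C, hcard2] at c1
    have c2 := card_map_fmPi W B
    have c3 := card_fmV_inf_centralizer W B'
    rw [hB'map, ← hD] at c3
    have c4 := relIndex_mul_card_of_le (inf_le_left :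
      fmV W ⊓ Subgroup.centralizer ((Bi i : Subgroup (FM W)) : Set (FM W)) ≤ fmV W)
    rw [hrel, c3] at c4
    have c5 := card_fmV_inf_centralizer W B
    rw [c5] at hexact
    have c6 := card_mul_card_le_sup_inf B' D
    have c7 : Nat.card (B' ⊓ D : Subgroup Λ) ≤
        Nat.card ↥(W ⊓ Subgroup.centralizer (B : Set Λ)) := by
      apply Subgroup.card_le_of_le
      intro x hx
      obtain ⟨hx1, hx2⟩ := Subgroup.mem_inf.mp hx
      refine Subgroup.mem_inf.mpr ⟨hDW hx2, ?_⟩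
      rw [Subgroup.mem_centralizer_iff]
      intro b hb
      exact hBc b hb x (hB'B hx1)
    have hcard : Nat.card B ≤ Nat.card (B' ⊔ D : Subgroup Λ) := by
      have hpos : 0 < Nat.card ↥(W ⊓ Subgroup.centralizer (B : Set Λ)) := Nat.card_pos
      refine Nat.le_of_mul_le_mul_right ?_ hpos
      calc Nat.card B * Nat.card ↥(W ⊓ Subgroup.centralizer (B : Set Λ))
          = Nat.card (B.map (fmPi W)) * Nat.card ↥(B ⊓ Subgroup.centralizer (W : Set Λ)) *
              Nat.card ↥(W ⊓ Subgroup.centralizer (B : Set Λ)) := by rw [c2]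
        _ = Nat.card ↥(B ⊓ Subgroup.centralizer (W : Set Λ)) *
              (Nat.card (B.map (fmPi W)) *
                Nat.card ↥(W ⊓ Subgroup.centralizer (B : Set Λ))) := by ring
        _ = Nat.card ↥(B ⊓ Subgroup.centralizer (W : Set Λ)) * Nat.card (fmV W) := by
              rw [hexact]
        _ = (2 * Nat.card ↥(B ⊓ Subgroup.centralizer (W : Set Λ))) * Nat.card D := by
              rw [← c4]; ring
        _ = Nat.card B' * Nat.card D := by rw [c1]
        _ ≤ Nat.card (B' ⊔ D : Subgroup Λ) * Nat.card (B' ⊓ D : Subgroup Λ) := c6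
        _ ≤ Nat.card (B' ⊔ D : Subgroup Λ) *
              Nat.card ↥(W ⊓ Subgroup.centralizer (B : Set Λ)) := Nat.mul_le_mul_left _ c7
    have hA𝒜 : B' ⊔ D ∈ maxElementaryAbelianSubgroups 2 Λ := mem_max_of_card_le hB hAel hcard
    have hAle : B' ⊔ D ≤ B ⊔ W := sup_le_sup hB'B hDW
    -- the fixed points of `A` on `W`
    obtain ⟨H, hH⟩ : ∃ H : Subgroup Λ,
        H = W ⊓ Subgroup.centralizer ((B' ⊔ D : Subgroup Λ) : Set Λ) := ⟨_, rfl⟩
    have hHW : H ≤ W := by rw [hH]; exact inf_le_left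
    have hHcard : Nat.card W ≤ 2 * Nat.card H := by
      have c8 := card_fmV_inf_centralizer W (B' ⊔ D)
      rw [hAmap, c3, ← hH] at c8
      rw [← card_fmV W, ← c4, c8]
    -- elements of `B'` are generators
    have hgen : B' ≤ S := by
      intro x hx
      rw [hS]
      apply Subgroup.subset_closure
      by_cases hxC : x ∈ Subgroup.centralizer (W : Set Λ)
      · exact Or.inl ⟨hB'B hx, hxC⟩
      right
      refine ⟨B' ⊔ D, hA𝒜, hAle, Subgroup.mem_sup_left hx, ?_, ?_⟩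
      · -- transvection
        have hxH : ∀ h ∈ H, x * h * x⁻¹ = h := by
          intro h hh
          rw [hH] at hh
          have := Subgroup.mem_centralizer_iff.mp (Subgroup.mem_inf.mp hh).2 x
            (Subgroup.mem_sup_left hx)
          rw [this]; group
        obtain ⟨u, hu, hux⟩ : ∃ u ∈ W, u * x ≠ x * u := by
          by_contra hcon
          push Not at hcon
          exact hxC (Subgroup.mem_centralizer_iff.mpr hcon)
        have huH : u ∉ H := by
          intro huH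
          apply hux
          have := hxH u huH
          calc u * x = (x * u * x⁻¹) * x := by rw [this]
            _ = x * u := by group
        have hdich := mem_or_mul_mem_of_card_le hHW hHcard hu huH
        have hWn : ∀ w ∈ W, x * w * x⁻¹ ∈ W := fun w hw =>
          Subgroup.Normal.conj_mem inferInstance w hw x
        refine ⟨u * (x * u⁻¹ * x⁻¹), W.mul_mem hu (hWn _ (W.inv_mem hu)), ?_⟩
        intro v hv
        rcases hdich v hv with h | h
        · exact Or.inl (hxH v h)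
        · right
          have := hxH _ h
          calc x * v * x⁻¹ = (x * (v * u) * x⁻¹) * (x * u⁻¹ * x⁻¹) := by group
            _ = v * (u * (x * u⁻¹ * x⁻¹)) := by rw [this]; group
      · intro y hy
        have hyB : fmPi W y ∈ Bi i := by
          rw [← hAmap]; exact Subgroup.mem_map_of_mem _ hy
        have hxB : fmPi W x ∈ Bi i := by
          rw [← hB'map]; exact Subgroup.mem_map_of_mem _ hx
        have hx1 : fmPi W x ≠ 1 := fun h => hxC ((hker x).mp h)
        rcases eq_one_or_eq_of_card_two hcard2 hxB hx1 hyB with h | h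
        · exact Or.inl ((hker y).mp h)
        · right
          rw [← hker, map_mul, h, ← map_mul]
          have : x * x = 1 := by rw [← pow_two]; exact hB2 x (hB'B hx)
          rw [this, map_one]
    rw [← hB'map]
    exact Subgroup.map_mono (le_inf hgen hB'B)
  intro b hb
  have h1 : fmPi W b ∈ (S ⊓ B).map (fmPi W) := by
    have h2 : B.map (fmPi W) ≤ (S ⊓ B).map (fmPi W) := by
      rw [← hsup]; exact iSup_le hlift
    exact h2 (Subgroup.mem_map_of_mem _ hb)
  obtain ⟨s, hs, hsb⟩ := h1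
  have h3 : s⁻¹ * b ∈ Subgroup.centralizer (W : Set Λ) := by
    rw [← hker, map_mul, map_inv, hsb]; group
  have h4 : s⁻¹ * b ∈ S := by
    rw [hS]
    exact Subgroup.subset_closure (Or.inl ⟨B.mul_mem (B.inv_mem hs.2) hb, h3⟩)
  have : b = s * (s⁻¹ * b) := by group
  rw [this]
  exact S.mul_mem hs.1 h4

open scoped commutatorElement in
/-- Core structure of a solvable group `Λ` of characteristic 2 in which `C(Ω₁(Z(P)))` normalizes
the Sylow 2-subgroup `P`: with `V = ⟨Ω₁(Z(S)) | S⟩` and `C = C_Λ(V)`, we have `[P, C] ≤ O_2(Λ)`,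
and there is a normal subgroup `N ≥ C` with `N / C` abelian of exponent 3 containing all
odd-order elements of `J(Λ)`. -/
theorem fine_core {Λ : Type*} [Group Λ] [Finite Λ] (hsolv : Group.IsSolvable Λ)
    (hc : Subgroup.centralizer (Cfsg.pCore 2 Λ : Set Λ) ≤ Cfsg.pCore 2 Λ) (P : Sylow 2 Λ)
    (hstar : Subgroup.centralizer (Cfsg.omegaOne 2 ((P : Subgroup Λ) ⊓
      Subgroup.centralizer ((P : Subgroup Λ) : Set Λ)) : Set Λ) ≤
        Subgroup.normalizer ((P : Subgroup Λ) : Set Λ)) :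
    ∃ V N : Subgroup Λ, V.Normal ∧ Cfsg.IsElementaryAbelian 2 V ∧
      Cfsg.omegaOne 2 ((P : Subgroup Λ) ⊓ Subgroup.centralizer ((P : Subgroup Λ) : Set Λ)) ≤ V ∧
      Cfsg.pCore 2 Λ ≤ Subgroup.centralizer (V : Set Λ) ∧
      ⁅(P : Subgroup Λ), Subgroup.centralizer (V : Set Λ)⁆ ≤ Cfsg.pCore 2 Λ ∧
      Subgroup.centralizer (V : Set Λ) ≤ N ∧ N.Normal ∧
      (∀ x ∈ N, ∀ y ∈ N, ⁅x, y⁆ ∈ Subgroup.centralizer (V : Set Λ)) ∧
      (∀ x ∈ N, x ^ 3 ∈ Subgroup.centralizer (V : Set Λ)) ∧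
      (∀ x ∈ Cfsg.thompsonSubgroup 2 Λ, Odd (orderOf x) → x ∈ N) ∧
      (∀ x ∈ Cfsg.thompsonSubgroup 2 Λ, x ^ 2 ∈ N) ∧
      (∀ x ∈ Cfsg.thompsonSubgroup 2 Λ, ∃ t ∈ (P : Subgroup Λ), t⁻¹ * x ∈ N) ∧
      (∀ a ∈ Cfsg.thompsonSubgroup 2 Λ, a * a = 1 → a ∉ Subgroup.centralizer (V : Set Λ) →
        ∃ k ∈ N, ⁅k, a⁆ ∉ Subgroup.centralizer (V : Set Λ)) ∧
      Cfsg.thompsonSubgroupOf 2 (P : Subgroup Λ) ≤ Subgroup.closure {x : Λ |
        x ∈ Cfsg.thompsonSubgroupOf 2 (P : Subgroup Λ) ∧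
          (x ∈ Subgroup.centralizer (V : Set Λ) ∨ IsMinGen (P : Subgroup Λ) V x)} ∧
      Cfsg.thompsonSubgroup 2 Λ ≤ Subgroup.closure {x : Λ |
        ∃ g : Λ, ∃ y ∈ Cfsg.thompsonSubgroupOf 2 (P : Subgroup Λ), x = g * y * g⁻¹} := by
  have hp2 : Fact (Nat.Prime 2) := ⟨Nat.prime_two⟩
  have h3 : Fact (Nat.Prime 3) := ⟨Nat.prime_three⟩
  obtain ⟨hWn, hWel, hWD⟩ := Cfsg.Agent.S0601.result (p := 2) hc
  have hPW : Cfsg.omegaOne 2 ((P : Subgroup Λ) ⊓ Subgroup.centralizer ((P : Subgroup Λ) : Set Λ)) ≤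
      ⨆ S : Sylow 2 Λ, Cfsg.omegaOne 2 ((S : Subgroup Λ) ⊓
        Subgroup.centralizer ((S : Subgroup Λ) : Set Λ)) :=
    le_iSup (fun S : Sylow 2 Λ => Cfsg.omegaOne 2 ((S : Subgroup Λ) ⊓
        Subgroup.centralizer ((S : Subgroup Λ) : Set Λ))) P
  have hRW : (⨆ S : Sylow 2 Λ, Cfsg.omegaOne 2 ((S : Subgroup Λ) ⊓
        Subgroup.centralizer ((S : Subgroup Λ) : Set Λ))) ≤
      Subgroup.centralizer (Cfsg.pCore 2 Λ : Set Λ) := by
    apply iSup_le
    intro S
    unfold Cfsg.omegaOne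
    rw [Subgroup.closure_le]
    rintro x ⟨hx, -⟩
    exact Subgroup.centralizer_le (Cfsg.Agent.Lib.helper55.pCore_le_sylow S) hx.2
  generalize hW : (⨆ S : Sylow 2 Λ, Cfsg.omegaOne 2 ((S : Subgroup Λ) ⊓
    Subgroup.centralizer ((S : Subgroup Λ) : Set Λ))) = W at *
  have hCn : (Subgroup.centralizer (W : Set Λ)).Normal := by
    rw [← fmPi_ker W]; exact MonoidHom.normal_ker _
  have hRn : (Cfsg.pCore 2 Λ).Normal := Cfsg.Agent.Lib.helper40.pCore_normal' 2 Λ
  have hRC : Cfsg.pCore 2 Λ ≤ Subgroup.centralizer (W : Set Λ) :=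
    Subgroup.le_centralizer_iff.mp hRW
  have hCP : Subgroup.centralizer (W : Set Λ) ≤ Subgroup.normalizer ((P : Subgroup Λ) : Set Λ) :=
    (Subgroup.centralizer_le hPW).trans hstar
  -- `[P, C] ≤ O_2(Λ)`
  have hPC : ⁅(P : Subgroup Λ), Subgroup.centralizer (W : Set Λ)⁆ ≤ Cfsg.pCore 2 Λ := by
    have h1 : ⁅(P : Subgroup Λ), Subgroup.centralizer (W : Set Λ)⁆ ≤
        (P : Subgroup Λ) ⊓ Subgroup.centralizer (W : Set Λ) := by
      rw [Subgroup.commutator_le]
      intro x hx c hc'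
      refine ⟨?_, ?_⟩
      · have h := (Subgroup.mem_normalizer_iff.mp (hCP hc') x⁻¹).mp (Subgroup.inv_mem _ hx)
        have e : ⁅x, c⁆ = x * (c * x⁻¹ * c⁻¹) := by
          simp only [commutatorElement_def]; group
        rw [e]
        exact Subgroup.mul_mem _ hx h
      · have e : ⁅x, c⁆ = (x * c * x⁻¹) * c⁻¹ := by
          simp only [commutatorElement_def]
        rw [e]
        exact Subgroup.mul_mem _ (hCn.conj_mem c hc' x) (Subgroup.inv_mem _ hc')
    have h2 : (P : Subgroup Λ) ⊓ Subgroup.centralizer (W : Set Λ) ≤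
        Cfsg.pCoreOf 2 (Subgroup.centralizer (W : Set Λ)) := by
      apply Cfsg.Agent.Lib.helper51.le_pCoreOf inf_le_right
      · intro c hc'
        rw [Subgroup.mem_normalizer_iff]
        intro x
        have hn := Subgroup.mem_normalizer_iff.mp (hCP hc') x
        constructor
        · rintro ⟨h1, h2⟩
          exact ⟨hn.mp h1, hCn.conj_mem x h2 c⟩
        · rintro ⟨h1, h2⟩
          refine ⟨hn.mpr h1, ?_⟩
          have := hCn.conj_mem _ h2 c⁻¹
          have e : c⁻¹ * (c * x * c⁻¹) * c⁻¹⁻¹ = x := by group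
          rwa [e] at this
      · exact P.isPGroup'.to_le inf_le_left
    have h3' : Cfsg.pCoreOf 2 (Subgroup.centralizer (W : Set Λ)) ≤ Cfsg.pCore 2 Λ := by
      have hn1 := Cfsg.Agent.Lib.helper51.normalizer_le_normalizer_pCoreOf (p := 2)
        (Subgroup.centralizer (W : Set Λ))
      rw [Subgroup.normalizer_eq_top_iff.mpr hCn, top_le_iff] at hn1
      exact Cfsg.Agent.Lib.helper40.le_pCore _ (Subgroup.normalizer_eq_top_iff.mp hn1)
        (Cfsg.Agent.Lib.helper51.isPGroup_pCoreOf _)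
    exact h1.trans (h2.trans h3')
  -- the faithful model
  have hsep : Cfsg.IsPSolvable 2 Λ := Cfsg.Agent.Lib.helper29.isPSolvable_of_isSolvable 2 hsolv
  have hOq : Cfsg.pCore 2 (Λ ⧸ Subgroup.centralizer (W : Set Λ)) = ⊥ :=
    Cfsg.Agent.S0618.pCore_quotient_eq_bot _ hWD
  have hJLgen : Cfsg.thompsonSubgroup 2 Λ ≤ Subgroup.closure {x : Λ |
      ∃ g : Λ, ∃ y ∈ Cfsg.thompsonSubgroupOf 2 (P : Subgroup Λ), x = g * y * g⁻¹} := by
    rw [thompsonSubgroup_eq_iSup_sylow]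
    apply iSup_le
    intro S
    obtain ⟨g, hg⟩ := MulAction.exists_smul_eq Λ P S
    have h1 : (S : Subgroup Λ) = (P : Subgroup Λ).map (MulAut.conj g).toMonoidHom := by
      rw [← hg]; exact Cfsg.Agent.Lib.helper55.coe_smul_sylow g P
    rw [h1, ← map_thompsonSubgroupOf]
    rintro _ ⟨y, hy, rfl⟩
    exact Subgroup.subset_closure ⟨g, y, hy, rfl⟩
  have hWP : W ≤ (P : Subgroup Λ) :=
    (Cfsg.Agent.Lib.helper40.le_pCore _ hWn (elemAb_isPGroup hWel)).trans
      (Cfsg.Agent.Lib.helper55.pCore_le_sylow P)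
  have hgenM : Cfsg.thompsonSubgroupOf 2 (P : Subgroup Λ) ≤ Subgroup.closure {x : Λ |
      x ∈ Cfsg.thompsonSubgroupOf 2 (P : Subgroup Λ) ∧
        (x ∈ Subgroup.centralizer (W : Set Λ) ∨ IsMinGen (P : Subgroup Λ) W x)} := by
    rw [thompsonSubgroupOf_eq_sSup]
    apply sSup_le
    intro A₀ hA₀
    have hA₀max := maxIn_sylow_mem_max P hA₀
    refine (minGen_core hsolv W hWel hOq A₀ hA₀max).trans ?_
    apply Subgroup.closure_mono
    rintro x (⟨hxA, hxC⟩ | ⟨A, hA, hAle, hxA, htr, hall⟩)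
    · refine ⟨?_, Or.inl hxC⟩
      rw [← thompsonSubgroupOf_eq_sSup]
      exact le_thompsonSubgroupOf_of_mem_maxIn hA₀ hxA
    · have hAP : A ≤ (P : Subgroup Λ) := hAle.trans (sup_le hA₀.1 hWP)
      have hAin : A ∈ maxIn 2 (P : Subgroup Λ) := ⟨hAP, hA.1, fun B _ hB => hA.2 B hB⟩
      refine ⟨?_, Or.inr ⟨A, hAin, hxA, htr, hall⟩⟩
      rw [← thompsonSubgroupOf_eq_sSup]
      exact le_thompsonSubgroupOf_of_mem_maxIn hAin hxA
  have hfin := fm_finite W
  have hJn : (Cfsg.thompsonSubgroup 2 Λ).Normal := by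
    have := thompsonSubgroup_characteristic 2 Λ
    infer_instance
  have hbo : ∀ B ∈ Cfsg.maxElementaryAbelianSubgroups 2 Λ, Cfsg.IsBestOffenderOn 2 W B :=
    fun B hB => Cfsg.Agent.S0606.result W hWel B hB
  have hV' := fmV_elemAb W hWel
  have hHV := fm_hHV W (Cfsg.thompsonSubgroup 2 Λ)
  have hf := fm_faithful W (Cfsg.thompsonSubgroup 2 Λ)
  have hS1 := fm_hS1 W hsep hOq (Cfsg.thompsonSubgroup 2 Λ)
  have hS3 := fm_hS3 W (Cfsg.maxElementaryAbelianSubgroups 2 Λ) hbo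
  have hker : ∀ x : Λ, fmPi W x = 1 ↔ x ∈ Subgroup.centralizer (W : Set Λ) := by
    intro x
    rw [← MonoidHom.mem_ker, fmPi_ker]
  have hmapdef : (Cfsg.thompsonSubgroup 2 Λ).map (fmPi W) =
      (sSup (Cfsg.maxElementaryAbelianSubgroups 2 Λ)).map (fmPi W) := rfl
  generalize hH₁ : (Cfsg.thompsonSubgroup 2 Λ).map (fmPi W) = H₁ at *
  have key : (∀ x : ↥H₁, x ^ 2 ∈ Cfsg.pCore 3 ↥H₁) ∧
      (∀ x ∈ Cfsg.pCore 3 ↥H₁, ∀ y ∈ Cfsg.pCore 3 ↥H₁, x * y = y * x) ∧
      (∀ x ∈ Cfsg.pCore 3 ↥H₁, x ^ 3 = 1) := by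
    by_cases hH1 : H₁ = ⊥
    · have hsub : ∀ x : ↥H₁, x = 1 := by
        intro x
        apply Subtype.ext
        have hx : (x : FM W) ∈ H₁ := x.2
        have hle : H₁ ≤ ⊥ := hH1.le
        exact Subgroup.mem_bot.mp (hle hx)
      refine ⟨fun x => ?_, fun x _ y _ => ?_, fun x _ => ?_⟩
      · rw [hsub x, one_pow]; exact Subgroup.one_mem _
      · rw [hsub x, hsub y]
      · rw [hsub x, one_pow]
    · obtain ⟨-, hE, hind, hsupE, -, -⟩ :=
        Cfsg.Agent.S0617.result (fmV W) H₁ hV' hHV hf hS1 (hmapdef ▸ hS3) hH1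
      exact pCore_three_of_family H₁ _ (fun E => ⟨(hE E).1, (hE E).2.1⟩) hind hsupE
  obtain ⟨ksq, kcomm, kcube⟩ := key
  have hJH : ∀ x ∈ Cfsg.thompsonSubgroup 2 Λ, fmPi W x ∈ H₁ := by
    intro x hx
    rw [← hH₁]
    exact Subgroup.mem_map_of_mem _ hx
  have hrange : ∀ g : Λ, fmPi W g ∈ Subgroup.normalizer ((Cfsg.pCoreOf 3 H₁ : Subgroup (FM W)) :
      Set (FM W)) := by
    intro g
    apply Cfsg.Agent.Lib.helper51.normalizer_le_normalizer_pCoreOf (p := 3) H₁
    rw [← hH₁]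
    apply Subgroup.le_normalizer_map (fmPi W)
    refine ⟨g, ?_, rfl⟩
    rw [Subgroup.normalizer_eq_top_iff.mpr hJn]
    exact Subgroup.mem_top g
  have hDmem : ∀ y : FM W, y ∈ Cfsg.pCoreOf 3 H₁ ↔ ∃ hy : y ∈ H₁, (⟨y, hy⟩ : ↥H₁) ∈ Cfsg.pCore 3 ↥H₁ := by
    intro y
    constructor
    · rintro ⟨z, hz, rfl⟩
      exact ⟨z.2, hz⟩
    · rintro ⟨hy, h⟩
      exact ⟨⟨y, hy⟩, h, rfl⟩
  have hNn : ((Cfsg.pCoreOf 3 H₁).comap (fmPi W)).Normal := by
    constructor
    intro n hn g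
    rw [Subgroup.mem_comap] at hn ⊢
    rw [map_mul, map_mul, map_inv]
    exact (Subgroup.mem_normalizer_iff.mp (hrange g) _).mp hn
  have hsqN : ∀ x ∈ Cfsg.thompsonSubgroup 2 Λ, x ^ 2 ∈ (Cfsg.pCoreOf 3 H₁).comap (fmPi W) := by
    intro x hx
    rw [Subgroup.mem_comap, map_pow, hDmem]
    refine ⟨H₁.pow_mem (hJH x hx) 2, ?_⟩
    exact ksq ⟨fmPi W x, hJH x hx⟩
  refine ⟨W, (Cfsg.pCoreOf 3 H₁).comap (fmPi W), hWn, hWel, hPW, hRC, hPC, ?_, hNn, ?_, ?_, ?_,
    hsqN, ?_, ?_, hgenM, hJLgen⟩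
  · intro c hc'
    rw [Subgroup.mem_comap, (hker c).mpr hc']
    exact Subgroup.one_mem _
  · intro x hx y hy
    rw [Subgroup.mem_comap, hDmem] at hx hy
    obtain ⟨hx1, hx2⟩ := hx
    obtain ⟨hy1, hy2⟩ := hy
    rw [← hker, map_commutatorElement, commutatorElement_def]
    have := congrArg Subtype.val (kcomm _ hx2 _ hy2)
    simp only [Subgroup.coe_mul] at this
    rw [this]; group
  · intro x hx
    rw [Subgroup.mem_comap, hDmem] at hx
    obtain ⟨hx1, hx2⟩ := hx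
    rw [← hker, map_pow]
    have := congrArg Subtype.val (kcube _ hx2)
    simpa using this
  · intro x hx hodd
    rw [Subgroup.mem_comap, hDmem]
    refine ⟨hJH x hx, ?_⟩
    apply mem_of_sq_mem_of_odd (ksq _)
    have hdvd : orderOf (⟨fmPi W x, hJH x hx⟩ : ↥H₁) ∣ orderOf x := by
      rw [← Subgroup.orderOf_coe]
      exact orderOf_map_dvd _ x
    exact Odd.of_dvd_nat hodd hdvd
  · -- `J(Λ) ≤ N P`
    intro x hx
    have hsurj := QuotientGroup.mk'_surjective ((Cfsg.pCoreOf 3 H₁).comap (fmPi W))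
    have hJbn : ((Cfsg.thompsonSubgroup 2 Λ).map
        (QuotientGroup.mk' ((Cfsg.pCoreOf 3 H₁).comap (fmPi W)))).Normal :=
      Subgroup.Normal.map hJn _ hsurj
    have hJbp : IsPGroup 2 ((Cfsg.thompsonSubgroup 2 Λ).map
        (QuotientGroup.mk' ((Cfsg.pCoreOf 3 H₁).comap (fmPi W)))) := by
      rintro ⟨_, ⟨y, hy, rfl⟩⟩
      refine ⟨1, ?_⟩
      apply Subtype.ext
      simp only [pow_one, Subgroup.coe_pow, Subgroup.coe_one]
      rw [← map_pow]
      exact (QuotientGroup.eq_one_iff _).mpr (hsqN y hy)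
    have hle := (Cfsg.Agent.Lib.helper40.le_pCore _ hJbn hJbp).trans
      (Cfsg.Agent.Lib.helper55.pCore_le_sylow (P.mapSurjective hsurj))
    have hxm : QuotientGroup.mk' ((Cfsg.pCoreOf 3 H₁).comap (fmPi W)) x ∈
        ((P.mapSurjective hsurj : Sylow 2 _) : Subgroup _) :=
      hle (Subgroup.mem_map_of_mem _ hx)
    rw [Sylow.coe_mapSurjective] at hxm
    obtain ⟨t, ht, htx⟩ := hxm
    refine ⟨t, ht, ?_⟩
    exact QuotientGroup.eq.mp htx
  · -- an element of `N` not centralized by the involution `a`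
    intro a ha haa haC
    by_contra hcon
    have hcon' : ∀ k ∈ (Cfsg.pCoreOf 3 H₁).comap (fmPi W),
        ⁅k, a⁆ ∈ Subgroup.centralizer (W : Set Λ) := by
      intro k hk
      by_contra hk'
      exact hcon ⟨k, hk, hk'⟩
    have haH : fmPi W a ∈ H₁ := hJH a ha
    have hcent : (⟨fmPi W a, haH⟩ : ↥H₁) ∈
        Subgroup.centralizer (Cfsg.pPrimeCore 2 ↥H₁ : Set ↥H₁) := by
      rw [Subgroup.mem_centralizer_iff]
      intro y hy
      have hyodd : Odd (orderOf y) :=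
        Nat.Coprime.odd_of_right (Cfsg.Agent.Lib.helper40.orderOf_coprime_of_mem_pPrimeCore hy)
      have hy3 : y ∈ Cfsg.pCore 3 ↥H₁ := mem_of_sq_mem_of_odd (ksq y) hyodd
      have hyH : (y : FM W) ∈ (Cfsg.thompsonSubgroup 2 Λ).map (fmPi W) := by
        rw [hH₁]; exact y.2
      obtain ⟨k, -, hk⟩ := hyH
      have hkN : k ∈ (Cfsg.pCoreOf 3 H₁).comap (fmPi W) := by
        rw [Subgroup.mem_comap, hDmem]
        refine ⟨hk ▸ y.2, ?_⟩
        have e : (⟨fmPi W k, hk ▸ y.2⟩ : ↥H₁) = y := Subtype.ext hk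
        rw [e]; exact hy3
      have h2 : fmPi W ⁅k, a⁆ = 1 := (hker _).mpr (hcon' k hkN)
      rw [map_commutatorElement, commutatorElement_def] at h2
      apply Subtype.ext
      simp only [Subgroup.coe_mul]
      rw [← hk]
      calc fmPi W k * fmPi W a
          = (fmPi W k * fmPi W a * (fmPi W k)⁻¹ * (fmPi W a)⁻¹) * (fmPi W a * fmPi W k) := by
            group
        _ = fmPi W a * fmPi W k := by rw [h2, one_mul]
    have hmem := hS1 hcent
    have hcop := Cfsg.Agent.Lib.helper40.orderOf_coprime_of_mem_pPrimeCore hmem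
    have h2 : (⟨fmPi W a, haH⟩ : ↥H₁) ^ 2 = 1 := by
      apply Subtype.ext
      simp only [Subgroup.coe_pow, Subgroup.coe_one]
      rw [← map_pow, pow_two, haa, map_one]
    have hdvd := orderOf_dvd_of_pow_eq_one h2
    have h1 : orderOf (⟨fmPi W a, haH⟩ : ↥H₁) = 1 := Nat.Coprime.eq_one_of_dvd hcop hdvd
    have h3 : (⟨fmPi W a, haH⟩ : ↥H₁) = 1 := orderOf_eq_one_iff.mp h1
    exact haC ((hker a).mp (congrArg Subtype.val h3))

section FineTransfer

universe u

variable {G : Type u} [Group G]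

open scoped commutatorElement in
/-- The data attached to an overgroup `L` with Sylow 2-subgroup `T`: `V`, `N` as in
`overgroup_structure`, and `JL = J(L)`. -/
structure FineData (T L V N JL : Subgroup G) : Prop where
  syl : IsSylowTwoIn T L
  char : Subgroup.centralizer (Cfsg.pCoreOf 2 L : Set G) ≤ Cfsg.pCoreOf 2 L
  VL : V ≤ L
  LV : L ≤ Subgroup.normalizer (V : Set G)
  Vel : Cfsg.IsElementaryAbelian 2 V
  omV : Cfsg.omegaCenterOf T ≤ V
  RC : Cfsg.pCoreOf 2 L ≤ Subgroup.centralizer (V : Set G)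
  TC : ⁅T, L ⊓ Subgroup.centralizer (V : Set G)⁆ ≤ Cfsg.pCoreOf 2 L
  CN : L ⊓ Subgroup.centralizer (V : Set G) ≤ N
  NL : N ≤ L
  LN : L ≤ Subgroup.normalizer (N : Set G)
  comm : ∀ x ∈ N, ∀ y ∈ N, ⁅x, y⁆ ∈ Subgroup.centralizer (V : Set G)
  cube : ∀ x ∈ N, x ^ 3 ∈ Subgroup.centralizer (V : Set G)
  XN : ∀ X : Subgroup G, X ≤ L → ⁅X, Cfsg.thompsonSubgroupOf 2 T⁆ = X →
    Subgroup.closure {x : G | x ∈ X ∧ Odd (orderOf x)} = X → X ≤ N
  JLL : JL ≤ L
  LJL : L ≤ Subgroup.normalizer (JL : Set G)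
  JJL : Cfsg.thompsonSubgroupOf 2 T ≤ JL
  sq : ∀ x ∈ JL, x ^ 2 ∈ N
  JNT : ∀ x ∈ JL, ∃ t ∈ T, t⁻¹ * x ∈ N
  exk : ∀ a ∈ JL, a * a = 1 → a ∉ Subgroup.centralizer (V : Set G) →
    ∃ k ∈ N, ⁅k, a⁆ ∉ Subgroup.centralizer (V : Set G)
  gen : Cfsg.thompsonSubgroupOf 2 T ≤ Subgroup.closure {x : G |
    x ∈ Cfsg.thompsonSubgroupOf 2 T ∧
      (x ∈ Subgroup.centralizer (V : Set G) ∨ IsMinGen T V x)}
  JLgen : JL ≤ Subgroup.closure {x : G |
    ∃ l ∈ L, ∃ y ∈ Cfsg.thompsonSubgroupOf 2 T, x = l * y * l⁻¹}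

open scoped commutatorElement in
/-- Existence of the fine data for an overgroup of characteristic 2. -/
theorem overgroup_fine [Finite G]
    (hZ : ∀ S : Sylow 2 G, Subgroup.centralizer (Cfsg.omegaCenterOf (S : Subgroup G) : Set G) ≤
      Subgroup.normalizer ((S : Subgroup G) : Set G))
    {T L : Subgroup G} (hT : IsSylowTwoIn T L) (hsolv : Group.IsSolvable ↥L)
    (hchar : Subgroup.centralizer (Cfsg.pCoreOf 2 L : Set G) ≤ Cfsg.pCoreOf 2 L) :
    ∃ V N JL : Subgroup G, FineData T L V N JL := by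
  have hp2 : Fact (Nat.Prime 2) := ⟨Nat.prime_two⟩
  obtain ⟨P, hP⟩ := exists_sylow_of_isSylowTwoIn hT
  have hTL : T ≤ L := hT.1
  have hPmap : (P : Subgroup ↥L).map L.subtype = T := by
    rw [hP]; exact Subgroup.map_subgroupOf_eq_of_le hTL
  have hPmem : ∀ q : ↥L, q ∈ (P : Subgroup ↥L) ↔ (q : G) ∈ T := by
    intro q
    rw [hP, Subgroup.mem_subgroupOf]
  have hcΛ : Subgroup.centralizer (Cfsg.pCore 2 ↥L : Set ↥L) ≤ Cfsg.pCore 2 ↥L :=
    Cfsg.Agent.Lib.helper53.charP_subtype_of_ambient (inf_le_right.trans hchar)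
  have hstarG := inf_centralizer_omegaCenterOf_le_normalizer hZ hT hchar
  have hOmMap : ∀ x : G, x ∈ T ⊓ Subgroup.centralizer (T : Set G) → x ^ 2 = 1 →
      ∃ x' : ↥L, (x' : G) = x ∧ x' ∈ Cfsg.omegaOne 2 ((P : Subgroup ↥L) ⊓
        Subgroup.centralizer ((P : Subgroup ↥L) : Set ↥L)) := by
    rintro x ⟨hx1, hx2⟩ hx3
    refine ⟨⟨x, hTL hx1⟩, rfl, Subgroup.subset_closure ⟨⟨?_, ?_⟩, ?_⟩⟩
    · exact (hPmem _).mpr hx1
    · apply Subgroup.mem_centralizer_iff.mpr
      intro q hq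
      apply Subtype.ext
      exact Subgroup.mem_centralizer_iff.mp hx2 q ((hPmem q).mp hq)
    · apply Subtype.ext
      simpa using hx3
  have hstar : Subgroup.centralizer (Cfsg.omegaOne 2 ((P : Subgroup ↥L) ⊓
      Subgroup.centralizer ((P : Subgroup ↥L) : Set ↥L)) : Set ↥L) ≤
        Subgroup.normalizer ((P : Subgroup ↥L) : Set ↥L) := by
    intro y hy
    have hyG : (y : G) ∈ L ⊓ Subgroup.centralizer (Cfsg.omegaCenterOf T : Set G) := by
      refine ⟨y.2, ?_⟩
      have hle : Cfsg.omegaCenterOf T ≤ Subgroup.centralizer ({(y : G)} : Set G) := by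
        unfold Cfsg.omegaCenterOf Cfsg.omegaOne
        rw [Subgroup.closure_le]
        rintro x ⟨hx12, hx3⟩
        obtain ⟨x', hx'x, hx'⟩ := hOmMap x hx12 hx3
        have h1 := Subgroup.mem_centralizer_iff.mp hy x' hx'
        apply Subgroup.mem_centralizer_iff.mpr
        intro z hz
        rw [Set.mem_singleton_iff] at hz
        rw [hz, ← hx'x]
        exact (congrArg Subtype.val h1).symm
      apply Subgroup.mem_centralizer_iff.mpr
      intro z hz
      exact (Subgroup.mem_centralizer_iff.mp (hle hz) (y : G) rfl).symm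
    have hyN := hstarG hyG
    rw [Subgroup.mem_normalizer_iff] at hyN ⊢
    intro h
    rw [hPmem, hPmem]
    exact hyN h
  obtain ⟨V', N', hVn, hVel, hOmV, hRC, hPC, hCN, hNn, hcomm, hcube, hodd, hsq, hJNT, hexk, hgen,
    hJLgen⟩ := fine_core hsolv hcΛ P hstar
  have hCmap := map_subtype_centralizer L V'
  have hCiff : ∀ x' : ↥L, x' ∈ Subgroup.centralizer (V' : Set ↥L) ↔
      (x' : G) ∈ Subgroup.centralizer ((V'.map L.subtype : Subgroup G) : Set G) := by
    intro x'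
    constructor
    · intro h
      have h1 : L.subtype x' ∈ (Subgroup.centralizer (V' : Set ↥L)).map L.subtype :=
        Subgroup.mem_map_of_mem _ h
      rw [hCmap] at h1
      exact h1.2
    · intro h
      rw [Subgroup.mem_centralizer_iff]
      intro v hv
      apply Subtype.ext
      exact Subgroup.mem_centralizer_iff.mp h (v : G) ⟨v, hv, rfl⟩
  have hJLn : (Cfsg.thompsonSubgroup 2 ↥L).Normal := by
    have := thompsonSubgroup_characteristic 2 ↥L
    infer_instance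
  have hJle : Cfsg.thompsonSubgroupOf 2 T ≤ (Cfsg.thompsonSubgroup 2 ↥L).map L.subtype := by
    rw [← hPmap, thompsonSubgroupOf_map_of_injOn L.subtype (P : Subgroup ↥L)
      (L.subtype_injective.injOn)]
    apply Subgroup.map_mono
    rw [thompsonSubgroup_eq_iSup_sylow]
    exact le_iSup (fun S : Sylow 2 ↥L => Cfsg.thompsonSubgroupOf 2 (S : Subgroup ↥L)) P
  refine ⟨V'.map L.subtype, N'.map L.subtype, (Cfsg.thompsonSubgroup 2 ↥L).map L.subtype,
    ⟨hT, hchar, Subgroup.map_subtype_le _,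
    le_normalizer_map_subtype L V' hVn, elemAb_map _ hVel, ?_, ?_, ?_, ?_,
    Subgroup.map_subtype_le _, le_normalizer_map_subtype L N' hNn, ?_, ?_, ?_,
    Subgroup.map_subtype_le _, le_normalizer_map_subtype L _ hJLn, hJle, ?_, ?_, ?_, ?_, ?_⟩⟩
  · unfold Cfsg.omegaCenterOf Cfsg.omegaOne
    rw [Subgroup.closure_le]
    rintro x ⟨hx12, hx3⟩
    obtain ⟨x', hx'x, hx'⟩ := hOmMap x hx12 hx3
    exact ⟨x', hOmV hx', hx'x⟩
  · have : Cfsg.pCoreOf 2 L ≤
        L ⊓ Subgroup.centralizer ((V'.map L.subtype : Subgroup G) : Set G) := by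
      rw [← hCmap]; exact Subgroup.map_mono hRC
    exact this.trans inf_le_right
  · rw [← hCmap, ← hPmap, ← Subgroup.map_commutator]
    exact Subgroup.map_mono hPC
  · rw [← hCmap]; exact Subgroup.map_mono hCN
  · rintro _ ⟨x, hx, rfl⟩ _ ⟨y, hy, rfl⟩
    have h1 : L.subtype ⁅x, y⁆ ∈ (Subgroup.centralizer (V' : Set ↥L)).map L.subtype :=
      Subgroup.mem_map_of_mem _ (hcomm x hx y hy)
    rw [hCmap, map_commutatorElement] at h1
    exact h1.2
  · rintro _ ⟨x, hx, rfl⟩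
    have h1 : L.subtype (x ^ 3) ∈ (Subgroup.centralizer (V' : Set ↥L)).map L.subtype :=
      Subgroup.mem_map_of_mem _ (hcube x hx)
    rw [hCmap, map_pow] at h1
    exact h1.2
  · intro X hXL hXJ hXgen
    have hJle : Cfsg.thompsonSubgroupOf 2 T ≤ (Cfsg.thompsonSubgroup 2 ↥L).map L.subtype := by
      rw [← hPmap, thompsonSubgroupOf_map_of_injOn L.subtype (P : Subgroup ↥L)
        (L.subtype_injective.injOn)]
      apply Subgroup.map_mono
      rw [thompsonSubgroup_eq_iSup_sylow]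
      exact le_iSup (fun S : Sylow 2 ↥L => Cfsg.thompsonSubgroupOf 2 (S : Subgroup ↥L)) P
    have hJLn : L ≤ Subgroup.normalizer
        (((Cfsg.thompsonSubgroup 2 ↥L).map L.subtype : Subgroup G) : Set G) :=
      le_normalizer_map_subtype L _ (by
        have := thompsonSubgroup_characteristic 2 ↥L
        infer_instance)
    have hXJL : X ≤ (Cfsg.thompsonSubgroup 2 ↥L).map L.subtype := by
      rw [← hXJ, Subgroup.commutator_le]
      intro x hx j hj
      have h1 := (Subgroup.mem_normalizer_iff.mp (hJLn (hXL hx)) j).mp (hJle hj)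
      have e : ⁅x, j⁆ = (x * j * x⁻¹) * j⁻¹ := by simp only [commutatorElement_def]
      rw [e]
      exact Subgroup.mul_mem _ h1 (Subgroup.inv_mem _ (hJle hj))
    rw [← hXgen, Subgroup.closure_le]
    rintro x ⟨hxX, hxodd⟩
    obtain ⟨x', hx'J, rfl⟩ := hXJL hxX
    refine ⟨x', hodd x' hx'J ?_, rfl⟩
    have : orderOf (L.subtype x') = orderOf x' :=
      orderOf_injective L.subtype L.subtype_injective x'
    rw [← this]; exact hxodd
  · -- squares
    rintro _ ⟨x, hx, rfl⟩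
    exact ⟨x ^ 2, hsq x hx, by simp⟩
  · -- `JL ≤ N T`
    rintro _ ⟨x, hx, rfl⟩
    obtain ⟨t, ht, htx⟩ := hJNT x hx
    exact ⟨(t : G), (hPmem t).mp ht, ⟨t⁻¹ * x, htx, by simp⟩⟩
  · -- an element of `N` not centralized by the involution
    rintro _ ⟨a, ha, rfl⟩ haa haC
    have haa' : a * a = 1 := by
      apply Subtype.ext
      simpa using haa
    have haC' : a ∉ Subgroup.centralizer (V' : Set ↥L) := fun h => haC ((hCiff a).mp h)
    obtain ⟨k, hk, hka⟩ := hexk a ha haa' haC'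
    refine ⟨(k : G), ⟨k, hk, rfl⟩, fun h => hka ((hCiff _).mpr ?_)⟩
    have e : ((⁅k, a⁆ : ↥L) : G) = ⁅(k : G), L.subtype a⁆ := by
      simp [commutatorElement_def]
    rw [e]; exact h
  · -- generation by minimal elements
    rw [← hPmap, thompsonSubgroupOf_map_of_injOn L.subtype (P : Subgroup ↥L)
      (L.subtype_injective.injOn)]
    refine (Subgroup.map_mono hgen).trans ?_
    rw [MonoidHom.map_closure]
    apply Subgroup.closure_mono
    rintro _ ⟨x, ⟨hxJ, hx⟩, rfl⟩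
    refine ⟨Subgroup.mem_map_of_mem _ hxJ, ?_⟩
    rcases hx with hx | ⟨A, hA, hxA, ⟨v₀, hv₀, htr⟩, hall⟩
    · exact Or.inl ((hCiff x).mp hx)
    · right
      refine ⟨A.map L.subtype, ?_, Subgroup.mem_map_of_mem _ hxA, ⟨(v₀ : G), ⟨v₀, hv₀, rfl⟩, ?_⟩, ?_⟩
      · exact map_mem_maxIn_of_injOn L.subtype (L.subtype_injective.injOn) hA
      · rintro _ ⟨v, hv, rfl⟩
        rcases htr v hv with h | h
        · left
          have := congrArg Subtype.val h
          simpa using this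
        · right
          have := congrArg Subtype.val h
          simpa using this
      · rintro _ ⟨y, hy, rfl⟩
        rcases hall y hy with h | h
        · exact Or.inl ((hCiff y).mp h)
        · right
          have := (hCiff _).mp h
          simpa using this
  · -- `JL` is generated by the conjugates of `J(T)`
    refine (Subgroup.map_mono hJLgen).trans ?_
    rw [MonoidHom.map_closure]
    apply Subgroup.closure_mono
    rintro _ ⟨_, ⟨g, y, hy, rfl⟩, rfl⟩
    refine ⟨(g : G), g.2, (y : G), ?_, by simp⟩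
    rw [← hPmap, thompsonSubgroupOf_map_of_injOn L.subtype (P : Subgroup ↥L)
      (L.subtype_injective.injOn)]
    exact Subgroup.mem_map_of_mem _ hy

end FineTransfer

end Cfsg.Agent.Lib.helper51
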