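import Mathlib
import Cfsg.Prelude.Def_JComponents
import Cfsg.Agent.Lib.helper51.JFine

/-!
Basic consequences of `FineData`, and general facts on Thompson subgroups and Sylow subgroups
of subgroups.
-/

set_option autoImplicit false

namespace Cfsg.Agent.Lib.helper51

open Cfsg Cfsg.Agent.Lib.helper13
open scoped commutatorElement

section General

universe u

variable {G : Type u} [Group G]

theorem conj_mem_of_mem_normalizer {H : Subgroup G} {g x : G}
    (hg : g ∈ Subgroup.normalizer (H : Set G)) (hx : x ∈ H) : g * x * g⁻¹ ∈ H :=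
  (Subgroup.mem_normalizer_iff.mp hg x).mp hx

theorem inv_conj_mem_of_mem_normalizer {H : Subgroup G} {g x : G}
    (hg : g ∈ Subgroup.normalizer (H : Set G)) (hx : x ∈ H) : g⁻¹ * x * g ∈ H := by
  have := conj_mem_of_mem_normalizer (Subgroup.inv_mem _ hg) hx
  simpa using this

theorem le_normalizer_inf' {A B C : Subgroup G} (hB : A ≤ Subgroup.normalizer (B : Set G))
    (hC : A ≤ Subgroup.normalizer (C : Set G)) :
    A ≤ Subgroup.normalizer ((B ⊓ C : Subgroup G) : Set G) := by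
  intro a ha
  rw [Subgroup.mem_normalizer_iff]
  intro h
  rw [Subgroup.mem_inf, Subgroup.mem_inf, ← Subgroup.mem_normalizer_iff.mp (hB ha) h,
    ← Subgroup.mem_normalizer_iff.mp (hC ha) h]

theorem isPGroup_zpowers_of_pow {c : G} {k : ℕ} (h : c ^ 2 ^ k = 1) :
    IsPGroup 2 (Subgroup.zpowers c) := by
  rintro ⟨z, hz⟩
  obtain ⟨i, rfl⟩ := Subgroup.mem_zpowers_iff.mp hz
  refine ⟨k, ?_⟩
  apply Subtype.ext
  simp only [Subgroup.coe_pow, Subgroup.coe_one]
  rw [← zpow_natCast, ← zpow_mul, mul_comm, zpow_mul, zpow_natCast, h, one_zpow]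

/-- Sylow conjugacy inside a subgroup. -/
theorem exists_conj_mem_of_isPGroup [Finite G] {T L S : Subgroup G} (h : IsSylowTwoIn T L)
    (hSL : S ≤ L) (hS : IsPGroup 2 S) : ∃ l ∈ L, ∀ x ∈ S, l * x * l⁻¹ ∈ T := by
  have hp2 : Fact (Nat.Prime 2) := ⟨Nat.prime_two⟩
  obtain ⟨P, hP⟩ := exists_sylow_of_isSylowTwoIn h
  have hS' : IsPGroup 2 (S.subgroupOf L) :=
    hS.comap_of_injective L.subtype L.subtype_injective
  obtain ⟨g, hg⟩ := exists_conj_map_le_sylow hS' P
  refine ⟨(g : G), g.2, fun x hx => ?_⟩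
  have h1 : g * ⟨x, hSL hx⟩ * g⁻¹ ∈ (P : Subgroup ↥L) :=
    hg ⟨⟨x, hSL hx⟩, Subgroup.mem_subgroupOf.mpr hx, rfl⟩
  rw [hP, Subgroup.mem_subgroupOf] at h1
  simpa using h1

theorem map_conj_mem_maxIn_of_le {p : ℕ} {U A : Subgroup G} {g : G} (hA : A ∈ maxIn p U)
    (h : A.map (MulAut.conj g).toMonoidHom ≤ U) :
    A.map (MulAut.conj g).toMonoidHom ∈ maxIn p U := by
  refine ⟨h, elemAb_map _ hA.2.1, fun B hBU hB => ?_⟩
  rw [Subgroup.card_map_of_injective (MulAut.conj g).injective]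
  exact hA.2.2 B hBU hB

/-- If `g` conjugates `J(U)` into `U` then `g` normalizes `J(U)`. -/
theorem mem_normalizer_thompson_of_conj_mem [Finite G] {p : ℕ} {U : Subgroup G} {g : G}
    (h : ∀ x ∈ thompsonSubgroupOf p U, g * x * g⁻¹ ∈ U) :
    g ∈ Subgroup.normalizer (thompsonSubgroupOf p U : Set G) := by
  apply mem_normalizer_of_forall_conj_mem
  have hle : thompsonSubgroupOf p U ≤
      (thompsonSubgroupOf p U).comap (MulAut.conj g).toMonoidHom := by
    conv_lhs => rw [thompsonSubgroupOf_eq_sSup]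
    apply sSup_le
    intro A hA
    rw [← Subgroup.map_le_iff_le_comap]
    have hAU : A.map (MulAut.conj g).toMonoidHom ≤ U := by
      rintro _ ⟨x, hx, rfl⟩
      exact h x (le_thompsonSubgroupOf_of_mem_maxIn hA hx)
    exact le_thompsonSubgroupOf_of_mem_maxIn (map_conj_mem_maxIn_of_le hA hAU)
  intro x hx
  exact hle hx

/-- If `J(U)` lies in a conjugate `U'` of `U` then `J(U') = J(U)`. -/
theorem thompson_eq_of_le_conj [Finite G] {p : ℕ} {U U' : Subgroup G} {g : G}
    (hU' : U' = U.map (MulAut.conj g).toMonoidHom) (h : thompsonSubgroupOf p U ≤ U') :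
    thompsonSubgroupOf p U' = thompsonSubgroupOf p U := by
  have h1 : thompsonSubgroupOf p U ≤ thompsonSubgroupOf p U' := by
    conv_lhs => rw [thompsonSubgroupOf_eq_sSup]
    apply sSup_le
    intro A hA
    apply le_thompsonSubgroupOf_of_mem_maxIn
    refine ⟨(le_thompsonSubgroupOf_of_mem_maxIn hA).trans h, hA.2.1, fun B hBU hB => ?_⟩
    have hB' : B.map (MulAut.conj g⁻¹).toMonoidHom ≤ U := by
      rintro _ ⟨x, hx, rfl⟩
      have hx' := hBU hx
      rw [hU'] at hx'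
      obtain ⟨u, hu, rfl⟩ := hx'
      have e : (MulAut.conj g⁻¹).toMonoidHom ((MulAut.conj g).toMonoidHom u) = u := by
        simp only [MulEquiv.coe_toMonoidHom, MulAut.conj_apply]
        group
      rw [e]; exact hu
    have := hA.2.2 _ hB' (elemAb_map _ hB)
    rwa [Subgroup.card_map_of_injective (MulAut.conj g⁻¹).injective] at this
  have h2 : Nat.card (thompsonSubgroupOf p U') = Nat.card (thompsonSubgroupOf p U) := by
    rw [hU', ← map_thompsonSubgroupOf,
      Subgroup.card_map_of_injective (MulAut.conj g).injective]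
  exact (Subgroup.eq_of_le_of_card_ge h1 h2.le).symm

end General

section Fine

universe u

variable {G : Type u} [Group G] {T L V N JL : Subgroup G}

theorem FineData.TL (F : FineData T L V N JL) : T ≤ L := F.syl.1

theorem FineData.T2 (F : FineData T L V N JL) : IsPGroup 2 T := F.syl.2.1

theorem FineData.LR (_F : FineData T L V N JL) :
    L ≤ Subgroup.normalizer (pCoreOf 2 L : Set G) := le_normalizer_pCoreOf 2 L

theorem FineData.RL (_F : FineData T L V N JL) : pCoreOf 2 L ≤ L := pCoreOf_le 2 L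

theorem FineData.RT [Finite G] (F : FineData T L V N JL) : pCoreOf 2 L ≤ T :=
  pCoreOf_le_of_isSylowTwoIn F.syl

theorem FineData.R2 (_F : FineData T L V N JL) : IsPGroup 2 (pCoreOf 2 L) :=
  have : Fact (Nat.Prime 2) := ⟨Nat.prime_two⟩
  isPGroup_pCoreOf L

theorem FineData.VR (F : FineData T L V N JL) : V ≤ pCoreOf 2 L :=
  have : Fact (Nat.Prime 2) := ⟨Nat.prime_two⟩
  le_pCoreOf F.VL F.LV (elemAb_isPGroup F.Vel)

theorem FineData.Vc (F : FineData T L V N JL) : ∀ a ∈ V, ∀ b ∈ V, a * b = b * a :=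
  ((isElementaryAbelian_iff V).mp F.Vel).1

theorem FineData.V2 (F : FineData T L V N JL) : ∀ a ∈ V, a * a = 1 := fun a ha => by
  rw [← pow_two]; exact ((isElementaryAbelian_iff V).mp F.Vel).2 a ha

theorem FineData.conjV (F : FineData T L V N JL) {g v : G} (hg : g ∈ L) (hv : v ∈ V) :
    g * v * g⁻¹ ∈ V := conj_mem_of_mem_normalizer (F.LV hg) hv

theorem FineData.LC (F : FineData T L V N JL) :
    L ≤ Subgroup.normalizer ((L ⊓ Subgroup.centralizer (V : Set G) : Subgroup G) : Set G) :=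
  le_normalizer_inf_centralizer F.LV

theorem FineData.conjC (F : FineData T L V N JL) {g c : G} (hg : g ∈ L)
    (hc : c ∈ L ⊓ Subgroup.centralizer (V : Set G)) :
    g * c * g⁻¹ ∈ L ⊓ Subgroup.centralizer (V : Set G) :=
  conj_mem_of_mem_normalizer (F.LC hg) hc

theorem FineData.conjN (F : FineData T L V N JL) {g n : G} (hg : g ∈ L) (hn : n ∈ N) :
    g * n * g⁻¹ ∈ N := conj_mem_of_mem_normalizer (F.LN hg) hn

theorem FineData.conjR (F : FineData T L V N JL) {g r : G} (hg : g ∈ L)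
    (hr : r ∈ pCoreOf 2 L) : g * r * g⁻¹ ∈ pCoreOf 2 L :=
  conj_mem_of_mem_normalizer (F.LR hg) hr

theorem FineData.conjJL (F : FineData T L V N JL) {g x : G} (hg : g ∈ L) (hx : x ∈ JL) :
    g * x * g⁻¹ ∈ JL := conj_mem_of_mem_normalizer (F.LJL hg) hx

theorem FineData.JT (_F : FineData T L V N JL) : thompsonSubgroupOf 2 T ≤ T :=
  thompsonSubgroupOf_le_self T

theorem FineData.comm_TC (F : FineData T L V N JL) {t c : G} (ht : t ∈ T)
    (hc : c ∈ L ⊓ Subgroup.centralizer (V : Set G)) : t * c * t⁻¹ * c⁻¹ ∈ pCoreOf 2 L := by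
  have := F.TC (Subgroup.commutator_mem_commutator ht hc)
  rwa [commutatorElement_def] at this

theorem FineData.CT [Finite G] (F : FineData T L V N JL) :
    L ⊓ Subgroup.centralizer (V : Set G) ≤ Subgroup.normalizer (T : Set G) := by
  intro c hc
  apply mem_normalizer_of_forall_conj_mem
  intro t ht
  have h1 := F.RT (F.comm_TC (T.inv_mem ht) hc)
  have e : c * t * c⁻¹ = t * (t⁻¹ * c * t⁻¹⁻¹ * c⁻¹) := by group
  rw [e]
  exact T.mul_mem ht h1

/-- A 2-element of `C_L(V)` lies in `O_2(L)`. -/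
theorem FineData.two_elt [Finite G] (F : FineData T L V N JL) {c : G}
    (hc : c ∈ L ⊓ Subgroup.centralizer (V : Set G)) (h2 : ∃ k : ℕ, c ^ 2 ^ k = 1) :
    c ∈ pCoreOf 2 L := by
  have hp2 : Fact (Nat.Prime 2) := ⟨Nat.prime_two⟩
  obtain ⟨k, hk⟩ := h2
  have hcT := F.CT hc
  have hZ2 : IsPGroup 2 (Subgroup.zpowers c) := isPGroup_zpowers_of_pow hk
  have hS2 : IsPGroup 2 (T ⊔ Subgroup.zpowers c : Subgroup G) :=
    IsPGroup.to_sup_of_normal_left' F.T2 hZ2 (Subgroup.zpowers_le.mpr hcT)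
  have hTeq := eq_inf_of_isSylowTwoIn F.syl hS2 le_sup_left
  have hcT' : c ∈ T := by
    rw [← hTeq]
    exact ⟨Subgroup.mem_sup_right (Subgroup.mem_zpowers c), hc.1⟩
  have h1 : T ⊓ (L ⊓ Subgroup.centralizer (V : Set G)) ≤
      pCoreOf 2 (L ⊓ Subgroup.centralizer (V : Set G)) :=
    le_pCoreOf inf_le_right (le_normalizer_inf' F.CT Subgroup.le_normalizer)
      (F.T2.to_le inf_le_left)
  have h2 : pCoreOf 2 (L ⊓ Subgroup.centralizer (V : Set G)) ≤ pCoreOf 2 L :=
    le_pCoreOf ((pCoreOf_le 2 _).trans inf_le_left)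
      (F.LC.trans (normalizer_le_normalizer_pCoreOf _)) (isPGroup_pCoreOf _)
  exact h2 (h1 ⟨hcT', hc⟩)

theorem FineData.sq_mem [Finite G] (F : FineData T L V N JL) {c : G}
    (hc : c ∈ L ⊓ Subgroup.centralizer (V : Set G)) (h : c * c ∈ pCoreOf 2 L) :
    c ∈ pCoreOf 2 L := by
  obtain ⟨k, hk⟩ := F.R2 ⟨c * c, h⟩
  have hk' : (c * c) ^ 2 ^ k = 1 := by
    have := congrArg Subtype.val hk
    simpa using this
  refine F.two_elt hc ⟨k + 1, ?_⟩
  rw [pow_succ', pow_mul, pow_two]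
  exact hk'

theorem FineData.comm_JL (F : FineData T L V N JL) {x y : G} (hx : x ∈ JL) (hy : y ∈ JL) :
    ⁅x, y⁆ ∈ N := by
  have e : ⁅x, y⁆ = ((x * y) * (x * y)) * (y⁻¹ * (x⁻¹ * x⁻¹) * y⁻¹⁻¹) * (y⁻¹ * y⁻¹) := by
    rw [commutatorElement_def]; group
  have h1 : (x * y) * (x * y) ∈ N := by
    rw [← pow_two]; exact F.sq _ (JL.mul_mem hx hy)
  have h2 : x⁻¹ * x⁻¹ ∈ N := by
    rw [← pow_two]; exact F.sq _ (JL.inv_mem hx)
  have h3 : y⁻¹ * y⁻¹ ∈ N := by
    rw [← pow_two]; exact F.sq _ (JL.inv_mem hy)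
  rw [e]
  exact N.mul_mem (N.mul_mem h1 (F.conjN (L.inv_mem (F.JLL hy)) h2)) h3

/-- A 2-element of `N` centralizes `V`. -/
theorem FineData.cube_two (F : FineData T L V N JL) {x : G} (hx : x ∈ N)
    (h2 : ∃ k : ℕ, x ^ 2 ^ k = 1) : x ∈ Subgroup.centralizer (V : Set G) := by
  obtain ⟨k, hk⟩ := h2
  exact mem_of_pow_mem_of_coprime _ x 3 (2 ^ k) (Nat.Coprime.pow_right k (by norm_num))
    (F.cube x hx) (by rw [hk]; exact Subgroup.one_mem _)

theorem FineData.comm_JT [Finite G] (F : FineData T L V N JL) {x y : G}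
    (hx : x ∈ thompsonSubgroupOf 2 T) (hy : y ∈ thompsonSubgroupOf 2 T) :
    ⁅x, y⁆ ∈ pCoreOf 2 L := by
  have hw := F.comm_JL (F.JJL hx) (F.JJL hy)
  have hwT : ⁅x, y⁆ ∈ T := by
    rw [commutatorElement_def]
    exact T.mul_mem (T.mul_mem (T.mul_mem (F.JT hx) (F.JT hy)) (T.inv_mem (F.JT hx)))
      (T.inv_mem (F.JT hy))
  obtain ⟨k, hk⟩ := F.T2 ⟨_, hwT⟩
  have hk' : ⁅x, y⁆ ^ 2 ^ k = 1 := by
    have := congrArg Subtype.val hk
    simpa using this
  exact F.two_elt ⟨F.TL hwT, F.cube_two hw ⟨k, hk'⟩⟩ ⟨k, hk'⟩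

end Fine

section More

universe u

variable {G : Type u} [Group G]

/-- Every 2-subgroup of `L` lies in a Sylow 2-subgroup of `L`. -/
theorem exists_sylowTwoIn_ge [Finite G] {J L : Subgroup G} (hJL : J ≤ L) (hJ : IsPGroup 2 J) :
    ∃ S : Subgroup G, IsSylowTwoIn S L ∧ J ≤ S := by
  have hp2 : Fact (Nat.Prime 2) := ⟨Nat.prime_two⟩
  have hJ' : IsPGroup 2 (J.subgroupOf L) :=
    hJ.comap_of_injective L.subtype L.subtype_injective
  obtain ⟨P, hP⟩ := hJ'.exists_le_sylow
  refine ⟨(P : Subgroup ↥L).map L.subtype, ⟨Subgroup.map_subtype_le _, P.isPGroup'.map _, ?_⟩, ?_⟩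
  · have h1 : ((P : Subgroup ↥L).map L.subtype).relIndex L = (P : Subgroup ↥L).index := by
      unfold Subgroup.relIndex Subgroup.subgroupOf
      rw [Subgroup.comap_map_eq_self_of_injective L.subtype_injective]
    rw [h1]
    have hnd := P.not_dvd_index
    exact Nat.not_even_iff_odd.mp (fun h => hnd (even_iff_two_dvd.mp h))
  · intro x hx
    exact ⟨⟨x, hJL hx⟩, hP (Subgroup.mem_subgroupOf.mpr hx), rfl⟩

/-- In a group of characteristic 2 type, 2-locals have characteristic 2 in the ambient form. -/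
theorem twoLocal_char (hL : Cfsg.IsCharacteristicTwoType G) {X : Subgroup G} (hX : IsPGroup 2 X)
    (hX1 : X ≠ ⊥) :
    Subgroup.centralizer (pCoreOf 2 (Subgroup.normalizer (X : Set G)) : Set G) ≤
      pCoreOf 2 (Subgroup.normalizer (X : Set G)) := by
  have h := hL.2 X hX hX1
  have h' := Cfsg.Agent.Lib.helper53.charP_ambient_of_subtype h
  have hXR : X ≤ pCoreOf 2 (Subgroup.normalizer (X : Set G)) :=
    le_pCoreOf Subgroup.le_normalizer le_rfl hX
  intro c hc
  apply h'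
  refine ⟨?_, hc⟩
  exact Subgroup.centralizer_le_normalizer _ (Subgroup.centralizer_le hXR hc)

theorem isTwoLocal_char (hL : Cfsg.IsCharacteristicTwoType G) {L : Subgroup G}
    (h : Cfsg.IsTwoLocal L) :
    Subgroup.centralizer (pCoreOf 2 L : Set G) ≤ pCoreOf 2 L := by
  obtain ⟨X, hX, hX1, rfl⟩ := h
  exact twoLocal_char hL hX hX1

/-- Being a `J(T)`-component depends on `T` only through `J(T)`. -/
theorem component_congr {T T' K : Subgroup G}
    (h : thompsonSubgroupOf 2 T' = thompsonSubgroupOf 2 T) (hK : IsJComponent T K) :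
    IsJComponent T' K := by
  unfold IsJComponent at hK ⊢
  rw [h]; exact hK

end More

end Cfsg.Agent.Lib.helper51
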