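import Mathlib
import Cfsg.Prelude.Def_JComponents
import Cfsg.Agent.Lib.helper51.JBasic

/-!
Conjugation invariance of the notions around `J(T)`-components.
-/

set_option autoImplicit false

namespace Cfsg.Agent.Lib.helper51

open Cfsg Cfsg.Agent.Lib.helper13 Cfsg.Agent.Lib.helper55

section Conj

universe u

variable {G : Type u} [Group G]

/-- A conjugation-compatible construction commutes with conjugation. -/
theorem map_conj_eq_of_le (Φ : Subgroup G → Subgroup G)
    (h : ∀ (X : Subgroup G) (m : G),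
      (Φ X).map (MulAut.conj m).toMonoidHom ≤ Φ (X.map (MulAut.conj m).toMonoidHom))
    (X : Subgroup G) (m : G) :
    Φ (X.map (MulAut.conj m).toMonoidHom) = (Φ X).map (MulAut.conj m).toMonoidHom := by
  apply le_antisymm _ (h X m)
  have h1 := h (X.map (MulAut.conj m).toMonoidHom) m⁻¹
  rw [map_conj_map_conj_inv] at h1
  have h2 := Subgroup.map_mono (f := (MulAut.conj m).toMonoidHom) h1
  rwa [map_conj_inv_map_conj] at h2

theorem pCoreOf_map_conj (p : ℕ) [Fact p.Prime] (K : Subgroup G) (m : G) :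
    pCoreOf p (K.map (MulAut.conj m).toMonoidHom) =
      (pCoreOf p K).map (MulAut.conj m).toMonoidHom := by
  apply map_conj_eq_of_le (fun X => pCoreOf p X)
  intro X m
  apply le_pCoreOf (Subgroup.map_mono (pCoreOf_le p X))
  · rw [← Subgroup.map_equiv_normalizer_eq]
    exact Subgroup.map_mono (le_normalizer_pCoreOf p X)
  · exact (isPGroup_pCoreOf X).map _

theorem omegaCenterOf_map_conj (X : Subgroup G) (m : G) :
    omegaCenterOf (X.map (MulAut.conj m).toMonoidHom) =
      (omegaCenterOf X).map (MulAut.conj m).toMonoidHom := by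
  apply map_conj_eq_of_le (fun X => omegaCenterOf X)
  intro X m
  show (omegaCenterOf X).map (MulAut.conj m).toMonoidHom ≤
    omegaCenterOf (X.map (MulAut.conj m).toMonoidHom)
  unfold omegaCenterOf omegaOne
  rw [MonoidHom.map_closure]
  apply Subgroup.closure_mono
  rintro _ ⟨x, ⟨⟨hx1, hx2⟩, hx3⟩, rfl⟩
  refine ⟨⟨⟨x, hx1, rfl⟩, ?_⟩, ?_⟩
  · apply Subgroup.mem_centralizer_iff.mpr
    rintro _ ⟨x', hx', rfl⟩
    have := Subgroup.mem_centralizer_iff.mp hx2 x' hx'
    rw [← map_mul, ← map_mul, this]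
  · rw [← map_pow, hx3, map_one]

theorem wOf_map_conj (K : Subgroup G) (m : G) :
    wOf (K.map (MulAut.conj m).toMonoidHom) = (wOf K).map (MulAut.conj m).toMonoidHom := by
  have hp2 : Fact (Nat.Prime 2) := ⟨Nat.prime_two⟩
  unfold wOf
  rw [pCoreOf_map_conj, omegaCenterOf_map_conj, ← Subgroup.map_commutator]

/-- Conjugates of `J(T)`-components are `J(Tᵐ)`-components. -/
theorem conj_component {T K : Subgroup G} (hK : IsJComponent T K) (m : G) :
    IsJComponent (T.map (MulAut.conj m).toMonoidHom) (K.map (MulAut.conj m).toMonoidHom) := by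
  have hp2 : Fact (Nat.Prime 2) := ⟨Nat.prime_two⟩
  obtain ⟨hgen, hKJ, hidx, hsyl, hWcard, hW2⟩ := hK
  have hJ : thompsonSubgroupOf 2 (T.map (MulAut.conj m).toMonoidHom) =
      (thompsonSubgroupOf 2 T).map (MulAut.conj m).toMonoidHom :=
    (map_thompsonSubgroupOf (MulAut.conj m) T).symm
  refine ⟨?_, ?_, ?_, ?_, ?_, ?_⟩
  · conv_rhs => rw [← hgen]
    rw [MonoidHom.map_closure]
    congr 1
    ext y
    constructor
    · rintro ⟨⟨x, hx, rfl⟩, hodd⟩
      refine ⟨x, ⟨hx, ?_⟩, rfl⟩
      rwa [orderOf_injective (MulAut.conj m).toMonoidHom (MulAut.conj m).injective x] at hodd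
    · rintro ⟨x, ⟨hx, hodd⟩, rfl⟩
      refine ⟨⟨x, hx, rfl⟩, ?_⟩
      rwa [orderOf_injective (MulAut.conj m).toMonoidHom (MulAut.conj m).injective x]
  · rw [hJ, ← Subgroup.map_commutator, hKJ]
  · rw [pCoreOf_map_conj, Subgroup.relIndex_map_map_of_injective _ _ (MulAut.conj m).injective,
      hidx]
  · intro S hS hJS
    rw [hJ] at hS hJS ⊢
    have hS₀ : IsSylowTwoIn (S.map (MulAut.conj m⁻¹).toMonoidHom)
        (K ⊔ thompsonSubgroupOf 2 T) := by
      obtain ⟨h1, h2, h3⟩ := hS
      refine ⟨?_, h2.map _, ?_⟩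
      · rw [← Subgroup.map_sup] at h1
        have := Subgroup.map_mono (f := (MulAut.conj m⁻¹).toMonoidHom) h1
        rwa [map_conj_map_conj_inv] at this
      · have e : (K ⊔ thompsonSubgroupOf 2 T) =
            ((K ⊔ thompsonSubgroupOf 2 T).map (MulAut.conj m).toMonoidHom).map
              (MulAut.conj m⁻¹).toMonoidHom := (map_conj_map_conj_inv _ m).symm
        rw [e, Subgroup.relIndex_map_map_of_injective _ _ (MulAut.conj m⁻¹).injective,
          Subgroup.map_sup]
        exact h3
    have hJS₀ : thompsonSubgroupOf 2 T ≤ S.map (MulAut.conj m⁻¹).toMonoidHom := by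
      have := Subgroup.map_mono (f := (MulAut.conj m⁻¹).toMonoidHom) hJS
      rwa [map_conj_map_conj_inv] at this
    have h := hsyl _ hS₀ hJS₀
    rw [← h, map_thompsonSubgroupOf, map_conj_inv_map_conj]
  · rw [wOf_map_conj, Subgroup.card_map_of_injective (MulAut.conj m).injective, hWcard]
  · rw [wOf_map_conj]
    rintro _ ⟨w, hw, rfl⟩
    rw [← map_mul, hW2 w hw, map_one]

end Conj

end Cfsg.Agent.Lib.helper51
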