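import Mathlib
import Cfsg.Agent.Lib.helper13.JComp
import Cfsg.Agent.Lib.helper13.JComp2
import Cfsg.Agent.Lib.helper55.Conj

/-!
Automorphisms of order 3 of an elementary abelian 2-group `V` inverted by a transvection: the
kernel of the norm map is a four-group containing the centre of the transvection.
-/

set_option autoImplicit false

namespace Cfsg.Agent.Lib.helper51

open Cfsg Cfsg.Agent.Lib.helper13
open scoped commutatorElement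

section NormKer

variable {G : Type*} [Group G]

theorem norm_mul_aux {a b a1 b1 a2 b2 : G} (h1 : b * a1 = a1 * b) (h2 : b * a2 = a2 * b)
    (h3 : b1 * a2 = a2 * b1) :
    (a * b) * (a1 * b1) * (a2 * b2) = (a * a1 * a2) * (b * b1 * b2) := by
  calc (a * b) * (a1 * b1) * (a2 * b2) = a * (b * a1) * b1 * a2 * b2 := by group
    _ = a * a1 * b * (b1 * a2) * b2 := by rw [h1]; group
    _ = a * a1 * (b * a2) * b1 * b2 := by rw [h3]; group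
    _ = (a * a1 * a2) * (b * b1 * b2) := by rw [h2]; group

/-- The kernel of the norm map of `d` on `V`, as a subgroup. -/
theorem exists_normKer {V : Subgroup G} (hVc : ∀ a ∈ V, ∀ b ∈ V, a * b = b * a)
    (hV2 : ∀ a ∈ V, a * a = 1) {d : G} (hdV : ∀ v ∈ V, d * v * d⁻¹ ∈ V) :
    ∃ W : Subgroup G, W ≤ V ∧
      ∀ v ∈ V, v ∈ W ↔ v * (d * v * d⁻¹) * (d * (d * v * d⁻¹) * d⁻¹) = 1 := by
  refine ⟨{ carrier := {v | v ∈ V ∧ v * (d * v * d⁻¹) * (d * (d * v * d⁻¹) * d⁻¹) = 1}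
            mul_mem' := ?_
            one_mem' := ?_
            inv_mem' := ?_ }, fun v hv => hv.1, fun v hv => ⟨fun h => h.2, fun h => ⟨hv, h⟩⟩⟩
  · rintro a b ⟨ha, ha'⟩ ⟨hb, hb'⟩
    refine ⟨V.mul_mem ha hb, ?_⟩
    have e : a * b * (d * (a * b) * d⁻¹) * (d * (d * (a * b) * d⁻¹) * d⁻¹) =
        (a * b) * ((d * a * d⁻¹) * (d * b * d⁻¹)) *
          ((d * (d * a * d⁻¹) * d⁻¹) * (d * (d * b * d⁻¹) * d⁻¹)) := by group
    rw [e, norm_mul_aux (hVc _ hb _ (hdV a ha)) (hVc _ hb _ (hdV _ (hdV a ha)))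
      (hVc _ (hdV b hb) _ (hdV _ (hdV a ha))), ha', hb', one_mul]
  · exact ⟨V.one_mem, by group⟩
  · rintro a ⟨ha, ha'⟩
    have h : a⁻¹ = a := inv_eq_of_mul_eq_one_left (hV2 a ha)
    show a⁻¹ ∈ V ∧ _
    rw [h]
    exact ⟨ha, ha'⟩

theorem normKer_conj_mem {V W : Subgroup G} {d : G} (hdV : ∀ v ∈ V, d * v * d⁻¹ ∈ V)
    (hd3 : ∀ v ∈ V, d * (d * (d * v * d⁻¹) * d⁻¹) * d⁻¹ = v) (hWV : W ≤ V)
    (hW : ∀ v ∈ V, v ∈ W ↔ v * (d * v * d⁻¹) * (d * (d * v * d⁻¹) * d⁻¹) = 1) :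
    ∀ w ∈ W, d * w * d⁻¹ ∈ W := by
  intro w hw
  have hwV := hWV hw
  rw [hW _ (hdV w hwV), hd3 w hwV]
  have h := (hW w hwV).mp hw
  calc d * w * d⁻¹ * (d * (d * w * d⁻¹) * d⁻¹) * w
      = w⁻¹ * (w * (d * w * d⁻¹) * (d * (d * w * d⁻¹) * d⁻¹)) * w := by group
    _ = 1 := by rw [h]; group

theorem normKer_fpf {V W : Subgroup G} (hV2 : ∀ a ∈ V, a * a = 1) {d : G} (hWV : W ≤ V)
    (hW : ∀ v ∈ V, v ∈ W ↔ v * (d * v * d⁻¹) * (d * (d * v * d⁻¹) * d⁻¹) = 1) :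
    ∀ w ∈ W, d * w * d⁻¹ = w → w = 1 := by
  intro w hw h
  have h1 := (hW w (hWV hw)).mp hw
  rw [h, h, hV2 w (hWV hw), one_mul] at h1
  exact h1

/-- The kernel of the norm of `d` on `V` is a four-group containing the centre `v₀` of a
transvection `a` inverting `d`. -/
theorem normKer_card {V W : Subgroup G} (hVc : ∀ a ∈ V, ∀ b ∈ V, a * b = b * a)
    (hV2 : ∀ a ∈ V, a * a = 1) {d a v₀ : G}
    (hdV : ∀ v ∈ V, d * v * d⁻¹ ∈ V)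
    (hd3 : ∀ v ∈ V, d * (d * (d * v * d⁻¹) * d⁻¹) * d⁻¹ = v)
    (hdC : ∃ v ∈ V, d * v * d⁻¹ ≠ v)
    (hv₀ : v₀ ∈ V) (ha : ∀ v ∈ V, a * v * a⁻¹ = v ∨ a * v * a⁻¹ = v * v₀)
    (hinv : ∀ v ∈ V, (d * a * d⁻¹ * a) * v * (d * a * d⁻¹ * a)⁻¹ = d * (d * v * d⁻¹) * d⁻¹)
    (hWV : W ≤ V)
    (hW : ∀ v ∈ V, v ∈ W ↔ v * (d * v * d⁻¹) * (d * (d * v * d⁻¹) * d⁻¹) = 1) :
    Nat.card W = 4 ∧ v₀ ∈ W ∧ v₀ ≠ 1 := by
  classical
  have hinvs : ∀ s ∈ V, s⁻¹ = s := fun s hs => inv_eq_of_mul_eq_one_left (hV2 s hs)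
  -- the four possible values
  have hQV : ∀ s : G, (s = 1 ∨ s = v₀ ∨ s = d * v₀ * d⁻¹ ∨ s = v₀ * (d * v₀ * d⁻¹)) → s ∈ V := by
    rintro s (rfl | rfl | rfl | rfl)
    · exact V.one_mem
    · exact hv₀
    · exact hdV _ hv₀
    · exact V.mul_mem hv₀ (hdV _ hv₀)
  have key : ∀ v ∈ V, ∃ s : G, (s = 1 ∨ s = v₀ ∨ s = d * v₀ * d⁻¹ ∨ s = v₀ * (d * v₀ * d⁻¹)) ∧
      d * (d * v * d⁻¹) * d⁻¹ = v * s := by
    intro v hv
    obtain ⟨x, hx⟩ : ∃ x, x = a * v * a⁻¹ := ⟨_, rfl⟩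
    have hxV : x ∈ V := by
      rcases ha v hv with h | h
      · rw [hx, h]; exact hv
      · rw [hx, h]; exact V.mul_mem hv hv₀
    obtain ⟨y, hy⟩ : ∃ y, y = d⁻¹ * x * d := ⟨_, rfl⟩
    have hy' : y = d * (d * x * d⁻¹) * d⁻¹ := by
      have := hd3 x hxV
      calc y = d⁻¹ * (d * (d * (d * x * d⁻¹) * d⁻¹) * d⁻¹) * d := by rw [this, hy]
        _ = d * (d * x * d⁻¹) * d⁻¹ := by group
    have hyV : y ∈ V := by rw [hy']; exact hdV _ (hdV _ hxV)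
    have e1 : d * (d * v * d⁻¹) * d⁻¹ = d * (a * y * a⁻¹) * d⁻¹ := by
      rw [← hinv v hv, hy, hx]; group
    have e2 : d * y * d⁻¹ = x := by rw [hy]; group
    rcases ha y hyV with h | h
    · rw [h, e2] at e1
      rcases ha v hv with h' | h'
      · exact ⟨1, Or.inl rfl, by rw [e1, hx, h', mul_one]⟩
      · exact ⟨v₀, Or.inr (Or.inl rfl), by rw [e1, hx, h']⟩
    · have e3 : d * (y * v₀) * d⁻¹ = x * (d * v₀ * d⁻¹) := by rw [← e2]; group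
      rw [h, e3] at e1
      rcases ha v hv with h' | h'
      · exact ⟨d * v₀ * d⁻¹, Or.inr (Or.inr (Or.inl rfl)), by rw [e1, hx, h']⟩
      · exact ⟨v₀ * (d * v₀ * d⁻¹), Or.inr (Or.inr (Or.inr rfl)), by
          rw [e1, hx, h', mul_assoc]⟩
  have hWd : ∀ w ∈ W, d * w * d⁻¹ ∈ W := normKer_conj_mem hdV hd3 hWV hW
  have hQd : ∀ w ∈ W, (d * w * d⁻¹ = 1 ∨ d * w * d⁻¹ = v₀ ∨ d * w * d⁻¹ = d * v₀ * d⁻¹ ∨
      d * w * d⁻¹ = v₀ * (d * v₀ * d⁻¹)) := by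
    intro w hw
    have hwV := hWV hw
    obtain ⟨s, hs, hsw⟩ := key w hwV
    have hsV := hQV s hs
    have h1 := (hW w hwV).mp hw
    rw [hsw] at h1
    have h2 : d * w * d⁻¹ * s = 1 := by
      calc d * w * d⁻¹ * s = (w * w) * (d * w * d⁻¹) * s := by rw [hV2 w hwV, one_mul]
        _ = w * (w * (d * w * d⁻¹)) * s := by group
        _ = w * ((d * w * d⁻¹) * w) * s := by rw [hVc w hwV _ (hdV w hwV)]
        _ = w * (d * w * d⁻¹) * (w * s) := by group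
        _ = 1 := h1
    have h3 : d * w * d⁻¹ = s := by
      rw [← hinvs s hsV]; exact eq_inv_of_mul_eq_one_left h2
    rw [h3]; exact hs
  have hQ : ∀ w ∈ W, (w = 1 ∨ w = v₀ ∨ w = d * v₀ * d⁻¹ ∨ w = v₀ * (d * v₀ * d⁻¹)) := by
    intro w hw
    have := hQd _ (hWd _ (hWd w hw))
    rwa [hd3 w (hWV hw)] at this
  -- a nontrivial element
  obtain ⟨v, hv, hne⟩ := hdC
  obtain ⟨p, hp⟩ : ∃ p, p = d * v * d⁻¹ := ⟨_, rfl⟩
  obtain ⟨q, hq⟩ : ∃ q, q = d * p * d⁻¹ := ⟨_, rfl⟩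
  have hpV : p ∈ V := by rw [hp]; exact hdV v hv
  have hqV : q ∈ V := by rw [hq]; exact hdV p hpV
  have hqv : d * q * d⁻¹ = v := by rw [hq, hp]; exact hd3 v hv
  have hz₀W : v * p ∈ W := by
    rw [hW _ (V.mul_mem hv hpV)]
    have e1 : d * (v * p) * d⁻¹ = p * q := by rw [hq, hp]; group
    have e2 : d * (p * q) * d⁻¹ = q * v := by rw [← hqv, hq]; group
    rw [e1, e2]
    calc v * p * (p * q) * (q * v) = v * (p * p) * (q * q) * v := by group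
      _ = 1 := by rw [hV2 p hpV, hV2 q hqV, mul_one, mul_one, hV2 v hv]
  have hz₀1 : v * p ≠ 1 := by
    intro h
    apply hne
    rw [← hp]
    calc p = (v * v) * p := by rw [hV2 v hv, one_mul]
      _ = v * (v * p) := by group
      _ = v := by rw [h, mul_one]
  obtain ⟨z₀, hz₀⟩ : ∃ z₀, z₀ = v * p := ⟨_, rfl⟩
  rw [← hz₀] at hz₀W hz₀1
  have hfpf := normKer_fpf hV2 hWV hW
  have hz₁W := hWd z₀ hz₀W
  have hz₂W := hWd _ hz₁W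
  have h01 : z₀ ≠ d * z₀ * d⁻¹ := fun h => hz₀1 (hfpf z₀ hz₀W h.symm)
  have hz₁1 : d * z₀ * d⁻¹ ≠ 1 := by
    intro h
    apply hz₀1
    calc z₀ = d⁻¹ * (d * z₀ * d⁻¹) * d := by group
      _ = 1 := by rw [h]; group
  have hz₂1 : d * (d * z₀ * d⁻¹) * d⁻¹ ≠ 1 := by
    intro h
    apply hz₁1
    calc d * z₀ * d⁻¹ = d⁻¹ * (d * (d * z₀ * d⁻¹) * d⁻¹) * d := by group
      _ = 1 := by rw [h]; group
  have h12 : d * z₀ * d⁻¹ ≠ d * (d * z₀ * d⁻¹) * d⁻¹ := fun h => hz₁1 (hfpf _ hz₁W h.symm)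
  have h02 : z₀ ≠ d * (d * z₀ * d⁻¹) * d⁻¹ := by
    intro h
    apply h01
    have := hd3 z₀ (hWV hz₀W)
    rw [← h] at this
    exact this.symm
  -- the two finite sets
  obtain ⟨s, hs⟩ : ∃ s : Finset G, s = {1, z₀, d * z₀ * d⁻¹, d * (d * z₀ * d⁻¹) * d⁻¹} :=
    ⟨_, rfl⟩
  obtain ⟨t, ht⟩ : ∃ t : Finset G, t = {1, v₀, d * v₀ * d⁻¹, v₀ * (d * v₀ * d⁻¹)} := ⟨_, rfl⟩
  have hscard : s.card = 4 := by
    rw [hs, Finset.card_insert_of_notMem, Finset.card_insert_of_notMem,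
      Finset.card_insert_of_notMem, Finset.card_singleton]
    · simp only [Finset.mem_singleton]; exact h12
    · simp only [Finset.mem_insert, Finset.mem_singleton, not_or]; exact ⟨h01, h02⟩
    · simp only [Finset.mem_insert, Finset.mem_singleton, not_or]
      exact ⟨fun h => hz₀1 h.symm, fun h => hz₁1 h.symm, fun h => hz₂1 h.symm⟩
  have hsW : ∀ x ∈ s, x ∈ W := by
    intro x hx
    rw [hs] at hx
    simp only [Finset.mem_insert, Finset.mem_singleton] at hx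
    rcases hx with rfl | rfl | rfl | rfl
    · exact W.one_mem
    · exact hz₀W
    · exact hz₁W
    · exact hz₂W
  have hWt : ∀ x ∈ W, x ∈ t := by
    intro x hx
    rw [ht]
    simp only [Finset.mem_insert, Finset.mem_singleton]
    exact hQ x hx
  have hst : s = t := by
    apply Finset.eq_of_subset_of_card_le (fun x hx => hWt x (hsW x hx))
    rw [hscard, ht]
    exact Finset.card_le_four
  have hmem : ∀ x, x ∈ W ↔ x ∈ s := fun x => ⟨fun h => hst ▸ hWt x h, hsW x⟩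
  refine ⟨?_, ?_, ?_⟩
  · have e : Nat.card W = Nat.card {x // x ∈ s} := Nat.card_congr (Equiv.subtypeEquivRight hmem)
    rw [e, Nat.card_eq_fintype_card, Fintype.card_coe, hscard]
  · apply hsW
    rw [hst, ht]
    simp
  · intro h
    have := hQ z₀ hz₀W
    rw [h] at this
    apply hz₀1
    rcases this with h' | h' | h' | h'
    · exact h'
    · exact h'
    · rw [h']; group
    · rw [h']; group

/-- A transvection (or trivial action) on `V` fixes a nontrivial element of any subgroup of `V`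
with two distinct nontrivial elements. -/
theorem exists_fixed_of_transv {V W : Subgroup G} (hVc : ∀ a ∈ V, ∀ b ∈ V, a * b = b * a)
    (hV2 : ∀ a ∈ V, a * a = 1) (hWV : W ≤ V) {b v₁ z₁ z₂ : G} (hv₁ : v₁ ∈ V)
    (hb : ∀ v ∈ V, b * v * b⁻¹ = v ∨ b * v * b⁻¹ = v * v₁)
    (hz₁ : z₁ ∈ W) (hz₂ : z₂ ∈ W) (hz₁1 : z₁ ≠ 1) (hz₂1 : z₂ ≠ 1) (hne : z₁ ≠ z₂) :
    ∃ z ∈ W, z ≠ 1 ∧ b * z * b⁻¹ = z := by
  rcases hb z₁ (hWV hz₁) with h1 | h1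
  · exact ⟨z₁, hz₁, hz₁1, h1⟩
  rcases hb z₂ (hWV hz₂) with h2 | h2
  · exact ⟨z₂, hz₂, hz₂1, h2⟩
  refine ⟨z₁ * z₂, W.mul_mem hz₁ hz₂, ?_, ?_⟩
  · intro h
    apply hne
    calc z₁ = z₁ * (z₂ * z₂) := by rw [hV2 z₂ (hWV hz₂), mul_one]
      _ = (z₁ * z₂) * z₂ := by group
      _ = z₂ := by rw [h, one_mul]
  · calc b * (z₁ * z₂) * b⁻¹ = (b * z₁ * b⁻¹) * (b * z₂ * b⁻¹) := by group
      _ = (z₁ * v₁) * (z₂ * v₁) := by rw [h1, h2]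
      _ = z₁ * (v₁ * z₂) * v₁ := by group
      _ = z₁ * (z₂ * v₁) * v₁ := by rw [hVc v₁ hv₁ z₂ (hWV hz₂)]
      _ = z₁ * z₂ * (v₁ * v₁) := by group
      _ = z₁ * z₂ := by rw [hV2 v₁ hv₁, mul_one]

theorem mem_centralizer_of_conj_sq {V : Subgroup G} {x : G}
    (hx : ∀ v ∈ V, x * (x * v * x⁻¹) * x⁻¹ = v)
    (hx3 : x ^ 3 ∈ Subgroup.centralizer (V : Set G)) : x ∈ Subgroup.centralizer (V : Set G) := by
  have hx2 : x ^ 2 ∈ Subgroup.centralizer (V : Set G) := by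
    apply Subgroup.mem_centralizer_iff.mpr
    intro v hv
    calc v * x ^ 2 = (x * (x * v * x⁻¹) * x⁻¹) * x ^ 2 := by rw [hx v hv]
      _ = x ^ 2 * v := by rw [pow_two]; group
  exact mem_of_pow_mem_of_coprime _ x 2 3 (by norm_num) hx2 hx3

/-- Two elements acting on `V` with order 3, commuting modulo `C(V)`, whose norm kernels are
four-groups sharing a nontrivial element: they generate the same subgroup modulo `C(V)`. -/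
theorem pair_mem_centralizer {V W W₂ : Subgroup G} (hVc : ∀ a ∈ V, ∀ b ∈ V, a * b = b * a)
    (hV2 : ∀ a ∈ V, a * a = 1) {d d₂ z : G}
    (hdV : ∀ v ∈ V, d * v * d⁻¹ ∈ V) (hd₂V : ∀ v ∈ V, d₂ * v * d₂⁻¹ ∈ V)
    (hd3 : d ^ 3 ∈ Subgroup.centralizer (V : Set G))
    (hd₂3 : d₂ ^ 3 ∈ Subgroup.centralizer (V : Set G))
    (hcomm : ⁅d, d₂⁆ ∈ Subgroup.centralizer (V : Set G))
    (hWV : W ≤ V)
    (hW : ∀ v ∈ V, v ∈ W ↔ v * (d * v * d⁻¹) * (d * (d * v * d⁻¹) * d⁻¹) = 1)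
    (hW₂V : W₂ ≤ V)
    (hW₂ : ∀ v ∈ V, v ∈ W₂ ↔ v * (d₂ * v * d₂⁻¹) * (d₂ * (d₂ * v * d₂⁻¹) * d₂⁻¹) = 1)
    (hWc : Nat.card W = 4) (hW₂c : Nat.card W₂ = 4)
    (hz1 : z ≠ 1) (hzW : z ∈ W) (hzW₂ : z ∈ W₂)
    (h3a : (d₂ * d) ^ 3 ∈ Subgroup.centralizer (V : Set G))
    (h3b : (d₂ * (d * d)) ^ 3 ∈ Subgroup.centralizer (V : Set G)) :
    d₂ * d ∈ Subgroup.centralizer (V : Set G) ∨
      d₂ * (d * d) ∈ Subgroup.centralizer (V : Set G) := by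
  have hφ3 : ∀ v ∈ V, d * (d * (d * v * d⁻¹) * d⁻¹) * d⁻¹ = v :=
    fun v hv => conj_conj_conj_eq_of_pow_three_mem_centralizer hd3 hv
  have hψ3 : ∀ v ∈ V, d₂ * (d₂ * (d₂ * v * d₂⁻¹) * d₂⁻¹) * d₂⁻¹ = v :=
    fun v hv => conj_conj_conj_eq_of_pow_three_mem_centralizer hd₂3 hv
  have hE := four_group_enum (W := W) (MulAut.conj d) hWc (fun w hw => hV2 w (hWV hw))
    (normKer_conj_mem hdV hφ3 hWV hW) (fun w hw => hφ3 w (hWV hw))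
    (fun w hw => (hW w (hWV hw)).mp hw) hzW hz1
  have hE₂ := four_group_enum (W := W₂) (MulAut.conj d₂) hW₂c (fun w hw => hV2 w (hW₂V hw))
    (normKer_conj_mem hd₂V hψ3 hW₂V hW₂) (fun w hw => hψ3 w (hW₂V hw))
    (fun w hw => (hW₂ w (hW₂V hw)).mp hw) hzW₂ hz1
  have hpair := order_three_pair (V := V) (W := W) (W₂ := W₂)
    (MulAut.conj d) (MulAut.conj d₂) hVc hV2 hdV hd₂V hφ3 hψ3 ?_ hW hW₂ hWV hz1 hzW hzW₂ hE hE₂
  · rcases hpair with h | h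
    · left
      have hx : ∀ v ∈ V, (d₂ * d) * ((d₂ * d) * v * (d₂ * d)⁻¹) * (d₂ * d)⁻¹ = v := by
        intro v hv
        have h1 : d₂ * (d * (d₂ * (d * v * d⁻¹) * d₂⁻¹) * d⁻¹) * d₂⁻¹ = v := h v hv
        calc (d₂ * d) * ((d₂ * d) * v * (d₂ * d)⁻¹) * (d₂ * d)⁻¹
            = d₂ * (d * (d₂ * (d * v * d⁻¹) * d₂⁻¹) * d⁻¹) * d₂⁻¹ := by group
          _ = v := h1
      exact mem_centralizer_of_conj_sq hx h3a
    · right
      have hx : ∀ v ∈ V, (d₂ * (d * d)) * ((d₂ * (d * d)) * v * (d₂ * (d * d))⁻¹) *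
          (d₂ * (d * d))⁻¹ = v := by
        intro v hv
        have h1 : d₂ * (d * (d * (d₂ * (d * (d * v * d⁻¹) * d⁻¹) * d₂⁻¹) * d⁻¹) * d⁻¹) * d₂⁻¹
            = v := h v hv
        calc (d₂ * (d * d)) * ((d₂ * (d * d)) * v * (d₂ * (d * d))⁻¹) * (d₂ * (d * d))⁻¹
            = d₂ * (d * (d * (d₂ * (d * (d * v * d⁻¹) * d⁻¹) * d₂⁻¹) * d⁻¹) * d⁻¹) * d₂⁻¹ := by
              simp only [mul_inv_rev, mul_assoc]
          _ = v := h1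
      exact mem_centralizer_of_conj_sq hx h3b
  · intro v hv
    show d * (d₂ * v * d₂⁻¹) * d⁻¹ = d₂ * (d * v * d⁻¹) * d₂⁻¹
    have hy : d₂ * (d * v * d⁻¹) * d₂⁻¹ ∈ V := hd₂V _ (hdV v hv)
    have hcy := Subgroup.mem_centralizer_iff.mp hcomm _ hy
    calc d * (d₂ * v * d₂⁻¹) * d⁻¹
        = ⁅d, d₂⁆ * (d₂ * (d * v * d⁻¹) * d₂⁻¹) * ⁅d, d₂⁆⁻¹ := by
          simp only [commutatorElement_def]; group
      _ = d₂ * (d * v * d⁻¹) * d₂⁻¹ := by rw [← hcy]; group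

/-- If `b` normalizes `V` and some nontrivial element of the four-group norm kernel `W` of `d`
has its `b⁻¹`-conjugate in `W`, then `b d b⁻¹ ∈ ⟨d⟩ C(V)`. -/
theorem conj_pair {V W : Subgroup G} (hVc : ∀ a ∈ V, ∀ b ∈ V, a * b = b * a)
    (hV2 : ∀ a ∈ V, a * a = 1) {d b z : G}
    (hdV : ∀ v ∈ V, d * v * d⁻¹ ∈ V)
    (hbV : ∀ v ∈ V, b * v * b⁻¹ ∈ V) (hbV' : ∀ v ∈ V, b⁻¹ * v * b ∈ V)
    (hd3 : d ^ 3 ∈ Subgroup.centralizer (V : Set G))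
    (hd₂3 : (b * d * b⁻¹) ^ 3 ∈ Subgroup.centralizer (V : Set G))
    (hcomm : ⁅d, b * d * b⁻¹⁆ ∈ Subgroup.centralizer (V : Set G))
    (hWV : W ≤ V)
    (hW : ∀ v ∈ V, v ∈ W ↔ v * (d * v * d⁻¹) * (d * (d * v * d⁻¹) * d⁻¹) = 1)
    (hWc : Nat.card W = 4)
    (hzW : z ∈ W) (hz1 : z ≠ 1) (hbz' : b⁻¹ * z * b ∈ W)
    (h3a : ((b * d * b⁻¹) * d) ^ 3 ∈ Subgroup.centralizer (V : Set G))
    (h3b : ((b * d * b⁻¹) * (d * d)) ^ 3 ∈ Subgroup.centralizer (V : Set G)) :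
    (b * d * b⁻¹) * d ∈ Subgroup.centralizer (V : Set G) ∨
      (b * d * b⁻¹) * (d * d) ∈ Subgroup.centralizer (V : Set G) := by
  obtain ⟨d₂, hd₂⟩ : ∃ d₂, d₂ = b * d * b⁻¹ := ⟨_, rfl⟩
  rw [← hd₂] at hd₂3 hcomm h3a h3b ⊢
  have hd₂V : ∀ v ∈ V, d₂ * v * d₂⁻¹ ∈ V := by
    intro v hv
    have := hbV _ (hdV _ (hbV' v hv))
    have e : d₂ * v * d₂⁻¹ = b * (d * (b⁻¹ * v * b) * d⁻¹) * b⁻¹ := by rw [hd₂]; group
    rw [e]; exact this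
  refine pair_mem_centralizer (W := W) (W₂ := W.map (MulAut.conj b).toMonoidHom) hVc hV2 hdV hd₂V
    hd3 hd₂3 hcomm hWV hW ?_ ?_ hWc ?_ hz1 hzW ?_ h3a h3b
  · rintro _ ⟨w, hw, rfl⟩
    exact hbV w (hWV hw)
  · intro v hv
    have hv' : b⁻¹ * v * b ∈ V := hbV' v hv
    rw [Cfsg.Agent.Lib.helper55.mem_map_conj_iff, hW _ hv']
    have e : v * (d₂ * v * d₂⁻¹) * (d₂ * (d₂ * v * d₂⁻¹) * d₂⁻¹) =
        b * ((b⁻¹ * v * b) * (d * (b⁻¹ * v * b) * d⁻¹) *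
          (d * (d * (b⁻¹ * v * b) * d⁻¹) * d⁻¹)) * b⁻¹ := by
      rw [hd₂]; group
    rw [e]
    constructor
    · intro h; rw [h]; group
    · intro h
      have e2 : (b⁻¹ * v * b) * (d * (b⁻¹ * v * b) * d⁻¹) *
          (d * (d * (b⁻¹ * v * b) * d⁻¹) * d⁻¹) =
          b⁻¹ * (b * ((b⁻¹ * v * b) * (d * (b⁻¹ * v * b) * d⁻¹) *
          (d * (d * (b⁻¹ * v * b) * d⁻¹) * d⁻¹)) * b⁻¹) * b := by group
      rw [e2, h]; group
  · rw [Subgroup.card_map_of_injective (MulAut.conj b).injective]; exact hWc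
  · rw [Cfsg.Agent.Lib.helper55.mem_map_conj_iff]; exact hbz'

/-- A transvection `b` conjugates `d` into `⟨d⟩ C(V)` when the norm kernel of `d` is a
four-group. -/
theorem conj_transv_pair {V W : Subgroup G} (hVc : ∀ a ∈ V, ∀ b ∈ V, a * b = b * a)
    (hV2 : ∀ a ∈ V, a * a = 1) {d b v₁ z₁ z₂ : G}
    (hdV : ∀ v ∈ V, d * v * d⁻¹ ∈ V)
    (hbV : ∀ v ∈ V, b * v * b⁻¹ ∈ V) (hbV' : ∀ v ∈ V, b⁻¹ * v * b ∈ V)
    (hd3 : d ^ 3 ∈ Subgroup.centralizer (V : Set G))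
    (hd₂3 : (b * d * b⁻¹) ^ 3 ∈ Subgroup.centralizer (V : Set G))
    (hcomm : ⁅d, b * d * b⁻¹⁆ ∈ Subgroup.centralizer (V : Set G))
    (hWV : W ≤ V)
    (hW : ∀ v ∈ V, v ∈ W ↔ v * (d * v * d⁻¹) * (d * (d * v * d⁻¹) * d⁻¹) = 1)
    (hWc : Nat.card W = 4)
    (hv₁ : v₁ ∈ V) (hb : ∀ v ∈ V, b * v * b⁻¹ = v ∨ b * v * b⁻¹ = v * v₁)
    (hz₁ : z₁ ∈ W) (hz₂ : z₂ ∈ W) (hz₁1 : z₁ ≠ 1) (hz₂1 : z₂ ≠ 1) (hne : z₁ ≠ z₂)
    (h3a : ((b * d * b⁻¹) * d) ^ 3 ∈ Subgroup.centralizer (V : Set G))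
    (h3b : ((b * d * b⁻¹) * (d * d)) ^ 3 ∈ Subgroup.centralizer (V : Set G)) :
    (b * d * b⁻¹) * d ∈ Subgroup.centralizer (V : Set G) ∨
      (b * d * b⁻¹) * (d * d) ∈ Subgroup.centralizer (V : Set G) := by
  obtain ⟨z, hzW, hz1, hbz⟩ := exists_fixed_of_transv hVc hV2 hWV hv₁ hb hz₁ hz₂ hz₁1 hz₂1 hne
  have hbz' : b⁻¹ * z * b = z := by
    calc b⁻¹ * z * b = b⁻¹ * (b * z * b⁻¹) * b := by rw [hbz]
      _ = z := by group
  exact conj_pair hVc hV2 hdV hbV hbV' hd3 hd₂3 hcomm hWV hW hWc hzW hz1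
    (by rw [hbz']; exact hzW) h3a h3b

/-- The norm kernel of an element `d` of order 3 on `V` inverted (modulo `C(V)`) by an
involution `a` acting as a transvection with centre `v₀`. -/
theorem exists_normKer_four {V : Subgroup G} (hVc : ∀ a ∈ V, ∀ b ∈ V, a * b = b * a)
    (hV2 : ∀ a ∈ V, a * a = 1) {d a v₀ : G}
    (hdV : ∀ v ∈ V, d * v * d⁻¹ ∈ V) (hd3 : d ^ 3 ∈ Subgroup.centralizer (V : Set G))
    (hdC : d ∉ Subgroup.centralizer (V : Set G))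
    (haa : a * a = 1) (hv₀ : v₀ ∈ V) (ha : ∀ v ∈ V, a * v * a⁻¹ = v ∨ a * v * a⁻¹ = v * v₀)
    (hinv : a * d * a⁻¹ * d ∈ Subgroup.centralizer (V : Set G)) :
    ∃ W : Subgroup G, W ≤ V ∧
      (∀ v ∈ V, v ∈ W ↔ v * (d * v * d⁻¹) * (d * (d * v * d⁻¹) * d⁻¹) = 1) ∧
      Nat.card W = 4 ∧ v₀ ∈ W ∧ v₀ ≠ 1 := by
  obtain ⟨W, hWV, hW⟩ := exists_normKer hVc hV2 hdV
  have hφ3 : ∀ v ∈ V, d * (d * (d * v * d⁻¹) * d⁻¹) * d⁻¹ = v :=
    fun v hv => conj_conj_conj_eq_of_pow_three_mem_centralizer hd3 hv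
  have hdC' : ∃ v ∈ V, d * v * d⁻¹ ≠ v := by
    by_contra hcon
    push Not at hcon
    apply hdC
    rw [Subgroup.mem_centralizer_iff]
    intro v hv
    have := hcon v hv
    calc v * d = (d * v * d⁻¹) * d := by rw [this]
      _ = d * v := by group
  have ha' : a⁻¹ = a := inv_eq_of_mul_eq_one_left haa
  have hinv' : ∀ v ∈ V, (d * a * d⁻¹ * a) * v * (d * a * d⁻¹ * a)⁻¹ =
      d * (d * v * d⁻¹) * d⁻¹ := by
    intro v hv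
    have e1 : d * a * d⁻¹ * a = d * d * (a * d * a⁻¹ * d)⁻¹ := by
      calc d * a * d⁻¹ * a = d * a * d⁻¹ * a⁻¹ := by rw [ha']
        _ = d * d * (a * d * a⁻¹ * d)⁻¹ := by group
    have e2 : (a * d * a⁻¹ * d)⁻¹ * v * (a * d * a⁻¹ * d) = v := by
      have := Subgroup.mem_centralizer_iff.mp hinv v hv
      calc (a * d * a⁻¹ * d)⁻¹ * v * (a * d * a⁻¹ * d)
          = (a * d * a⁻¹ * d)⁻¹ * (v * (a * d * a⁻¹ * d)) := by group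
        _ = v := by rw [this]; group
    rw [e1]
    calc d * d * (a * d * a⁻¹ * d)⁻¹ * v * (d * d * (a * d * a⁻¹ * d)⁻¹)⁻¹
        = d * (d * ((a * d * a⁻¹ * d)⁻¹ * v * (a * d * a⁻¹ * d)) * d⁻¹) * d⁻¹ := by group
      _ = d * (d * v * d⁻¹) * d⁻¹ := by rw [e2]
  obtain ⟨h1, h2, h3⟩ := normKer_card hVc hV2 hdV hφ3 hdC' hv₀ ha hinv' hWV hW
  exact ⟨W, hWV, hW, h1, h2, h3⟩

/-- Two elements of order 3 on `V`, commuting modulo `C(V)` and inverted by the same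
transvection, generate the same subgroup modulo `C(V)`. -/
theorem inverted_pair {V : Subgroup G} (hVc : ∀ a ∈ V, ∀ b ∈ V, a * b = b * a)
    (hV2 : ∀ a ∈ V, a * a = 1) {d e a v₀ : G}
    (hdV : ∀ v ∈ V, d * v * d⁻¹ ∈ V) (hd3 : d ^ 3 ∈ Subgroup.centralizer (V : Set G))
    (hdC : d ∉ Subgroup.centralizer (V : Set G))
    (heV : ∀ v ∈ V, e * v * e⁻¹ ∈ V) (he3 : e ^ 3 ∈ Subgroup.centralizer (V : Set G))
    (heC : e ∉ Subgroup.centralizer (V : Set G))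
    (haa : a * a = 1) (hv₀ : v₀ ∈ V) (ha : ∀ v ∈ V, a * v * a⁻¹ = v ∨ a * v * a⁻¹ = v * v₀)
    (hinvd : a * d * a⁻¹ * d ∈ Subgroup.centralizer (V : Set G))
    (hinve : a * e * a⁻¹ * e ∈ Subgroup.centralizer (V : Set G))
    (hcomm : ⁅d, e⁆ ∈ Subgroup.centralizer (V : Set G))
    (h3a : (e * d) ^ 3 ∈ Subgroup.centralizer (V : Set G))
    (h3b : (e * (d * d)) ^ 3 ∈ Subgroup.centralizer (V : Set G)) :
    e * d ∈ Subgroup.centralizer (V : Set G) ∨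
      e * (d * d) ∈ Subgroup.centralizer (V : Set G) := by
  obtain ⟨W, hWV, hW, hWc, hv₀W, hv₀1⟩ :=
    exists_normKer_four hVc hV2 hdV hd3 hdC haa hv₀ ha hinvd
  obtain ⟨W₂, hW₂V, hW₂, hW₂c, hv₀W₂, -⟩ :=
    exists_normKer_four hVc hV2 heV he3 heC haa hv₀ ha hinve
  exact pair_mem_centralizer hVc hV2 hdV heV hd3 he3 hcomm hWV hW hW₂V hW₂ hWc hW₂c hv₀1 hv₀W
    hv₀W₂ h3a h3b

/-- If `c c e` and `e` are inverted by `b` modulo `R`, `b` centralizes `c` modulo `R` and `e`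
centralizes `c` modulo `R`, then `c² ∈ R`. -/
theorem sq_mem_of_inverting {R : Subgroup G} {b c e : G}
    (hc : c ∈ Subgroup.normalizer (R : Set G))
    (h1 : b * c * b⁻¹ * c⁻¹ ∈ R) (h2 : b * e * b⁻¹ * e ∈ R) (h3 : e⁻¹ * c * e * c⁻¹ ∈ R)
    (h4 : b * (c * e) * b⁻¹ * (c * e) ∈ R) : c * c ∈ R := by
  have e1 : c * c = (c * ((b * e * b⁻¹ * e) * (e⁻¹ * c * e * c⁻¹))⁻¹ * c⁻¹) *
      ((b * c * b⁻¹ * c⁻¹)⁻¹ * (b * (c * e) * b⁻¹ * (c * e))) := by group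
  rw [e1]
  exact R.mul_mem ((Subgroup.mem_normalizer_iff.mp hc _).mp (R.inv_mem (R.mul_mem h2 h3)))
    (R.mul_mem (R.inv_mem h1) h4)

/-- Variant of `sq_mem_of_inverting` where `b` only normalizes a subgroup `Y ≥ R` containing
`e`: then `c² ∈ Y`. -/
theorem sq_mem_sup_of_inverting {R Y : Subgroup G} {b c e : G} (hRY : R ≤ Y)
    (hc : c ∈ Subgroup.normalizer (Y : Set G)) (he : e ∈ Y) (hf : b * e * b⁻¹ ∈ Y)
    (h1 : b * c * b⁻¹ * c⁻¹ ∈ R) (h3 : e⁻¹ * c * e * c⁻¹ ∈ R)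
    (h4 : b * (c * e) * b⁻¹ * (c * e) ∈ R) : c * c ∈ Y := by
  have e1 : c * c = (c * ((b * e * b⁻¹) * e * (e⁻¹ * c * e * c⁻¹))⁻¹ * c⁻¹) *
      ((b * c * b⁻¹ * c⁻¹)⁻¹ * (b * (c * e) * b⁻¹ * (c * e))) := by group
  rw [e1]
  exact Y.mul_mem ((Subgroup.mem_normalizer_iff.mp hc _).mp
    (Y.inv_mem (Y.mul_mem (Y.mul_mem hf he) (hRY h3))))
    (hRY (R.mul_mem (R.inv_mem h1) h4))

end NormKer

end Cfsg.Agent.Lib.helper51
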