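import Mathlib
import Cfsg.Prelude.Def_JComponents
import Cfsg.Agent.Lib.helper51.JBasic
import Cfsg.Agent.Lib.helper51.JNormKer
import Cfsg.Agent.S2941

/-!
Normalization of `⟨d⟩ O_2(L)` (for an element `d` of order 3 modulo `C_L(V)` inverted by a
transvection `a ∈ J(T)`) by `J(L)`, `N` and `C_L(V)`; consequences for `J(T)`-components.
-/

set_option autoImplicit false

namespace Cfsg.Agent.Lib.helper51

open Cfsg Cfsg.Agent.Lib.helper13
open scoped commutatorElement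

section InvPairSec

universe u

variable {G : Type u} [Group G] {T L V N JL : Subgroup G}

/-- `d ∈ N ∖ C(V)` with `d³ ∈ O_2(L)`, centralizing `C_L(V)` modulo `O_2(L)`, inverted modulo
`O_2(L)` by the involution `a ∈ J(T)` acting as a transvection on `V`. -/
structure InvPair (T L V N JL : Subgroup G) (d a : G) : Prop where
  dN : d ∈ N
  dC : d ∉ Subgroup.centralizer (V : Set G)
  d3 : d ^ 3 ∈ pCoreOf 2 L
  F5 : ∀ c ∈ L ⊓ Subgroup.centralizer (V : Set G), d * c * d⁻¹ * c⁻¹ ∈ pCoreOf 2 L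
  aT : a ∈ T
  aJ : a ∈ JL
  aa : a * a = 1
  atr : IsTransv V a
  inv : a * d * a⁻¹ * d ∈ pCoreOf 2 L

theorem FineData.conj_comm_TC (F : FineData T L V N JL) {y t c : G} (hy : y ∈ L) (ht : t ∈ T)
    (hc : c ∈ L ⊓ Subgroup.centralizer (V : Set G)) :
    (y * t * y⁻¹) * c * (y * t * y⁻¹)⁻¹ * c⁻¹ ∈ pCoreOf 2 L := by
  have h1 := F.conjC (L.inv_mem hy) hc
  have h2 := F.comm_TC ht h1
  have h3 := F.conjR hy h2
  have e : (y * t * y⁻¹) * c * (y * t * y⁻¹)⁻¹ * c⁻¹ =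
      y * (t * (y⁻¹ * c * y⁻¹⁻¹) * t⁻¹ * (y⁻¹ * c * y⁻¹⁻¹)⁻¹) * y⁻¹ := by group
  rw [e]; exact h3

/-- A commutator `[y, a] ∈ N` centralizes `d` modulo `O_2(L)`. -/
theorem InvPair.comm_mem (F : FineData T L V N JL) {d a : G} (P : InvPair T L V N JL d a)
    {y : G} (hw : y * a * y⁻¹ * a⁻¹ ∈ N) :
    (y * a * y⁻¹ * a⁻¹) * d * (y * a * y⁻¹ * a⁻¹)⁻¹ * d⁻¹ ∈ pCoreOf 2 L := by
  have hinvw : a * (y * a * y⁻¹ * a⁻¹) * a⁻¹ * (y * a * y⁻¹ * a⁻¹) = 1 := by
    calc a * (y * a * y⁻¹ * a⁻¹) * a⁻¹ * (y * a * y⁻¹ * a⁻¹)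
        = a * y * a * y⁻¹ * (a * a)⁻¹ * y * a * y⁻¹ * a⁻¹ := by group
      _ = a * y * a * y⁻¹ * y * a * y⁻¹ * a⁻¹ := by rw [P.aa, inv_one, mul_one]
      _ = a * y * (a * a) * y⁻¹ * a⁻¹ := by group
      _ = 1 := by rw [P.aa]; group
  obtain ⟨w, hwdef⟩ : ∃ w, w = y * a * y⁻¹ * a⁻¹ := ⟨_, rfl⟩
  rw [← hwdef] at hw hinvw ⊢
  have hdL := F.NL P.dN
  have hwL := F.NL hw
  by_cases hwC : w ∈ Subgroup.centralizer (V : Set G)
  · have := P.F5 w ⟨hwL, hwC⟩
    have e : w * d * w⁻¹ * d⁻¹ = (d * w * d⁻¹ * w⁻¹)⁻¹ := by group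
    rw [e]; exact Subgroup.inv_mem _ this
  · obtain ⟨v₀, hv₀, ha⟩ := P.atr
    have hcases := inverted_pair F.Vc F.V2 (d := d) (e := w) (a := a) (v₀ := v₀)
      (fun v hv => F.conjV hdL hv) (F.cube d P.dN) P.dC
      (fun v hv => F.conjV hwL hv) (F.cube w hw) hwC P.aa hv₀ ha
      (F.RC P.inv) (by rw [hinvw]; exact Subgroup.one_mem _)
      (F.comm d P.dN w hw) (F.cube _ (N.mul_mem hw P.dN))
      (F.cube _ (N.mul_mem hw (N.mul_mem P.dN P.dN)))
    rcases hcases with h | h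
    · have := P.F5 (w * d) ⟨L.mul_mem hwL hdL, h⟩
      have e : w * d * w⁻¹ * d⁻¹ = (d * (w * d) * d⁻¹ * (w * d)⁻¹)⁻¹ := by group
      rw [e]; exact Subgroup.inv_mem _ this
    · have := P.F5 (w * (d * d)) ⟨L.mul_mem hwL (L.mul_mem hdL hdL), h⟩
      have e : w * d * w⁻¹ * d⁻¹ = (d * (w * (d * d)) * d⁻¹ * (w * (d * d))⁻¹)⁻¹ := by group
      rw [e]; exact Subgroup.inv_mem _ this

/-- The conjugate `y a y⁻¹` inverts `d` modulo `O_2(L)` when `[y, a] ∈ N`. -/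
theorem InvPair.conj_inv (F : FineData T L V N JL) {d a : G} (P : InvPair T L V N JL d a)
    {y : G} (hw : y * a * y⁻¹ * a⁻¹ ∈ N) :
    (y * a * y⁻¹) * d * (y * a * y⁻¹)⁻¹ * d ∈ pCoreOf 2 L := by
  have hω := P.comm_mem F hw
  have hwL := F.NL hw
  have hdL := F.NL P.dN
  have e : (y * a * y⁻¹) * d * (y * a * y⁻¹)⁻¹ * d =
      ((y * a * y⁻¹ * a⁻¹) * (a * d * a⁻¹ * d) * (y * a * y⁻¹ * a⁻¹)⁻¹) *
        (d⁻¹ * ((y * a * y⁻¹ * a⁻¹) * d * (y * a * y⁻¹ * a⁻¹)⁻¹ * d⁻¹)⁻¹ * d⁻¹⁻¹) := by group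
  rw [e]
  exact Subgroup.mul_mem _ (F.conjR hwL P.inv)
    (F.conjR (L.inv_mem hdL) (Subgroup.inv_mem _ hω))

/-- `N` centralizes `d` modulo `O_2(L)`. -/
theorem InvPair.N_comm [Finite G] (F : FineData T L V N JL) {d a : G}
    (P : InvPair T L V N JL d a) {y : G} (hy : y ∈ N) :
    y * d * y⁻¹ * d⁻¹ ∈ pCoreOf 2 L := by
  have hyL := F.NL hy
  have hdL := F.NL P.dN
  have haL := F.TL P.aT
  have hcC : y * d * y⁻¹ * d⁻¹ ∈ L ⊓ Subgroup.centralizer (V : Set G) := by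
    refine ⟨L.mul_mem (L.mul_mem (L.mul_mem hyL hdL) (L.inv_mem hyL)) (L.inv_mem hdL), ?_⟩
    have := F.comm y hy d P.dN
    rwa [commutatorElement_def] at this
  have hw : y * a * y⁻¹ * a⁻¹ ∈ N := by
    have e : y * a * y⁻¹ * a⁻¹ = y * (a * y⁻¹ * a⁻¹) := by group
    rw [e]
    exact N.mul_mem hy (F.conjN haL (N.inv_mem hy))
  apply F.sq_mem hcC
  apply sq_mem_of_inverting (b := y * a * y⁻¹) (e := d) (F.LR hcC.1)
  · exact F.conj_comm_TC hyL P.aT hcC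
  · exact P.conj_inv F hw
  · have h1 := F.conjC (L.inv_mem hdL) hcC
    have h2 := P.F5 _ h1
    have e : d⁻¹ * (y * d * y⁻¹ * d⁻¹) * d * (y * d * y⁻¹ * d⁻¹)⁻¹ =
        (d * (d⁻¹ * (y * d * y⁻¹ * d⁻¹) * d⁻¹⁻¹) * d⁻¹ *
          (d⁻¹ * (y * d * y⁻¹ * d⁻¹) * d⁻¹⁻¹)⁻¹)⁻¹ := by group
    rw [e]; exact Subgroup.inv_mem _ h2
  · have e : (y * a * y⁻¹) * ((y * d * y⁻¹ * d⁻¹) * d) * (y * a * y⁻¹)⁻¹ *
        ((y * d * y⁻¹ * d⁻¹) * d) = y * (a * d * a⁻¹ * d) * y⁻¹ := by group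
    rw [e]; exact F.conjR hyL P.inv

/-- An involution of `J(L)` acting as a transvection on `V` and centralizing `C_L(V)` modulo
`O_2(L)` normalizes `⟨d⟩ O_2(L)`. -/
theorem InvPair.transv_conj [Finite G] (F : FineData T L V N JL) {d a : G}
    (P : InvPair T L V N JL d a) {b v₁ : G} (hbL : b ∈ L) (hbJ : b ∈ JL) (hbb : b * b = 1)
    (hv₁ : v₁ ∈ V) (hb : ∀ v ∈ V, b * v * b⁻¹ = v ∨ b * v * b⁻¹ = v * v₁)
    (hbC : ∀ c ∈ L ⊓ Subgroup.centralizer (V : Set G), b * c * b⁻¹ * c⁻¹ ∈ pCoreOf 2 L) :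
    b * d * b⁻¹ ∈ Subgroup.zpowers d ⊔ pCoreOf 2 L := by
  have hdL := F.NL P.dN
  have haL := F.TL P.aT
  obtain ⟨v₀, hv₀, ha⟩ := P.atr
  obtain ⟨W, hWV, hW, hWc, hv₀W, hv₀1⟩ := exists_normKer_four F.Vc F.V2
    (fun v hv => F.conjV hdL hv) (F.cube d P.dN) P.dC P.aa hv₀ ha (F.RC P.inv)
  have hφ3 : ∀ v ∈ V, d * (d * (d * v * d⁻¹) * d⁻¹) * d⁻¹ = v :=
    fun v hv => conj_conj_conj_eq_of_pow_three_mem_centralizer (F.cube d P.dN) hv
  have hWd := normKer_conj_mem (fun v hv => F.conjV hdL hv) hφ3 hWV hW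
  have hfpf := normKer_fpf F.V2 hWV hW
  have hz₂ : d * v₀ * d⁻¹ ∈ W := hWd v₀ hv₀W
  have hz₂1 : d * v₀ * d⁻¹ ≠ 1 := by
    intro h
    apply hv₀1
    calc v₀ = d⁻¹ * (d * v₀ * d⁻¹) * d := by group
      _ = 1 := by rw [h]; group
  have hne : v₀ ≠ d * v₀ * d⁻¹ := fun h => hv₀1 (hfpf v₀ hv₀W h.symm)
  have hd₂N : b * d * b⁻¹ ∈ N := F.conjN hbL P.dN
  have hstep1 := conj_transv_pair F.Vc F.V2 (d := d) (b := b) (fun v hv => F.conjV hdL hv)
    (fun v hv => F.conjV hbL hv)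
    (fun v hv => by
      have := F.conjV (L.inv_mem hbL) hv
      simpa using this)
    (F.cube d P.dN) (F.cube _ hd₂N) (F.comm d P.dN _ hd₂N) hWV hW hWc hv₁ hb hv₀W hz₂ hv₀1 hz₂1
    hne (F.cube _ (N.mul_mem hd₂N P.dN)) (F.cube _ (N.mul_mem hd₂N (N.mul_mem P.dN P.dN)))
  have hw : b * a * b⁻¹ * a⁻¹ ∈ N := by
    have := F.comm_JL hbJ P.aJ
    rwa [commutatorElement_def] at this
  rcases hstep1 with h | h
  · have hcC : b * d * b⁻¹ * d ∈ L ⊓ Subgroup.centralizer (V : Set G) :=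
      ⟨L.mul_mem (L.mul_mem (L.mul_mem hbL hdL) (L.inv_mem hbL)) hdL, h⟩
    have hcR : b * d * b⁻¹ * d ∈ pCoreOf 2 L := by
      apply F.sq_mem hcC
      apply sq_mem_of_inverting (b := b * a * b⁻¹) (e := d⁻¹) (F.LR hcC.1)
      · exact F.conj_comm_TC hbL P.aT hcC
      · have h2' := P.conj_inv F hw
        have e : (b * a * b⁻¹) * d⁻¹ * (b * a * b⁻¹)⁻¹ * d⁻¹ =
            d * ((b * a * b⁻¹) * d * (b * a * b⁻¹)⁻¹ * d)⁻¹ * d⁻¹ := by group
        rw [e]; exact F.conjR hdL (Subgroup.inv_mem _ h2')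
      · have := P.F5 _ hcC
        rw [inv_inv]; exact this
      · have e : (b * a * b⁻¹) * ((b * d * b⁻¹ * d) * d⁻¹) * (b * a * b⁻¹)⁻¹ *
            ((b * d * b⁻¹ * d) * d⁻¹) = b * (a * d * a⁻¹ * d) * b⁻¹ := by group
        rw [e]; exact F.conjR hbL P.inv
    have e : b * d * b⁻¹ = (b * d * b⁻¹ * d) * d⁻¹ := by group
    rw [e]
    exact Subgroup.mul_mem _ (Subgroup.mem_sup_right hcR)
      (Subgroup.mem_sup_left (Subgroup.inv_mem _ (Subgroup.mem_zpowers d)))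
  · have hd3C : d ^ 3 ∈ L ⊓ Subgroup.centralizer (V : Set G) :=
      ⟨L.pow_mem hdL 3, F.cube d P.dN⟩
    have hc'C : b * d * b⁻¹ * d⁻¹ ∈ L ⊓ Subgroup.centralizer (V : Set G) := by
      have e : b * d * b⁻¹ * d⁻¹ = (b * d * b⁻¹ * (d * d)) * (d ^ 3)⁻¹ := by group
      rw [e]
      exact Subgroup.mul_mem _
        ⟨L.mul_mem (L.mul_mem (L.mul_mem hbL hdL) (L.inv_mem hbL)) (L.mul_mem hdL hdL), h⟩
        (Subgroup.inv_mem _ hd3C)
    have hc'R : b * d * b⁻¹ * d⁻¹ ∈ pCoreOf 2 L := by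
      apply F.sq_mem hc'C
      have h1 := hbC _ hc'C
      have e : (b * d * b⁻¹ * d⁻¹) * (b * d * b⁻¹ * d⁻¹) =
          (b * (b * d * b⁻¹ * d⁻¹) * b⁻¹ * (b * d * b⁻¹ * d⁻¹)⁻¹)⁻¹ *
            ((b * b) * (d * (b * b)⁻¹ * d⁻¹)) := by group
      have e2 : (b * b) * (d * (b * b)⁻¹ * d⁻¹) = 1 := by rw [hbb]; group
      rw [e, e2, mul_one]
      exact Subgroup.inv_mem _ h1
    have e : b * d * b⁻¹ = (b * d * b⁻¹ * d⁻¹) * d := by group
    rw [e]
    exact Subgroup.mul_mem _ (Subgroup.mem_sup_right hc'R)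
      (Subgroup.mem_sup_left (Subgroup.mem_zpowers d))

theorem mem_normalizer_sup_of_conj [Finite G] {R : Subgroup G} {d g : G}
    (hgR : g ∈ Subgroup.normalizer (R : Set G)) (h : g * d * g⁻¹ ∈ Subgroup.zpowers d ⊔ R) :
    g ∈ Subgroup.normalizer ((Subgroup.zpowers d ⊔ R : Subgroup G) : Set G) := by
  apply mem_normalizer_of_forall_conj_mem
  have hle : Subgroup.zpowers d ⊔ R ≤
      (Subgroup.zpowers d ⊔ R).comap (MulAut.conj g).toMonoidHom := by
    apply sup_le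
    · rw [Subgroup.zpowers_le]; exact h
    · intro r hr
      exact Subgroup.mem_sup_right (conj_mem_of_mem_normalizer hgR hr)
  intro x hx
  exact hle hx

theorem InvPair.C_le [Finite G] (F : FineData T L V N JL) {d a : G}
    (P : InvPair T L V N JL d a) :
    L ⊓ Subgroup.centralizer (V : Set G) ≤
      Subgroup.normalizer ((Subgroup.zpowers d ⊔ pCoreOf 2 L : Subgroup G) : Set G) := by
  intro c hc
  apply mem_normalizer_sup_of_conj (F.LR hc.1)
  have e : c * d * c⁻¹ = (d * c * d⁻¹ * c⁻¹)⁻¹ * d := by group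
  rw [e]
  exact Subgroup.mul_mem _ (Subgroup.mem_sup_right (Subgroup.inv_mem _ (P.F5 c hc)))
    (Subgroup.mem_sup_left (Subgroup.mem_zpowers d))

theorem InvPair.N_le [Finite G] (F : FineData T L V N JL) {d a : G}
    (P : InvPair T L V N JL d a) :
    N ≤ Subgroup.normalizer ((Subgroup.zpowers d ⊔ pCoreOf 2 L : Subgroup G) : Set G) := by
  intro y hy
  apply mem_normalizer_sup_of_conj (F.LR (F.NL hy))
  have e : y * d * y⁻¹ = (y * d * y⁻¹ * d⁻¹) * d := by group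
  rw [e]
  exact Subgroup.mul_mem _ (Subgroup.mem_sup_right (P.N_comm F hy))
    (Subgroup.mem_sup_left (Subgroup.mem_zpowers d))

theorem InvPair.JL_le [Finite G] (F : FineData T L V N JL) {d a : G}
    (P : InvPair T L V N JL d a) :
    JL ≤ Subgroup.normalizer ((Subgroup.zpowers d ⊔ pCoreOf 2 L : Subgroup G) : Set G) := by
  refine F.JLgen.trans ?_
  rw [Subgroup.closure_le]
  rintro _ ⟨l, hl, y, hy, rfl⟩
  have hle : thompsonSubgroupOf 2 T ≤
      (Subgroup.normalizer ((Subgroup.zpowers d ⊔ pCoreOf 2 L : Subgroup G) : Set G)).comap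
        (MulAut.conj l).toMonoidHom := by
    refine F.gen.trans ?_
    rw [Subgroup.closure_le]
    rintro x ⟨hxJ, hx⟩
    show l * x * l⁻¹ ∈ Subgroup.normalizer ((Subgroup.zpowers d ⊔ pCoreOf 2 L : Subgroup G) : Set G)
    have hxL := F.TL (F.JT hxJ)
    rcases hx with hx | ⟨A, hA, hxA, ⟨v₀', hv₀', htr⟩, -⟩
    · exact P.C_le F (F.conjC hl ⟨hxL, hx⟩)
    · have hbL : l * x * l⁻¹ ∈ L := L.mul_mem (L.mul_mem hl hxL) (L.inv_mem hl)
      apply mem_normalizer_sup_of_conj (F.LR hbL)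
      refine P.transv_conj F hbL (F.conjJL hl (F.JJL hxJ)) ?_ (F.conjV hl hv₀') ?_ ?_
      · have hxx : x * x = 1 := by
          rw [← pow_two]; exact ((isElementaryAbelian_iff A).mp hA.2.1).2 x hxA
        calc l * x * l⁻¹ * (l * x * l⁻¹) = l * (x * x) * l⁻¹ := by group
          _ = 1 := by rw [hxx]; group
      · intro v hv
        have hv' : l⁻¹ * v * l ∈ V := by
          have := F.conjV (L.inv_mem hl) hv
          simpa using this
        rcases htr _ hv' with h | h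
        · left
          calc l * x * l⁻¹ * v * (l * x * l⁻¹)⁻¹ = l * (x * (l⁻¹ * v * l) * x⁻¹) * l⁻¹ := by
                group
            _ = v := by rw [h]; group
        · right
          calc l * x * l⁻¹ * v * (l * x * l⁻¹)⁻¹ = l * (x * (l⁻¹ * v * l) * x⁻¹) * l⁻¹ := by
                group
            _ = v * (l * v₀' * l⁻¹) := by rw [h]; group
      · intro c hc
        exact F.conj_comm_TC hl (F.JT hxJ) hc
  exact hle hy

/-- Elements normalizing `K R` normalize `K`, for `K` generated by elements of odd order and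
`R` a 2-group normalizing `K`. -/
theorem normalizer_sup_le_normalizer [Finite G] {K R : Subgroup G}
    (hgen : Subgroup.closure {g : G | g ∈ K ∧ Odd (orderOf g)} = K)
    (hRK : R ≤ Subgroup.normalizer (K : Set G)) (hR : IsPGroup 2 R) :
    Subgroup.normalizer ((K ⊔ R : Subgroup G) : Set G) ≤ Subgroup.normalizer (K : Set G) := by
  intro t ht
  apply mem_normalizer_of_forall_conj_mem
  have hle : K ≤ K.comap (MulAut.conj t).toMonoidHom := by
    conv_lhs => rw [← hgen]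
    rw [Subgroup.closure_le]
    rintro g ⟨hgK, hgodd⟩
    show t * g * t⁻¹ ∈ K
    apply mem_of_odd_of_mem_sup hRK hR
      (conj_mem_of_mem_normalizer ht (Subgroup.mem_sup_left hgK))
    have : orderOf (t * g * t⁻¹) = orderOf g :=
      orderOf_injective (MulAut.conj t).toMonoidHom (MulAut.conj t).injective g
    rw [this]; exact hgodd
  intro y hy
  exact hle hy

/-- An element of `⟨d⟩ O_2(L)` centralizing `V` lies in `O_2(L)`. -/
theorem InvPair.mem_of_mem_sup (F : FineData T L V N JL) {d a : G}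
    (P : InvPair T L V N JL d a) {x : G} (hx : x ∈ Subgroup.zpowers d ⊔ pCoreOf 2 L)
    (hxC : x ∈ Subgroup.centralizer (V : Set G)) : x ∈ pCoreOf 2 L := by
  have hdL := F.NL P.dN
  have hdR : ∀ (i : ℤ) (r : G), r ∈ pCoreOf 2 L → d ^ i * r * (d ^ i)⁻¹ ∈ pCoreOf 2 L :=
    fun i r hr => F.conjR (L.zpow_mem hdL i) hr
  let D : Subgroup G :=
    { carrier := {x | ∃ i : ℤ, ∃ r ∈ pCoreOf 2 L, x = d ^ i * r}
      mul_mem' := by
        rintro _ _ ⟨i, r, hr, rfl⟩ ⟨j, r', hr', rfl⟩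
        refine ⟨i + j, (d ^ (-j) * r * (d ^ (-j))⁻¹) * r',
          Subgroup.mul_mem _ (hdR _ r hr) hr', ?_⟩
        rw [zpow_add, zpow_neg]; group
      one_mem' := ⟨0, 1, Subgroup.one_mem _, by simp⟩
      inv_mem' := by
        rintro _ ⟨i, r, hr, rfl⟩
        refine ⟨-i, d ^ i * r⁻¹ * (d ^ i)⁻¹, hdR _ _ (Subgroup.inv_mem _ hr), ?_⟩
        rw [zpow_neg]; group }
  have hle : Subgroup.zpowers d ⊔ pCoreOf 2 L ≤ D := by
    apply sup_le
    · rw [Subgroup.zpowers_le]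
      exact ⟨1, 1, Subgroup.one_mem _, by simp⟩
    · intro r hr
      exact ⟨0, r, hr, by simp⟩
  obtain ⟨i, r, hr, rfl⟩ := hle hx
  have hdi : d ^ i ∈ Subgroup.centralizer (V : Set G) := by
    have := Subgroup.mul_mem _ hxC (Subgroup.inv_mem _ (F.RC hr))
    simpa using this
  refine Subgroup.mul_mem _ ?_ hr
  have h3 : d ^ (3 : ℤ) = d ^ (3 : ℕ) := by norm_cast
  have hpow : d ^ i = (d ^ 3) ^ (i / 3) * d ^ (i % 3) := by
    conv_lhs => rw [← Int.mul_ediv_add_emod i 3]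
    rw [zpow_add, zpow_mul, h3]
  have huR : (d ^ 3) ^ (i / 3) ∈ pCoreOf 2 L := Subgroup.zpow_mem _ P.d3 _
  have huC := F.RC huR
  obtain ⟨u, hu⟩ : ∃ u, u = (d ^ 3) ^ (i / 3) := ⟨_, rfl⟩
  rw [← hu] at hpow huR huC
  have h0 : 0 ≤ i % 3 := Int.emod_nonneg i (by norm_num)
  have h3' : i % 3 < 3 := Int.emod_lt_of_pos i (by norm_num)
  obtain ⟨s, hs⟩ : ∃ s, s = i % 3 := ⟨_, rfl⟩
  rw [← hs] at hpow h0 h3'
  interval_cases s
  · rw [hpow, zpow_zero, mul_one]; exact huR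
  · exfalso
    apply P.dC
    have : d = u⁻¹ * d ^ i := by rw [hpow, zpow_one]; group
    rw [this]
    exact Subgroup.mul_mem _ (Subgroup.inv_mem _ huC) hdi
  · exfalso
    apply P.dC
    have h2 : d ^ 2 ∈ Subgroup.centralizer (V : Set G) := by
      have e : d ^ 2 = u⁻¹ * d ^ i := by
        rw [hpow]
        have : d ^ (2 : ℤ) = d ^ (2 : ℕ) := by norm_cast
        rw [this]; group
      rw [e]
      exact Subgroup.mul_mem _ (Subgroup.inv_mem _ huC) hdi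
    exact mem_of_pow_mem_of_coprime _ d 2 3 (by norm_num) h2 (F.cube d P.dN)

/-- An element `n ∈ L` conjugating `d` into `⟨d⟩ C_L(V)` normalizes `⟨d⟩ O_2(L)`. -/
theorem InvPair.mem_normalizer_of_pair [Finite G] (F : FineData T L V N JL) {d a : G}
    (P : InvPair T L V N JL d a) {n : G} (hn : n ∈ L)
    (h : n * d * n⁻¹ * d ∈ Subgroup.centralizer (V : Set G) ∨
      n * d * n⁻¹ * (d * d) ∈ Subgroup.centralizer (V : Set G)) :
    n ∈ Subgroup.normalizer ((Subgroup.zpowers d ⊔ pCoreOf 2 L : Subgroup G) : Set G) := by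
  have hdL := F.NL P.dN
  have hb' : n * a * n⁻¹ ∈
      Subgroup.normalizer ((Subgroup.zpowers d ⊔ pCoreOf 2 L : Subgroup G) : Set G) :=
    P.JL_le F (F.conjJL hn P.aJ)
  have hndL : n * d * n⁻¹ ∈ L := L.mul_mem (L.mul_mem hn hdL) (L.inv_mem hn)
  have aux : ∀ f : G, f ∈ Subgroup.zpowers d →
      (∀ c ∈ L ⊓ Subgroup.centralizer (V : Set G), f * c * f⁻¹ * c⁻¹ ∈ pCoreOf 2 L) →
      n * d * n⁻¹ * f ∈ Subgroup.centralizer (V : Set G) →
      n * d * n⁻¹ ∈ Subgroup.zpowers d ⊔ pCoreOf 2 L := by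
    intro f hf hκ hcV
    have hfL : f ∈ L := (Subgroup.zpowers_le.mpr hdL) hf
    have hc : n * d * n⁻¹ * f ∈ L ⊓ Subgroup.centralizer (V : Set G) :=
      ⟨L.mul_mem hndL hfL, hcV⟩
    have hfY : f⁻¹ ∈ Subgroup.zpowers d ⊔ pCoreOf 2 L :=
      Subgroup.mem_sup_left (Subgroup.inv_mem _ hf)
    have hsq : (n * d * n⁻¹ * f) * (n * d * n⁻¹ * f) ∈ Subgroup.zpowers d ⊔ pCoreOf 2 L := by
      apply sq_mem_sup_of_inverting (R := pCoreOf 2 L) (b := n * a * n⁻¹) (e := f⁻¹)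
        le_sup_right (P.C_le F hc) hfY (conj_mem_of_mem_normalizer hb' hfY)
        (F.conj_comm_TC hn P.aT hc)
      · rw [inv_inv]; exact hκ _ hc
      · have e : (n * a * n⁻¹) * ((n * d * n⁻¹ * f) * f⁻¹) * (n * a * n⁻¹)⁻¹ *
            ((n * d * n⁻¹ * f) * f⁻¹) = n * (a * d * a⁻¹ * d) * n⁻¹ := by group
        rw [e]; exact F.conjR hn P.inv
    have hsqR := P.mem_of_mem_sup F hsq (Subgroup.mul_mem _ hcV hcV)
    have hcR := F.sq_mem hc hsqR
    have e : n * d * n⁻¹ = (n * d * n⁻¹ * f) * f⁻¹ := by group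
    rw [e]
    exact Subgroup.mul_mem _ (Subgroup.mem_sup_right hcR) hfY
  apply mem_normalizer_sup_of_conj (F.LR hn)
  rcases h with h | h
  · exact aux d (Subgroup.mem_zpowers d) P.F5 h
  · refine aux (d * d) (Subgroup.mul_mem _ (Subgroup.mem_zpowers d) (Subgroup.mem_zpowers d)) ?_ h
    intro c hc
    have h1 := P.F5 c hc
    have e : d * d * c * (d * d)⁻¹ * c⁻¹ = (d * (d * c * d⁻¹ * c⁻¹) * d⁻¹) * (d * c * d⁻¹ * c⁻¹) := by
      group
    rw [e]
    exact Subgroup.mul_mem _ (F.conjR hdL h1) h1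

end InvPairSec

section Components

universe u

variable {G : Type u} [Group G] [Finite G] {T L V N JL : Subgroup G}

/-- A `J(T)`-component `K ≤ L` gives rise to an inverted pair `(d, a)` with `K O_2(L) = ⟨d⟩ O_2(L)`. -/
theorem exists_invPair (hL : Cfsg.IsCharacteristicTwoType G)
    (hN : ∀ N : Subgroup G, Cfsg.IsTwoLocal N → Group.IsSolvable ↥N)
    (hZ : ∀ S : Sylow 2 G, Subgroup.centralizer (Cfsg.omegaCenterOf (S : Subgroup G) : Set G) ≤
      Subgroup.normalizer ((S : Subgroup G) : Set G))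
    (hT : IsPGroup 2 T) (hT1 : T ≠ ⊥) (F : FineData T L V N JL) {K : Subgroup G}
    (hK : IsJComponent T K) (hKL : K ≤ L) :
    ∃ d a : G, InvPair T L V N JL d a ∧ d ∈ K ∧ Odd (orderOf d) ∧ d ∉ pCoreOf 2 K ∧
      K ⊔ pCoreOf 2 L = Subgroup.zpowers d ⊔ pCoreOf 2 L ∧
      pCoreOf 2 L ≤ Subgroup.normalizer (K : Set G) ∧ K ≤ N ∧ IsMinGen T V a ∧
      pCoreOf 2 K ≤ pCoreOf 2 L ∧ a * d * a⁻¹ * d ∈ pCoreOf 2 K ∧
      a ∈ thompsonSubgroupOf 2 T := by
  have hp2 : Fact (Nat.Prime 2) := ⟨Nat.prime_two⟩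
  have hK' := hK
  obtain ⟨hgen, hKJ, hidx, -, hWcard, hW2⟩ := hK
  have hKN : K ≤ N := F.XN K hKL hKJ hgen
  have hJT := F.JT
  have hTJ : T ≤ Subgroup.normalizer (thompsonSubgroupOf 2 T : Set G) :=
    Subgroup.le_normalizer.trans (normalizer_le_normalizer_thompsonSubgroupOf 2 T)
  have hRK : pCoreOf 2 L ≤ Subgroup.normalizer (K : Set G) :=
    Cfsg.Agent.S2941.result hL hN hZ T hT hT1 K hK' (pCoreOf 2 L)
      ((sup_le hKL (hJT.trans F.TL)).trans F.LR) (F.RT.trans hTJ)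
  have hQK : pCoreOf 2 K ≤ K := pCoreOf_le 2 K
  have hQ2 : IsPGroup 2 (pCoreOf 2 K) := isPGroup_pCoreOf K
  have hKQ : K ≤ Subgroup.normalizer (pCoreOf 2 K : Set G) := le_normalizer_pCoreOf 2 K
  have hQR : pCoreOf 2 K ≤ pCoreOf 2 L := by
    intro q hq
    obtain ⟨k, hk⟩ := hQ2 ⟨q, hq⟩
    have hk' : q ^ 2 ^ k = 1 := by
      have := congrArg Subtype.val hk
      simpa using this
    exact F.two_elt ⟨hKL (hQK hq), F.cube_two (hKN (hQK hq)) ⟨k, hk'⟩⟩ ⟨k, hk'⟩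
  have hKRQ : K ⊓ pCoreOf 2 L ≤ pCoreOf 2 K :=
    le_pCoreOf inf_le_left (le_normalizer_inf' Subgroup.le_normalizer (hKL.trans F.LR))
      (F.R2.to_le inf_le_right)
  -- the element `d`
  obtain ⟨d, hdK, hdodd, hdQ⟩ : ∃ d ∈ K, Odd (orderOf d) ∧ d ∉ pCoreOf 2 K := by
    by_contra hcon
    push Not at hcon
    obtain ⟨d₀, hd₀K, hd₀Q⟩ := exists_not_mem_pCoreOf hidx
    apply hd₀Q
    have : K ≤ pCoreOf 2 K := by
      conv_lhs => rw [← hgen]
      rw [Subgroup.closure_le]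
      rintro g ⟨hgK, hgodd⟩
      exact hcon g hgK hgodd
    exact this hd₀K
  obtain ⟨hdec, -, -, -, -, -⟩ := jComponent_facts hK' hdK hdQ
  obtain ⟨hKC, -, -⟩ := component_sup_core_facts F.TL hKL F.LV F.TC hKJ
  have hdC : d ∉ Subgroup.centralizer (V : Set G) := by
    intro hd
    have hKCs : K ≤ L ⊓ Subgroup.centralizer (V : Set G) := by
      intro k hk
      obtain ⟨n, q, hq, rfl⟩ := hdec k hk
      exact ⟨hKL hk, Subgroup.mul_mem _ (Subgroup.pow_mem _ hd n) (F.RC (hQR hq))⟩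
    have hKR : K ≤ pCoreOf 2 L := by
      conv_lhs => rw [← hKJ]
      have h1 : ⁅K, thompsonSubgroupOf 2 T⁆ ≤ ⁅L ⊓ Subgroup.centralizer (V : Set G), T⁆ :=
        Subgroup.commutator_mono hKCs hJT
      have h2 : ⁅L ⊓ Subgroup.centralizer (V : Set G), T⁆ ≤ pCoreOf 2 L := by
        rw [Subgroup.commutator_comm]; exact F.TC
      exact h1.trans h2
    exact hdQ (hKRQ ⟨hdK, hKR hdK⟩)
  -- the element `a`
  have hJK : thompsonSubgroupOf 2 T ≤ Subgroup.normalizer (K : Set G) :=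
    le_normalizer_of_commutator_eq hKJ
  have hJQ : thompsonSubgroupOf 2 T ≤ Subgroup.normalizer (pCoreOf 2 K : Set G) :=
    hJK.trans (normalizer_le_normalizer_pCoreOf K)
  obtain ⟨a, haJ, haMin, k₀, hk₀K, hk₀⟩ : ∃ a ∈ thompsonSubgroupOf 2 T, IsMinGen T V a ∧
      ∃ k ∈ K, ⁅k, a⁆ ∉ pCoreOf 2 K := by
    by_contra hcon
    push Not at hcon
    have hle : thompsonSubgroupOf 2 T ≤ commSubgroup K (pCoreOf 2 K) := by
      refine F.gen.trans ?_
      rw [Subgroup.closure_le]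
      rintro x ⟨hxJ, hx⟩
      rw [SetLike.mem_coe, mem_commSubgroup_iff]
      refine ⟨hJK hxJ, hJQ hxJ, ?_⟩
      rcases hx with hx | hx
      · intro k hk
        apply hKRQ
        refine ⟨?_, hKC (Subgroup.commutator_mem_commutator hk ⟨F.TL (hJT hxJ), hx⟩)⟩
        rw [commutatorElement_def]
        have := conj_mem_of_mem_normalizer (hJK hxJ) (K.inv_mem hk)
        have e : k * x * k⁻¹ * x⁻¹ = k * (x * k⁻¹ * x⁻¹) := by group
        rw [e]; exact K.mul_mem hk this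
      · exact hcon x hxJ hx
    apply hdQ
    have : K ≤ pCoreOf 2 K := by
      conv_lhs => rw [← hKJ]
      rw [Subgroup.commutator_le]
      intro k hk j hj
      exact (mem_commSubgroup_iff.mp (hle hj)).2.2 k hk
    exact this hdK
  have haMin' := haMin
  obtain ⟨A, hA, haA, hatr, hall⟩ := haMin
  have haa : a * a = 1 := by
    rw [← pow_two]; exact ((isElementaryAbelian_iff A).mp hA.2.1).2 a haA
  have haK := hJK haJ
  have haQ := hJQ haJ
  have hd3Q : d ^ 3 ∈ pCoreOf 2 K := pow_three_mem_pCoreOf hidx hdK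
  -- `a` inverts `d` modulo `O_2(K)`
  have hinv : a * d * a⁻¹ * d ∈ pCoreOf 2 K := by
    obtain ⟨m, q', hq', hm⟩ := hdec (a * d * a⁻¹) (conj_mem_of_mem_normalizer haK hdK)
    have hpow : d ^ m = (d ^ 3) ^ (m / 3) * d ^ (m % 3) := by
      rw [← pow_mul, ← pow_add, Nat.div_add_mod]
    have huQ : (d ^ 3) ^ (m / 3) ∈ pCoreOf 2 K := Subgroup.pow_mem _ hd3Q _
    obtain ⟨u, hu⟩ : ∃ u, u = (d ^ 3) ^ (m / 3) := ⟨_, rfl⟩
    rw [← hu] at hpow huQ
    rw [hpow] at hm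
    have hr : m % 3 < 3 := Nat.mod_lt _ (by norm_num)
    obtain ⟨r, hr'⟩ : ∃ r, r = m % 3 := ⟨_, rfl⟩
    rw [← hr'] at hm hr
    interval_cases r
    · exfalso
      apply hdQ
      have h1 : a * d * a⁻¹ ∈ pCoreOf 2 K := by
        rw [hm, pow_zero, mul_one]; exact Subgroup.mul_mem _ huQ hq'
      have := inv_conj_mem_of_mem_normalizer haQ h1
      have e : a⁻¹ * (a * d * a⁻¹) * a = d := by group
      rwa [e] at this
    · exfalso
      apply hk₀
      -- `a` centralizes `K / O_2(K)`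
      let S : Subgroup G :=
        { carrier := {k | k ∈ K ∧ ⁅k, a⁆ ∈ pCoreOf 2 K}
          mul_mem' := by
            rintro k₁ k₂ ⟨h1, h1'⟩ ⟨h2, h2'⟩
            refine ⟨K.mul_mem h1 h2, ?_⟩
            have e : ⁅k₁ * k₂, a⁆ = k₁ * ⁅k₂, a⁆ * k₁⁻¹ * ⁅k₁, a⁆ := by
              simp only [commutatorElement_def]; group
            rw [e]
            exact Subgroup.mul_mem _ (conj_mem_of_mem_normalizer (hKQ h1) h2') h1'
          one_mem' := ⟨K.one_mem, by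
            have e : ⁅(1 : G), a⁆ = 1 := by simp only [commutatorElement_def]; group
            rw [e]; exact Subgroup.one_mem _⟩
          inv_mem' := by
            rintro k ⟨h1, h1'⟩
            refine ⟨K.inv_mem h1, ?_⟩
            have e : ⁅k⁻¹, a⁆ = k⁻¹ * ⁅k, a⁆⁻¹ * k⁻¹⁻¹ := by
              simp only [commutatorElement_def]; group
            rw [e]
            exact conj_mem_of_mem_normalizer (hKQ (K.inv_mem h1)) (Subgroup.inv_mem _ h1') }
      have hdS : d ∈ S := by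
        refine ⟨hdK, ?_⟩
        have e : ⁅d, a⁆ = d * (a * d * a⁻¹)⁻¹ := by
          simp only [commutatorElement_def]; group
        rw [e, hm, pow_one]
        have e2 : d * (u * d * q')⁻¹ = (d * q'⁻¹ * d⁻¹) * u⁻¹ := by group
        rw [e2]
        exact Subgroup.mul_mem _ (conj_mem_of_mem_normalizer (hKQ hdK) (Subgroup.inv_mem _ hq'))
          (Subgroup.inv_mem _ huQ)
      have hQS : ∀ q ∈ pCoreOf 2 K, q ∈ S := by
        intro q hq
        refine ⟨hQK hq, ?_⟩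
        have e : ⁅q, a⁆ = q * (a * q⁻¹ * a⁻¹) := by
          simp only [commutatorElement_def]; group
        rw [e]
        exact Subgroup.mul_mem _ hq (conj_mem_of_mem_normalizer haQ (Subgroup.inv_mem _ hq))
      obtain ⟨n, q, hq, rfl⟩ := hdec k₀ hk₀K
      exact (S.mul_mem (S.pow_mem hdS n) (hQS q hq)).2
    · have e : a * d * a⁻¹ * d = u * d ^ 3 * (d⁻¹ * q' * d⁻¹⁻¹) := by
        rw [hm]; group
      rw [e]
      exact Subgroup.mul_mem _ (Subgroup.mul_mem _ huQ hd3Q)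
        (conj_mem_of_mem_normalizer (hKQ (K.inv_mem hdK)) hq')
  have hF5 : ∀ c ∈ L ⊓ Subgroup.centralizer (V : Set G), d * c * d⁻¹ * c⁻¹ ∈ pCoreOf 2 L := by
    intro c hc
    have := hKC (Subgroup.commutator_mem_commutator hdK hc)
    rwa [commutatorElement_def] at this
  refine ⟨d, a, ⟨hKN hdK, hdC, hQR hd3Q, hF5, hJT haJ, F.JJL haJ, haa, hatr, hQR hinv⟩, hdK,
    hdodd, hdQ, ?_, hRK, hKN, haMin', hQR, hinv, haJ⟩
  apply le_antisymm
  · apply sup_le _ le_sup_right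
    intro k hk
    obtain ⟨n, q, hq, rfl⟩ := hdec k hk
    exact Subgroup.mul_mem _ (Subgroup.mem_sup_left (Subgroup.pow_mem _ (Subgroup.mem_zpowers d) n))
      (Subgroup.mem_sup_right (hQR hq))
  · apply sup_le _ le_sup_right
    rw [Subgroup.zpowers_le]
    exact Subgroup.mem_sup_left hdK

/-- `J(L)`, `N` and `C_L(V)` normalize every `J(T)`-component of `L`. -/
theorem component_normalized (hL : Cfsg.IsCharacteristicTwoType G)
    (hN : ∀ N : Subgroup G, Cfsg.IsTwoLocal N → Group.IsSolvable ↥N)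
    (hZ : ∀ S : Sylow 2 G, Subgroup.centralizer (Cfsg.omegaCenterOf (S : Subgroup G) : Set G) ≤
      Subgroup.normalizer ((S : Subgroup G) : Set G))
    (hT : IsPGroup 2 T) (hT1 : T ≠ ⊥) (F : FineData T L V N JL) {K : Subgroup G}
    (hK : IsJComponent T K) (hKL : K ≤ L) :
    JL ≤ Subgroup.normalizer (K : Set G) ∧ N ≤ Subgroup.normalizer (K : Set G) ∧
      L ⊓ Subgroup.centralizer (V : Set G) ≤ Subgroup.normalizer (K : Set G) ∧ K ≤ N ∧
      pCoreOf 2 L ≤ Subgroup.normalizer (K : Set G) := by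
  obtain ⟨d, a, P, -, -, -, hKR, hRK, hKN, -, -, -, -⟩ := exists_invPair hL hN hZ hT hT1 F hK hKL
  have hle := normalizer_sup_le_normalizer hK.1 hRK F.R2
  rw [hKR] at hle
  exact ⟨(P.JL_le F).trans hle, (P.N_le F).trans hle, (P.C_le F).trans hle, hKN, hRK⟩

end Components

end Cfsg.Agent.Lib.helper51
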