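import Mathlib

/-! S2113 (Schur multiplier of the small Ree groups): abstract data of a "Ree-type" unipotent group
`{T t u v}` of class 3 with a torus acting with weights `(ν, ν φ(ν), ν² φ(ν))`, `φ x = (x ^ e) ^ 3`. -/

set_option autoImplicit false

namespace Cfsg.Agent.Lib.helper51.S2113

/-- Abstract data of the unipotent subgroup of a small Ree group. `c t t'` is the correction term of the
middle coordinate. -/
structure UData (K G : Type*) [Field K] [Group G] (T : K → K → K → G) (e : ℕ) (c : K → K → K) :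
    Prop where
  top_r : ∀ t u v w, T t u v * T 0 0 w = T t u (v + w)
  top_l : ∀ t u v w, T 0 0 w * T t u v = T t u (v + w)
  mid : ∀ u u', T 0 u 0 * T 0 u' 0 = T 0 (u + u') 0
  mul : ∀ t u v t' u' v', ∃ w, T t u v * T t' u' v' = T (t + t') (u + u' + c t t') w
  c_zero_right : ∀ t, c t 0 = 0
  c_zero_left : ∀ t, c 0 t = 0
  frob : ∀ x : K, ((x ^ e) ^ e) ^ 3 = x
  tor : ∀ ν : K, ν ≠ 0 → ∃ h : G, ∀ t u v,
    h * T t u v * h⁻¹ = T (ν * t) (ν * (ν ^ e) ^ 3 * u) (ν ^ 2 * (ν ^ e) ^ 3 * v)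

end Cfsg.Agent.Lib.helper51.S2113
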