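import Mathlib
import Cfsg.Prelude.Def_PLocal
import Cfsg.Agent.Lib.helper14.ZJBridge
import Cfsg.Agent.Lib.helper53.Conj

/-!
# The abelian-version Thompson subgroup and the centre of a subgroup, in ambient form

`zOf S = S ⊓ C_G(S)`; `Cfsg.thompsonSubgroupAOf S = sSup (famE 0 S)` (helper14's ambient family of
abelian subgroups of largest order).  Transport of both along homomorphisms injective on `S`.
-/

set_option autoImplicit false

namespace Cfsg.Agent.Lib.helper51

open Cfsg.Agent.Lib.helper14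

section basics

variable {G : Type*} [Group G]

/-- `Z(S)` as a subgroup of the ambient group. -/
def zOf (S : Subgroup G) : Subgroup G := S ⊓ Subgroup.centralizer (S : Set G)

theorem zOf_le (S : Subgroup G) : zOf S ≤ S := inf_le_left

theorem mem_zOf {S : Subgroup G} {z : G} : z ∈ zOf S ↔ z ∈ S ∧ ∀ s ∈ S, s * z = z * s := by
  rw [zOf, Subgroup.mem_inf, Subgroup.mem_centralizer_iff]
  rfl

theorem le_centralizer_zOf (S : Subgroup G) : S ≤ Subgroup.centralizer (zOf S : Set G) := by
  intro s hs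
  rw [Subgroup.mem_centralizer_iff]
  intro z hz
  exact ((mem_zOf.1 hz).2 s hs).symm

theorem zOf_map_of_injOn {G' : Type*} [Group G'] (f : G →* G') (T : Subgroup G)
    (hf : ∀ x ∈ T, f x = 1 → x = 1) : zOf (T.map f) = (zOf T).map f := by
  ext y
  constructor
  · intro hy
    obtain ⟨⟨z, hz, rfl⟩, hc⟩ := mem_zOf.1 hy
    refine ⟨z, mem_zOf.2 ⟨hz, fun t ht => ?_⟩, rfl⟩
    have h1 := hc (f t) ⟨t, ht, rfl⟩
    rw [← map_mul, ← map_mul] at h1
    have h2 : f ((t * z) * (z * t)⁻¹) = 1 := by rw [map_mul, map_inv, h1, mul_inv_cancel]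
    have h3 := hf _ (mul_mem (mul_mem ht hz) (inv_mem (mul_mem hz ht))) h2
    exact mul_inv_eq_one.1 h3
  · rintro ⟨z, hz, rfl⟩
    obtain ⟨hzT, hc⟩ := mem_zOf.1 hz
    refine mem_zOf.2 ⟨⟨z, hzT, rfl⟩, ?_⟩
    rintro _ ⟨t, ht, rfl⟩
    rw [← map_mul, ← map_mul, hc t ht]

theorem zOf_ne_bot [Finite G] {p : ℕ} [Fact p.Prime] {S : Subgroup G} (hS : IsPGroup p S)
    (hne : S ≠ ⊥) : zOf S ≠ ⊥ := by
  have : Nontrivial S := (Subgroup.nontrivial_iff_ne_bot S).2 hne
  have h := hS.center_nontrivial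
  obtain ⟨z, hz⟩ := exists_ne (1 : Subgroup.center S)
  intro hbot
  apply hz
  have hzc := z.2
  rw [Subgroup.mem_center_iff] at hzc
  have h1 : ((z : S) : G) ∈ zOf S := by
    refine mem_zOf.2 ⟨(z : S).2, fun s hs => ?_⟩
    exact congrArg Subtype.val (hzc ⟨s, hs⟩)
  rw [hbot, Subgroup.mem_bot] at h1
  apply Subtype.ext
  apply Subtype.ext
  exact h1

/-! ### `thompsonSubgroupAOf` -/

theorem thompsonA_eq_sSup (S : Subgroup G) : Cfsg.thompsonSubgroupAOf S = sSup (famE 0 S) := by
  unfold Cfsg.thompsonSubgroupAOf Cfsg.thompsonSubgroupA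
  rw [← famT_zero_eq_maxAbelianSubgroups]
  apply le_antisymm
  · rw [Subgroup.map_le_iff_le_comap, sSup_le_iff]
    intro A' hA'
    rw [← Subgroup.map_le_iff_le_comap]
    exact le_sSup ((mem_famT_iff 0 S A').1 hA')
  · rw [sSup_le_iff]
    intro A hA
    rw [← Subgroup.map_subgroupOf_eq_of_le hA.1]
    exact Subgroup.map_mono (le_sSup (subgroupOf_mem_famT hA))

theorem le_thompsonA {S A : Subgroup G} (hA : A ∈ famE 0 S) : A ≤ Cfsg.thompsonSubgroupAOf S := by
  rw [thompsonA_eq_sSup]
  exact le_sSup hA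

theorem thompsonA_le (S : Subgroup G) : Cfsg.thompsonSubgroupAOf S ≤ S :=
  Subgroup.map_subtype_le _

theorem thompsonA_ne_bot [Finite G] {S : Subgroup G} (hne : S ≠ ⊥) :
    Cfsg.thompsonSubgroupAOf S ≠ ⊥ := by
  obtain ⟨⟨x, hx⟩, hx1'⟩ := (Subgroup.ne_bot_iff_exists_ne_one).1 hne
  have hx1 : x ≠ 1 := fun h => hx1' (Subtype.ext h)
  obtain ⟨A, hA⟩ := famE_nonempty 0 S
  have hZ : GoodE 0 (Subgroup.zpowers x) := ⟨inferInstance, fun a _ => pow_zero a⟩
  have hle := hA.2.2 (Subgroup.zpowers x) (by rw [Subgroup.zpowers_le]; exact hx) hZ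
  intro hbot
  have hAbot : A = ⊥ := le_bot_iff.1 (hbot ▸ le_thompsonA hA)
  rw [hAbot, Subgroup.card_bot] at hle
  have hone : Nat.card (Subgroup.zpowers x) = 1 :=
    le_antisymm hle (Nat.card_pos)
  rw [Subgroup.card_eq_one] at hone
  apply hx1
  have : x ∈ Subgroup.zpowers x := Subgroup.mem_zpowers x
  rw [hone, Subgroup.mem_bot] at this
  exact this

end basics

/-! ### invariance under isomorphisms -/

theorem maxAbelian_map_equiv {P P' : Type*} [Group P] [Group P'] (e : P ≃* P') {A : Subgroup P}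
    (hA : A ∈ Cfsg.maxAbelianSubgroups P) : A.map e.toMonoidHom ∈ Cfsg.maxAbelianSubgroups P' := by
  obtain ⟨hc, hmax⟩ := hA
  refine ⟨inferInstance, fun B' hB' => ?_⟩
  have h1 := hmax (B'.map e.symm.toMonoidHom) inferInstance
  rw [Subgroup.card_map_of_injective e.symm.injective] at h1
  rw [Subgroup.card_map_of_injective e.injective]
  exact h1

theorem thompsonSubgroupA_map_equiv_le {P P' : Type*} [Group P] [Group P'] (e : P ≃* P') :
    (Cfsg.thompsonSubgroupA P).map e.toMonoidHom ≤ Cfsg.thompsonSubgroupA P' := by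
  unfold Cfsg.thompsonSubgroupA
  rw [Subgroup.map_le_iff_le_comap, sSup_le_iff]
  intro A hA
  rw [← Subgroup.map_le_iff_le_comap]
  exact le_sSup (maxAbelian_map_equiv e hA)

theorem thompsonSubgroupA_map_equiv {P P' : Type*} [Group P] [Group P'] (e : P ≃* P') :
    (Cfsg.thompsonSubgroupA P).map e.toMonoidHom = Cfsg.thompsonSubgroupA P' := by
  apply le_antisymm (thompsonSubgroupA_map_equiv_le e)
  have h := Subgroup.map_mono (f := e.toMonoidHom) (thompsonSubgroupA_map_equiv_le e.symm)
  rw [Subgroup.map_map] at h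
  have h2 : e.toMonoidHom.comp e.symm.toMonoidHom = MonoidHom.id P' := by
    ext x; simp
  rwa [h2, Subgroup.map_id] at h

/-- Transport of `J(T)` along a homomorphism that is injective on `T`. -/
theorem thompsonA_map_of_injOn {G G' : Type*} [Group G] [Group G'] (f : G →* G') (T : Subgroup G)
    (hf : ∀ x ∈ T, f x = 1 → x = 1) :
    Cfsg.thompsonSubgroupAOf (T.map f) = (Cfsg.thompsonSubgroupAOf T).map f := by
  have hg : Function.Injective (f.comp T.subtype) := by
    rw [injective_iff_map_eq_one]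
    intro x hx
    exact Subtype.ext (hf x x.2 hx)
  have hrange : (f.comp T.subtype).range = T.map f := by
    rw [MonoidHom.range_comp, Subgroup.range_subtype]
  let e : ↥T ≃* ↥(T.map f) := (MonoidHom.ofInjective hg).trans (MulEquiv.subgroupCongr hrange)
  have he : (T.map f).subtype.comp e.toMonoidHom = f.comp T.subtype := by
    ext x; rfl
  unfold Cfsg.thompsonSubgroupAOf
  rw [← thompsonSubgroupA_map_equiv e, Subgroup.map_map, he, ← Subgroup.map_map]

section conj

variable {G : Type*} [Group G]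

theorem tj_map_conj_eq_of_mem_normalizer {S : Subgroup G} {g : G}
    (hg : g ∈ Subgroup.normalizer (S : Set G)) : S.map (MulAut.conj g).toMonoidHom = S := by
  ext x
  constructor
  · rintro ⟨s, hs, rfl⟩
    exact (Subgroup.mem_normalizer_iff.1 hg s).1 hs
  · intro hx
    refine ⟨g⁻¹ * x * g, ?_, ?_⟩
    · have := (Subgroup.mem_normalizer_iff.1 (inv_mem hg) x).1 hx
      simpa using this
    · simp [MulAut.conj_apply, mul_assoc]

theorem tj_mem_normalizer_of_map_conj_eq {S : Subgroup G} {g : G}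
    (h : S.map (MulAut.conj g).toMonoidHom = S) : g ∈ Subgroup.normalizer (S : Set G) := by
  rw [Subgroup.mem_normalizer_iff]
  intro x
  constructor
  · intro hx
    rw [← h]
    exact ⟨x, hx, rfl⟩
  · intro hx
    rw [← h] at hx
    obtain ⟨s, hs, hsx⟩ := hx
    have : s = x := by
      have h1 : g * s * g⁻¹ = g * x * g⁻¹ := hsx
      exact mul_left_cancel (mul_right_cancel h1)
    rwa [← this]

theorem thompsonA_map_conj (S : Subgroup G) (g : G) :
    Cfsg.thompsonSubgroupAOf (S.map (MulAut.conj g).toMonoidHom) =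
      (Cfsg.thompsonSubgroupAOf S).map (MulAut.conj g).toMonoidHom :=
  thompsonA_map_of_injOn _ S (fun x _ hx => by
    have : (MulAut.conj g) x = (MulAut.conj g) 1 := by rw [map_one]; exact hx
    exact (MulAut.conj g).injective this)

theorem zOf_map_conj (S : Subgroup G) (g : G) :
    zOf (S.map (MulAut.conj g).toMonoidHom) = (zOf S).map (MulAut.conj g).toMonoidHom :=
  zOf_map_of_injOn _ S (fun x _ hx => by
    have : (MulAut.conj g) x = (MulAut.conj g) 1 := by rw [map_one]; exact hx
    exact (MulAut.conj g).injective this)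

theorem normalizer_le_normalizer_thompsonA (S : Subgroup G) :
    Subgroup.normalizer (S : Set G) ≤ Subgroup.normalizer (Cfsg.thompsonSubgroupAOf S : Set G) := by
  intro g hg
  apply tj_mem_normalizer_of_map_conj_eq
  rw [← thompsonA_map_conj, tj_map_conj_eq_of_mem_normalizer hg]

theorem normalizer_le_normalizer_zOf (S : Subgroup G) :
    Subgroup.normalizer (S : Set G) ≤ Subgroup.normalizer (zOf S : Set G) := by
  intro g hg
  apply tj_mem_normalizer_of_map_conj_eq
  rw [← zOf_map_conj, tj_map_conj_eq_of_mem_normalizer hg]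

end conj

end Cfsg.Agent.Lib.helper51
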