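import Mathlib
import Cfsg.Agent.Lib.helper21.BRDefs
import Cfsg.Agent.Lib.helper42.M11_D
import Cfsg.Agent.Lib.helper82.CharSums
import Cfsg.Agent.Lib.helper78.RealOddE

set_option autoImplicit false
set_option linter.style.haveILetI false

/-! S0999 piece M4 (helper51): `centralizer_card_eq`. -/

namespace Cfsg.Agent.Lib.helper51.BRM4

end Cfsg.Agent.Lib.helper51.BRM4

namespace Cfsg.Agent.Lib.helper21.BR

open Cfsg Cfsg.Agent.Lib.helper21

universe u

section Chars

variable {G : Type u} [Group G] [Fintype G]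

variable {p : ℕ} [Fact p.Prime] {P : Sylow p G}
variable {e t n v : ℕ} {X Y : Finset (IrrCharacter G)} {εX : IrrCharacter G → ℤ} {ε : ℤ}
  {f₀ : ℕ}

/-- M4 -/
theorem centralizer_card_eq [IsSimpleGroup G] (hG : ¬ IsCyclic G) (hP : Nat.card P = p)
    (hD : BRData (P : Subgroup G) p e X Y εX ε) (χ₀ : IrrCharacter G) (hχ : χ₀ ∈ X)
    (hs : εX χ₀ = -1) (hdeg : charDegree (χ₀ : G → ℂ) = p - 1) :
    Nat.card (Subgroup.centralizer ((P : Subgroup G) : Set G)) = p := by
  classical
  have hp : p.Prime := Fact.out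
  have hne : χ₀ ≠ trivIrr G := by
    rintro rfl
    rw [hD.one_sgn] at hs
    norm_num at hs
  have hnp : ¬ (Nat.card G).Prime := fun h => hG (by
    haveI := Fact.mk h
    exact isCyclic_of_prime_card rfl)
  have hcomm : ∀ a ∈ (P : Subgroup G), ∀ b ∈ (P : Subgroup G), a * b = b * a := by
    haveI : IsCyclic (P : Subgroup G) := isCyclic_of_prime_card hP
    intro a ha b hb
    have h2 := mul_comm' (⟨a, ha⟩ : (P : Subgroup G)) ⟨b, hb⟩
    exact congrArg Subtype.val h2
  have hPC : (P : Subgroup G) ≤ Subgroup.centralizer ((P : Subgroup G) : Set G) := by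
    intro a ha
    rw [Subgroup.mem_centralizer_iff]
    intro b hb
    exact hcomm b hb a ha
  have h3 : ((p - 1 : ℕ) : ℝ) = (p : ℝ) - 1 := by
    rw [Nat.cast_sub hp.one_le]
    simp
  have hbound : ∀ z : G, ((χ₀ : G → ℂ) z).re ≤ (p : ℝ) - 1 := by
    intro z
    have h1 := Cfsg.Agent.Lib.helper82.irr_norm_le χ₀ z
    rw [hdeg, h3] at h1
    have h2 := Complex.re_le_norm ((χ₀ : G → ℂ) z)
    linarith
  have heq : ∀ z : G, ((χ₀ : G → ℂ) z).re = (p : ℝ) - 1 →
      (χ₀ : G → ℂ) z = (χ₀ : G → ℂ) 1 := by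
    intro z hz
    have h1 := Cfsg.Agent.Lib.helper82.irr_norm_le χ₀ z
    rw [hdeg, h3] at h1
    have h4 : ‖(χ₀ : G → ℂ) z‖ ^ 2 = ((χ₀ : G → ℂ) z).re ^ 2 + ((χ₀ : G → ℂ) z).im ^ 2 := by
      rw [Complex.sq_norm, Complex.normSq_apply]
      ring
    have h5 : ((χ₀ : G → ℂ) z).im = 0 := by
      have h6 : ‖(χ₀ : G → ℂ) z‖ ^ 2 ≤ ((p : ℝ) - 1) ^ 2 :=
        pow_le_pow_left₀ (norm_nonneg _) h1 2
      rw [h4, hz] at h6
      nlinarith [sq_nonneg ((χ₀ : G → ℂ) z).im]
    rw [Cfsg.Agent.Lib.helper82.irr_one_eq χ₀, hdeg]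
    apply Complex.ext
    · rw [hz, Complex.natCast_re, h3]
    · rw [h5, Complex.natCast_im]
  have key : ∀ y ∈ Subgroup.centralizer ((P : Subgroup G) : Set G), ¬ p ∣ orderOf y →
      y = 1 := by
    intro y hy hpy
    by_contra hy1
    have hZC : ∀ b ∈ Subgroup.zpowers y,
        b ∈ Subgroup.centralizer ((P : Subgroup G) : Set G) := by
      intro b hb
      obtain ⟨k, rfl⟩ := Subgroup.mem_zpowers_iff.mp hb
      exact Subgroup.zpow_mem _ hy k
    have hcommPZ : ∀ (a : (P : Subgroup G)) (b : Subgroup.zpowers y),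
        Commute ((P : Subgroup G).subtype a) ((Subgroup.zpowers y).subtype b) := by
      intro a b
      exact Subgroup.mem_centralizer_iff.mp (hZC b b.2) a a.2
    letI : Fintype (Subgroup.zpowers y) := Fintype.ofFinite _
    letI : Fintype (P : Subgroup G) := Fintype.ofFinite _
    obtain ⟨n, hn⟩ := Cfsg.Agent.Lib.helper78.exists_nat_mult_hom
      (MonoidHom.noncommCoprod (P : Subgroup G).subtype (Subgroup.zpowers y).subtype hcommPZ)
      (1 : ↥(P : Subgroup G) × ↥(Subgroup.zpowers y) →* ℂˣ)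
      (Cfsg.Agent.Lib.helper4.isCharacter_of_isIrrCharacter χ₀.2)
    simp only [MonoidHom.one_apply, Units.val_one, map_one, mul_one,
      MonoidHom.noncommCoprod_apply, Subgroup.coe_subtype] at hn
    rw [Fintype.sum_prod_type] at hn
    have hre : ∑ a : (P : Subgroup G), ∑ b : Subgroup.zpowers y,
        ((χ₀ : G → ℂ) ((a : G) * (b : G))).re =
        (Nat.card (↥(P : Subgroup G) × ↥(Subgroup.zpowers y)) : ℝ) * n := by
      have h := congrArg Complex.re hn
      simp only [Complex.re_sum] at h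
      rw [h]
      simp
    have hnonneg : 0 ≤ ∑ a : (P : Subgroup G), ∑ b : Subgroup.zpowers y,
        ((χ₀ : G → ℂ) ((a : G) * (b : G))).re := by
      rw [hre]
      positivity
    have hval : ∀ a : (P : Subgroup G), a ≠ 1 → ∀ b : Subgroup.zpowers y,
        ((χ₀ : G → ℂ) ((a : G) * (b : G))).re = -1 := by
      intro a ha b
      have hb : ¬ p ∣ orderOf (b : G) := fun h =>
        hpy (h.trans (orderOf_dvd_of_mem_zpowers b.2))
      have ha' : (a : G) ≠ 1 := fun h => ha (Subtype.ext h)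
      rw [hD.valX χ₀ hχ a a.2 ha' b (hZC b b.2) hb, hs]
      simp
    rw [← Finset.add_sum_erase Finset.univ _ (Finset.mem_univ (1 : (P : Subgroup G)))] at hnonneg
    have herase : ∑ a ∈ Finset.univ.erase (1 : (P : Subgroup G)), ∑ b : Subgroup.zpowers y,
        ((χ₀ : G → ℂ) ((a : G) * (b : G))).re =
        ∑ b : Subgroup.zpowers y, (-((p : ℝ) - 1)) := by
      rw [Finset.sum_comm]
      refine Finset.sum_congr rfl fun b _ => ?_
      rw [Finset.sum_congr rfl (fun a ha => hval a (Finset.ne_of_mem_erase ha) b),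
        Finset.sum_const, Finset.card_erase_of_mem (Finset.mem_univ _), Finset.card_univ,
        ← Nat.card_eq_fintype_card, hP, nsmul_eq_mul, h3]
      ring
    rw [herase, ← Finset.sum_add_distrib] at hnonneg
    simp only [Subgroup.coe_one, one_mul] at hnonneg
    have hterm : ∀ b ∈ (Finset.univ : Finset (Subgroup.zpowers y)),
        ((χ₀ : G → ℂ) (b : G)).re + -((p : ℝ) - 1) ≤ 0 := by
      intro b _
      have := hbound (b : G)
      linarith
    have hzero := (Finset.sum_eq_zero_iff_of_nonpos hterm).mp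
      (le_antisymm (Finset.sum_nonpos hterm) hnonneg)
    have hy' := hzero ⟨y, Subgroup.mem_zpowers y⟩ (Finset.mem_univ _)
    have hy2 : ((χ₀ : G → ℂ) y).re = (p : ℝ) - 1 := by
      have : ((χ₀ : G → ℂ) y).re + -((p : ℝ) - 1) = 0 := hy'
      linarith
    exact Cfsg.Agent.Lib.helper42.irr_apply_ne_degree_of_simple hnp χ₀ hne y hy1 (heq y hy2)
  have hpg : IsPGroup p (Subgroup.centralizer ((P : Subgroup G) : Set G)) := by
    intro c
    refine ⟨(orderOf (c : G)).factorization p, ?_⟩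
    have hc0 : orderOf (c : G) ≠ 0 := (orderOf_pos (c : G)).ne'
    have hdvd : p ^ (orderOf (c : G)).factorization p ∣ orderOf (c : G) :=
      Nat.ordProj_dvd _ _
    have hord : orderOf ((c : G) ^ p ^ (orderOf (c : G)).factorization p) =
        orderOf (c : G) / p ^ (orderOf (c : G)).factorization p :=
      orderOf_pow_of_dvd (pow_ne_zero _ hp.ne_zero) hdvd
    have h1 := key ((c : G) ^ p ^ (orderOf (c : G)).factorization p)
      (Subgroup.pow_mem _ c.2 _) (by
        rw [hord]
        exact Nat.not_dvd_ordCompl hp hc0)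
    exact Subtype.ext (by simpa using h1)
  have hCP := P.is_maximal' hpg hPC
  rw [hCP]
  exact hP

end Chars

end Cfsg.Agent.Lib.helper21.BR
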