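import Mathlib
import Cfsg.Agent.Lib.helper21.BRDefs
import Cfsg.Agent.Lib.helper82.CharQuot
import Cfsg.Agent.Lib.helper82.CharSums
import Cfsg.Agent.Lib.helper4.Regular
import Cfsg.Agent.Lib.helper31.BR_AR3

set_option autoImplicit false
set_option linter.style.haveILetI false
set_option linter.unusedVariables false

/-! S0999 piece M5 (helper51): `exc_degree`. -/

namespace Cfsg.Agent.Lib.helper51.BRM5

end Cfsg.Agent.Lib.helper51.BRM5

namespace Cfsg.Agent.Lib.helper21.BR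

open Cfsg Cfsg.Agent.Lib.helper21

universe u

section Chars

variable {G : Type u} [Group G] [Fintype G]

theorem helper51_deg_sq_lt (θ : IrrCharacter G) (hθ : θ ≠ trivIrr G) :
    charDegree (θ : G → ℂ) ^ 2 < Nat.card G := by
  classical
  letI : Fintype (IrrCharacter G) := Fintype.ofFinite _
  have hsum : ∑ χ : IrrCharacter G, charDegree (χ : G → ℂ) ^ 2 = Nat.card G := by
    have h := Cfsg.Agent.Lib.helper4.sum_irr_degree_sq (G := G)
    have h2 : ∑ χ : IrrCharacter G, ((charDegree (χ : G → ℂ) ^ 2 : ℕ) : ℂ) = (Nat.card G : ℂ) := by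
      rw [← h]
      refine Finset.sum_congr rfl fun χ _ => ?_
      rw [Cfsg.Agent.Lib.helper82.irr_one_eq χ]
      push_cast
      rfl
    exact_mod_cast h2
  have h1 : charDegree ((trivIrr G : IrrCharacter G) : G → ℂ) = 1 := by
    simp [charDegree, trivIrr]
  have hle : ∑ χ ∈ ({θ, trivIrr G} : Finset (IrrCharacter G)), charDegree (χ : G → ℂ) ^ 2 ≤
      ∑ χ : IrrCharacter G, charDegree (χ : G → ℂ) ^ 2 :=
    Finset.sum_le_sum_of_subset (Finset.subset_univ _)
  rw [Finset.sum_pair hθ, h1, hsum] at hle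
  omega

variable {p : ℕ} [Fact p.Prime] {P : Sylow p G}
variable {e t n v : ℕ} {X Y : Finset (IrrCharacter G)} {εX : IrrCharacter G → ℤ} {ε : ℤ}
  {f₀ : ℕ}

/-- M5 -/
theorem exc_degree [IsSimpleGroup G] (hG : ¬ IsCyclic G)
    (hD : BRData (P : Subgroup G) p e X Y εX ε)
    (hcard : Nat.card G = p * (p - 1) * (p - e)) (he : 2 ≤ e) (het : e * t = p - 1)
    (ht : 2 ≤ t) :
    ∃ f₀ : ℕ, (∀ θ ∈ Y, charDegree (θ : G → ℂ) = f₀) ∧
      ((ε = 1 ∧ f₀ = e) ∨ (ε = -1 ∧ f₀ = p - e)) := by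
  classical
  have key : ∀ θ ∈ Y, (ε = 1 ∧ charDegree (θ : G → ℂ) = e) ∨
      (ε = -1 ∧ charDegree (θ : G → ℂ) = p - e) := by
    intro θ hθ
    have hne : θ ≠ trivIrr G := by
      rintro rfl
      exact Finset.disjoint_left.mp hD.disj hD.one_mem hθ
    have hdvd : charDegree (θ : G → ℂ) ∣ p * (p - 1) * (p - e) := by
      rw [← hcard]
      exact Cfsg.Agent.Lib.helper82.irr_degree_dvd_card θ
    have hlt : charDegree (θ : G → ℂ) ^ 2 < p * (p - 1) * (p - e) := by
      rw [← hcard]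
      exact helper51_deg_sq_lt θ hne
    exact exc_degree_arith p e t _ Fact.out het he ht hdvd hlt ε hD.sgn (hD.degY θ hθ)
  rcases hD.sgn with h1 | h1
  · refine ⟨e, fun θ hθ => ?_, Or.inl ⟨h1, rfl⟩⟩
    rcases key θ hθ with ⟨_, h⟩ | ⟨h2, _⟩
    · exact h
    · rw [h1] at h2
      norm_num at h2
  · refine ⟨p - e, fun θ hθ => ?_, Or.inr ⟨h1, rfl⟩⟩
    rcases key θ hθ with ⟨h2, _⟩ | ⟨_, h⟩
    · rw [h1] at h2
      norm_num at h2
    · exact h

end Chars

end Cfsg.Agent.Lib.helper21.BR
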