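import Mathlib
import Cfsg.Agent.Lib.helper44.PresDefs

/-! S2286 piece CB: the counting bound `|G| ≤ n q (q+1)` for a Bruhat configuration. -/

set_option autoImplicit false

namespace Cfsg.Agent.Lib.helper51.PresCB

end Cfsg.Agent.Lib.helper51.PresCB

namespace Cfsg.Agent.Lib.helper44.Pres

open Pointwise

/-- CB: a group generated by a Bruhat configuration is finite of order at most `n q (q+1)`. -/
theorem card_le_of_conf {G : Type*} [Group G] {F : Type*} [Field F] [Fintype F] (x : F → G)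
    (u t h : G) (lam : F) (n s : ℕ) (hc : IsBConf x u t h lam n s)
    (hgen : Subgroup.closure {u, t, h} = ⊤) :
    Finite G ∧ Nat.card G ≤ n * Fintype.card F * (Fintype.card F + 1) := by
  classical
  obtain ⟨hx1, hxa, hhx, hth, ht2, hhn, hn0, hbp⟩ := hc
  have hx0 : x 0 = 1 := by
    have h0 := hxa 0 0
    rw [add_zero] at h0
    exact (mul_eq_left.mp h0.symm)
  -- `h ^ k` normalises the root group
  have hh1 : ∀ a, h * x a = x (lam * a) * h := by
    intro a
    rw [← hhx a]; group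
  have hhk : ∀ (k : ℕ) a, h ^ k * x a = x (lam ^ k * a) * h ^ k := by
    intro k
    induction k with
    | zero => intro a; simp
    | succ k ih =>
      intro a
      calc h ^ (k + 1) * x a = h ^ k * (h * x a) := by rw [pow_succ, mul_assoc]
        _ = (h ^ k * x (lam * a)) * h := by rw [hh1, mul_assoc]
        _ = x (lam ^ (k + 1) * a) * h ^ (k + 1) := by
          rw [ih, mul_assoc, ← pow_succ]; congr 2; ring
  have hzn : ∀ k : ℤ, h ^ k = h ^ ((k % (n : ℤ)).toNat) := by
    intro k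
    rw [zpow_eq_zpow_emod' k hhn]
    have hnn : 0 ≤ k % (n : ℤ) := Int.emod_nonneg _ (by exact_mod_cast hn0.ne')
    conv_lhs => rw [← Int.toNat_of_nonneg hnn]
    rw [zpow_natCast]
  have hhz : ∀ (k : ℤ) a, ∃ a', h ^ k * x a = x a' * h ^ k := by
    intro k a
    refine ⟨lam ^ ((k % (n : ℤ)).toNat) * a, ?_⟩
    rw [hzn k]
    exact hhk _ a
  have hhz' : ∀ (k : ℤ) a, ∃ a', x a * h ^ k = h ^ k * x a' := by
    intro k a
    obtain ⟨a', ha'⟩ := hhz (-k) a
    refine ⟨a', ?_⟩
    have e1 : x a = h ^ k * (x a' * h ^ (-k)) := by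
      rw [← ha', ← mul_assoc, ← zpow_add]; simp
    rw [e1]
    simp [mul_assoc]
  have hthz : ∀ k : ℤ, t * h ^ k = h ^ (-k) * t := by
    intro k
    have e1 : t * h ^ k * t⁻¹ = h ^ (-k) := by
      rw [← conj_zpow, hth, inv_zpow, zpow_neg]
    rw [← e1]; group
  have hthz' : ∀ k : ℤ, h ^ k * t = t * h ^ (-k) := by
    intro k
    rw [hthz (-k), neg_neg]
  -- the two Bruhat cells
  let X : Set G := {y | ∃ (b : F) (k : ℤ), y = x b * h ^ k} ∪
    {y | ∃ (b : F) (k : ℤ) (c : F), y = x b * h ^ k * t * x c}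
  let φ : (F × Fin n) ⊕ (F × Fin n × F) → G := fun z =>
    match z with
    | Sum.inl ⟨b, k⟩ => x b * h ^ (k : ℕ)
    | Sum.inr ⟨b, k, c⟩ => x b * h ^ (k : ℕ) * t * x c
  have hlt : ∀ k : ℤ, (k % (n : ℤ)).toNat < n := by
    intro k
    have hnn : 0 ≤ k % (n : ℤ) := Int.emod_nonneg _ (by exact_mod_cast hn0.ne')
    have hl : k % (n : ℤ) < n := Int.emod_lt_of_pos _ (by exact_mod_cast hn0)
    omega
  have hXφ : X ⊆ Set.range φ := by
    rintro y (⟨b, k, rfl⟩ | ⟨b, k, c, rfl⟩)
    · exact ⟨Sum.inl ⟨b, ⟨_, hlt k⟩⟩, by simp only [φ]; rw [hzn k]⟩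
    · exact ⟨Sum.inr ⟨b, ⟨_, hlt k⟩, c⟩, by simp only [φ]; rw [hzn k]⟩
  have hXfin : X.Finite := (Set.finite_range φ).subset hXφ
  have h1X : (1 : G) ∈ X := Or.inl ⟨0, 0, by simp [hx0]⟩
  -- stability under the generators
  have hu : u ∈ MulAction.stabilizer G X := by
    rw [MulAction.mem_stabilizer_set' hXfin]
    rintro y (⟨b, k, rfl⟩ | ⟨b, k, c, rfl⟩)
    · exact Or.inl ⟨1 + b, k, by rw [smul_eq_mul, hxa, hx1, mul_assoc]⟩
    · exact Or.inr ⟨1 + b, k, c, by rw [smul_eq_mul, hxa, hx1]; simp only [mul_assoc]⟩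
  have hh : h ∈ MulAction.stabilizer G X := by
    rw [MulAction.mem_stabilizer_set' hXfin]
    rintro y (⟨b, k, rfl⟩ | ⟨b, k, c, rfl⟩)
    · refine Or.inl ⟨lam * b, 1 + k, ?_⟩
      rw [smul_eq_mul, ← mul_assoc, hh1, zpow_add, zpow_one, mul_assoc]
    · refine Or.inr ⟨lam * b, 1 + k, c, ?_⟩
      rw [smul_eq_mul, zpow_add, zpow_one]
      simp only [← mul_assoc]
      rw [hh1]
  have ht : t ∈ MulAction.stabilizer G X := by
    rw [MulAction.mem_stabilizer_set' hXfin]
    rintro y (⟨b, k, rfl⟩ | ⟨b, k, c, rfl⟩)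
    · obtain ⟨a', ha'⟩ := hhz' k b
      refine Or.inr ⟨0, -k, a', ?_⟩
      rw [smul_eq_mul, ha', ← mul_assoc, hthz, hx0, one_mul]
    · by_cases hb : b = 0
      · obtain ⟨c', hc'⟩ := hhz (-k + s) c
        refine Or.inl ⟨c', -k + s, ?_⟩
        rw [smul_eq_mul, hb, hx0, one_mul, ← hc', zpow_add, zpow_natCast, ← ht2]
        simp only [← mul_assoc]
        rw [hthz]
      · obtain ⟨b', c', k', hk'⟩ := hbp b hb
        obtain ⟨c'', hc''⟩ := hhz' (-k) c'
        refine Or.inr ⟨b', (k' : ℤ) + k, c'' + c, ?_⟩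
        have e1 : t • (x b * h ^ k * t * x c) = (t * x b * t) * h ^ (-k) * x c := by
          rw [smul_eq_mul]
          calc t * (x b * h ^ k * t * x c) = t * x b * (h ^ k * t) * x c := by
                simp only [mul_assoc]
            _ = t * x b * (t * h ^ (-k)) * x c := by rw [hthz' k]
            _ = _ := by simp only [mul_assoc]
        rw [e1, hk', hxa, zpow_add, zpow_natCast]
        have e2 : x b' * h ^ k' * t * x c' * h ^ (-k) * (x c) =
            x b' * h ^ k' * t * (x c' * h ^ (-k)) * x c := by simp only [mul_assoc]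
        rw [e2, hc'']
        have e3 : x b' * h ^ k' * t * (h ^ (-k) * x c'') * x c =
            x b' * h ^ k' * (t * h ^ (-k)) * x c'' * x c := by simp only [mul_assoc]
        rw [e3, hthz, neg_neg]
        simp only [mul_assoc]
  have hle : Subgroup.closure {u, t, h} ≤ MulAction.stabilizer G X := by
    rw [Subgroup.closure_le]
    rintro y (rfl | rfl | rfl)
    · exact hu
    · exact ht
    · exact hh
  have hall : ∀ y : G, y ∈ X := by
    intro y
    have hy : y ∈ MulAction.stabilizer G X := hle (hgen ▸ Subgroup.mem_top y)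
    rw [MulAction.mem_stabilizer_set' hXfin] at hy
    simpa using hy h1X
  have hsurj : Function.Surjective φ := fun y => hXφ (hall y)
  have hfin : Finite G := Finite.of_surjective φ hsurj
  refine ⟨hfin, ?_⟩
  have hcard := Nat.card_le_card_of_surjective φ hsurj
  refine hcard.trans (le_of_eq ?_)
  rw [Nat.card_eq_fintype_card, Fintype.card_sum, Fintype.card_prod, Fintype.card_prod,
    Fintype.card_prod, Fintype.card_fin]
  ring

end Cfsg.Agent.Lib.helper44.Pres
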