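/-
S2522 (Lev: every non-scalar matrix of determinant one is a product of two regular unipotents):
shared definitions for the split project.  Index types live in `Type`; the field is arbitrary.
-/
import Mathlib

set_option autoImplicit false

namespace Cfsg.Agent.Lib.helper51.Lev

open Matrix

variable {K : Type*} [Field K] {ι : Type} [Fintype ι] [DecidableEq ι]

/-- `A` is a regular unipotent matrix: `A - 1` is nilpotent of rank `card ι - 1`. -/
def RU (A : Matrix ι ι K) : Prop :=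
  IsNilpotent (A - 1) ∧ (A - 1).rank + 1 = Fintype.card ι

/-- `g` is a product of two regular unipotent matrices. -/
def PP (g : Matrix ι ι K) : Prop :=
  ∃ A B : Matrix ι ι K, RU A ∧ RU B ∧ g = A * B

/-- `g = A * B` with `A`, `B` regular unipotent, `c` outside the image of `A - 1` and `r` not
vanishing on the fixed vectors of `B`. -/
def PS (g : Matrix ι ι K) (c r : ι → K) : Prop :=
  ∃ A B : Matrix ι ι K, RU A ∧ RU B ∧ g = A * B ∧ (∀ w : ι → K, (A - 1) *ᵥ w ≠ c) ∧
    (∀ w : ι → K, B *ᵥ w = w → w ≠ 0 → r ⬝ᵥ w ≠ 0)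

/-- `g` is not a scalar matrix. -/
def NonScalar (g : Matrix ι ι K) : Prop := ¬ ∃ a : K, g = a • (1 : Matrix ι ι K)

/-- `g` satisfies a quadratic `X ^ 2 - s X + 1`. -/
def IsQ1 (g : Matrix ι ι K) : Prop := ∃ s : K, g * g = s • g - 1

/-- `g` is a scalar plus a matrix of rank at most one. -/
def IsR1 (g : Matrix ι ι K) : Prop :=
  ∃ (ζ : K) (v φ : ι → K), g = ζ • (1 : Matrix ι ι K) + vecMulVec v φ

/-- The compression of `g` to `ker lam` along `g x`, on vectors. -/
def Dt (g : Matrix ι ι K) (x lam : ι → K) (h : ι → K) : ι → K :=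
  g *ᵥ h - (lam ⬝ᵥ (g *ᵥ h)) • (g *ᵥ x)

/-- `g` is conjugate to a bordered matrix whose Schur complement `D` is again non-scalar of
determinant one without eigenvalue one (and not of type `IsQ1` unless of size two), with the side
conditions needed to lift a factorization of `D`. -/
def Child (g : Matrix ι ι K) (c r : ι → K) : Prop :=
  ∃ (m : ℕ) (P : Matrix ι (Unit ⊕ Fin m) K) (P' : Matrix (Unit ⊕ Fin m) ι K)
    (D : Matrix (Fin m) (Fin m) K) (c₁ r₁ : Fin m → K),
    P * P' = 1 ∧ P' * P = 1 ∧ m + 1 = Fintype.card ι ∧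
    P' * g * P = fromBlocks (1 : Matrix Unit Unit K) (replicateRow Unit r₁) (replicateCol Unit c₁)
      (D + vecMulVec c₁ r₁) ∧
    D.det = 1 ∧ NonScalar D ∧ IsUnit (D - 1) ∧ (m = 2 ∨ ¬ IsQ1 D) ∧ c₁ ≠ 0 ∧ r₁ ≠ 0 ∧
    (P' *ᵥ c) (Sum.inl ()) ≠ 0 ∧ (r ᵥ* P) (Sum.inl ()) ≠ 0

end Cfsg.Agent.Lib.helper51.Lev
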