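import Mathlib
import Cfsg.Agent.Lib.helper51.LevDefs
import Cfsg.Agent.Lib.helper80.LevUTIL
import Cfsg.Agent.Lib.helper6.LevCOMPL
import Cfsg.Agent.Lib.helper46.LevCONJ
import Cfsg.Agent.Lib.helper77.LevBORD
import Cfsg.Agent.Lib.helper46.LevNONEV

set_option autoImplicit false

namespace Cfsg.Agent.Lib.helper51.Lev

open Matrix

variable {K : Type*} [Field K]

theorem helper51_ru_one_fin1 : RU (1 : Matrix (Fin 1) (Fin 1) K) := by
  refine ⟨?_, ?_⟩
  · rw [sub_self]; exact IsNilpotent.zero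
  · rw [sub_self, Matrix.rank_zero]; simp

/-- PIECE BASE2: the two-dimensional base case. -/
theorem base2 (hK : 4 ≤ Cardinal.mk K) {ι : Type} [Fintype ι] [DecidableEq ι]
    (h2 : Fintype.card ι = 2) (g : Matrix ι ι K) (hdet : g.det = 1) (hns : NonScalar g)
    (hinv : IsUnit (g - 1)) (c r : ι → K) (hc : c ≠ 0) (hr : r ≠ 0) : PS g c r := by
  -- Cayley–Hamilton
  have hq : g * g = g.trace • g - (1 : K) • (1 : Matrix ι ι K) := by
    have h := Matrix.aeval_self_charpoly g
    rw [Matrix.charpoly_of_card_eq_two g h2, hdet] at h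
    simp only [map_add, map_sub, map_pow, Polynomial.aeval_X, map_mul, Polynomial.aeval_C,
      map_one, Algebra.algebraMap_eq_smul_one] at h
    rw [one_smul]
    rw [pow_two, smul_mul_assoc, one_mul] at h
    rw [eq_sub_iff_add_eq, ← sub_eq_zero]
    rw [← h]
    abel
  obtain ⟨N, hN1, hN2⟩ : ∃ N : Matrix ι ι K, N * (g - 1) = 1 ∧ (g - 1) * N = 1 := by
    obtain ⟨u, hu⟩ := hinv
    exact ⟨↑u⁻¹, by rw [← hu]; exact u.inv_mul, by rw [← hu]; exact u.mul_inv⟩
  obtain ⟨x, hxi, hrx, hxd⟩ := nonev_z hK g hns g.trace 1 hq r (N *ᵥ c) hr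
  obtain ⟨lam, hl⟩ := exists_dual ![x, g *ᵥ x] hxi ![1, 1]
  have hl0 : lam ⬝ᵥ x = 1 := hl 0
  have hl1 : lam ⬝ᵥ (g *ᵥ x) = 1 := hl 1
  have hlc : lam ⬝ᵥ c ≠ 0 := by
    have hspan : Submodule.span K (Set.range ![x, g *ᵥ x]) = ⊤ :=
      hxi.span_eq_top_of_card_eq_finrank' (by simp [h2])
    have hcm : c ∈ Submodule.span K (Set.range ![x, g *ᵥ x]) := by rw [hspan]; trivial
    obtain ⟨f, hf⟩ := (Submodule.mem_span_range_iff_exists_fun K).mp hcm
    rw [Fin.sum_univ_two] at hf
    simp only [Matrix.cons_val_zero, Matrix.cons_val_one] at hf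
    intro h0
    have h5 : f 0 + f 1 = 0 := by
      rw [← hf, dotProduct_add, dotProduct_smul, dotProduct_smul, hl0, hl1] at h0
      simpa using h0
    have h6 : c = f 1 • ((g - 1) *ᵥ x) := by
      rw [← hf, Matrix.sub_mulVec, Matrix.one_mulVec]
      have h7 : f 0 = - f 1 := by linear_combination h5
      rw [h7]
      ext i
      simp only [Pi.sub_apply, Pi.smul_apply, Pi.add_apply, smul_eq_mul]
      ring
    have hf1 : f 1 ≠ 0 := by
      intro h
      rw [h, zero_smul] at h6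
      exact hc h6
    apply hxd (f 1)⁻¹
    rw [h6, Matrix.mulVec_smul, Matrix.mulVec_mulVec, hN1, Matrix.one_mulVec, smul_smul,
      inv_mul_cancel₀ hf1, one_smul]
  obtain ⟨m, P, P', hPP', hP'P, hm, hPx, hP'lam⟩ := compl_basis x lam hl0
  have hm1 : m = 1 := by omega
  subst hm1
  have hPx' : (fun j => P j (Sum.inl ())) = x := funext hPx
  have hP'lam' : (fun i => P' (Sum.inl ()) i) = lam := funext hP'lam
  have hcol : ∀ (v : ι → K) (a : Unit ⊕ Fin 1), (P' *ᵥ v) a = (fun i => P' a i) ⬝ᵥ v :=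
    fun v a => rfl
  have hMcol : ∀ a : Unit ⊕ Fin 1, (P' * g * P) a (Sum.inl ()) = (P' *ᵥ (g *ᵥ x)) a := by
    intro a
    rw [Matrix.mul_assoc, ← hPx']
    rfl
  have hM00 : (P' * g * P) (Sum.inl ()) (Sum.inl ()) = 1 := by
    rw [hMcol, hcol, hP'lam']
    exact hl1
  have hdetM : (P' * g * P).det = 1 := by
    rw [Matrix.det_conj_of_mul_eq_one hP'P hPP', hdet]
  have hM' : P' * g * P = fromBlocks (1 : Matrix Unit Unit K)
      (replicateRow Unit fun j => (P' * g * P) (Sum.inl ()) (Sum.inr j))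
      (replicateCol Unit fun i => (P' * g * P) (Sum.inr i) (Sum.inl ()))
      (P' * g * P).toBlocks₂₂ := by
    ext (i | i) (j | j)
    · simp [hM00]
    · simp
    · simp
    · simp [Matrix.toBlocks₂₂]
  have h22 : (P' * g * P).toBlocks₂₂ = 1 + vecMulVec (fun i => (P' * g * P) (Sum.inr i) (Sum.inl ()))
      (fun j => (P' * g * P) (Sum.inl ()) (Sum.inr j)) := by
    have hd := hdetM
    rw [hM', Matrix.det_fromBlocks_one₁₁, Matrix.det_unique] at hd
    ext i j
    rw [Subsingleton.elim i 0, Subsingleton.elim j 0]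
    rw [← Matrix.vecMulVec_eq Unit] at hd
    have hd0 : (default : Fin 1) = 0 := rfl
    rw [hd0] at hd
    simp only [Matrix.sub_apply, vecMulVec_apply] at hd
    simp only [Matrix.add_apply, Matrix.one_apply_eq, vecMulVec_apply]
    linear_combination hd
  rw [h22] at hM'
  -- c₁ ≠ 0
  have hc₁ : (fun i => (P' * g * P) (Sum.inr i) (Sum.inl ())) ≠ (0 : Fin 1 → K) := by
    intro h0
    have e1 : P' *ᵥ (g *ᵥ x) = P' *ᵥ x := by
      ext a
      rw [← hMcol]
      have e2 : (P' *ᵥ x) a = (P' * P) a (Sum.inl ()) := by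
        rw [← hPx']
        rfl
      rw [e2, hP'P]
      rcases a with a | a
      · rw [hM00]; simp
      · have := congrFun h0 a
        simp only [Pi.zero_apply] at this
        rw [this]; simp
    have e3 : g *ᵥ x = x := by
      have k : ∀ v : ι → K, P *ᵥ (P' *ᵥ v) = v := fun v => by
        rw [Matrix.mulVec_mulVec, hPP', Matrix.one_mulVec]
      have := congrArg (fun v => P *ᵥ v) e1
      simp only [k] at this
      exact this
    have hne := hxi.injective.ne (show (0 : Fin 2) ≠ 1 by decide)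
    apply hne
    simp only [Matrix.cons_val_zero, Matrix.cons_val_one]
    exact e3.symm
  -- r₁ ≠ 0
  have hr₁ : (fun j => (P' * g * P) (Sum.inl ()) (Sum.inr j)) ≠ (0 : Fin 1 → K) := by
    intro h0
    have e1 : (P' * g * P - 1).det = 0 := by
      have e2 : P' * g * P - 1 = fromBlocks (0 : Matrix Unit Unit K) 0
          (replicateCol Unit fun i => (P' * g * P) (Sum.inr i) (Sum.inl ())) 0 := by
        rw [hM', h0]
        ext (i | i) (j | j) <;> simp [Matrix.one_apply]
      rw [e2, Matrix.det_fromBlocks_zero₁₂]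
      simp
    have e3 : P' * g * P - 1 = P' * (g - 1) * P := by
      rw [Matrix.mul_sub, Matrix.sub_mul, Matrix.mul_one, hP'P]
    rw [e3, Matrix.det_conj_of_mul_eq_one hP'P hPP'] at e1
    have := (Matrix.isUnit_iff_isUnit_det _).mp hinv
    rw [e1] at this
    exact not_isUnit_zero this
  have hPS1 : PS (1 : Matrix (Fin 1) (Fin 1) K)
      (fun i => (P' * g * P) (Sum.inr i) (Sum.inl ()))
      (fun j => (P' * g * P) (Sum.inl ()) (Sum.inr j)) := by
    refine ⟨1, 1, helper51_ru_one_fin1, helper51_ru_one_fin1, by rw [mul_one], ?_, ?_⟩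
    · intro w
      rw [sub_self, Matrix.zero_mulVec]
      exact fun h => hc₁ h.symm
    · intro w _ hw0 hrw
      rw [dotProduct, Fin.sum_univ_one] at hrw
      rcases mul_eq_zero.mp hrw with h | h
      · apply hr₁
        ext j
        rw [Subsingleton.elim j 0, h]
        rfl
      · apply hw0
        ext j
        rw [Subsingleton.elim j 0, h]
        rfl
  have hsc : (P' *ᵥ c) (Sum.inl ()) ≠ 0 := by
    rw [hcol, hP'lam']
    exact hlc
  have hsr : (r ᵥ* P) (Sum.inl ()) ≠ 0 := by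
    have : (r ᵥ* P) (Sum.inl ()) = r ⬝ᵥ (fun j => P j (Sum.inl ())) := rfl
    rw [this, hPx']
    exact hrx
  have hb := border 1 _ _ hPS1 (P' *ᵥ c) (r ᵥ* P) hsc hsr
  rw [← hM'] at hb
  exact ps_conj P P' hPP' hP'P g c r hb

end Cfsg.Agent.Lib.helper51.Lev
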