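import Mathlib
import Cfsg.Prelude.Def_Transfer
import Cfsg.Agent.Lib.helper67.Frobenius
import Cfsg.Agent.Lib.helper40.PComp

/-!
# `p`-nilpotency in elementwise form

`PNil p G`: some normal subgroup `N` of `G` consists of `p'`-elements and every element of `G` has a
`p`-power power in `N`.  For finite `G` this is `Cfsg.HasNormalPComplement p G`; the elementwise form
transports trivially along injective and surjective homomorphisms.
-/

set_option autoImplicit false

namespace Cfsg.Agent.Lib.helper51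

/-- `p`-nilpotency in elementwise form. -/
def PNil (p : ℕ) (G : Type*) [Group G] : Prop :=
  ∃ N : Subgroup G, N.Normal ∧ (∀ g ∈ N, (orderOf g).Coprime p) ∧ ∀ g : G, ∃ k : ℕ, g ^ (p ^ k) ∈ N

theorem PNil.comap_of_injective {p : ℕ} {A B : Type*} [Group A] [Group B] (f : A →* B)
    (hf : Function.Injective f) (h : PNil p B) : PNil p A := by
  obtain ⟨N, hN, h1, h2⟩ := h
  haveI := hN
  refine ⟨N.comap f, inferInstance, ?_, ?_⟩
  · intro g hg
    rw [← orderOf_injective f hf g]
    exact h1 _ hg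
  · intro g
    obtain ⟨k, hk⟩ := h2 (f g)
    exact ⟨k, by rw [Subgroup.mem_comap, map_pow]; exact hk⟩

theorem PNil.map_of_surjective {p : ℕ} {A B : Type*} [Group A] [Group B] (f : A →* B)
    (hf : Function.Surjective f) (h : PNil p A) : PNil p B := by
  obtain ⟨N, hN, h1, h2⟩ := h
  refine ⟨N.map f, hN.map f hf, ?_, ?_⟩
  · rintro _ ⟨g, hg, rfl⟩
    exact Nat.Coprime.coprime_dvd_left (orderOf_map_dvd f g) (h1 g hg)
  · intro b
    obtain ⟨g, rfl⟩ := hf b
    obtain ⟨k, hk⟩ := h2 g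
    exact ⟨k, ⟨_, hk, by rw [map_pow]⟩⟩

theorem PNil.mono {p : ℕ} {G : Type*} [Group G] {X Y : Subgroup G} (h : X ≤ Y) (hY : PNil p ↥Y) :
    PNil p ↥X :=
  PNil.comap_of_injective (Subgroup.inclusion h) (Subgroup.inclusion_injective h) hY

theorem PNil.map_subgroup {p : ℕ} {G G' : Type*} [Group G] [Group G'] (f : G →* G')
    (X : Subgroup G) (hX : PNil p ↥X) : PNil p ↥(X.map f) :=
  PNil.map_of_surjective (f.subgroupMap X) (f.subgroupMap_surjective X) hX

theorem PNil.of_le_map {p : ℕ} {G G' : Type*} [Group G] [Group G'] (f : G →* G')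
    (X : Subgroup G) (Y : Subgroup G') (h : Y ≤ X.map f) (hX : PNil p ↥X) : PNil p ↥Y :=
  (hX.map_subgroup f).mono h

theorem PNil.of_map_injective {p : ℕ} {A B : Type*} [Group A] [Group B] (f : A →* B)
    (hf : Function.Injective f) (X : Subgroup A) (h : PNil p ↥(X.map f)) : PNil p ↥X := by
  refine PNil.comap_of_injective (f.subgroupMap X) ?_ h
  intro a b hab
  apply Subtype.ext
  apply hf
  exact congrArg Subtype.val hab

theorem pnil_top_iff {p : ℕ} {G : Type*} [Group G] : PNil p ↥(⊤ : Subgroup G) ↔ PNil p G :=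
  ⟨fun h => PNil.map_of_surjective (Subgroup.topEquiv (G := G)).toMonoidHom
      (Subgroup.topEquiv (G := G)).surjective h,
   fun h => PNil.comap_of_injective (⊤ : Subgroup G).subtype Subtype.val_injective h⟩

theorem pnil_of_isPGroup {p : ℕ} {G : Type*} [Group G] (h : IsPGroup p G) : PNil p G := by
  refine ⟨⊥, inferInstance, ?_, ?_⟩
  · intro g hg
    rw [Subgroup.mem_bot] at hg
    rw [hg, orderOf_one]
    exact Nat.coprime_one_left p
  · intro g
    obtain ⟨k, hk⟩ := h g
    exact ⟨k, by rw [hk]; exact Subgroup.mem_bot.2 rfl⟩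

theorem pnil_of_forall_coprime {p : ℕ} {G : Type*} [Group G] (h : ∀ g : G, (orderOf g).Coprime p) :
    PNil p G :=
  ⟨⊤, inferInstance, fun g _ => h g, fun _ => ⟨0, Subgroup.mem_top _⟩⟩

theorem PNil.mem_iff {p : ℕ} {G : Type*} [Group G] {N : Subgroup G}
    (h1 : ∀ g ∈ N, (orderOf g).Coprime p) (h2 : ∀ g : G, ∃ k : ℕ, g ^ (p ^ k) ∈ N) (g : G) :
    g ∈ N ↔ (orderOf g).Coprime p := by
  refine ⟨h1 g, fun hg => ?_⟩
  obtain ⟨k, hk⟩ := h2 g
  have hcop : (p ^ k).Coprime (orderOf g) := (Nat.Coprime.pow_right k hg).symm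
  obtain ⟨j, hj⟩ := exists_pow_eq_self_of_coprime hcop
  rw [← hj]
  exact pow_mem hk j

theorem pnil_of_hasNormalPComplement {p : ℕ} [Fact p.Prime] {G : Type*} [Group G] [Finite G]
    (h : Cfsg.HasNormalPComplement p G) : PNil p G := by
  have hp : p.Prime := Fact.out
  obtain ⟨P, N, hN, hc⟩ := h
  haveI := hN
  have hmem := Cfsg.Agent.Lib.helper67.mem_iff_coprime_of_isComplement' N P hc
  refine ⟨N, hN, fun g hg => (hmem g).1 hg, fun g => ?_⟩
  obtain ⟨k, m, hm, hgm⟩ :=
    Nat.exists_eq_pow_mul_and_not_dvd (orderOf_pos g).ne' p hp.ne_one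
  refine ⟨k, (hmem _).2 ?_⟩
  have h1 : orderOf (g ^ (p ^ k)) = m := by
    rw [orderOf_pow_of_dvd (pow_ne_zero k hp.ne_zero) (by rw [hgm]; exact dvd_mul_right _ _), hgm,
      Nat.mul_div_cancel_left _ (pow_pos hp.pos k)]
  rw [h1]
  exact ((Nat.Prime.coprime_iff_not_dvd hp).2 hm).symm

theorem PNil.hasNormalPComplement {p : ℕ} [Fact p.Prime] {G : Type*} [Group G] [Finite G]
    (h : PNil p G) : Cfsg.HasNormalPComplement p G := by
  obtain ⟨N, hN, h1, h2⟩ := h
  haveI := hN
  exact Cfsg.Agent.Lib.helper40.hasNormalPComplement_of_pprime_elements N (PNil.mem_iff h1 h2)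

theorem pnil_iff_hasNormalPComplement {p : ℕ} [Fact p.Prime] {G : Type*} [Group G] [Finite G] :
    PNil p G ↔ Cfsg.HasNormalPComplement p G :=
  ⟨PNil.hasNormalPComplement, pnil_of_hasNormalPComplement⟩

theorem PNil.frobCond {p : ℕ} [Fact p.Prime] {G : Type*} [Group G] [Finite G] (h : PNil p G) :
    Cfsg.Agent.Lib.helper67.FrobCond p G := by
  obtain ⟨P, N, hN, hc⟩ := h.hasNormalPComplement
  haveI := hN
  exact Cfsg.Agent.Lib.helper67.frobCond_of_normal_complement N P hc

/-- In a `p`-nilpotent subgroup `M`, the `p'`-elements centralize every `p`-subgroup that `M`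
normalizes. -/
theorem PNil.mem_centralizer_of_coprime {p : ℕ} [Fact p.Prime] {G : Type*} [Group G] [Finite G]
    {M H : Subgroup G} (hM : PNil p ↥M) (hH : IsPGroup p H) (hHM : H ≤ M)
    (hMN : M ≤ Subgroup.normalizer (H : Set G)) {g : G} (hg : g ∈ M)
    (hcop : (orderOf g).Coprime p) : g ∈ Subgroup.centralizer (H : Set G) := by
  have hF := hM.frobCond
  have hQ : IsPGroup p (H.subgroupOf M) := hH.comap_of_injective _ (Subgroup.subtype_injective _)
  have hgn : (⟨g, hg⟩ : M) ∈ Subgroup.normalizer ((H.subgroupOf M : Subgroup M) : Set M) := by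
    rw [Subgroup.mem_normalizer_iff]
    intro y
    rw [Subgroup.mem_subgroupOf, Subgroup.mem_subgroupOf]
    exact (Subgroup.mem_normalizer_iff.1 (hMN hg)) (y : G)
  have h1 := hF _ hQ ⟨g, hg⟩ hgn (by rwa [← Subgroup.orderOf_coe])
  rw [Subgroup.mem_centralizer_iff] at h1 ⊢
  intro q hq
  have h2 := h1 ⟨q, hHM hq⟩ (Subgroup.mem_subgroupOf.2 hq)
  exact congrArg Subtype.val h2

/-- The preimage of a normal `p`-complement under the quotient by a normal `p'`-subgroup. -/
theorem pnil_of_quotient {p : ℕ} {G : Type*} [Group G] [Finite G] (D : Subgroup G) [D.Normal]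
    (hD : ∀ d ∈ D, (orderOf d).Coprime p) (h : PNil p (G ⧸ D)) : PNil p G := by
  obtain ⟨N, hN, h1, h2⟩ := h
  haveI := hN
  refine ⟨N.comap (QuotientGroup.mk' D), inferInstance, ?_, ?_⟩
  · intro g hg
    have hm := h1 _ (Subgroup.mem_comap.1 hg)
    set m := orderOf (QuotientGroup.mk' D g) with hmdef
    have hgm : g ^ m ∈ D := by
      rw [← QuotientGroup.eq_one_iff, ← QuotientGroup.mk'_apply, map_pow, hmdef, pow_orderOf_eq_one]
    have h3 := hD _ hgm
    have h4 : g ^ (m * orderOf (g ^ m)) = 1 := by rw [pow_mul, pow_orderOf_eq_one]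
    exact Nat.Coprime.coprime_dvd_left (orderOf_dvd_of_pow_eq_one h4) (Nat.Coprime.mul_left hm h3)
  · intro g
    obtain ⟨k, hk⟩ := h2 (QuotientGroup.mk' D g)
    exact ⟨k, by rw [Subgroup.mem_comap, map_pow]; exact hk⟩

/-- A `p`-element with a `p'`-power in a subgroup lies in that subgroup. -/
theorem mem_of_pow_mem_of_coprime {G : Type*} [Group G] {H : Subgroup G} {x : G} {m : ℕ}
    (hcop : m.Coprime (orderOf x)) (h : x ^ m ∈ H) : x ∈ H := by
  obtain ⟨j, hj⟩ := exists_pow_eq_self_of_coprime hcop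
  rw [← hj]
  exact pow_mem h j

end Cfsg.Agent.Lib.helper51
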