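import Mathlib
import Cfsg.Agent.Lib.helper51.TPNil
import Cfsg.Agent.Lib.helper51.TJ
import Cfsg.Agent.Lib.helper51.Amalgam
import Cfsg.Agent.Lib.helper67.PNilp

/-!
# General lemmas for the reduction in Thompson's normal `p`-complement theorem
-/

set_option autoImplicit false

namespace Cfsg.Agent.Lib.helper51

open Cfsg.Agent.Lib.helper53
open scoped Pointwise

section general

variable {G : Type*} [Group G]

theorem card_lt_of_ne_top_t [Finite G] {N : Subgroup G} (h : N ≠ ⊤) : Nat.card N < Nat.card G :=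
  lt_of_le_of_ne (Subgroup.card_le_card_group N) (fun h' => h (Subgroup.eq_top_of_card_eq N h'))

theorem card_lt_of_lt_t [Finite G] {A B : Subgroup G} (h : A < B) : Nat.card A < Nat.card B := by
  have h1 : Nat.card A ≤ Nat.card B := Subgroup.card_le_of_le h.le
  refine lt_of_le_of_ne h1 (fun h' => ?_)
  exact h.ne (Subgroup.eq_of_le_of_card_ge h.le h'.ge)

/-- An element of a `p`-subgroup whose order is prime to `p` is trivial. -/
theorem eq_one_of_mem_pgroup_of_coprime {p : ℕ} {X : Subgroup G} (hX : IsPGroup p X) {x : G}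
    (hx : x ∈ X) (hc : (orderOf x).Coprime p) : x = 1 := by
  obtain ⟨k, hk⟩ := hX ⟨x, hx⟩
  have h1 : x ^ (p ^ k) = 1 := congrArg Subtype.val hk
  have h2 : orderOf x ∣ p ^ k := orderOf_dvd_of_pow_eq_one h1
  have h3 : orderOf x = 1 := Nat.Coprime.eq_one_of_dvd (Nat.Coprime.pow_right k hc) h2
  exact orderOf_eq_one_iff.1 h3

/-- A `p`-element with a `p'`-power in `H` lies in `H`. -/
theorem mem_of_pgroup_of_pow_mem {p : ℕ} {X H : Subgroup G} (hX : IsPGroup p X) {x : G}
    (hx : x ∈ X) {m : ℕ} (hm : m.Coprime p) (h : x ^ m ∈ H) : x ∈ H := by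
  obtain ⟨k, hk⟩ := hX ⟨x, hx⟩
  have h1 : x ^ (p ^ k) = 1 := congrArg Subtype.val hk
  have h2 : orderOf x ∣ p ^ k := orderOf_dvd_of_pow_eq_one h1
  exact mem_of_pow_mem_of_coprime (Nat.Coprime.coprime_dvd_right h2 (Nat.Coprime.pow_right k hm)) h

theorem not_dvd_card_of_forall_coprime {p : ℕ} [Fact p.Prime] [Finite G] {D : Subgroup G}
    (hD : ∀ d ∈ D, (orderOf d).Coprime p) : ¬ p ∣ Nat.card D := by
  intro hdvd
  obtain ⟨x, hx⟩ := exists_prime_orderOf_dvd_card' p hdvd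
  have h1 := hD (x : G) x.2
  rw [Subgroup.orderOf_coe, hx] at h1
  exact (Nat.Prime.one_lt Fact.out).ne' (Nat.coprime_self p |>.1 h1)

/-- the `p`-part of a natural number -/
def ppart (p n : ℕ) : ℕ := p ^ n.factorization p

theorem card_le_ppart {p : ℕ} [Fact p.Prime] [Finite G] {X Y : Subgroup G} (hX : IsPGroup p X)
    (h : X ≤ Y) : Nat.card X ≤ ppart p (Nat.card Y) := by
  have hp : p.Prime := Fact.out
  obtain ⟨n, hn⟩ := IsPGroup.iff_card.1 hX
  have hdvd : p ^ n ∣ Nat.card Y := hn ▸ Subgroup.card_dvd_of_le h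
  have hle : n ≤ (Nat.card Y).factorization p :=
    (hp.pow_dvd_iff_le_factorization Nat.card_pos.ne').1 hdvd
  rw [hn]
  exact Nat.pow_le_pow_right hp.pos hle

theorem ppart_card_sylow {p : ℕ} [Fact p.Prime] [Finite G] (P : Sylow p G) :
    ppart p (Nat.card G) = Nat.card (P : Subgroup G) :=
  (P.card_eq_multiplicity).symm

theorem isSylowIn_of_not_dvd_relIndex {p : ℕ} [Fact p.Prime] {T H : Subgroup G} (hTH : T ≤ H)
    (hT : IsPGroup p T) (h : ¬ p ∣ T.relIndex H) : IsSylowIn p T H := by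
  have h1 : IsPGroup p (T.subgroupOf H) := hT.comap_of_injective _ (Subgroup.subtype_injective _)
  have h' : ¬ p ∣ (T.subgroupOf H).index := h
  refine ⟨h1.toSylow h', ?_⟩
  rw [IsPGroup.toSylow_coe, Subgroup.map_subgroupOf_eq_of_le hTH]

/-- elementwise decomposition of `P ⊔ L` when `P` normalizes `L` -/
theorem exists_mul_of_mem_sup_of_le_normalizer {P L : Subgroup G}
    (h : P ≤ Subgroup.normalizer (L : Set G)) {x : G} (hx : x ∈ P ⊔ L) :
    ∃ a ∈ P, ∃ l ∈ L, x = a * l := by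
  have hsup : P ⊔ L = Subgroup.closure ((P : Set G) ∪ (L : Set G)) := by
    rw [Subgroup.closure_union, Subgroup.closure_eq, Subgroup.closure_eq]
  rw [hsup] at hx
  induction hx using Subgroup.closure_induction with
  | mem y hy =>
    rcases hy with hy | hy
    · exact ⟨y, hy, 1, one_mem _, (mul_one y).symm⟩
    · exact ⟨1, one_mem _, y, hy, (one_mul y).symm⟩
  | one => exact ⟨1, one_mem _, 1, one_mem _, (mul_one 1).symm⟩
  | mul y z _ _ ihy ihz =>
    obtain ⟨a, ha, l, hl, rfl⟩ := ihy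
    obtain ⟨b, hb, m, hm, rfl⟩ := ihz
    refine ⟨a * b, mul_mem ha hb, (b⁻¹ * l * b) * m, mul_mem ?_ hm, by group⟩
    have := (Subgroup.mem_normalizer_iff.1 (h (inv_mem hb)) l).1 hl
    simpa using this
  | inv y _ ih =>
    obtain ⟨a, ha, l, hl, rfl⟩ := ih
    refine ⟨a⁻¹, inv_mem ha, a * l⁻¹ * a⁻¹, ?_, by group⟩
    exact (Subgroup.mem_normalizer_iff.1 (h ha) l⁻¹).1 (inv_mem hl)

end general

/-! ### Frattini-type lemmas for the quotient by a normal `p'`-subgroup -/

section frattini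

variable {p : ℕ} [Fact p.Prime] {G : Type*} [Group G] [Finite G]

theorem normalizer_map_mk_le (D : Subgroup G) [D.Normal]
    (hD : ∀ d ∈ D, (orderOf d).Coprime p) (X : Subgroup G) (hX : IsPGroup p X) :
    Subgroup.normalizer ((X.map (QuotientGroup.mk' D) : Subgroup (G ⧸ D)) : Set (G ⧸ D)) ≤
      (Subgroup.normalizer (X : Set G)).map (QuotientGroup.mk' D) := by
  intro y' hy'
  obtain ⟨y, rfl⟩ := QuotientGroup.mk'_surjective D y'
  set M : Subgroup G := D ⊔ X with hM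
  set X' : Subgroup G := X.map (MulAut.conj y).toMonoidHom with hX'
  have hX'M : X' ≤ M := by
    rintro _ ⟨x, hx, rfl⟩
    have h1 : QuotientGroup.mk' D (y * x * y⁻¹) ∈ X.map (QuotientGroup.mk' D) := by
      have := (Subgroup.mem_normalizer_iff.1 hy' (QuotientGroup.mk' D x)).1 ⟨x, hx, rfl⟩
      simpa using this
    have h2 : y * x * y⁻¹ ∈ (X.map (QuotientGroup.mk' D)).comap (QuotientGroup.mk' D) := h1
    rw [Subgroup.comap_map_eq, QuotientGroup.ker_mk'] at h2
    rw [hM, sup_comm]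
    exact h2
  have hXM : X ≤ M := le_sup_right
  have hrel : ¬ p ∣ X.relIndex M := by
    have h1 : X.relIndex M = X.relIndex D := by
      rw [hM, sup_comm]
      exact Cfsg.Agent.Lib.helper67.relIndex_sup_eq_of_normal X D
    rw [h1]
    intro hdvd
    exact not_dvd_card_of_forall_coprime hD (hdvd.trans (Subgroup.relIndex_dvd_card X D))
  have hS : IsSylowIn p X M := isSylowIn_of_not_dvd_relIndex hXM hX hrel
  have hS' : IsSylowIn p X' M := by
    refine isSylowIn_of_card hX'M ?_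
    rw [hX', Subgroup.card_map_of_injective (MulAut.conj y).injective, hS.card]
  obtain ⟨h, hhM, hconj⟩ := hS.exists_conj hS'
  have hh' : h ∈ (D : Set G) * (X : Set G) := by
    rw [← Subgroup.normal_mul]
    exact hhM
  obtain ⟨d, hd, x₀, hx₀, rfl⟩ := hh'
  have hd : d ∈ D := hd
  have hx₀ : x₀ ∈ X := hx₀
  -- d⁻¹ * y normalizes X
  have hn : d⁻¹ * y ∈ Subgroup.normalizer (X : Set G) := by
    apply mem_normalizer_of_conj_le
    rintro _ ⟨x, hx, rfl⟩
    have h1 : y * x * y⁻¹ ∈ X' := ⟨x, hx, rfl⟩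
    rw [hconj] at h1
    obtain ⟨x₁, hx₁, h2⟩ := h1
    have h3 : (MulAut.conj (d⁻¹ * y)) x = x₀ * x₁ * x₀⁻¹ := by
      have h4 : d * x₀ * x₁ * (d * x₀)⁻¹ = y * x * y⁻¹ := h2
      rw [MulAut.conj_apply]
      calc d⁻¹ * y * x * (d⁻¹ * y)⁻¹ = d⁻¹ * (y * x * y⁻¹) * d := by group
        _ = d⁻¹ * (d * x₀ * x₁ * (d * x₀)⁻¹) * d := by rw [h4]
        _ = x₀ * x₁ * x₀⁻¹ := by group
    show (MulAut.conj (d⁻¹ * y)) x ∈ X
    rw [h3]
    exact mul_mem (mul_mem hx₀ hx₁) (inv_mem hx₀)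
  refine ⟨d⁻¹ * y, hn, ?_⟩
  rw [map_mul, map_inv]
  have : QuotientGroup.mk' D d = 1 := by
    rw [QuotientGroup.mk'_apply, QuotientGroup.eq_one_iff]
    exact hd
  rw [this, inv_one, one_mul]

theorem centralizer_map_mk_le (D : Subgroup G) [D.Normal]
    (hD : ∀ d ∈ D, (orderOf d).Coprime p) (X : Subgroup G) (hX : IsPGroup p X) :
    Subgroup.centralizer ((X.map (QuotientGroup.mk' D) : Subgroup (G ⧸ D)) : Set (G ⧸ D)) ≤
      (Subgroup.centralizer (X : Set G)).map (QuotientGroup.mk' D) := by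
  intro y' hy'
  have hy'n := normalizer_map_mk_le D hD X hX (Subgroup.centralizer_le_normalizer _ hy')
  obtain ⟨n, hn, rfl⟩ := hy'n
  have hn : n ∈ Subgroup.normalizer (X : Set G) := hn
  refine ⟨n, ?_, rfl⟩
  show n ∈ Subgroup.centralizer (X : Set G)
  rw [Subgroup.mem_centralizer_iff]
  intro x hx
  have hc : n * x * n⁻¹ * x⁻¹ ∈ X :=
    mul_mem ((Subgroup.mem_normalizer_iff.1 hn x).1 hx) (inv_mem hx)
  have hcD : n * x * n⁻¹ * x⁻¹ ∈ D := by
    rw [← QuotientGroup.eq_one_iff, ← QuotientGroup.mk'_apply]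
    have h1 := (Subgroup.mem_centralizer_iff.1 hy') (QuotientGroup.mk' D x) ⟨x, hx, rfl⟩
    rw [map_mul, map_mul, map_mul, map_inv, map_inv, ← h1]
    group
  have h1 := eq_one_of_mem_pgroup_of_coprime hX hc (hD _ hcD)
  have h2 : n * x = (n * x * n⁻¹ * x⁻¹) * (x * n) := by group
  rw [h2, h1, one_mul]

end frattini

end Cfsg.Agent.Lib.helper51
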