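import Mathlib
import Cfsg.Prelude.Def_LocalEven
import Cfsg.Agent.Lib.helper51.TRed1
import Cfsg.Agent.Lib.helper51.Involves
import Cfsg.Agent.Lib.helper54.CharP

/-!
# Reduction to the minimal configuration in Thompson's normal `p`-complement theorem
(abelian-version `J`), part 1: the uses of the induction hypothesis.
-/

set_option autoImplicit false

namespace Cfsg.Agent.Lib.helper51

open Cfsg.Agent.Lib.helper53 Cfsg.Agent.Lib.helper14

universe u

/-- The hypotheses of Thompson's theorem for a subgroup `S` (in applications a Sylow subgroup). -/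
def ThHyp (p : ℕ) {G : Type*} [Group G] (S : Subgroup G) : Prop :=
  PNil p ↥(Subgroup.centralizer (zOf S : Set G)) ∧
  PNil p ↥(Subgroup.normalizer (Cfsg.thompsonSubgroupAOf S : Set G))

theorem ThHyp.of_map_injective {p : ℕ} {A B : Type*} [Group A] [Group B] (f : A →* B)
    (hf : Function.Injective f) (T : Subgroup A) (h : ThHyp p (T.map f)) : ThHyp p T := by
  have hinj : ∀ x ∈ T, f x = 1 → x = 1 := fun x _ hx => hf (by rw [hx, map_one])
  constructor
  · apply PNil.of_map_injective f hf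
    refine PNil.mono ?_ h.1
    rw [zOf_map_of_injOn f T hinj]
    rintro _ ⟨x, hx, rfl⟩
    rw [Subgroup.mem_centralizer_iff]
    rintro _ ⟨z, hz, rfl⟩
    rw [← map_mul, ← map_mul, (Subgroup.mem_centralizer_iff.1 hx) z hz]
  · apply PNil.of_map_injective f hf
    refine PNil.mono ?_ h.2
    rw [thompsonA_map_of_injOn f T hinj]
    exact Subgroup.le_normalizer_map f

theorem ThHyp.conj {p : ℕ} {G : Type*} [Group G] {S : Subgroup G} (h : ThHyp p S) (g : G) :
    ThHyp p (S.map (MulAut.conj g).toMonoidHom) := by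
  apply ThHyp.of_map_injective (MulAut.conj g⁻¹).toMonoidHom (MulAut.conj g⁻¹).injective
  have h1 : (S.map (MulAut.conj g).toMonoidHom).map (MulAut.conj g⁻¹).toMonoidHom = S := by
    rw [Subgroup.map_map]
    have h2 : (MulAut.conj g⁻¹).toMonoidHom.comp (MulAut.conj g).toMonoidHom = MonoidHom.id G := by
      ext x; simp [MulAut.conj_apply, mul_assoc]
    rw [h2, Subgroup.map_id]
  rw [h1]
  exact h

/-- The induction hypothesis. -/
def ThIH (p : ℕ) (n : ℕ) : Prop :=
  ∀ (G' : Type u) [Group G'] [Finite G'], Nat.card G' < n → ∀ S' : Sylow p G',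
    (p ≠ 2 ∨ ¬ Cfsg.Involves (Equiv.Perm (Fin 4)) G') → ThHyp p (S' : Subgroup G') → PNil p G'

/-- measure used to choose the bad `p`-subgroup -/
noncomputable def badMeasure (p : ℕ) {G : Type*} [Group G] (Q : Subgroup G) : ℕ :=
  ppart p (Nat.card ↥(Subgroup.normalizer (Q : Set G))) * (Nat.card G + 1) + Nat.card Q

/-- a nontrivial `p`-subgroup whose normalizer is not `p`-nilpotent -/
def IsBad (p : ℕ) {G : Type*} [Group G] (Q : Subgroup G) : Prop :=
  IsPGroup p Q ∧ Q ≠ ⊥ ∧ ¬ PNil p ↥(Subgroup.normalizer (Q : Set G))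

section

variable {p : ℕ} [Fact p.Prime] {G : Type u} [Group G] [Finite G]

theorem card_quotient_lt_t {N : Subgroup G} [N.Normal] (h : N ≠ ⊥) :
    Nat.card (G ⧸ N) < Nat.card G := by
  have h1 := Subgroup.card_mul_index N
  rw [Subgroup.index_eq_card] at h1
  have h2 : 1 < Nat.card N := (Subgroup.one_lt_card_iff_ne_bot N).2 h
  have h3 : 0 < Nat.card (G ⧸ N) := Nat.card_pos
  nlinarith

theorem exists_max_bad (hnot : ¬ PNil p G) :
    ∃ H : Subgroup G, IsBad p H ∧ ∀ Q : Subgroup G, IsBad p Q → badMeasure p Q ≤ badMeasure p H := by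
  have hex : ∃ Q : Subgroup G, IsBad p Q := by
    by_contra hcon
    apply hnot
    have hF : Cfsg.Agent.Lib.helper67.FrobCond p G := by
      intro Q hQ g hg hcop
      by_cases hQbot : Q = ⊥
      · rw [hQbot, Subgroup.mem_centralizer_iff]
        intro q hq
        have : q = 1 := Subgroup.mem_bot.1 hq
        rw [this]; simp
      · have hPN : PNil p ↥(Subgroup.normalizer (Q : Set G)) := by
          by_contra h'
          exact hcon ⟨Q, hQ, hQbot, h'⟩
        exact PNil.mem_centralizer_of_coprime hPN hQ Subgroup.le_normalizer le_rfl hg hcop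
    exact pnil_of_hasNormalPComplement hF.hasNormalPComplement
  obtain ⟨Q₀, hQ₀⟩ := hex
  have hne : Nonempty {Q : Subgroup G // IsBad p Q} := ⟨⟨Q₀, hQ₀⟩⟩
  obtain ⟨⟨H, hH⟩, hmax⟩ :=
    Finite.exists_max (fun Q : {Q : Subgroup G // IsBad p Q} => badMeasure p Q.1)
  exact ⟨H, hH, fun Q hQ => hmax ⟨Q, hQ⟩⟩

theorem red_normalizer_eq_top (ih : ThIH.{u} p (Nat.card G))
    (s4 : p ≠ 2 ∨ ¬ Cfsg.Involves (Equiv.Perm (Fin 4)) G)
    (P₀ : Sylow p G) (hTh₀ : ThHyp p (P₀ : Subgroup G))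
    {H : Subgroup G} (hbad : IsBad p H)
    (hmax : ∀ Q : Subgroup G, IsBad p Q → badMeasure p Q ≤ badMeasure p H) :
    Subgroup.normalizer (H : Set G) = ⊤ := by
  by_contra hN
  obtain ⟨hHp, hHne, hHbad⟩ := hbad
  set N := Subgroup.normalizer (H : Set G) with hNdef
  obtain ⟨T'⟩ : Nonempty (Sylow p ↥N) := inferInstance
  set T₁ : Subgroup G := (T' : Subgroup ↥N).map N.subtype with hT₁
  have hT₁p : IsPGroup p T₁ := T'.isPGroup'.map N.subtype
  have hT₁N : T₁ ≤ N := Subgroup.map_subtype_le _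
  obtain ⟨P, hT₁P⟩ := hT₁p.exists_le_sylow
  obtain ⟨g, hg⟩ := MulAction.exists_smul_eq G P₀ P
  have hTh : ThHyp p (P : Subgroup G) := by
    have h1 := hTh₀.conj g
    rw [← hg, Sylow.coe_subgroup_smul]
    exact h1
  have hHT₁ : H ≤ T₁ := by
    have hn : (H.subgroupOf N).Normal := Subgroup.normal_in_normalizer
    have h0 : IsPGroup p (H.subgroupOf N) :=
      hHp.comap_of_injective _ (Subgroup.subtype_injective _)
    have h1 : H.subgroupOf N ≤ T' := h0.le_sylow_of_normal T'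
    have h2 := Subgroup.map_mono (f := N.subtype) h1
    rwa [Subgroup.map_subgroupOf_eq_of_le Subgroup.le_normalizer] at h2
  have hT₁eq : (P : Subgroup G) ⊓ N = T₁ := by
    have h1 : IsPGroup p (((P : Subgroup G) ⊓ N).subgroupOf N) :=
      (P.isPGroup'.to_le inf_le_left).comap_of_injective _ (Subgroup.subtype_injective _)
    have h2 : (T' : Subgroup ↥N) ≤ ((P : Subgroup G) ⊓ N).subgroupOf N := by
      intro x hx
      rw [Subgroup.mem_subgroupOf]
      exact ⟨hT₁P ⟨x, hx, rfl⟩, x.2⟩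
    have h3 := T'.is_maximal' h1 h2
    rw [hT₁, ← h3, Subgroup.map_subgroupOf_eq_of_le inf_le_right]
  have hZ : zOf (P : Subgroup G) ≤ zOf T₁ := by
    intro z hz
    obtain ⟨hzP, hzc⟩ := mem_zOf.1 hz
    have hzN : z ∈ N := by
      apply Subgroup.centralizer_le_normalizer
      rw [Subgroup.mem_centralizer_iff]
      intro h hh
      exact hzc h (hT₁P (hHT₁ hh))
    have hzT : z ∈ T₁ := by rw [← hT₁eq]; exact ⟨hzP, hzN⟩
    exact mem_zOf.2 ⟨hzT, fun s hs => hzc s (hT₁P hs)⟩
  have hC : PNil p ↥(Subgroup.centralizer (zOf T₁ : Set G)) :=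
    PNil.mono (Subgroup.centralizer_le (fun x hx => hZ hx)) hTh.1
  have hJ : PNil p ↥(Subgroup.normalizer (Cfsg.thompsonSubgroupAOf T₁ : Set G)) := by
    by_cases hTP : T₁ = P
    · rw [hTP]; exact hTh.2
    · by_contra hbadJ
      obtain ⟨y, hyP, hyN, hyT⟩ := Cfsg.Agent.Lib.helper67.exists_normalizer_not_mem
        (P : Subgroup G) P.isPGroup' T₁ hT₁P hTP
      have hT₁ne : T₁ ≠ ⊥ := fun h => hHne (le_bot_iff.1 (h ▸ hHT₁))
      have hQbad : IsBad p (Cfsg.thompsonSubgroupAOf T₁) :=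
        ⟨hT₁p.to_le (thompsonA_le T₁), thompsonA_ne_bot hT₁ne, hbadJ⟩
      have h1 := hmax _ hQbad
      set X := (P : Subgroup G) ⊓ Subgroup.normalizer (T₁ : Set G) with hX
      have hXp : IsPGroup p X := P.isPGroup'.to_le inf_le_left
      have hXN : X ≤ Subgroup.normalizer (Cfsg.thompsonSubgroupAOf T₁ : Set G) :=
        inf_le_right.trans (normalizer_le_normalizer_thompsonA T₁)
      have hlt : Nat.card T₁ < Nat.card X := by
        apply card_lt_of_lt_t
        refine lt_of_le_of_ne (le_inf hT₁P Subgroup.le_normalizer) (fun h => hyT ?_)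
        rw [h]
        exact ⟨hyP, hyN⟩
      have h2 := card_le_ppart hXp hXN
      have h3 : ppart p (Nat.card ↥N) = Nat.card T₁ := by
        rw [hT₁, Subgroup.card_subtype]
        exact ppart_card_sylow T'
      have h4 : Nat.card H ≤ Nat.card G := Subgroup.card_le_card_group H
      unfold badMeasure at h1
      rw [← hNdef, h3] at h1
      have h5 := Nat.mul_le_mul_right (Nat.card G + 1) (Nat.succ_le_of_lt (lt_of_lt_of_le hlt h2))
      rw [Nat.succ_mul] at h5
      omega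
  have hcard : Nat.card ↥N < Nat.card G := card_lt_of_ne_top_t hN
  have hs4 : p ≠ 2 ∨ ¬ Cfsg.Involves (Equiv.Perm (Fin 4)) ↥N :=
    s4.imp id (fun h h' => h (involves_of_involves_subgroup N h'))
  have hThN : ThHyp p (T' : Subgroup ↥N) :=
    ThHyp.of_map_injective N.subtype (Subgroup.subtype_injective N) _ ⟨hC, hJ⟩
  exact hHbad (ih ↥N hcard T' hs4 hThN)

theorem red_normal_p_le (hnot : ¬ PNil p G) {H : Subgroup G} (hbad : IsBad p H)
    (hmax : ∀ Q : Subgroup G, IsBad p Q → badMeasure p Q ≤ badMeasure p H)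
    (hHn : Subgroup.normalizer (H : Set G) = ⊤) (R : Subgroup G) (hRn : R.Normal)
    (hRp : IsPGroup p R) : R ≤ H := by
  have hHnorm : H.Normal := Subgroup.normalizer_eq_top_iff.1 hHn
  have hQp : IsPGroup p ↥(R ⊔ H) := IsPGroup.to_sup_of_normal_right hRp hbad.1
  have hQnorm : (R ⊔ H).Normal := inferInstance
  have hQn : Subgroup.normalizer ((R ⊔ H : Subgroup G) : Set G) = ⊤ :=
    Subgroup.normalizer_eq_top_iff.2 hQnorm
  have hQbad : IsBad p (R ⊔ H) := by
    refine ⟨hQp, fun h => hbad.2.1 (le_bot_iff.1 (h ▸ le_sup_right)), fun h => hnot ?_⟩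
    exact pnil_top_iff.1 (h.mono (by rw [hQn]))
  have h1 := hmax _ hQbad
  unfold badMeasure at h1
  rw [hQn, hHn] at h1
  have h2 : Nat.card ↥(R ⊔ H) ≤ Nat.card H := by omega
  have h3 : H = R ⊔ H := Subgroup.eq_of_le_of_card_ge le_sup_right h2
  rw [h3]
  exact le_sup_left

theorem red_pnil_big {H : Subgroup G}
    (hmax : ∀ Q : Subgroup G, IsBad p Q → badMeasure p Q ≤ badMeasure p H)
    (hHn : Subgroup.normalizer (H : Set G) = ⊤) (P : Sylow p G) (H₁ : Subgroup G)
    (hH₁p : IsPGroup p H₁) (hle : H ≤ H₁) (hne : H₁ ≠ H)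
    (hP : (P : Subgroup G) ≤ Subgroup.normalizer (H₁ : Set G)) :
    PNil p ↥(Subgroup.normalizer (H₁ : Set G)) := by
  by_contra hb
  have hH₁ne : H₁ ≠ ⊥ := by
    intro h
    apply hne
    rw [h] at hle ⊢
    exact (le_bot_iff.1 hle).symm
  have h1 := hmax H₁ ⟨hH₁p, hH₁ne, hb⟩
  have h2 := card_le_ppart P.isPGroup' hP
  have h3 : ppart p (Nat.card ↥(Subgroup.normalizer (H : Set G))) = Nat.card (P : Subgroup G) := by
    rw [hHn, Subgroup.card_top]; exact ppart_card_sylow P
  have h4 : Nat.card H < Nat.card H₁ := card_lt_of_lt_t (lt_of_le_of_ne hle (Ne.symm hne))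
  unfold badMeasure at h1
  rw [h3] at h1
  have h5 := Nat.mul_le_mul_right (Nat.card G + 1) h2
  omega

theorem red_pnil_normalizer_quot {H : Subgroup G} [H.Normal] (hHp : IsPGroup p H) (P : Sylow p G)
    (hbig : ∀ H₁ : Subgroup G, IsPGroup p H₁ → H ≤ H₁ → H₁ ≠ H →
      (P : Subgroup G) ≤ Subgroup.normalizer (H₁ : Set G) →
      PNil p ↥(Subgroup.normalizer (H₁ : Set G)))
    (Z' : Subgroup (G ⧸ H)) (hZne : Z' ≠ ⊥) (hZp : IsPGroup p Z')
    (hZn : (P : Subgroup G).map (QuotientGroup.mk' H) ≤ Subgroup.normalizer (Z' : Set (G ⧸ H))) :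
    PNil p ↥(Subgroup.normalizer (Z' : Set (G ⧸ H))) := by
  have hf : Function.Surjective (QuotientGroup.mk' H) := QuotientGroup.mk'_surjective H
  have hker : (QuotientGroup.mk' H).ker = H := QuotientGroup.ker_mk' H
  have h1 : IsPGroup p (Z'.comap (QuotientGroup.mk' H)) :=
    hZp.comap_of_ker_isPGroup _ (by rw [hker]; exact hHp)
  have h2 : H ≤ Z'.comap (QuotientGroup.mk' H) := by
    intro x hx
    rw [Subgroup.mem_comap, QuotientGroup.mk'_apply, (QuotientGroup.eq_one_iff x).2 hx]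
    exact one_mem _
  have h3 : Z'.comap (QuotientGroup.mk' H) ≠ H := by
    intro h
    apply hZne
    rw [← Subgroup.map_comap_eq_self_of_surjective hf Z', h, Subgroup.map_eq_bot_iff, hker]
  have h4 : (P : Subgroup G) ≤ Subgroup.normalizer ((Z'.comap (QuotientGroup.mk' H) : Subgroup G) : Set G) := by
    intro x hx
    have hx' : QuotientGroup.mk' H x ∈ Subgroup.normalizer (Z' : Set (G ⧸ H)) := hZn ⟨x, hx, rfl⟩
    exact Subgroup.le_normalizer_comap (QuotientGroup.mk' H) hx'
  have h5 := hbig _ h1 h2 h3 h4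
  refine PNil.of_le_map (QuotientGroup.mk' H) _ _ ?_ h5
  intro y' hy'
  obtain ⟨y, rfl⟩ := hf y'
  exact ⟨y, Subgroup.le_normalizer_comap (QuotientGroup.mk' H) hy', rfl⟩

theorem red_pnil_quot (ih : ThIH.{u} p (Nat.card G))
    (s4 : p ≠ 2 ∨ ¬ Cfsg.Involves (Equiv.Perm (Fin 4)) G)
    {H : Subgroup G} [H.Normal] (hHp : IsPGroup p H) (hHne : H ≠ ⊥) (P : Sylow p G)
    (hbig : ∀ H₁ : Subgroup G, IsPGroup p H₁ → H ≤ H₁ → H₁ ≠ H →
      (P : Subgroup G) ≤ Subgroup.normalizer (H₁ : Set G) →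
      PNil p ↥(Subgroup.normalizer (H₁ : Set G))) :
    PNil p (G ⧸ H) := by
  have hp : p.Prime := Fact.out
  have hHP : H ≤ P := hHp.le_sylow_of_normal P
  by_cases hPH : (P : Subgroup G) = H
  · apply pnil_of_forall_coprime
    intro g
    have h1 : orderOf g ∣ Nat.card (G ⧸ H) := orderOf_dvd_natCard g
    have h3 : ¬ p ∣ H.index := by rw [← hPH]; exact P.not_dvd_index
    rw [Subgroup.index_eq_card] at h3
    exact Nat.Coprime.coprime_dvd_left h1 ((Nat.Prime.coprime_iff_not_dvd hp).2 h3).symm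
  · have hf : Function.Surjective (QuotientGroup.mk' H) := QuotientGroup.mk'_surjective H
    have hS' : ((P.mapSurjective hf : Sylow p (G ⧸ H)) : Subgroup (G ⧸ H)) =
        (P : Subgroup G).map (QuotientGroup.mk' H) := Sylow.coe_mapSurjective hf P
    have hS'ne : ((P.mapSurjective hf : Sylow p (G ⧸ H)) : Subgroup (G ⧸ H)) ≠ ⊥ := by
      rw [hS']
      intro h
      rw [Subgroup.map_eq_bot_iff, QuotientGroup.ker_mk'] at h
      exact hPH (le_antisymm h hHP)
    have hcard : Nat.card (G ⧸ H) < Nat.card G := card_quotient_lt_t hHne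
    have hs4 : p ≠ 2 ∨ ¬ Cfsg.Involves (Equiv.Perm (Fin 4)) (G ⧸ H) :=
      s4.imp id (fun h h' => h (involves_of_involves_quotient H h'))
    have hS'p : IsPGroup p ((P.mapSurjective hf : Sylow p (G ⧸ H)) : Subgroup (G ⧸ H)) :=
      (P.mapSurjective hf).isPGroup'
    have hTh : ThHyp p ((P.mapSurjective hf : Sylow p (G ⧸ H)) : Subgroup (G ⧸ H)) := by
      constructor
      · have h1 := red_pnil_normalizer_quot hHp P hbig
          (zOf ((P.mapSurjective hf : Sylow p (G ⧸ H)) : Subgroup (G ⧸ H)))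
          (zOf_ne_bot hS'p hS'ne) (hS'p.to_le (zOf_le _))
          (by rw [← hS']; exact Subgroup.le_normalizer.trans (normalizer_le_normalizer_zOf _))
        exact h1.mono (Subgroup.centralizer_le_normalizer _)
      · exact red_pnil_normalizer_quot hHp P hbig _ (thompsonA_ne_bot hS'ne)
          (hS'p.to_le (thompsonA_le _))
          (by rw [← hS']; exact Subgroup.le_normalizer.trans (normalizer_le_normalizer_thompsonA _))
    exact ih (G ⧸ H) hcard _ hs4 hTh

theorem red_no_pprime_normal (ih : ThIH.{u} p (Nat.card G))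
    (s4 : p ≠ 2 ∨ ¬ Cfsg.Involves (Equiv.Perm (Fin 4)) G) (hnot : ¬ PNil p G)
    (P : Sylow p G) (hTh : ThHyp p (P : Subgroup G))
    (D : Subgroup G) [D.Normal] (hD : ∀ d ∈ D, (orderOf d).Coprime p) : D = ⊥ := by
  by_contra hDne
  apply hnot
  apply pnil_of_quotient D hD
  have hf : Function.Surjective (QuotientGroup.mk' D) := QuotientGroup.mk'_surjective D
  have hS' : ((P.mapSurjective hf : Sylow p (G ⧸ D)) : Subgroup (G ⧸ D)) =
      (P : Subgroup G).map (QuotientGroup.mk' D) := Sylow.coe_mapSurjective hf P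
  have hinj : ∀ x ∈ (P : Subgroup G), QuotientGroup.mk' D x = 1 → x = 1 := by
    intro x hx hx1
    have hxD : x ∈ D := by rwa [QuotientGroup.mk'_apply, QuotientGroup.eq_one_iff] at hx1
    exact eq_one_of_mem_pgroup_of_coprime P.isPGroup' hx (hD x hxD)
  have hcard : Nat.card (G ⧸ D) < Nat.card G := card_quotient_lt_t hDne
  have hs4 : p ≠ 2 ∨ ¬ Cfsg.Involves (Equiv.Perm (Fin 4)) (G ⧸ D) :=
    s4.imp id (fun h h' => h (involves_of_involves_quotient D h'))
  have hTh' : ThHyp p ((P.mapSurjective hf : Sylow p (G ⧸ D)) : Subgroup (G ⧸ D)) := by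
    rw [hS']
    constructor
    · rw [zOf_map_of_injOn _ _ hinj]
      exact PNil.of_le_map _ _ _
        (centralizer_map_mk_le D hD _ (P.isPGroup'.to_le (zOf_le _))) hTh.1
    · rw [thompsonA_map_of_injOn _ _ hinj]
      exact PNil.of_le_map _ _ _
        (normalizer_map_mk_le D hD _ (P.isPGroup'.to_le (thompsonA_le _))) hTh.2
  exact ih (G ⧸ D) hcard _ hs4 hTh'

theorem red_pnil_eq {H : Subgroup G} [H.Normal] (hHp : IsPGroup p H)
    (hcent : Subgroup.centralizer (H : Set G) ≤ H) (P : Sylow p G) (M : Subgroup G)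
    (hPM : (P : Subgroup G) ≤ M) (hM : PNil p ↥M) : M = P := by
  have hHP : H ≤ P := hHp.le_sylow_of_normal P
  have hMp : IsPGroup p M := by
    apply Cfsg.Agent.Lib.helper54.isPGroup_of_forall_coprime_eq_one
    intro d hd
    rw [← Subgroup.orderOf_coe] at hd
    have hdc : (d : G) ∈ Subgroup.centralizer (H : Set G) :=
      PNil.mem_centralizer_of_coprime hM hHp (hHP.trans hPM)
        (by rw [Subgroup.normalizer_eq_top_iff.2 inferInstance]; exact le_top) d.2 hd
    have h1 := eq_one_of_mem_pgroup_of_coprime hHp (hcent hdc) hd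
    exact Subtype.ext h1
  exact P.is_maximal' hMp hPM

theorem red_between (ih : ThIH.{u} p (Nat.card G))
    (s4 : p ≠ 2 ∨ ¬ Cfsg.Involves (Equiv.Perm (Fin 4)) G)
    {H K : Subgroup G} (P : Sylow p G) (hTh : ThHyp p (P : Subgroup G))
    (hpnil_eq : ∀ M : Subgroup G, (P : Subgroup G) ≤ M → PNil p ↥M → M = P)
    (hPK : (P : Subgroup G) ⊓ K ≤ H)
    (L : Subgroup G) (hHL : H ≤ L) (hLK : L ≤ K)
    (hPL : (P : Subgroup G) ≤ Subgroup.normalizer (L : Set G)) (hLne : L ≠ K) : L = H := by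
  have hM : (P : Subgroup G) ⊔ L ≠ ⊤ := by
    intro htop
    apply hLne
    apply le_antisymm hLK
    intro k hk
    have hk' : k ∈ (P : Subgroup G) ⊔ L := by rw [htop]; exact Subgroup.mem_top k
    obtain ⟨a, ha, l, hl, rfl⟩ := exists_mul_of_mem_sup_of_le_normalizer hPL hk'
    have haK : a ∈ K := by
      have : a = a * l * l⁻¹ := by group
      rw [this]
      exact mul_mem hk (inv_mem (hLK hl))
    exact mul_mem (hHL (hPK ⟨ha, haK⟩)) hl
  have hcard : Nat.card ↥((P : Subgroup G) ⊔ L) < Nat.card G := card_lt_of_ne_top_t hM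
  have hs4 : p ≠ 2 ∨ ¬ Cfsg.Involves (Equiv.Perm (Fin 4)) ↥((P : Subgroup G) ⊔ L) :=
    s4.imp id (fun h h' => h (involves_of_involves_subgroup _ h'))
  have hPle : (P : Subgroup G) ≤ (P : Subgroup G) ⊔ L := le_sup_left
  have hThM : ThHyp p ((P.subtype hPle : Sylow p ↥((P : Subgroup G) ⊔ L)) :
      Subgroup ↥((P : Subgroup G) ⊔ L)) := by
    apply ThHyp.of_map_injective ((P : Subgroup G) ⊔ L).subtype (Subgroup.subtype_injective _)
    rw [Sylow.coe_subtype, Subgroup.map_subgroupOf_eq_of_le hPle]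
    exact hTh
  have h1 := ih _ hcard _ hs4 hThM
  have h2 := hpnil_eq _ hPle h1
  have h3 : L ≤ P := by rw [← h2]; exact le_sup_right
  exact le_antisymm (fun x hx => hPK ⟨h3 hx, hLK hx⟩) hHL

end

end Cfsg.Agent.Lib.helper51
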