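import Mathlib
import Cfsg.Agent.Lib.helper51.TRed2
import Cfsg.Agent.Lib.helper40.PComp

/-!
# Reduction to the minimal configuration in Thompson's normal `p`-complement theorem
(abelian-version `J`), part 2: structure of the minimal counterexample.
-/

set_option autoImplicit false

namespace Cfsg.Agent.Lib.helper51

open Cfsg.Agent.Lib.helper53 Cfsg.Agent.Lib.helper14
open scoped Pointwise commutatorElement

universe u

/-! ### `Ω₁(Z(H))` -/

section omega

variable {G : Type*} [Group G]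

/-- `Ω₁(Z(H))`: the elements of `Z(H)` of order dividing `p`. -/
def omegaZ (p : ℕ) (H : Subgroup G) : Subgroup G where
  carrier := {z | z ∈ zOf H ∧ z ^ p = 1}
  mul_mem' := by
    rintro a b ⟨ha, ha'⟩ ⟨hb, hb'⟩
    refine ⟨mul_mem ha hb, ?_⟩
    have hc : Commute a b := ((mem_zOf.1 ha).2 b (zOf_le H hb)).symm
    rw [hc.mul_pow, ha', hb', one_mul]
  one_mem' := ⟨one_mem _, one_pow _⟩
  inv_mem' := by
    rintro a ⟨ha, ha'⟩
    exact ⟨inv_mem ha, by rw [inv_pow, ha', inv_one]⟩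

theorem mem_omegaZ {p : ℕ} {H : Subgroup G} {z : G} : z ∈ omegaZ p H ↔ z ∈ zOf H ∧ z ^ p = 1 :=
  Iff.rfl

theorem omegaZ_le_zOf (p : ℕ) (H : Subgroup G) : omegaZ p H ≤ zOf H := fun _ hz => hz.1

theorem omegaZ_le (p : ℕ) (H : Subgroup G) : omegaZ p H ≤ H := (omegaZ_le_zOf p H).trans (zOf_le H)

theorem omegaZ_comm {p : ℕ} {H : Subgroup G} {a b : G} (ha : a ∈ omegaZ p H) (hb : b ∈ omegaZ p H) :
    a * b = b * a :=
  ((mem_zOf.1 ha.1).2 b (omegaZ_le p H hb)).symm

theorem zOf_normal (H : Subgroup G) [hH : H.Normal] : (zOf H).Normal := by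
  constructor
  intro z hz g
  obtain ⟨hzH, hzc⟩ := mem_zOf.1 hz
  refine mem_zOf.2 ⟨hH.conj_mem z hzH g, fun s hs => ?_⟩
  have h1 := hzc (g⁻¹ * s * g) (by simpa using hH.conj_mem s hs g⁻¹)
  calc s * (g * z * g⁻¹) = g * ((g⁻¹ * s * g) * z) * g⁻¹ := by group
    _ = g * (z * (g⁻¹ * s * g)) * g⁻¹ := by rw [h1]
    _ = g * z * g⁻¹ * s := by group

theorem omegaZ_normal (p : ℕ) (H : Subgroup G) [hH : H.Normal] : (omegaZ p H).Normal := by
  constructor
  intro z hz g
  have := zOf_normal H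
  exact ⟨this.conj_mem z hz.1 g, by rw [conj_pow, hz.2, mul_one, mul_inv_cancel]⟩

theorem le_centralizer_omegaZ (p : ℕ) (H : Subgroup G) :
    H ≤ Subgroup.centralizer (omegaZ p H : Set G) := by
  intro h hh
  rw [Subgroup.mem_centralizer_iff]
  intro z hz
  exact ((mem_zOf.1 hz.1).2 h hh).symm

/-- A `p'`-element normalizing an abelian `p`-group `V` and centralizing `Ω₁(V)` centralizes `V`. -/
theorem commute_of_commute_omega {p : ℕ} {V : Subgroup G}
    (hVc : ∀ a ∈ V, ∀ b ∈ V, a * b = b * a) (hVp : IsPGroup p V) {k : G}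
    (hkn : k ∈ Subgroup.normalizer (V : Set G)) (hk : (orderOf k).Coprime p)
    (hΩ : ∀ v ∈ V, v ^ p = 1 → k * v = v * k) : ∀ v ∈ V, k * v = v * k := by
  have key : ∀ n : ℕ, ∀ v ∈ V, v ^ (p ^ n) = 1 → k * v = v * k := by
    intro n
    induction n with
    | zero =>
      intro v _ hv
      rw [pow_zero, pow_one] at hv
      rw [hv, mul_one, one_mul]
    | succ n ih =>
      intro v hv hvn
      have hvp : k * v ^ p = v ^ p * k := by
        apply ih _ (pow_mem hv p)
        rw [← pow_mul, ← pow_succ']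
        exact hvn
      have hkv : k * v * k⁻¹ ∈ V := (Subgroup.mem_normalizer_iff.1 hkn v).1 hv
      set u := k * v * k⁻¹ * v⁻¹ with hu
      have huV : u ∈ V := mul_mem hkv (inv_mem hv)
      have hup : u ^ p = 1 := by
        have hc : Commute (k * v * k⁻¹) v⁻¹ := hVc _ hkv _ (inv_mem hv)
        rw [hu, hc.mul_pow, conj_pow, inv_pow]
        have : k * v ^ p * k⁻¹ = v ^ p := by rw [hvp]; group
        rw [this, mul_inv_cancel]
      have hku : k * u = u * k := hΩ u huV hup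
      have hkv' : k * v = u * v * k := by rw [hu]; group
      have hpow : ∀ j : ℕ, k ^ j * v = u ^ j * v * k ^ j := by
        intro j
        induction j with
        | zero => simp
        | succ j ihj =>
          have hkuj : k * u ^ j = u ^ j * k := (Commute.pow_right hku j)
          calc k ^ (j + 1) * v = k * (k ^ j * v) := by rw [pow_succ']; group
            _ = k * (u ^ j * v * k ^ j) := by rw [ihj]
            _ = (k * u ^ j) * v * k ^ j := by group
            _ = u ^ j * (k * v) * k ^ j := by rw [hkuj]; group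
            _ = u ^ j * (u * v * k) * k ^ j := by rw [hkv']
            _ = u ^ (j + 1) * v * k ^ (j + 1) := by rw [pow_succ, pow_succ']; group
      have h1 := hpow (orderOf k)
      rw [pow_orderOf_eq_one, one_mul, mul_one] at h1
      have hum : u ^ orderOf k = 1 := by
        have : u ^ orderOf k * v = 1 * v := by rw [one_mul]; exact h1.symm
        exact mul_right_cancel this
      have hu1 : u = 1 := by
        have hd1 : orderOf u ∣ orderOf k := orderOf_dvd_of_pow_eq_one hum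
        have hd2 : orderOf u ∣ p := orderOf_dvd_of_pow_eq_one hup
        have : orderOf u = 1 := Nat.eq_one_of_dvd_coprimes hk hd1 hd2
        exact orderOf_eq_one_iff.1 this
      rw [hkv', hu1, one_mul]
  intro v hv
  obtain ⟨n, hn⟩ := hVp ⟨v, hv⟩
  exact key n v hv (congrArg Subtype.val hn)

end omega

/-! ### the structure of the minimal counterexample -/

section

variable {p : ℕ} [Fact p.Prime] {G : Type u} [Group G] [Finite G]

theorem red_exists_K {H : Subgroup G} [H.Normal] (P : Sylow p G) (hq : PNil p (G ⧸ H)) :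
    ∃ K : Subgroup G, K.Normal ∧ H ≤ K ∧ (∀ k ∈ K, ∃ m : ℕ, m.Coprime p ∧ k ^ m ∈ H) ∧
      (∀ g : G, ∃ j : ℕ, g ^ (p ^ j) ∈ K) ∧ (P : Subgroup G) ⊓ K ≤ H ∧
      (P : Subgroup G) ⊔ K = ⊤ := by
  have hp : p.Prime := Fact.out
  obtain ⟨N, hN, h1, h2⟩ := hq
  have hKc : ∀ k ∈ N.comap (QuotientGroup.mk' H), ∃ m : ℕ, m.Coprime p ∧ k ^ m ∈ H := by
    intro k hk
    refine ⟨orderOf (QuotientGroup.mk' H k), h1 _ hk, ?_⟩
    rw [← QuotientGroup.eq_one_iff, ← QuotientGroup.mk'_apply, map_pow, pow_orderOf_eq_one]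
  have hKp : ∀ g : G, ∃ j : ℕ, g ^ (p ^ j) ∈ N.comap (QuotientGroup.mk' H) := by
    intro g
    obtain ⟨j, hj⟩ := h2 (QuotientGroup.mk' H g)
    exact ⟨j, by rw [Subgroup.mem_comap, map_pow]; exact hj⟩
  have hKn : (N.comap (QuotientGroup.mk' H)).Normal := inferInstance
  refine ⟨N.comap (QuotientGroup.mk' H), hKn, ?_, hKc, hKp, ?_, ?_⟩
  · intro x hx
    rw [Subgroup.mem_comap, QuotientGroup.mk'_apply, (QuotientGroup.eq_one_iff x).2 hx]
    exact one_mem _
  · rintro x ⟨hxP, hxK⟩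
    obtain ⟨m, hm, hxm⟩ := hKc x hxK
    exact mem_of_pgroup_of_pow_mem P.isPGroup' hxP hm hxm
  · set K := N.comap (QuotientGroup.mk' H) with hK
    have hQp : IsPGroup p (G ⧸ K) := by
      intro g'
      obtain ⟨g, rfl⟩ := QuotientGroup.mk'_surjective K g'
      obtain ⟨j, hj⟩ := hKp g
      refine ⟨j, ?_⟩
      rw [← map_pow, QuotientGroup.mk'_apply, QuotientGroup.eq_one_iff]
      exact hj
    obtain ⟨n, hn⟩ := IsPGroup.iff_card.1 hQp
    rw [← Subgroup.index_eq_card] at hn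
    have hdvd : ((P : Subgroup G) ⊔ K).index ∣ p ^ n := hn ▸ Subgroup.index_dvd_of_le le_sup_right
    have hdvd2 : ((P : Subgroup G) ⊔ K).index ∣ (P : Subgroup G).index :=
      Subgroup.index_dvd_of_le le_sup_left
    obtain ⟨i, -, hi⟩ := (Nat.dvd_prime_pow hp).1 hdvd
    rw [← Subgroup.index_eq_one, hi]
    rcases Nat.eq_zero_or_pos i with h0 | hpos
    · rw [h0, pow_zero]
    · exfalso
      apply P.not_dvd_index
      refine Dvd.dvd.trans ?_ hdvd2
      rw [hi]
      exact dvd_pow_self p hpos.ne'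

theorem red_centralizer_le {H K : Subgroup G} [H.Normal] [K.Normal]
    (hnormal_p : ∀ R : Subgroup G, R.Normal → IsPGroup p R → R ≤ H)
    (hnoD : ∀ D : Subgroup G, D.Normal → (∀ d ∈ D, (orderOf d).Coprime p) → D = ⊥)
    (hKc : ∀ k ∈ K, ∃ m : ℕ, m.Coprime p ∧ k ^ m ∈ H)
    (hKp : ∀ g : G, ∃ j : ℕ, g ^ (p ^ j) ∈ K) :
    Subgroup.centralizer (H : Set G) ≤ H := by
  have hCn : (Subgroup.centralizer (H : Set G)).Normal := Subgroup.normal_centralizer
  set E := Subgroup.centralizer (H : Set G) ⊓ K with hE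
  have hEn : E.Normal := inferInstance
  obtain ⟨T⟩ : Nonempty (Sylow p ↥E) := inferInstance
  have hTc : (T : Subgroup ↥E) ≤ Subgroup.center ↥E := by
    intro t ht
    rw [Subgroup.mem_center_iff]
    intro e
    have htE : (t : G) ∈ E := t.2
    obtain ⟨m, hm, htm⟩ := hKc (t : G) htE.2
    have htH : (t : G) ∈ H := by
      have hTp : IsPGroup p ((T : Subgroup ↥E).map E.subtype) := T.isPGroup'.map _
      exact mem_of_pgroup_of_pow_mem hTp ⟨t, ht, rfl⟩ hm htm
    have heC : (e : G) ∈ Subgroup.centralizer (H : Set G) := e.2.1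
    apply Subtype.ext
    exact (Subgroup.mem_centralizer_iff.1 heC (t : G) htH).symm
  obtain ⟨K₀, hK₀n, hK₀, -⟩ := Cfsg.Agent.Lib.helper40.central_sylow_pprime_subgroup T hTc
  have hDmem : ∀ d : G, d ∈ K₀.map E.subtype ↔ d ∈ E ∧ (orderOf d).Coprime p := by
    intro d
    constructor
    · rintro ⟨x, hx, rfl⟩
      refine ⟨x.2, ?_⟩
      rw [Subgroup.coe_subtype, Subgroup.orderOf_coe]
      exact (hK₀ x).1 hx
    · rintro ⟨hdE, hd⟩
      refine ⟨⟨d, hdE⟩, (hK₀ _).2 ?_, rfl⟩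
      rw [← Subgroup.orderOf_coe]
      exact hd
  have hDn : (K₀.map E.subtype).Normal := by
    constructor
    intro d hd g
    rw [hDmem] at hd ⊢
    refine ⟨hEn.conj_mem d hd.1 g, ?_⟩
    have h1 : orderOf ((MulAut.conj g).toMonoidHom d) = orderOf d :=
      orderOf_injective _ (MulAut.conj g).injective d
    have h2 : (MulAut.conj g).toMonoidHom d = g * d * g⁻¹ := rfl
    rw [← h2, h1]
    exact hd.2
  have hDbot := hnoD _ hDn (fun d hd => ((hDmem d).1 hd).2)
  have hEp : IsPGroup p ↥E := by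
    apply Cfsg.Agent.Lib.helper54.isPGroup_of_forall_coprime_eq_one
    intro d hd
    have h1 : (d : G) ∈ K₀.map E.subtype :=
      (hDmem _).2 ⟨d.2, by rw [Subgroup.orderOf_coe]; exact hd⟩
    rw [hDbot, Subgroup.mem_bot] at h1
    exact Subtype.ext h1
  have hCp : IsPGroup p ↥(Subgroup.centralizer (H : Set G)) := by
    intro c
    obtain ⟨j, hj⟩ := hKp (c : G)
    have hcE : (c : G) ^ (p ^ j) ∈ E := ⟨pow_mem c.2 _, hj⟩
    obtain ⟨i, hi⟩ := hEp ⟨_, hcE⟩
    refine ⟨j + i, ?_⟩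
    apply Subtype.ext
    have h1 : ((c : G) ^ (p ^ j)) ^ (p ^ i) = 1 := congrArg Subtype.val hi
    rw [Subgroup.coe_pow, Subgroup.coe_one, pow_add, pow_mul]
    exact h1
  exact hnormal_p _ hCn hCp

theorem red_faithful {H K : Subgroup G} [hH : H.Normal] [hK : K.Normal] (P : Sylow p G)
    (hHP : H ≤ P) (hnormal_p : ∀ R : Subgroup G, R.Normal → IsPGroup p R → R ≤ H)
    (hPK : (P : Subgroup G) ⊔ K = ⊤) {a : G} (ha : a ∈ (P : Subgroup G))
    (hak : ∀ k ∈ K, ⁅a, k⁆ ∈ H) : a ∈ H := by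
  have hKmap : (K.map (QuotientGroup.mk' H)).Normal :=
    hK.map _ (QuotientGroup.mk'_surjective H)
  set E : Subgroup G := (Subgroup.centralizer
    ((K.map (QuotientGroup.mk' H) : Subgroup (G ⧸ H)) : Set (G ⧸ H))).comap (QuotientGroup.mk' H)
    with hE
  have hEn : E.Normal := inferInstance
  have hmemE : ∀ x : G, x ∈ E ↔ ∀ k ∈ K, ⁅x, k⁆ ∈ H := by
    intro x
    rw [hE, Subgroup.mem_comap, Subgroup.mem_centralizer_iff]
    constructor
    · intro h k hk
      have h1 := h _ ⟨k, hk, rfl⟩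
      rw [← QuotientGroup.eq_one_iff, ← QuotientGroup.mk'_apply, map_commutatorElement,
        commutatorElement_eq_one_iff_mul_comm]
      exact h1.symm
    · rintro h _ ⟨k, hk, rfl⟩
      have h1 := h k hk
      rw [← QuotientGroup.eq_one_iff, ← QuotientGroup.mk'_apply, map_commutatorElement,
        commutatorElement_eq_one_iff_mul_comm] at h1
      exact h1.symm
  set R : Subgroup G := (P : Subgroup G) ⊓ E with hR
  have hHR : H ≤ R := by
    intro h hh
    refine ⟨hHP hh, (hmemE h).2 (fun k _ => ?_)⟩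
    have : ⁅h, k⁆ = h * (k * h⁻¹ * k⁻¹) := by rw [commutatorElement_def]; group
    rw [this]
    exact mul_mem hh (hH.conj_mem _ (inv_mem hh) k)
  have hRp : IsPGroup p R := P.isPGroup'.to_le inf_le_left
  have hPn : (P : Subgroup G) ≤ Subgroup.normalizer (R : Set G) := by
    intro x hx
    apply mem_normalizer_of_conj_le
    rintro _ ⟨r, hr, rfl⟩
    have h1 : x * r * x⁻¹ ∈ (P : Subgroup G) :=
      (P : Subgroup G).mul_mem ((P : Subgroup G).mul_mem hx hr.1) ((P : Subgroup G).inv_mem hx)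
    exact ⟨h1, hEn.conj_mem r hr.2 x⟩
  have hKn : K ≤ Subgroup.normalizer (R : Set G) := by
    intro k hk
    apply mem_normalizer_of_conj_le
    rintro _ ⟨r, hr, rfl⟩
    have h1 : ⁅r, k⁆ ∈ H := (hmemE r).1 hr.2 k hk
    have h2 : (MulAut.conj k).toMonoidHom r = ⁅r, k⁆⁻¹ * r := by
      show k * r * k⁻¹ = ⁅r, k⁆⁻¹ * r
      rw [commutatorElement_def]; group
    rw [h2]
    exact R.mul_mem (hHR (H.inv_mem h1)) hr
  have hRn : R.Normal := by
    rw [← Subgroup.normalizer_eq_top_iff, eq_top_iff, ← hPK]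
    exact sup_le hPn hKn
  exact hnormal_p R hRn hRp ⟨ha, (hmemE a).2 hak⟩

theorem red_K_comm {H K : Subgroup G} [hH : H.Normal] [hK : K.Normal] (hHp : IsPGroup p H)
    (hHK : H ≤ K) (hKne : K ≠ H) (P : Sylow p G)
    (hKc : ∀ k ∈ K, ∃ m : ℕ, m.Coprime p ∧ k ^ m ∈ H)
    (hbetween : ∀ L : Subgroup G, H ≤ L → L ≤ K →
      (P : Subgroup G) ≤ Subgroup.normalizer (L : Set G) → L ≠ K → L = H) :
    ∀ x ∈ K, ∀ y ∈ K, ⁅x, y⁆ ∈ H := by
  have hp : p.Prime := Fact.out
  -- Step A: p ∤ |K : H|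
  have hrel : ¬ p ∣ H.relIndex K := by
    obtain ⟨T'⟩ : Nonempty (Sylow p ↥K) := inferInstance
    have h0 : IsPGroup p (H.subgroupOf K) :=
      hHp.comap_of_injective _ (Subgroup.subtype_injective _)
    have hn : (H.subgroupOf K).Normal := inferInstance
    have h1 : H.subgroupOf K ≤ T' := h0.le_sylow_of_normal T'
    have h2 : (T' : Subgroup ↥K) ≤ H.subgroupOf K := by
      intro t ht
      rw [Subgroup.mem_subgroupOf]
      obtain ⟨m, hm, htm⟩ := hKc (t : G) t.2
      have hTp : IsPGroup p ((T' : Subgroup ↥K).map K.subtype) := T'.isPGroup'.map _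
      exact mem_of_pgroup_of_pow_mem hTp ⟨t, ht, rfl⟩ hm htm
    have h3 : (T' : Subgroup ↥K) = H.subgroupOf K := le_antisymm h2 h1
    have h4 := T'.not_dvd_index
    rw [h3] at h4
    exact h4
  have hr1 : H.relIndex K ≠ 1 := by
    intro h
    exact hKne (le_antisymm (Subgroup.relIndex_eq_one.1 h) hHK)
  set q := (H.relIndex K).minFac with hq
  have hqp : q.Prime := Nat.minFac_prime hr1
  have : Fact q.Prime := ⟨hqp⟩
  have hqdvd : q ∣ H.relIndex K := Nat.minFac_dvd _
  have hqne : q ≠ p := fun h => hrel (h ▸ hqdvd)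
  -- Step C
  obtain ⟨Q'⟩ : Nonempty (Sylow q ↥K) := inferInstance
  set Q₀ : Subgroup G := (Q' : Subgroup ↥K).map K.subtype with hQ₀
  have hQ₀q : IsPGroup q Q₀ := Q'.isPGroup'.map _
  have hQ₀K : Q₀ ≤ K := Subgroup.map_subtype_le _
  have hfrat : Subgroup.normalizer (Q₀ : Set G) ⊔ K = ⊤ := Sylow.normalizer_sup_eq_top Q'
  have hHQ : ∀ h ∈ H, h ∈ Q₀ → h = 1 := by
    intro h hh hhQ
    obtain ⟨k, hk⟩ := (IsPGroup.iff_orderOf.1 hQ₀q) ⟨h, hhQ⟩
    rw [Subgroup.orderOf_mk] at hk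
    apply eq_one_of_mem_pgroup_of_coprime hHp hh
    rw [hk]
    exact Nat.Coprime.pow_left k ((Nat.coprime_primes hqp hp).2 hqne)
  have hQ₀ne : Q₀ ≠ ⊥ := by
    intro h
    have h1 : Nat.card Q₀ = q ^ (Nat.card ↥K).factorization q := by
      rw [hQ₀, Subgroup.card_subtype]; exact Q'.card_eq_multiplicity
    rw [h, Subgroup.card_bot] at h1
    have h2 : q ∣ Nat.card ↥K := hqdvd.trans (Subgroup.relIndex_dvd_card H K)
    have h3 : 0 < (Nat.card ↥K).factorization q :=
      hqp.factorization_pos_of_dvd Nat.card_pos.ne' h2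
    have h4 : 1 < q ^ (Nat.card ↥K).factorization q := Nat.one_lt_pow h3.ne' hqp.one_lt
    omega
  have hKeq : K = H ⊔ Q₀ := by
    set L₀ := H ⊔ Q₀ with hL₀
    have hL₀K : L₀ ≤ K := sup_le hHK hQ₀K
    have hNle : Subgroup.normalizer (Q₀ : Set G) ≤ Subgroup.normalizer (L₀ : Set G) := by
      intro g hg
      apply mem_normalizer_of_conj_le
      rw [hL₀, Subgroup.map_sup, conj_eq_self_of_mem_normalizer hg]
      refine sup_le_sup_right ?_ _
      rintro _ ⟨h, hh, rfl⟩
      exact hH.conj_mem h hh g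
    set M := Subgroup.normalizer (L₀ : Set G) with hM
    have hMK : M ⊔ K = ⊤ := by
      rw [eq_top_iff, ← hfrat]
      exact sup_le_sup_right hNle K
    have hMidx : ¬ p ∣ M.index := by
      have h1 : M.index = M.relIndex K := by
        rw [← Subgroup.relIndex_top_right, ← hMK]
        exact Cfsg.Agent.Lib.helper67.relIndex_sup_eq_of_normal M K
      have h2 : M.relIndex K ∣ L₀.relIndex K :=
        Subgroup.relIndex_dvd_of_le_left K Subgroup.le_normalizer
      have h3 : L₀.relIndex K ∣ H.relIndex K := Subgroup.relIndex_dvd_of_le_left K le_sup_left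
      intro h
      exact hrel ((h1 ▸ h).trans (h2.trans h3))
    obtain ⟨T'⟩ : Nonempty (Sylow p ↥M) := inferInstance
    set T₁ : Subgroup G := (T' : Subgroup ↥M).map M.subtype with hT₁
    have hT₁p : IsPGroup p T₁ := T'.isPGroup'.map _
    have hT₁M : T₁ ≤ M := Subgroup.map_subtype_le _
    have hfac : (Nat.card ↥M).factorization p = (Nat.card G).factorization p := by
      have h1 := Subgroup.card_mul_index M
      rw [← h1, Nat.factorization_mul Nat.card_pos.ne' (Subgroup.index_ne_zero_of_finite),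
        Finsupp.add_apply, Nat.factorization_eq_zero_of_not_dvd hMidx, add_zero]
    obtain ⟨P', hT₁P'⟩ := hT₁p.exists_le_sylow
    have hcard : Nat.card (P' : Subgroup G) ≤ Nat.card T₁ := by
      rw [hT₁, Subgroup.card_subtype, T'.card_eq_multiplicity, P'.card_eq_multiplicity, hfac]
    have hT₁eq : T₁ = P' := Subgroup.eq_of_le_of_card_ge hT₁P' hcard
    have hP'M : (P' : Subgroup G) ≤ M := hT₁eq ▸ hT₁M
    obtain ⟨g, hg⟩ := MulAction.exists_smul_eq G P P'
    have hPg : (P' : Subgroup G) = (P : Subgroup G).map (MulAut.conj g).toMonoidHom := by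
      rw [← hg, Sylow.coe_subgroup_smul]; rfl
    set L := L₀.map (MulAut.conj g⁻¹).toMonoidHom with hL
    have hback : L.map (MulAut.conj g).toMonoidHom = L₀ := by
      rw [hL, conj_conj, mul_inv_cancel, conj_one]
    have hPL : (P : Subgroup G) ≤ Subgroup.normalizer (L : Set G) := by
      rw [hL, normalizer_conj]
      intro x hx
      have h1 : g * x * g⁻¹ ∈ M := hP'M (hPg ▸ ⟨x, hx, rfl⟩)
      refine ⟨g * x * g⁻¹, h1, ?_⟩
      show g⁻¹ * (g * x * g⁻¹) * g⁻¹⁻¹ = x
      group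
    have hHL : H ≤ L := by
      intro h hh
      refine ⟨g * h * g⁻¹, le_sup_left (a := H) (b := Q₀) (hH.conj_mem h hh g), ?_⟩
      show g⁻¹ * (g * h * g⁻¹) * g⁻¹⁻¹ = h
      group
    have hLK : L ≤ K := by
      rintro _ ⟨l, hl, rfl⟩
      exact hK.conj_mem l (hL₀K hl) g⁻¹
    have hLH : L ≠ H := by
      intro h
      have h1 : L₀ = H := by
        rw [← hback, h]
        exact conj_eq_self_of_mem_normalizer
          (by rw [Subgroup.normalizer_eq_top_iff.2 hH]; exact Subgroup.mem_top g)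
      obtain ⟨⟨x, hx⟩, hx1⟩ := (Subgroup.ne_bot_iff_exists_ne_one).1 hQ₀ne
      apply hx1
      apply Subtype.ext
      exact hHQ x (h1 ▸ (le_sup_right (a := H) (b := Q₀) hx)) hx
    have hLeq : L = K := by
      by_contra hne
      exact hLH (hbetween L hHL hLK hPL hne)
    rw [← hback, hLeq]
    exact (conj_eq_self_of_mem_normalizer
      (by rw [Subgroup.normalizer_eq_top_iff.2 hK]; exact Subgroup.mem_top g)).symm
  -- Step D
  have hcomm_le : ⁅K, K⁆ ≤ K := Subgroup.commutator_le_self K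
  have hL₁n : (H ⊔ ⁅K, K⁆).Normal := inferInstance
  by_cases hL₁ : H ⊔ ⁅K, K⁆ = K
  · exfalso
    -- Q₀ ≤ ⁅Q₀, Q₀⁆
    have hmapK : K.map (QuotientGroup.mk' H) = Q₀.map (QuotientGroup.mk' H) := by
      rw [hKeq, Subgroup.map_sup]
      have : H.map (QuotientGroup.mk' H) = ⊥ := by
        rw [Subgroup.map_eq_bot_iff, QuotientGroup.ker_mk']
      rw [this, bot_sup_eq]
    have h1 : ⁅K, K⁆ ≤ H ⊔ ⁅Q₀, Q₀⁆ := by
      have h2 : (⁅K, K⁆).map (QuotientGroup.mk' H) = (⁅Q₀, Q₀⁆).map (QuotientGroup.mk' H) := by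
        rw [Subgroup.map_commutator, Subgroup.map_commutator, hmapK]
      have h3 : ⁅K, K⁆ ≤ ((⁅K, K⁆).map (QuotientGroup.mk' H)).comap (QuotientGroup.mk' H) :=
        Subgroup.le_comap_map _ _
      rw [h2, Subgroup.comap_map_eq, QuotientGroup.ker_mk', sup_comm] at h3
      exact h3
    have h4 : K ≤ H ⊔ ⁅Q₀, Q₀⁆ := by
      rw [← hL₁]
      exact sup_le le_sup_left h1
    have h5 : Q₀ ≤ ⁅Q₀, Q₀⁆ := by
      intro x hx
      have hx' : x ∈ (H : Set G) * ((⁅Q₀, Q₀⁆ : Subgroup G) : Set G) := by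
        rw [← Subgroup.normal_mul]
        exact h4 (hQ₀K hx)
      obtain ⟨h, hh, c, hc, rfl⟩ := hx'
      have hh : h ∈ H := hh
      have hc : c ∈ ⁅Q₀, Q₀⁆ := hc
      have hhQ : h ∈ Q₀ := by
        have : h = h * c * c⁻¹ := by group
        rw [this]
        exact mul_mem hx (inv_mem (Subgroup.commutator_le_self Q₀ hc))
      have hfin : h * c = c := by rw [hHQ h hh hhQ, one_mul]
      show h * c ∈ ⁅Q₀, Q₀⁆
      rw [hfin]
      exact hc
    have : Nontrivial ↥Q₀ := (Subgroup.nontrivial_iff_ne_bot Q₀).2 hQ₀ne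
    have : Group.IsNilpotent ↥Q₀ := hQ₀q.isNilpotent
    have h6 := Group.IsSolvable.commutator_lt_top_of_nontrivial ↥Q₀
    apply h6.ne
    rw [eq_top_iff]
    intro x _
    have h7 : (x : G) ∈ ⁅Q₀, Q₀⁆ := h5 x.2
    rw [← Subgroup.map_subtype_commutator] at h7
    obtain ⟨c, hc, hcx⟩ := h7
    have : c = x := Subtype.ext hcx
    rwa [← this]
  · have h1 := hbetween (H ⊔ ⁅K, K⁆) le_sup_left (sup_le hHK hcomm_le)
      (by rw [Subgroup.normalizer_eq_top_iff.2 hL₁n]; exact le_top) hL₁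
    intro x hx y hy
    have h2 : ⁅x, y⁆ ∈ H ⊔ ⁅K, K⁆ := le_sup_right (a := H) (Subgroup.commutator_mem_commutator hx hy)
    rw [h1] at h2
    exact h2

theorem red_centralizer_omegaZ_le {H K : Subgroup G} [hH : H.Normal] [hK : K.Normal]
    (hHp : IsPGroup p H) (hHK : H ≤ K) (hKne : K ≠ H) (P : Sylow p G)
    (hTh : ThHyp p (P : Subgroup G))
    (hcent : Subgroup.centralizer (H : Set G) ≤ H)
    (hpnil_eq : ∀ M : Subgroup G, (P : Subgroup G) ≤ M → PNil p ↥M → M = P)
    (hnormal_p : ∀ R : Subgroup G, R.Normal → IsPGroup p R → R ≤ H)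
    (hKp : ∀ g : G, ∃ j : ℕ, g ^ (p ^ j) ∈ K) (hPKinf : (P : Subgroup G) ⊓ K ≤ H)
    (hbetween : ∀ L : Subgroup G, H ≤ L → L ≤ K →
      (P : Subgroup G) ≤ Subgroup.normalizer (L : Set G) → L ≠ K → L = H) :
    Subgroup.centralizer (omegaZ p H : Set G) ≤ H := by
  have hHP : H ≤ P := hHp.le_sylow_of_normal P
  have hWn : (omegaZ p H).Normal := omegaZ_normal p H
  have hCn : (Subgroup.centralizer (omegaZ p H : Set G)).Normal := Subgroup.normal_centralizer
  set C₁ := Subgroup.centralizer (omegaZ p H : Set G) with hC₁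
  have hLn : (C₁ ⊓ K).Normal := inferInstance
  have hHL : H ≤ C₁ ⊓ K := le_inf (le_centralizer_omegaZ p H) hHK
  by_cases hL : C₁ ⊓ K = K
  · exfalso
    apply hKne
    apply le_antisymm _ hHK
    apply hnormal_p K hK
    apply Cfsg.Agent.Lib.helper54.isPGroup_of_forall_coprime_eq_one
    intro d hd
    rw [← Subgroup.orderOf_coe] at hd
    have hdC : (d : G) ∈ C₁ := (hL.ge d.2).1
    have hZn : (zOf H).Normal := zOf_normal H
    have hcomm : ∀ v ∈ zOf H, (d : G) * v = v * (d : G) := by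
      apply commute_of_commute_omega (p := p)
        (fun a ha b hb => ((mem_zOf.1 ha).2 b (zOf_le H hb)).symm) (hHp.to_le (zOf_le H))
        (by rw [Subgroup.normalizer_eq_top_iff.2 hZn]; exact Subgroup.mem_top _) hd
      intro v hv hvp
      exact ((Subgroup.mem_centralizer_iff.1 hdC) v ⟨hv, hvp⟩).symm
    have hdP : (d : G) ∈ Subgroup.centralizer (zOf (P : Subgroup G) : Set G) := by
      rw [Subgroup.mem_centralizer_iff]
      intro z hz
      obtain ⟨hzP, hzc⟩ := mem_zOf.1 hz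
      have hzH : z ∈ H := by
        apply hcent
        rw [Subgroup.mem_centralizer_iff]
        intro h hh
        exact hzc h (hHP hh)
      exact (hcomm z (mem_zOf.2 ⟨hzH, fun s hs => hzc s (hHP hs)⟩)).symm
    have hCP := hpnil_eq _ (le_centralizer_zOf (P : Subgroup G)) hTh.1
    rw [hCP] at hdP
    have hdH : (d : G) ∈ H := hPKinf ⟨hdP, d.2⟩
    exact Subtype.ext (eq_one_of_mem_pgroup_of_coprime hHp hdH hd)
  · have h1 := hbetween (C₁ ⊓ K) hHL inf_le_right
      (by rw [Subgroup.normalizer_eq_top_iff.2 hLn]; exact le_top) hL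
    have hCp : IsPGroup p ↥C₁ := by
      intro c
      obtain ⟨j, hj⟩ := hKp (c : G)
      have hcH : (c : G) ^ (p ^ j) ∈ H := by rw [← h1]; exact ⟨pow_mem c.2 _, hj⟩
      obtain ⟨i, hi⟩ := hHp ⟨_, hcH⟩
      refine ⟨j + i, ?_⟩
      apply Subtype.ext
      have h2 : ((c : G) ^ (p ^ j)) ^ (p ^ i) = 1 := congrArg Subtype.val hi
      rw [Subgroup.coe_pow, Subgroup.coe_one, pow_add, pow_mul]
      exact h2
    exact hnormal_p C₁ hCn hCp

theorem red_exists_not_le {H : Subgroup G} [hH : H.Normal] (P : Sylow p G) (hHP : H ≤ P)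
    (hJ : Subgroup.normalizer (Cfsg.thompsonSubgroupAOf (P : Subgroup G) : Set G) ≠ ⊤) :
    ∃ A ∈ famE 0 (P : Subgroup G), ¬ A ≤ H := by
  by_contra hcon
  push Not at hcon
  apply hJ
  rw [eq_top_iff]
  intro g _
  apply mem_normalizer_of_conj_le
  rw [thompsonA_eq_sSup, Subgroup.map_le_iff_le_comap, sSup_le_iff]
  intro A hA
  rw [← Subgroup.map_le_iff_le_comap]
  apply le_sSup
  refine ⟨?_, goodE_map hA.2.1 _, fun B hB hBg => ?_⟩
  · rintro _ ⟨a, ha, rfl⟩
    exact hHP (hH.conj_mem a (hcon A hA ha) g)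
  · rw [Subgroup.card_map_of_injective (MulAut.conj g).injective]
    exact hA.2.2 B hB hBg

/-- The minimal configuration. -/
structure MinConf (p : ℕ) {G : Type*} [Group G] (P : Sylow p G) (H K : Subgroup G) : Prop where
  hH : H.Normal
  hK : K.Normal
  hHp : IsPGroup p H
  hHK : H ≤ K
  cent : Subgroup.centralizer (H : Set G) ≤ H
  coprime : ∀ k ∈ K, ∃ m : ℕ, m.Coprime p ∧ k ^ m ∈ H
  comm : ∀ x ∈ K, ∀ y ∈ K, ⁅x, y⁆ ∈ H
  faithful : ∀ a ∈ (P : Subgroup G), (∀ k ∈ K, ⁅a, k⁆ ∈ H) → a ∈ H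
  centW : Subgroup.centralizer (omegaZ p H : Set G) ≤ H
  exA : ∃ A ∈ famE 0 (P : Subgroup G), ¬ A ≤ H

theorem exists_minConf (ih : ThIH.{u} p (Nat.card G))
    (s4 : p ≠ 2 ∨ ¬ Cfsg.Involves (Equiv.Perm (Fin 4)) G)
    (P : Sylow p G) (hTh : ThHyp p (P : Subgroup G)) (hnot : ¬ PNil p G) :
    ∃ H K : Subgroup G, MinConf p P H K := by
  obtain ⟨H, hbad, hmax⟩ := exists_max_bad hnot
  have hHn := red_normalizer_eq_top ih s4 P hTh hbad hmax
  have hHnorm : H.Normal := Subgroup.normalizer_eq_top_iff.1 hHn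
  have hnormal_p := red_normal_p_le hnot hbad hmax hHn
  have hHP : H ≤ P := hbad.1.le_sylow_of_normal P
  have hq := red_pnil_quot ih s4 hbad.1 hbad.2.1 P
    (fun H₁ h1 h2 h3 h4 => red_pnil_big hmax hHn P H₁ h1 h2 h3 h4)
  obtain ⟨K, hKn, hHK, hKc, hKp, hPKinf, hPKsup⟩ := red_exists_K P hq
  have := hKn
  have hnoD : ∀ D : Subgroup G, D.Normal → (∀ d ∈ D, (orderOf d).Coprime p) → D = ⊥ :=
    fun D hDn hD => by
      have := hDn
      exact red_no_pprime_normal ih s4 hnot P hTh D hD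
  have hcent := red_centralizer_le hnormal_p hnoD hKc hKp
  have hpnil_eq := red_pnil_eq hbad.1 hcent P
  have hbetween := red_between ih s4 P hTh hpnil_eq hPKinf
  have hPtop : (P : Subgroup G) ≠ ⊤ := by
    intro h
    apply hnot
    have h1 : PNil p ↥(P : Subgroup G) := pnil_of_isPGroup P.isPGroup'
    rw [h] at h1
    exact pnil_top_iff.1 h1
  have hKne : K ≠ H := by
    intro h
    apply hPtop
    rw [h, sup_eq_left.2 hHP] at hPKsup
    exact hPKsup
  have hcomm := red_K_comm hbad.1 hHK hKne P hKc hbetween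
  have hfaith : ∀ a ∈ (P : Subgroup G), (∀ k ∈ K, ⁅a, k⁆ ∈ H) → a ∈ H :=
    fun a ha hak => red_faithful P hHP hnormal_p hPKsup ha hak
  have hcentW := red_centralizer_omegaZ_le hbad.1 hHK hKne P hTh hcent hpnil_eq hnormal_p hKp
    hPKinf hbetween
  have hJ : Subgroup.normalizer (Cfsg.thompsonSubgroupAOf (P : Subgroup G) : Set G) ≠ ⊤ := by
    have h1 := hpnil_eq _ (Subgroup.le_normalizer.trans
      (normalizer_le_normalizer_thompsonA (P : Subgroup G))) hTh.2
    rw [h1]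
    exact hPtop
  exact ⟨H, K, ⟨hHnorm, hKn, hbad.1, hHK, hcent, hKc, hcomm, hfaith, hcentW,
    red_exists_not_le P hHP hJ⟩⟩

end

end Cfsg.Agent.Lib.helper51
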