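import Mathlib
import Cfsg.Agent.Lib.helper51.TRed3
import Cfsg.Agent.Lib.helper57.Replacement
import Cfsg.Agent.Lib.helper67.Frobenius
import Cfsg.Agent.Lib.lead.Quadratic

/-!
# Thompson replacement for the minimal configuration, and the odd endgame
-/

set_option autoImplicit false

namespace Cfsg.Agent.Lib.helper51

open Cfsg.Agent.Lib.helper53 Cfsg.Agent.Lib.helper14 Cfsg.Agent.Lib.helper57
open scoped commutatorElement

section repl

variable {G : Type*} [Group G] [Finite G] {p : ℕ} [Fact p.Prime]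

/-- One Thompson replacement step: if the abelian subgroup `W`, normalized by `P`, does not
normalize `A ∈ 𝒜(P)`, there is `B ∈ 𝒜(P)` normalizing `A` with `A ∩ W < B ∩ W`. -/
theorem repl_step (P : Subgroup G) (hP : IsPGroup p P) (W : Subgroup G) (hWP : W ≤ P)
    (hWn : P ≤ Subgroup.normalizer (W : Set G))
    (hWc : ∀ a ∈ W, ∀ b ∈ W, a * b = b * a)
    {A : Subgroup G} (hA : A ∈ famE 0 P) (hnot : ¬ W ≤ Subgroup.normalizer (A : Set G)) :
    ∃ B ∈ famE 0 P, B ≤ Subgroup.normalizer (A : Set G) ∧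
      Nat.card ↥(A ⊓ W) < Nat.card ↥(B ⊓ W) := by
  have hAP : A ≤ P := hA.1
  have hAW : A ≤ Subgroup.normalizer (W : Set G) := hAP.trans hWn
  set N : Subgroup G := W ⊓ Subgroup.normalizer (A : Set G) with hN
  have hNA : N ≤ Subgroup.normalizer (A : Set G) := inf_le_right
  have hNW : N ≤ W := inf_le_left
  have hAI : A ≤ A ⊔ N := le_sup_left
  -- `W ∩ AN = N`
  have hWI : ∀ w ∈ W, w ∈ A ⊔ N → w ∈ N := by
    intro w hw hwI
    rw [sup_comm] at hwI
    obtain ⟨n, hn, a, ha, rfl⟩ := exists_mul_of_mem_sup_of_le_normalizer hNA hwI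
    have haW : a ∈ W := by
      have : a = n⁻¹ * (n * a) := by group
      rw [this]
      exact W.mul_mem (W.inv_mem (hNW hn)) hw
    exact N.mul_mem hn ⟨haW, Subgroup.le_normalizer ha⟩
  have hIP : A ⊔ N ≤ A ⊔ W := sup_le_sup_left hNW A
  have hJP : A ⊔ W ≤ P := sup_le hAP hWP
  have hne : A ⊔ N ≠ A ⊔ W := by
    intro h
    apply hnot
    intro w hw
    exact hNA (hWI w hw (h ▸ (le_sup_right : W ≤ A ⊔ W) hw))
  obtain ⟨y, hyJ, hyN, hyI⟩ :=
    Cfsg.Agent.Lib.helper67.exists_normalizer_not_mem (A ⊔ W) (hP.to_le hJP) (A ⊔ N) hIP hne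
  obtain ⟨a₀, ha₀, g, hg, rfl⟩ := exists_mul_of_mem_sup_of_le_normalizer hAW hyJ
  have hgN : g ∈ Subgroup.normalizer ((A ⊔ N : Subgroup G) : Set G) := by
    have : g = a₀⁻¹ * (a₀ * g) := by group
    rw [this]
    exact Subgroup.mul_mem _ (Subgroup.inv_mem _ (Subgroup.le_normalizer (hAI ha₀))) hyN
  have hgI : g ∉ A ⊔ N := fun h => hyI ((A ⊔ N).mul_mem (hAI ha₀) h)
  have hgnA : g ∉ Subgroup.normalizer (A : Set G) := fun h =>
    hgI ((le_sup_right : N ≤ A ⊔ N) ⟨hg, h⟩)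
  have hcomm : ∀ a ∈ A, ⁅a, g⁆ ∈ N := by
    intro a ha
    apply hWI
    · rw [commutatorElement_def]
      exact W.mul_mem ((Subgroup.mem_normalizer_iff.1 (hAW ha) g).1 hg) (W.inv_mem hg)
    · have h1 : g * a⁻¹ * g⁻¹ ∈ A ⊔ N :=
        (Subgroup.mem_normalizer_iff.1 hgN a⁻¹).1 ((A ⊔ N).inv_mem (hAI ha))
      have : ⁅a, g⁆ = a * (g * a⁻¹ * g⁻¹) := by rw [commutatorElement_def]; group
      rw [this]
      exact (A ⊔ N).mul_mem (hAI ha) h1
  have hNn : ∀ a ∈ A, ⁅a, g⁆ ∈ Subgroup.normalizer (A : Set G) := fun a ha => hNA (hcomm a ha)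
  have hC : ∀ a ∈ A, ∀ a' ∈ A, Commute ⁅a, g⁆ ⁅a', g⁆ := fun a ha a' ha' =>
    hWc _ (hNW (hcomm a ha)) _ (hNW (hcomm a' ha'))
  have hAc : IsMulCommutative A := hA.2.1.1
  have hMW : replM A g ≤ N := by
    rw [replM, Subgroup.closure_le]
    rintro _ ⟨a, ha, rfl⟩
    exact hcomm a ha
  refine ⟨replStar A g, ⟨?_, ⟨replStar_comm hC, fun a _ => pow_zero a⟩, fun B' hB' hB'g => ?_⟩,
    replStar_le_normalizer hNn, ?_⟩
  · exact sup_le ((hMW.trans hNW).trans hWP) ((replK_le A g).trans hAP)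
  · exact (hA.2.2 B' hB' hB'g).trans (card_le_card_replStar hNn hC)
  · apply card_lt_of_lt_t
    refine lt_of_le_of_ne ?_ ?_
    · rintro x ⟨hxA, hxW⟩
      refine ⟨(le_sup_right : replK A g ≤ replStar A g) (mem_replK.2 ⟨hxA, ?_⟩), hxW⟩
      have : ⁅x, g⁆ = 1 := by
        rw [commutatorElement_eq_one_iff_mul_comm]
        exact hWc x hxW g hg
      rw [this]
      exact A.one_mem
    · intro heq
      apply hgnA
      apply mem_normalizer_of_conj_le
      rintro _ ⟨a, ha, rfl⟩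
      have h1 : ⁅a, g⁆ ∈ replStar A g ⊓ W :=
        ⟨(le_sup_left : replM A g ≤ replStar A g) (commutator_mem_replM ha),
          hNW (hcomm a ha)⟩
      rw [← heq] at h1
      have : (MulAut.conj g).toMonoidHom a = ⁅a, g⁆⁻¹ * a := by
        show g * a * g⁻¹ = ⁅a, g⁆⁻¹ * a
        rw [commutatorElement_def]; group
      rw [this]
      exact A.mul_mem (A.inv_mem h1.1) ha

/-- In `P`, among the members of `𝒜(P)` not contained in `H`, one is normalized by `W`, provided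
`W` is an abelian subgroup normalized by `P` and centralizing `H`. -/
theorem exists_normalized_A (P : Subgroup G) (hP : IsPGroup p P) (H W : Subgroup G) (hWP : W ≤ P)
    (hWn : P ≤ Subgroup.normalizer (W : Set G))
    (hWc : ∀ a ∈ W, ∀ b ∈ W, a * b = b * a)
    (hHW : ∀ h ∈ H, ∀ w ∈ W, w * h = h * w)
    (hex : ∃ A ∈ famE 0 P, ¬ A ≤ H) :
    ∃ A ∈ famE 0 P, ¬ A ≤ H ∧ W ≤ Subgroup.normalizer (A : Set G) := by
  classical
  obtain ⟨A₀, hA₀, hA₀H⟩ := hex
  have hne : Nonempty {A : Subgroup G // A ∈ famE 0 P ∧ ¬ A ≤ H} := ⟨⟨A₀, hA₀, hA₀H⟩⟩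
  obtain ⟨⟨A, hA, hAH⟩, hmax⟩ := Finite.exists_max
    (fun A : {A : Subgroup G // A ∈ famE 0 P ∧ ¬ A ≤ H} => Nat.card ↥(A.1 ⊓ W))
  refine ⟨A, hA, hAH, ?_⟩
  by_contra hnot
  obtain ⟨B, hB, hBA, hlt⟩ := repl_step P hP W hWP hWn hWc hA hnot
  have hBH : B ≤ H := by
    by_contra hBH
    have := hmax ⟨B, hB, hBH⟩
    simp only at this
    omega
  apply hnot
  refine le_trans ?_ hBA
  intro w hw
  set B' : Subgroup G := Subgroup.closure ((B : Set G) ∪ {w}) with hB'
  have hBB' : B ≤ B' := fun y hy => Subgroup.subset_closure (Or.inl hy)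
  have hwB' : w ∈ B' := Subgroup.subset_closure (Or.inr rfl)
  have hB'c : IsMulCommutative B' := by
    apply Subgroup.isMulCommutative_closure
    rintro u (hu | hu) v (hv | hv)
    · exact goodE_commute hB.2.1 hu hv
    · rw [Set.mem_singleton_iff] at hv; subst hv
      exact (hHW u (hBH hu) v hw).symm
    · rw [Set.mem_singleton_iff] at hu; subst hu
      exact hHW v (hBH hv) u hw
    · rw [Set.mem_singleton_iff] at hu hv; subst hu; subst hv; rfl
  have hB'P : B' ≤ P := by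
    rw [hB', Subgroup.closure_le]
    rintro u (hu | hu)
    · exact hB.1 hu
    · rw [Set.mem_singleton_iff] at hu; subst hu
      exact hWP hw
  have hcard := hB.2.2 B' hB'P ⟨hB'c, fun a _ => pow_zero a⟩
  have := Subgroup.eq_of_le_of_card_ge hBB' hcard
  rw [this]
  exact hwB'

end repl

section odd

variable {p : ℕ} [Fact p.Prime] {G : Type*} [Group G] [Finite G]

/-- From the minimal configuration: an `A ∈ 𝒜(P)`, not inside `H`, normalized by `W = Ω₁(Z(H))`. -/
theorem MinConf.exists_A {P : Sylow p G} {H K : Subgroup G} (hc : MinConf p P H K) :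
    ∃ A ∈ famE 0 (P : Subgroup G), ¬ A ≤ H ∧ omegaZ p H ≤ Subgroup.normalizer (A : Set G) := by
  have hHn := hc.hH
  have hWn : (omegaZ p H).Normal := omegaZ_normal p H
  have hHP : H ≤ P := hc.hHp.le_sylow_of_normal P
  apply exists_normalized_A (P : Subgroup G) P.isPGroup' H (omegaZ p H) ((omegaZ_le p H).trans hHP)
  · rw [Subgroup.normalizer_eq_top_iff.2 hWn]; exact le_top
  · exact fun a ha b hb => omegaZ_comm ha hb
  · intro h hh w hw
    exact Subgroup.mem_centralizer_iff.1 (le_centralizer_omegaZ p H hh) w hw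
  · exact hc.exA

/-- The odd endgame: no minimal configuration for odd `p`. -/
theorem MinConf.false_of_odd {P : Sylow p G} {H K : Subgroup G} (hc : MinConf p P H K)
    (hp2 : p ≠ 2) : False := by
  have hp : p.Prime := Fact.out
  have hodd : Odd p := hp.odd_of_ne_two hp2
  have hHn := hc.hH
  have hKn := hc.hK
  have hWn : (omegaZ p H).Normal := omegaZ_normal p H
  obtain ⟨A, hA, hAH, hWA⟩ := hc.exists_A
  obtain ⟨a, haA, haH⟩ := SetLike.not_le_iff_exists.1 hAH
  apply haH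
  apply hc.faithful a (hA.1 haA)
  intro k hk
  apply hc.centW
  have hHC := le_centralizer_omegaZ p H
  obtain ⟨m, hm, hmk⟩ := hc.coprime ⁅a, k⁆ (by
    rw [commutatorElement_def]
    exact K.mul_mem (hKn.conj_mem k hk a) (K.inv_mem hk))
  apply Cfsg.Agent.Lib.lead.commutator_mem_centralizer_of_quadratic (omegaZ p H) hodd
    (fun a ha b hb => omegaZ_comm ha hb) (fun v hv => hv.2) a k ?_ ?_ ?_ m hm (hHC hmk)
  · intro v hv
    have h1 : v * a⁻¹ * v⁻¹ ∈ A := (Subgroup.mem_normalizer_iff.1 (hWA hv) a⁻¹).1 (A.inv_mem haA)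
    have h2 : a * v * a⁻¹ * v⁻¹ = a * (v * a⁻¹ * v⁻¹) := by group
    have h3 : a * v * a⁻¹ * v⁻¹ ∈ A := by rw [h2]; exact A.mul_mem haA h1
    have h4 := goodE_commute hA.2.1 haA h3
    rw [h4]; group
  · exact hHC (hc.comm k hk _ (hKn.conj_mem k hk a))
  · exact hHC (hc.comm k hk _ (hKn.conj_mem k hk (a ^ 2)))

end odd

end Cfsg.Agent.Lib.helper51
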