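import Mathlib
import Cfsg.Agent.Lib.helper51.Involves
import Cfsg.Agent.Lib.helper67.PNilp

/-!
# A criterion for `S₄` to be involved

If `T` is a normal four-group of the finite group `X` on which an element of odd order acts
nontrivially, inverted modulo `C_X(T)` by another element, then `S₄` is involved in `X`.
-/

set_option autoImplicit false

namespace Cfsg.Agent.Lib.helper51

section s4

variable {X : Type*} [Group X]

/-- If `y s y⁻¹ = d s` with `d` centralized by `y`, then `yⁿ s y⁻ⁿ = dⁿ s`. -/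
theorem conj_pow_mul_of_commute {y s d : X} (h : y * s * y⁻¹ = d * s) (hd : y * d = d * y)
    (n : ℕ) : y ^ n * s * (y ^ n)⁻¹ = d ^ n * s := by
  induction n with
  | zero => simp
  | succ n ih =>
    have hdn : y * d ^ n = d ^ n * y := (Commute.pow_right hd n)
    calc y ^ (n + 1) * s * (y ^ (n + 1))⁻¹ = y * (y ^ n * s * (y ^ n)⁻¹) * y⁻¹ := by
          rw [pow_succ']; group
      _ = y * (d ^ n * s) * y⁻¹ := by rw [ih]
      _ = (y * d ^ n) * s * y⁻¹ := by group
      _ = d ^ n * (y * s * y⁻¹) := by rw [hdn]; group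
      _ = d ^ n * (d * s) := by rw [h]
      _ = d ^ (n + 1) * s := by rw [pow_succ]; group

theorem pow_eq_one_of_conj_eq_mul {y s d : X} (h : y * s * y⁻¹ = d * s) (hd : y * d = d * y)
    {n : ℕ} (hn : y ^ n = 1) : d ^ n = 1 := by
  have h1 := conj_pow_mul_of_commute h hd n
  rw [hn, one_mul, inv_one, mul_one] at h1
  have h2 : d ^ n * s = 1 * s := by rw [one_mul]; exact h1.symm
  exact mul_right_cancel h2

theorem eq_one_of_sq_of_odd_pow {d : X} (h2 : d ^ 2 = 1) {n : ℕ} (hn : Odd n) (h : d ^ n = 1) :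
    d = 1 := by
  obtain ⟨j, rfl⟩ := hn
  rw [pow_succ, pow_mul, h2, one_pow, one_mul] at h
  exact h

/-- the conjugation action on the non-identity elements of a normal subgroup -/
@[reducible] def conjActNonone (T : Subgroup X) [hT : T.Normal] :
    MulAction X ↥((T : Set X) \ {1}) where
  smul g t := ⟨g * t.1 * g⁻¹, hT.conj_mem _ t.2.1 g, fun h => t.2.2 (by
    have h' : g * t.1 * g⁻¹ = 1 := h
    have h'' : t.1 = g⁻¹ * (g * t.1 * g⁻¹) * g := by group
    rw [Set.mem_singleton_iff, h'', h']; group)⟩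
  one_smul t := Subtype.ext (by show 1 * t.1 * 1⁻¹ = t.1; group)
  mul_smul g h t := Subtype.ext (by
    show g * h * t.1 * (g * h)⁻¹ = g * (h * t.1 * h⁻¹) * g⁻¹; group)

theorem conjActNonone_ker (T : Subgroup X) [hT : T.Normal] :
    (@MulAction.toPermHom X ↥((T : Set X) \ {1}) _ (conjActNonone T)).ker =
      Subgroup.centralizer (T : Set X) := by
  let _ := conjActNonone T
  ext g
  rw [MonoidHom.mem_ker, Subgroup.mem_centralizer_iff]
  constructor
  · intro hg t ht
    by_cases ht1 : t = 1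
    · rw [ht1, one_mul, mul_one]
    · have h1 := congrArg (fun e : Equiv.Perm ↥((T : Set X) \ {1}) => ((e ⟨t, ht, ht1⟩ : _) : X)) hg
      have h2 : g * t * g⁻¹ = t := h1
      calc t * g = (g * t * g⁻¹) * g := by rw [h2]
        _ = g * t := by group
  · intro hg
    ext s
    have h1 := hg s.1 s.2.1
    show g * s.1 * g⁻¹ = s.1
    rw [← h1]; group

/-- Core criterion: a normal four-group whose centralizer has index `6`. -/
theorem involves_s4_of_index_six [Finite X] (T : Subgroup X) [hTn : T.Normal]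
    (hT4 : Nat.card T = 4) (hT2 : ∀ t ∈ T, t ^ 2 = 1)
    (h6 : (Subgroup.centralizer (T : Set X)).index = 6) :
    Cfsg.Involves (Equiv.Perm (Fin 4)) X := by
  set C := Subgroup.centralizer (T : Set X) with hC
  have hCn : C.Normal := Subgroup.normal_centralizer
  have hQ : Nat.card (X ⧸ C) = 6 := by rw [← Subgroup.index_eq_card]; exact h6
  have hp3 : Fact (Nat.Prime 3) := ⟨Nat.prime_three⟩
  obtain ⟨z, hz⟩ := exists_prime_orderOf_dvd_card' (G := X ⧸ C) 3 (by rw [hQ]; norm_num)
  set Z := Subgroup.zpowers z with hZ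
  have hZcard : Nat.card Z = 3 := by rw [Nat.card_zpowers, hz]
  have hZidx : Z.index = 2 := by
    have := Z.card_mul_index
    rw [hZcard, hQ] at this
    omega
  set L := Z.comap (QuotientGroup.mk' C) with hL
  have hLidx : L.index = 2 := by
    rw [hL, Subgroup.index_comap_of_surjective _ (QuotientGroup.mk'_surjective C)]
    exact hZidx
  have hLn : L.Normal := Subgroup.normal_of_index_eq_two hLidx
  have hCL : C ≤ L := by
    intro c hc
    show QuotientGroup.mk' C c ∈ Z
    rw [QuotientGroup.mk'_apply, (QuotientGroup.eq_one_iff c).2 hc]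
    exact one_mem _
  have hcardL : Nat.card L = 3 * Nat.card C := by
    have h1 := L.card_mul_index
    have h2 := C.card_mul_index
    rw [hLidx] at h1
    rw [h6] at h2
    omega
  obtain ⟨Y⟩ : Nonempty (Sylow 3 L) := inferInstance
  set Y' := (Y : Subgroup L).map L.subtype with hY'
  have hY'3 : IsPGroup 3 Y' := Y.isPGroup'.map _
  have hY'L : Y' ≤ L := Subgroup.map_subtype_le _
  have hY'C : ¬ Y' ≤ C := by
    intro h
    have h1 : Nat.card Y' = 3 ^ (Nat.card L).factorization 3 := by
      rw [hY', Subgroup.card_subtype]; exact Y.card_eq_multiplicity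
    have h2 : Nat.card Y' ∣ Nat.card C := Subgroup.card_dvd_of_le h
    rw [h1, hcardL, Nat.factorization_mul (by norm_num) Nat.card_pos.ne', Finsupp.add_apply,
      Nat.prime_three.factorization_self, add_comm] at h2
    exact Nat.pow_succ_factorization_not_dvd Nat.card_pos.ne' Nat.prime_three h2
  have hfrat : Subgroup.normalizer (Y' : Set X) ⊔ L = ⊤ := Sylow.normalizer_sup_eq_top Y
  set M := Subgroup.normalizer (Y' : Set X) with hM
  have hY'M : Y' ≤ M := Subgroup.le_normalizer
  have hCY : C ⊔ Y' = L := by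
    have hle : C ⊔ Y' ≤ L := sup_le hCL hY'L
    apply Subgroup.eq_of_le_of_card_ge hle
    have h1 : Nat.card C ∣ Nat.card ↥(C ⊔ Y') := Subgroup.card_dvd_of_le le_sup_left
    have h2 : Nat.card ↥(C ⊔ Y') ∣ Nat.card L := Subgroup.card_dvd_of_le hle
    obtain ⟨j, hj⟩ := h1
    rw [hj, hcardL, mul_comm 3] at h2
    have h3 : j ∣ 3 := Nat.dvd_of_mul_dvd_mul_left Nat.card_pos h2
    rcases (Nat.dvd_prime Nat.prime_three).1 h3 with rfl | rfl
    · exfalso
      apply hY'C
      have : C = C ⊔ Y' := Subgroup.eq_of_le_of_card_ge le_sup_left (by rw [hj, mul_one])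
      rw [this]
      exact le_sup_right
    · rw [hj, hcardL, mul_comm]
  have hMC : M ⊔ C = ⊤ := by
    rw [eq_top_iff, ← hfrat, ← hCY]
    exact sup_le le_sup_left (sup_le le_sup_right (hY'M.trans le_sup_left))
  obtain ⟨y, hyY, hyC⟩ := SetLike.not_le_iff_exists.1 hY'C
  obtain ⟨k, hk⟩ := (IsPGroup.iff_orderOf.1 hY'3) ⟨y, hyY⟩
  have hyk : y ^ (3 ^ k) = 1 := by
    rw [← hk, Subgroup.orderOf_mk]
    exact pow_orderOf_eq_one y
  have hMT : M ⊓ T = ⊥ := by
    rw [eq_bot_iff]
    rintro t ⟨htM, htT⟩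
    rw [Subgroup.mem_bot]
    by_contra ht1
    have hty : y * t = t * y := by
      have h1 : t * y * t⁻¹ * y⁻¹ ∈ Y' :=
        Y'.mul_mem ((Subgroup.mem_normalizer_iff.1 htM y).1 hyY) (Y'.inv_mem hyY)
      have h2 : t * y * t⁻¹ * y⁻¹ ∈ T := by
        have : t * y * t⁻¹ * y⁻¹ = t * (y * t⁻¹ * y⁻¹) := by group
        rw [this]
        exact T.mul_mem htT (hTn.conj_mem _ (T.inv_mem htT) y)
      have h3 : t * y * t⁻¹ * y⁻¹ = 1 := by
        obtain ⟨j, hj⟩ := (IsPGroup.iff_orderOf.1 hY'3) ⟨_, h1⟩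
        rw [Subgroup.orderOf_mk] at hj
        have h4 := hT2 _ h2
        have h5 : orderOf (t * y * t⁻¹ * y⁻¹) ∣ 2 := orderOf_dvd_of_pow_eq_one h4
        rw [hj] at h5
        have h6 : 3 ^ j = 1 := by
          rcases Nat.eq_zero_or_pos j with rfl | hpos
          · rfl
          · exfalso
            have : 3 ∣ 2 := (dvd_pow_self 3 hpos.ne').trans h5
            omega
        rw [h6] at hj
        exact orderOf_eq_one_iff.1 hj
      calc y * t = (t * y * t⁻¹ * y⁻¹)⁻¹ * (t * y) := by group
        _ = t * y := by rw [h3, inv_one, one_mul]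
    apply hyC
    rw [hC, Subgroup.mem_centralizer_iff]
    intro s hs
    -- the fixed points of `y` on `T`
    set F := T ⊓ Subgroup.centralizer ({y} : Set X) with hF
    have htF : t ∈ F := ⟨htT, Subgroup.mem_centralizer_singleton_iff.2 hty.symm⟩
    have hFT : F ≤ T := inf_le_left
    have hFcomm : ∀ f ∈ F, y * f = f * y := fun f hf =>
      (Subgroup.mem_centralizer_singleton_iff.1 hf.2).symm
    have hFdvd : Nat.card F ∣ 4 := hT4 ▸ Subgroup.card_dvd_of_le hFT
    have hFne : Nat.card F ≠ 1 := by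
      intro h
      have := (Subgroup.card_eq_one.1 h)
      rw [this, Subgroup.mem_bot] at htF
      exact ht1 htF
    have hFle : Nat.card F ≤ 4 := Nat.le_of_dvd (by norm_num) hFdvd
    have hFcases : Nat.card F = 4 ∨ Nat.card F = 2 := by
      have hpos : 0 < Nat.card F := Nat.card_pos
      obtain ⟨c, hc⟩ : ∃ c, c = Nat.card F := ⟨_, rfl⟩
      rw [← hc] at hFdvd hFne hFle hpos ⊢
      interval_cases c <;> omega
    rcases hFcases with h4 | h2
    · have hFT' : F = T := Subgroup.eq_of_le_of_card_ge hFT (by rw [h4, hT4])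
      exact (hFcomm s (hFT' ▸ hs)).symm
    · have hrel : F.relIndex T = 2 := by
        have h1 := Subgroup.relIndex_mul_relIndex (⊥ : Subgroup X) F T bot_le hFT
        rw [Subgroup.relIndex_bot_left, Subgroup.relIndex_bot_left, h2, hT4] at h1
        omega
      have hiff : y * s * y⁻¹ ∈ F ↔ s ∈ F := by
        constructor
        · intro h
          have h1 := hFcomm _ h
          have h2 : y * s * y⁻¹ = s := by
            calc y * s * y⁻¹ = y⁻¹ * (y * (y * s * y⁻¹)) := by group
              _ = y⁻¹ * ((y * s * y⁻¹) * y) := by rw [h1]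
              _ = s := by group
          rwa [h2] at h
        · intro h
          have h1 := hFcomm _ h
          have h2 : y * s * y⁻¹ = s := by rw [h1]; group
          rwa [h2]
      have hd : y * s * y⁻¹ * s⁻¹ ∈ F := by
        have h1 := Subgroup.mul_mem_iff_of_index_two (H := F.subgroupOf T) hrel
          (a := ⟨y * s * y⁻¹, hTn.conj_mem s hs y⟩) (b := ⟨s⁻¹, T.inv_mem hs⟩)
        rw [Subgroup.mem_subgroupOf, Subgroup.mem_subgroupOf, Subgroup.mem_subgroupOf] at h1
        apply h1.2
        show y * s * y⁻¹ ∈ F ↔ s⁻¹ ∈ F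
        rw [hiff, inv_mem_iff]
      have h1 : y * s * y⁻¹ = (y * s * y⁻¹ * s⁻¹) * s := by group
      have h3 := pow_eq_one_of_conj_eq_mul h1 (hFcomm _ hd) hyk
      have h4 := eq_one_of_sq_of_odd_pow (hT2 _ (hFT hd)) (Odd.pow (by decide)) h3
      calc s * y = (y * s * y⁻¹ * s⁻¹)⁻¹ * (y * s) := by group
        _ = y * s := by rw [h4, inv_one, one_mul]
  -- the action on the cosets of `M` in `T M`
  set X₁ := T ⊔ M with hX₁
  have hMX₁ : M ≤ X₁ := le_sup_right
  have hTX₁ : T ≤ X₁ := le_sup_left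
  set M' := M.subgroupOf X₁ with hM'
  have hidx : M'.index = 4 := by
    show M.relIndex X₁ = 4
    rw [hX₁, sup_comm, Cfsg.Agent.Lib.helper67.relIndex_sup_eq_of_normal M T,
      ← Subgroup.inf_relIndex_right, hMT, Subgroup.relIndex_bot_left, hT4]
  let ψ := MulAction.toPermHom X₁ (X₁ ⧸ M')
  have hker : ψ.ker = M'.normalCore := (Subgroup.normalCore_eq_ker M').symm
  have hkn : ψ.ker.Normal := MonoidHom.normal_ker ψ
  have hkM : ∀ k' ∈ ψ.ker, (k' : X) ∈ M := fun k' hk' => by
    have : k' ∈ M' := by rw [hker] at hk'; exact Subgroup.normalCore_le M' hk'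
    exact Subgroup.mem_subgroupOf.1 this
  have hkerC : ψ.ker.map X₁.subtype ≤ M ⊓ C := by
    rintro _ ⟨k, hk, rfl⟩
    refine ⟨hkM k hk, ?_⟩
    show (k : X) ∈ Subgroup.centralizer (T : Set X)
    rw [Subgroup.mem_centralizer_iff]
    intro t ht
    have h1 : (⟨t, hTX₁ ht⟩ : X₁) * k * (⟨t, hTX₁ ht⟩ : X₁)⁻¹ ∈ ψ.ker := hkn.conj_mem k hk _
    have h2 : t * (k : X) * t⁻¹ ∈ M := hkM _ h1
    have h3 : t * (k : X) * t⁻¹ * (k : X)⁻¹ ∈ M ⊓ T := ⟨M.mul_mem h2 (M.inv_mem (hkM k hk)), by
      have : t * (k : X) * t⁻¹ * (k : X)⁻¹ = t * ((k : X) * t⁻¹ * (k : X)⁻¹) := by group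
      rw [this]
      exact T.mul_mem ht (hTn.conj_mem _ (T.inv_mem ht) _)⟩
    rw [hMT, Subgroup.mem_bot] at h3
    show t * (k : X) = (k : X) * t
    calc t * (k : X) = (t * (k : X) * t⁻¹ * (k : X)⁻¹) * ((k : X) * t) := by group
      _ = (k : X) * t := by rw [h3, one_mul]
  have hcardker : Nat.card ψ.ker ≤ Nat.card ↥(M ⊓ C) := by
    rw [← Subgroup.card_map_of_injective X₁.subtype_injective]
    exact Subgroup.card_le_of_le hkerC
  have hcardX₁ : Nat.card X₁ = 24 * Nat.card ↥(M ⊓ C) := by
    have h1 := Subgroup.relIndex_mul_relIndex (⊥ : Subgroup X) M X₁ bot_le hMX₁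
    have h2 := Subgroup.relIndex_mul_relIndex (⊥ : Subgroup X) (M ⊓ C) M bot_le inf_le_left
    have h3 : (M ⊓ C).relIndex M = 6 := by
      rw [Subgroup.inf_relIndex_left, ← Subgroup.relIndex_sup_right (H := M), hMC,
        Subgroup.relIndex_top_right, h6]
    have h4 : M.relIndex X₁ = 4 := hidx
    rw [Subgroup.relIndex_bot_left, Subgroup.relIndex_bot_left] at h1 h2
    rw [h3] at h2
    rw [h4] at h1
    omega
  have hrange : 24 ≤ Nat.card ψ.range := by
    have h1 := Subgroup.card_mul_index ψ.ker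
    rw [Subgroup.index_ker] at h1
    have hpos : 0 < Nat.card ψ.ker := Nat.card_pos
    by_contra hlt
    push Not at hlt
    nlinarith
  have hperm : Nat.card (Equiv.Perm (X₁ ⧸ M')) = 24 := by
    rw [Nat.card_perm, ← Subgroup.index_eq_card, hidx]
    rfl
  have htop : ψ.range = ⊤ := Subgroup.eq_top_of_le_card _ (by rw [hperm]; exact hrange)
  have hsurj : Function.Surjective ψ := MonoidHom.range_eq_top.1 htop
  have e : Fin 4 ≃ X₁ ⧸ M' :=
    (Finite.equivFinOfCardEq (by rw [← Subgroup.index_eq_card, hidx])).symm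
  exact involves_of_surjective X₁ (e.permCongrHom.symm.toMonoidHom.comp ψ)
    (e.permCongrHom.symm.surjective.comp hsurj)

/-- **`S₄` criterion.** Let `T` be a normal subgroup of exponent `2` and order at most `4` of the
finite group `X`, `x` an element of odd order not centralizing `T`, and `a` an element inverting
`x` modulo `C_X(T)`.  Then `S₄` is involved in `X`. -/
theorem involves_s4_of_four_group [Finite X] (T : Subgroup X) [hTn : T.Normal]
    (hT2 : ∀ t ∈ T, t ^ 2 = 1) (hT4 : Nat.card T ≤ 4) (x a : X)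
    (hx : ∃ m : ℕ, Odd m ∧ x ^ m = 1) (hxT : ∃ t ∈ T, x * t * x⁻¹ ≠ t)
    (hax : a * x * a⁻¹ * x ∈ Subgroup.centralizer (T : Set X)) :
    Cfsg.Involves (Equiv.Perm (Fin 4)) X := by
  have hcard : Nat.card T = 4 := by
    obtain ⟨t, ht, hxt⟩ := hxT
    have ht1 : t ≠ 1 := by
      rintro rfl
      apply hxt
      group
    have h3 : 2 < Nat.card T := by
      have := Fintype.ofFinite T
      rw [Nat.card_eq_fintype_card, Fintype.two_lt_card_iff]
      refine ⟨1, ⟨t, ht⟩, ⟨x * t * x⁻¹, hTn.conj_mem t ht x⟩, ?_, ?_, ?_⟩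
      · intro h
        exact ht1 (congrArg Subtype.val h).symm
      · intro h
        apply ht1
        have h' : (1 : X) = x * t * x⁻¹ := congrArg Subtype.val h
        calc t = x⁻¹ * (x * t * x⁻¹) * x := by group
          _ = 1 := by rw [← h']; group
      · intro h
        exact hxt (congrArg Subtype.val h).symm
    have hp : IsPGroup 2 T := by
      intro t
      refine ⟨1, ?_⟩
      apply Subtype.ext
      rw [pow_one]
      exact hT2 t.1 t.2
    obtain ⟨n, hn⟩ := IsPGroup.iff_card.1 hp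
    have hn3 : n < 3 := by
      by_contra h
      push Not at h
      have : 2 ^ 3 ≤ 2 ^ n := Nat.pow_le_pow_right (by norm_num) h
      omega
    interval_cases n <;> omega
  set C := Subgroup.centralizer (T : Set X) with hC
  have hCn : C.Normal := Subgroup.normal_centralizer
  have hle : C.index ≤ 6 := by
    let _ := conjActNonone T
    rw [hC, ← conjActNonone_ker T, Subgroup.index_ker]
    calc Nat.card (MulAction.toPermHom X ↥((T : Set X) \ {1})).range
        ≤ Nat.card (Equiv.Perm ↥((T : Set X) \ {1})) := Subgroup.card_le_card_group _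
      _ = 6 := by
        have h1 : Nat.card ↥((T : Set X) \ {1}) = 3 := by
          rw [Nat.card_coe_set_eq, Set.ncard_sdiff_singleton_of_mem T.one_mem,
            ← Nat.card_coe_set_eq]
          show Nat.card T - 1 = 3
          rw [hcard]
        rw [Nat.card_perm, h1]
        rfl
  set xb : X ⧸ C := QuotientGroup.mk' C x with hxb
  set ab : X ⧸ C := QuotientGroup.mk' C a with hab
  obtain ⟨m, hm, hxm⟩ := hx
  have hxb1 : xb ≠ 1 := by
    intro h
    rw [hxb, QuotientGroup.mk'_apply, QuotientGroup.eq_one_iff] at h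
    obtain ⟨t, ht, hxt⟩ := hxT
    apply hxt
    have := Subgroup.mem_centralizer_iff.1 h t ht
    rw [← this]
    group
  have hxbm : xb ^ m = 1 := by rw [hxb, ← map_pow, hxm, map_one]
  have hinv : ab * xb * ab⁻¹ = xb⁻¹ := by
    have : QuotientGroup.mk' C (a * x * a⁻¹ * x) = 1 := by
      rw [QuotientGroup.mk'_apply, QuotientGroup.eq_one_iff]
      exact hax
    rw [map_mul, map_mul, map_mul, map_inv] at this
    exact eq_inv_of_mul_eq_one_left this
  have ho : Odd (orderOf xb) := hm.of_dvd_nat (orderOf_dvd_of_pow_eq_one hxbm)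
  have ho3 : 3 ≤ orderOf xb := by
    have h1 : orderOf xb ≠ 1 := fun h => hxb1 (orderOf_eq_one_iff.1 h)
    have h0 : 0 < orderOf xb := orderOf_pos xb
    obtain ⟨j, hj⟩ := ho
    omega
  have habZ : ab ∉ Subgroup.zpowers xb := by
    intro h
    have hcomm : ab * xb = xb * ab := by
      obtain ⟨j, hj⟩ := Subgroup.mem_zpowers_iff.1 h
      rw [← hj]
      exact (Commute.zpow_left (Commute.refl xb) j).eq
    have h2 : xb = xb⁻¹ := by
      rw [← hinv, hcomm]
      group
    have h3 : xb ^ 2 = 1 := by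
      rw [pow_two]
      nth_rewrite 1 [h2]
      exact inv_mul_cancel xb
    exact hxb1 (eq_one_of_sq_of_odd_pow h3 hm hxbm)
  have hidx2 : 2 ≤ (Subgroup.zpowers xb).index := by
    by_contra h
    push Not at h
    have h0 : (Subgroup.zpowers xb).index ≠ 0 := Subgroup.index_ne_zero_of_finite
    have h1 : (Subgroup.zpowers xb).index = 1 := by omega
    rw [Subgroup.index_eq_one] at h1
    exact habZ (h1 ▸ Subgroup.mem_top ab)
  have h6 : C.index = 6 := by
    have h1 := (Subgroup.zpowers xb).card_mul_index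
    rw [Nat.card_zpowers, ← Subgroup.index_eq_card] at h1
    have : 3 * 2 ≤ orderOf xb * (Subgroup.zpowers xb).index := Nat.mul_le_mul ho3 hidx2
    omega
  exact involves_s4_of_index_six T hcard hT2 h6

end s4

end Cfsg.Agent.Lib.helper51
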