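import Mathlib
import Cfsg.Agent.Lib.helper51.TRepl
import Cfsg.Agent.Lib.helper51.TS4

/-!
# Tools for the even endgame of Thompson's normal `p`-complement theorem

* `axb_abelian`: Thompson's `A × B` lemma for an abelian normal `p`-subgroup.
* `exists_inverted_eigen`: a common eigenvector for an abelian group of exponent `2` acting
  on an abelian group.
-/

set_option autoImplicit false

namespace Cfsg.Agent.Lib.helper51

open Cfsg.Agent.Lib.helper53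

section tools

variable {G : Type*} [Group G]

/-- two commuting abelian subgroups generate an abelian subgroup -/
theorem comm_sup_of_comm {B U : Subgroup G} (hB : ∀ a ∈ B, ∀ b ∈ B, a * b = b * a)
    (hU : ∀ a ∈ U, ∀ b ∈ U, a * b = b * a) (hBU : ∀ a ∈ B, ∀ b ∈ U, a * b = b * a) :
    ∀ a ∈ B ⊔ U, ∀ b ∈ B ⊔ U, a * b = b * a := by
  have h1 : ∀ z ∈ B ⊔ U, (∀ g ∈ B, g * z = z * g) ∧ (∀ g ∈ U, g * z = z * g) := by
    intro z hz
    have hle : B ⊔ U ≤ Subgroup.centralizer ((B : Set G) ∪ (U : Set G)) := by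
      apply sup_le
      · intro b hb
        rw [Subgroup.mem_centralizer_iff]
        rintro g (hg | hg)
        · exact hB g hg b hb
        · exact (hBU b hb g hg).symm
      · intro u hu
        rw [Subgroup.mem_centralizer_iff]
        rintro g (hg | hg)
        · exact hBU g hg u hu
        · exact hU g hg u hu
    have hz' := Subgroup.mem_centralizer_iff.1 (hle hz)
    exact ⟨fun g hg => hz' g (Or.inl hg), fun g hg => hz' g (Or.inr hg)⟩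
  intro a ha b hb
  have hle : B ⊔ U ≤ Subgroup.centralizer ({b} : Set G) := by
    apply sup_le
    · intro g hg
      rw [Subgroup.mem_centralizer_singleton_iff]
      exact (h1 b hb).1 g hg
    · intro g hg
      rw [Subgroup.mem_centralizer_singleton_iff]
      exact (h1 b hb).2 g hg
  exact Subgroup.mem_centralizer_singleton_iff.1 (hle ha)

/-- If `b x b⁻¹ x⁻¹` centralizes the normal subgroup `W`, then conjugation by `b` and by `x`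
commute on `W`. -/
theorem conj_conj_comm_of_mem_centralizer (W : Subgroup G) [hWn : W.Normal] {b x : G}
    (hc : b * x * b⁻¹ * x⁻¹ ∈ Subgroup.centralizer (W : Set G)) {w : G} (hw : w ∈ W) :
    b * (x * w * x⁻¹) * b⁻¹ = x * (b * w * b⁻¹) * x⁻¹ := by
  have hg : x * (b * w * b⁻¹) * x⁻¹ ∈ W := hWn.conj_mem _ (hWn.conj_mem w hw b) x
  have h1 := Subgroup.mem_centralizer_iff.1 hc _ hg
  calc b * (x * w * x⁻¹) * b⁻¹
      = (b * x * b⁻¹ * x⁻¹) * (x * (b * w * b⁻¹) * x⁻¹) * (b * x * b⁻¹ * x⁻¹)⁻¹ := by group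
    _ = (x * (b * w * b⁻¹) * x⁻¹) * (b * x * b⁻¹ * x⁻¹) * (b * x * b⁻¹ * x⁻¹)⁻¹ := by rw [h1]
    _ = x * (b * w * b⁻¹) * x⁻¹ := by group

/-- **Thompson's `A × B` lemma**, for an abelian normal subgroup `W`: let `B` be an abelian
subgroup with `B W` a `p`-group, and let `x`, with `x ^ m = 1` where `W` has no `m`-torsion,
commute with `B` modulo `C(W)`.  If `x` centralizes `C_W(B)`, then `x` centralizes `W`. -/
theorem axb_abelian [Finite G] {p : ℕ} [Fact p.Prime] (W : Subgroup G) [hWn : W.Normal]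
    (hWc : ∀ u ∈ W, ∀ v ∈ W, u * v = v * u) (B : Subgroup G)
    (hBc : ∀ a ∈ B, ∀ b ∈ B, a * b = b * a) (hP : IsPGroup p ↥(B ⊔ W)) {x : G} {m : ℕ}
    (hx : x ^ m = 1) (hd : ∀ d ∈ W, d ^ m = 1 → d = 1)
    (hBx : ∀ b ∈ B, b * x * b⁻¹ * x⁻¹ ∈ Subgroup.centralizer (W : Set G))
    (hU : ∀ u ∈ W, (∀ b ∈ B, b * u = u * b) → x * u = u * x) :
    ∀ w ∈ W, x * w = w * x := by
  set F : Subgroup G := W ⊓ Subgroup.centralizer ({x} : Set G) with hF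
  have hFW : F ≤ W := inf_le_left
  have hFx : ∀ f ∈ F, x * f = f * x := fun f hf =>
    (Subgroup.mem_centralizer_singleton_iff.1 hf.2).symm
  have hmemF : ∀ f ∈ W, x * f = f * x → f ∈ F := fun f hf h =>
    ⟨hf, Subgroup.mem_centralizer_singleton_iff.2 h.symm⟩
  by_contra hcon
  have hWF : ¬ W ≤ F := fun h => hcon (fun w hw => hFx w (h hw))
  have hBF : B ≤ Subgroup.normalizer (F : Set G) := by
    intro b hb
    apply mem_normalizer_of_conj_le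
    rintro _ ⟨f, hf, rfl⟩
    apply hmemF _ (hWn.conj_mem f (hFW hf) b)
    show x * (b * f * b⁻¹) = b * f * b⁻¹ * x
    have h1 := conj_conj_comm_of_mem_centralizer W (hBx b hb) (hFW hf)
    have h2 : x * f * x⁻¹ = f := by rw [hFx f hf]; group
    rw [h2] at h1
    calc x * (b * f * b⁻¹) = (x * (b * f * b⁻¹) * x⁻¹) * x := by group
      _ = b * f * b⁻¹ * x := by rw [← h1]
  have hBW : B ≤ Subgroup.normalizer (W : Set G) := by
    rw [Subgroup.normalizer_eq_top_iff.2 hWn]; exact le_top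
  have hWI : ∀ w ∈ W, w ∈ B ⊔ F → w ∈ F := by
    intro w hw hwI
    obtain ⟨b, hb, f, hf, rfl⟩ := exists_mul_of_mem_sup_of_le_normalizer hBF hwI
    have hbW : b ∈ W := by
      have : b = b * f * f⁻¹ := by group
      rw [this]
      exact W.mul_mem hw (W.inv_mem (hFW hf))
    have hbF : b ∈ F := hmemF b hbW (hU b hbW (fun b' hb' => hBc b' hb' b hb))
    exact F.mul_mem hbF hf
  have hIP : B ⊔ F ≤ B ⊔ W := sup_le_sup_left hFW B
  have hne : B ⊔ F ≠ B ⊔ W := by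
    intro h
    apply hWF
    intro w hw
    exact hWI w hw (h ▸ (le_sup_right : W ≤ B ⊔ W) hw)
  obtain ⟨y, hyJ, hyN, hyI⟩ :=
    Cfsg.Agent.Lib.helper67.exists_normalizer_not_mem (B ⊔ W) hP (B ⊔ F) hIP hne
  obtain ⟨b₀, hb₀, w₀, hw₀, rfl⟩ := exists_mul_of_mem_sup_of_le_normalizer hBW hyJ
  have hBI : B ≤ B ⊔ F := le_sup_left
  have hw₀N : w₀ ∈ Subgroup.normalizer ((B ⊔ F : Subgroup G) : Set G) := by
    have : w₀ = b₀⁻¹ * (b₀ * w₀) := by group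
    rw [this]
    exact Subgroup.mul_mem _ (Subgroup.inv_mem _ (Subgroup.le_normalizer (hBI hb₀))) hyN
  have hw₀I : w₀ ∉ B ⊔ F := fun h => hyI ((B ⊔ F).mul_mem (hBI hb₀) h)
  have hw₀F : w₀ ∉ F := fun h => hw₀I ((le_sup_right : F ≤ B ⊔ F) h)
  -- `[b, w₀] ∈ F`
  have hfb : ∀ b ∈ B, b * w₀ * b⁻¹ * w₀⁻¹ ∈ F := by
    intro b hb
    apply hWI
    · exact W.mul_mem (hWn.conj_mem w₀ hw₀ b) (W.inv_mem hw₀)
    · have h1 : w₀ * b⁻¹ * w₀⁻¹ ∈ B ⊔ F :=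
        (Subgroup.mem_normalizer_iff.1 hw₀N b⁻¹).1 ((B ⊔ F).inv_mem (hBI hb))
      have : b * w₀ * b⁻¹ * w₀⁻¹ = b * (w₀ * b⁻¹ * w₀⁻¹) := by group
      rw [this]
      exact (B ⊔ F).mul_mem (hBI hb) h1
  -- `e = [x, w₀]` is centralized by `B`
  have heW : x * w₀ * x⁻¹ * w₀⁻¹ ∈ W := W.mul_mem (hWn.conj_mem w₀ hw₀ x) (W.inv_mem hw₀)
  have heB : ∀ b ∈ B, b * (x * w₀ * x⁻¹ * w₀⁻¹) = (x * w₀ * x⁻¹ * w₀⁻¹) * b := by
    intro b hb
    have h1 := conj_conj_comm_of_mem_centralizer W (hBx b hb) hw₀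
    have hf := hfb b hb
    have hfx : x * (b * w₀ * b⁻¹ * w₀⁻¹) * x⁻¹ = b * w₀ * b⁻¹ * w₀⁻¹ := by
      rw [hFx _ hf]; group
    have hcomm : (b * w₀ * b⁻¹ * w₀⁻¹) * (x * w₀ * x⁻¹ * w₀⁻¹) =
        (x * w₀ * x⁻¹ * w₀⁻¹) * (b * w₀ * b⁻¹ * w₀⁻¹) := hWc _ (hFW hf) _ heW
    have h2 : b * (x * w₀ * x⁻¹ * w₀⁻¹) * b⁻¹ = x * w₀ * x⁻¹ * w₀⁻¹ := by
      calc b * (x * w₀ * x⁻¹ * w₀⁻¹) * b⁻¹
          = (b * (x * w₀ * x⁻¹) * b⁻¹) * (b * w₀ * b⁻¹)⁻¹ := by group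
        _ = (x * (b * w₀ * b⁻¹) * x⁻¹) * (b * w₀ * b⁻¹)⁻¹ := by rw [h1]
        _ = (x * (b * w₀ * b⁻¹ * w₀⁻¹) * x⁻¹) * (x * w₀ * x⁻¹ * w₀⁻¹) *
            (b * w₀ * b⁻¹ * w₀⁻¹)⁻¹ := by group
        _ = (b * w₀ * b⁻¹ * w₀⁻¹) * (x * w₀ * x⁻¹ * w₀⁻¹) *
            (b * w₀ * b⁻¹ * w₀⁻¹)⁻¹ := by rw [hfx]
        _ = (x * w₀ * x⁻¹ * w₀⁻¹) * (b * w₀ * b⁻¹ * w₀⁻¹) *
            (b * w₀ * b⁻¹ * w₀⁻¹)⁻¹ := by rw [hcomm]
        _ = x * w₀ * x⁻¹ * w₀⁻¹ := by group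
    calc b * (x * w₀ * x⁻¹ * w₀⁻¹) = (b * (x * w₀ * x⁻¹ * w₀⁻¹) * b⁻¹) * b := by group
      _ = (x * w₀ * x⁻¹ * w₀⁻¹) * b := by rw [h2]
  have hex : x * (x * w₀ * x⁻¹ * w₀⁻¹) = (x * w₀ * x⁻¹ * w₀⁻¹) * x := hU _ heW heB
  have h1 : x * w₀ * x⁻¹ = (x * w₀ * x⁻¹ * w₀⁻¹) * w₀ := by group
  have h2 := pow_eq_one_of_conj_eq_mul h1 hex hx
  have h3 := hd _ heW h2
  apply hw₀F
  apply hmemF w₀ hw₀
  calc x * w₀ = (x * w₀ * x⁻¹ * w₀⁻¹) * (w₀ * x) := by group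
    _ = w₀ * x := by rw [h3, one_mul]

/-- **Common eigenvector.** Let the abelian group `𝔄` of exponent `2` normalize the abelian
group `𝔎` without centralizing it.  Then some `x ≠ 1` in `𝔎` is inverted by one element of `𝔄`,
and each element of `𝔄` centralizes or inverts `x`. -/
theorem exists_inverted_eigen [Finite G] (𝔎 𝔄 : Subgroup G)
    (hAK : 𝔄 ≤ Subgroup.normalizer (𝔎 : Set G)) (hKc : ∀ x ∈ 𝔎, ∀ y ∈ 𝔎, x * y = y * x)
    (hAc : ∀ a ∈ 𝔄, ∀ b ∈ 𝔄, a * b = b * a) (hA2 : ∀ a ∈ 𝔄, a ^ 2 = 1)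
    (hne : ∃ a ∈ 𝔄, ∃ k ∈ 𝔎, a * k ≠ k * a) :
    ∃ x ∈ 𝔎, x ≠ 1 ∧ (∃ a ∈ 𝔄, a * x * a⁻¹ = x⁻¹) ∧
      ∀ a ∈ 𝔄, a * x * a⁻¹ = x ∨ a * x * a⁻¹ = x⁻¹ := by
  classical
  obtain ⟨a₀, ha₀, k₀, hk₀, hak⟩ := hne
  have hconjK : ∀ a ∈ 𝔄, ∀ k ∈ 𝔎, a * k * a⁻¹ ∈ 𝔎 := fun a ha k hk =>
    (Subgroup.mem_normalizer_iff.1 (hAK ha) k).1 hk
  have hsq : ∀ a ∈ 𝔄, ∀ g : G, a * (a * g * a⁻¹) * a⁻¹ = g := by
    intro a ha g
    have h2 := hA2 a ha
    have h3 : a⁻¹ = a := by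
      rw [inv_eq_iff_mul_eq_one, ← pow_two]; exact h2
    calc a * (a * g * a⁻¹) * a⁻¹ = a ^ 2 * g * (a⁻¹ * a⁻¹) := by rw [pow_two]; group
      _ = g := by rw [h2, h3, ← pow_two, h2, one_mul, mul_one]
  -- the family of invariant subgroups inverted by `a₀`
  let Fam : Set (Subgroup G) := {X | X ≤ 𝔎 ∧ X ≠ ⊥ ∧ 𝔄 ≤ Subgroup.normalizer (X : Set G) ∧
    ∀ x ∈ X, a₀ * x * a₀⁻¹ = x⁻¹}
  -- the subgroup of all elements of `𝔎` inverted by `a₀`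
  let X₁ : Subgroup G :=
    { carrier := {x | x ∈ 𝔎 ∧ a₀ * x * a₀⁻¹ = x⁻¹}
      mul_mem' := by
        rintro x y ⟨hx, hx'⟩ ⟨hy, hy'⟩
        refine ⟨𝔎.mul_mem hx hy, ?_⟩
        have h1 : a₀ * (x * y) * a₀⁻¹ = (a₀ * x * a₀⁻¹) * (a₀ * y * a₀⁻¹) := by group
        rw [h1, hx', hy', mul_inv_rev]
        exact hKc _ (𝔎.inv_mem hx) _ (𝔎.inv_mem hy)
      one_mem' := ⟨𝔎.one_mem, by group⟩
      inv_mem' := by
        rintro x ⟨hx, hx'⟩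
        refine ⟨𝔎.inv_mem hx, ?_⟩
        have h1 : a₀ * x⁻¹ * a₀⁻¹ = (a₀ * x * a₀⁻¹)⁻¹ := by group
        rw [h1, hx'] }
  have hX₁ : X₁ ∈ Fam := by
    refine ⟨fun x hx => hx.1, ?_, ?_, fun x hx => hx.2⟩
    · intro h
      have hc : k₀ * (a₀ * k₀ * a₀⁻¹)⁻¹ ∈ X₁ := by
        refine ⟨𝔎.mul_mem hk₀ (𝔎.inv_mem (hconjK a₀ ha₀ k₀ hk₀)), ?_⟩
        have h1 : a₀ * (k₀ * (a₀ * k₀ * a₀⁻¹)⁻¹) * a₀⁻¹ =
            (a₀ * k₀ * a₀⁻¹) * (a₀ * (a₀ * k₀ * a₀⁻¹) * a₀⁻¹)⁻¹ := by group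
        rw [h1, hsq a₀ ha₀ k₀]
        group
      rw [h, Subgroup.mem_bot] at hc
      apply hak
      calc a₀ * k₀ = (k₀ * (a₀ * k₀ * a₀⁻¹)⁻¹)⁻¹ * (k₀ * a₀) := by group
        _ = k₀ * a₀ := by rw [hc, inv_one, one_mul]
    · intro b hb
      apply mem_normalizer_of_conj_le
      rintro _ ⟨x, hx, rfl⟩
      refine ⟨hconjK b hb x hx.1, ?_⟩
      show a₀ * (b * x * b⁻¹) * a₀⁻¹ = (b * x * b⁻¹)⁻¹
      have h1 := hAc a₀ ha₀ b hb
      have h2 : a₀ * (b * x * b⁻¹) * a₀⁻¹ = b * (a₀ * x * a₀⁻¹) * b⁻¹ := by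
        calc a₀ * (b * x * b⁻¹) * a₀⁻¹ = (a₀ * b) * x * (a₀ * b)⁻¹ := by group
          _ = (b * a₀) * x * (b * a₀)⁻¹ := by rw [h1]
          _ = b * (a₀ * x * a₀⁻¹) * b⁻¹ := by group
      rw [h2, hx.2]
      group
  have hne' : Nonempty {X : Subgroup G // X ∈ Fam} := ⟨⟨X₁, hX₁⟩⟩
  obtain ⟨⟨X, hXK, hXne, hXA, hXinv⟩, hmin⟩ := Finite.exists_min
    (fun X : {X : Subgroup G // X ∈ Fam} => Nat.card ↥X.1)
  have hconjX : ∀ a ∈ 𝔄, ∀ x ∈ X, a * x * a⁻¹ ∈ X := fun a ha x hx =>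
    (Subgroup.mem_normalizer_iff.1 (hXA ha) x).1 hx
  have hsub : ∀ X' : Subgroup G, X' ≤ X → X' ≠ ⊥ → 𝔄 ≤ Subgroup.normalizer (X' : Set G) →
      X' = X := by
    intro X' hle hne'' hnorm
    have := hmin ⟨X', hle.trans hXK, hne'', hnorm, fun x hx => hXinv x (hle hx)⟩
    exact Subgroup.eq_of_le_of_card_ge hle this
  have key : ∀ a ∈ 𝔄, (∀ x ∈ X, a * x * a⁻¹ = x) ∨ (∀ x ∈ X, a * x * a⁻¹ = x⁻¹) := by
    intro a ha
    -- fixed points of `a` on `X`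
    set Xp : Subgroup G := X ⊓ Subgroup.centralizer ({a} : Set G) with hXp
    have hXpn : 𝔄 ≤ Subgroup.normalizer (Xp : Set G) := by
      intro b hb
      apply mem_normalizer_of_conj_le
      rintro _ ⟨x, hx, rfl⟩
      refine ⟨hconjX b hb x hx.1, ?_⟩
      apply Subgroup.mem_centralizer_singleton_iff.2
      have h1 : x * a = a * x := Subgroup.mem_centralizer_singleton_iff.1 hx.2
      have h2 := hAc a ha b hb
      show b * x * b⁻¹ * a = a * (b * x * b⁻¹)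
      have h3 : b⁻¹ * a = a * b⁻¹ := by
        calc b⁻¹ * a = b⁻¹ * (a * b) * b⁻¹ := by group
          _ = b⁻¹ * (b * a) * b⁻¹ := by rw [h2]
          _ = a * b⁻¹ := by group
      calc b * x * b⁻¹ * a = b * x * (b⁻¹ * a) := by group
        _ = b * x * (a * b⁻¹) := by rw [h3]
        _ = b * (x * a) * b⁻¹ := by group
        _ = b * (a * x) * b⁻¹ := by rw [h1]
        _ = (b * a) * x * b⁻¹ := by group
        _ = (a * b) * x * b⁻¹ := by rw [h2]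
        _ = a * (b * x * b⁻¹) := by group
    by_cases hXp0 : Xp = ⊥
    · right
      intro x hx
      have hu : x * (a * x * a⁻¹) ∈ Xp := by
        refine ⟨X.mul_mem hx (hconjX a ha x hx), ?_⟩
        apply Subgroup.mem_centralizer_singleton_iff.2
        have h1 : a * (x * (a * x * a⁻¹)) * a⁻¹ = (a * x * a⁻¹) * (a * (a * x * a⁻¹) * a⁻¹) := by
          group
        rw [hsq a ha x] at h1
        have h2 : (a * x * a⁻¹) * x = x * (a * x * a⁻¹) :=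
          hKc _ (hXK (hconjX a ha x hx)) _ (hXK hx)
        rw [h2] at h1
        calc x * (a * x * a⁻¹) * a = (a * (x * (a * x * a⁻¹)) * a⁻¹) * a := by rw [h1]
          _ = a * (x * (a * x * a⁻¹)) := by group
      rw [hXp0, Subgroup.mem_bot] at hu
      exact eq_inv_of_mul_eq_one_right hu
    · left
      have h := hsub Xp inf_le_left hXp0 hXpn
      intro x hx
      rw [← h] at hx
      have h1 : x * a = a * x := Subgroup.mem_centralizer_singleton_iff.1 hx.2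
      rw [← h1]; group
  obtain ⟨x, hx1⟩ := (Subgroup.ne_bot_iff_exists_ne_one).1 hXne
  have hxX' : (x : G) ∈ X := x.2
  refine ⟨x, hXK hxX', fun h => hx1 (Subtype.ext h), ⟨a₀, ha₀, hXinv x hxX'⟩, fun a ha => ?_⟩
  rcases key a ha with h | h
  · exact Or.inl (h x hxX')
  · exact Or.inr (h x hxX')

end tools

end Cfsg.Agent.Lib.helper51
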