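import Mathlib
import Cfsg.Agent.Lib.helper51.TEven2

/-!
# The offender configuration, with maximality only against products `B U`

A copy of `involves_s4_of_offender` in which the maximality of `A` is only required against the
subgroups `B ⊔ U` with `B ≤ A`, `U ≤ W` commuting elementwise.  This also covers elementary abelian
subgroups of largest order.
-/

set_option autoImplicit false

namespace Cfsg.Agent.Lib.helper51

open Cfsg.Agent.Lib.helper53 Cfsg.Agent.Lib.helper57 Cfsg.Agent.Lib.helper14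
open scoped commutatorElement

variable {G : Type*} [Group G] [Finite G]

/-- **Offender configuration ⟹ `S₄`**, product form of the maximality hypothesis. -/
theorem involves_s4_of_offender_pair (W : Subgroup G) [hWn : W.Normal]
    (hWc : ∀ u ∈ W, ∀ v ∈ W, u * v = v * u) (hW2 : ∀ w ∈ W, w ^ 2 = 1)
    (A : Subgroup G) (hAc : ∀ a ∈ A, ∀ b ∈ A, a * b = b * a)
    (hP : IsPGroup 2 ↥(A ⊔ W))
    (hmax : ∀ B U : Subgroup G, B ≤ A → U ≤ W → (∀ b ∈ B, ∀ u ∈ U, b * u = u * b) →
      Nat.card ↥(B ⊔ U) ≤ Nat.card A)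
    (x a : G) (ha : a ∈ A) (hx : ∃ m : ℕ, Odd m ∧ x ^ m = 1)
    (hxW : x ∉ Subgroup.centralizer (W : Set G))
    (hax : a * x * a⁻¹ * x ∈ Subgroup.centralizer (W : Set G))
    (hA : ∀ b ∈ A, b * x * b⁻¹ * x⁻¹ ∈ Subgroup.centralizer (W : Set G) ∨
      b * x * b⁻¹ * x ∈ Subgroup.centralizer (W : Set G)) :
    Cfsg.Involves (Equiv.Perm (Fin 4)) G := by
  classical
  obtain ⟨m, hm, hxm⟩ := hx
  have hCn : (Subgroup.centralizer (W : Set G)).Normal := Subgroup.normal_centralizer
  set π : G →* G ⧸ Subgroup.centralizer (W : Set G) :=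
    QuotientGroup.mk' (Subgroup.centralizer (W : Set G)) with hπ
  have hπ1 : ∀ g : G, π g = 1 ↔ g ∈ Subgroup.centralizer (W : Set G) := fun g => by
    rw [hπ, QuotientGroup.mk'_apply, QuotientGroup.eq_one_iff]
  -- the centralizer of `x` modulo `C(W)` in `A`
  set B : Subgroup G := A ⊓ (Subgroup.centralizer ({π x} : Set (G ⧸ Subgroup.centralizer
    (W : Set G)))).comap π with hBdef
  have hBA : B ≤ A := inf_le_left
  have hmemB : ∀ b : G, b ∈ B ↔ b ∈ A ∧ b * x * b⁻¹ * x⁻¹ ∈ Subgroup.centralizer (W : Set G) := by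
    intro b
    rw [hBdef, Subgroup.mem_inf, Subgroup.mem_comap, Subgroup.mem_centralizer_singleton_iff,
      ← hπ1, map_mul, map_mul, map_mul, map_inv, map_inv]
    constructor
    · rintro ⟨h1, h2⟩
      refine ⟨h1, ?_⟩
      rw [h2]; group
    · rintro ⟨h1, h2⟩
      refine ⟨h1, ?_⟩
      calc π b * π x = (π b * π x * (π b)⁻¹ * (π x)⁻¹) * (π x * π b) := by group
        _ = π x * π b := by rw [h2, one_mul]
  have hcardA : Nat.card A ≤ 2 * Nat.card B := by
    have hsub : (A : Set G) ⊆ (B : Set G) ∪ (fun b => a * b) '' (B : Set G) := by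
      intro b hb
      by_cases hbB : b ∈ B
      · exact Or.inl hbB
      · right
        refine ⟨a⁻¹ * b, ?_, by group⟩
        show a⁻¹ * b ∈ B
        rw [hmemB]
        refine ⟨A.mul_mem (A.inv_mem ha) hb, ?_⟩
        have hb' : b * x * b⁻¹ * x ∈ Subgroup.centralizer (W : Set G) := by
          rcases hA b hb with h | h
          · exact absurd ((hmemB b).2 ⟨hb, h⟩) hbB
          · exact h
        have hax' := hax
        rw [← hπ1] at hb' hax' ⊢
        rw [map_mul, map_mul, map_mul, map_inv] at hb' hax'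
        have h1 : π b * π x * (π b)⁻¹ = (π x)⁻¹ := eq_inv_of_mul_eq_one_left hb'
        have h2 : π a * π x * (π a)⁻¹ = (π x)⁻¹ := eq_inv_of_mul_eq_one_left hax'
        have h3 : (π a)⁻¹ * (π x)⁻¹ * π a = π x := by
          calc (π a)⁻¹ * (π x)⁻¹ * π a = (π a)⁻¹ * (π a * π x * (π a)⁻¹) * π a := by rw [h2]
            _ = π x := by group
        rw [map_mul, map_mul, map_mul, map_mul, map_inv, map_inv, map_inv, map_mul, map_inv]
        calc (π a)⁻¹ * π b * π x * ((π a)⁻¹ * π b)⁻¹ * (π x)⁻¹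
            = (π a)⁻¹ * (π b * π x * (π b)⁻¹) * π a * (π x)⁻¹ := by group
          _ = ((π a)⁻¹ * (π x)⁻¹ * π a) * (π x)⁻¹ := by rw [h1]
          _ = 1 := by rw [h3, mul_inv_cancel]
    have hA' : Nat.card ↥A = (A : Set G).ncard := (Nat.card_coe_set_eq (A : Set G)).symm
    have hB' : Nat.card ↥B = (B : Set G).ncard := (Nat.card_coe_set_eq (B : Set G)).symm
    rw [hA', hB']
    calc (A : Set G).ncard ≤ ((B : Set G) ∪ (fun b => a * b) '' (B : Set G)).ncard :=
          Set.ncard_le_ncard hsub (Set.toFinite _)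
      _ ≤ (B : Set G).ncard + ((fun b => a * b) '' (B : Set G)).ncard := Set.ncard_union_le _ _
      _ ≤ (B : Set G).ncard + (B : Set G).ncard :=
          Nat.add_le_add_left (Set.ncard_image_le (Set.toFinite _)) _
      _ = 2 * (B : Set G).ncard := by ring
  -- `U = C_W(B)`
  set U : Subgroup G := W ⊓ Subgroup.centralizer (B : Set G) with hUdef
  have hUW : U ≤ W := inf_le_left
  have hUB : ∀ u ∈ U, ∀ b ∈ B, b * u = u * b := fun u hu b hb =>
    Subgroup.mem_centralizer_iff.1 hu.2 b hb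
  have hmemU : ∀ u ∈ W, (∀ b ∈ B, b * u = u * b) → u ∈ U := fun u hu h =>
    ⟨hu, Subgroup.mem_centralizer_iff.2 h⟩
  have hBc : ∀ b ∈ B, ∀ b' ∈ B, b * b' = b' * b := fun b hb b' hb' => hAc b (hBA hb) b' (hBA hb')
  have hUc : ∀ u ∈ U, ∀ v ∈ U, u * v = v * u := fun u hu v hv => hWc u (hUW hu) v (hUW hv)
  have hBUc := comm_sup_of_comm hBc hUc (fun b hb u hu => hUB u hu b hb)
  have hBUle : B ⊔ U ≤ A ⊔ W := sup_le_sup hBA hUW
  have hcard1 : Nat.card ↥(B ⊔ U) ≤ Nat.card A := hmax B U hBA hUW (fun b hb u hu => hUB u hu b hb)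
  have hcount1 := card_mul_card_le_card_sup_mul_card_inf B U
  set Ua : Subgroup G := U ⊓ Subgroup.centralizer ({a} : Set G) with hUadef
  have hBUa : B ⊓ U ≤ Ua := by
    rintro b ⟨hbB, hbU⟩
    exact ⟨hbU, Subgroup.mem_centralizer_singleton_iff.2 (hAc b (hBA hbB) a ha)⟩
  have hcount2 : Nat.card U ≤ 2 * Nat.card Ua := by
    have h1 : Nat.card ↥(B ⊓ U) ≤ Nat.card Ua := Subgroup.card_le_of_le hBUa
    have hpos : 0 < Nat.card B := Nat.card_pos
    have h2 : Nat.card B * Nat.card U ≤ Nat.card B * (2 * Nat.card Ua) := by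
      calc Nat.card B * Nat.card U ≤ Nat.card ↥(B ⊔ U) * Nat.card ↥(B ⊓ U) := hcount1
        _ ≤ Nat.card A * Nat.card Ua := Nat.mul_le_mul hcard1 h1
        _ ≤ (2 * Nat.card B) * Nat.card Ua := Nat.mul_le_mul_right _ hcardA
        _ = Nat.card B * (2 * Nat.card Ua) := by ring
    exact Nat.le_of_mul_le_mul_left h2 hpos
  have hxB : ∀ b ∈ B, b * x * b⁻¹ * x⁻¹ ∈ Subgroup.centralizer (W : Set G) := fun b hb =>
    ((hmemB b).1 hb).2
  have hxU : ∀ u ∈ U, x * u * x⁻¹ ∈ U := by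
    intro u hu
    apply hmemU _ (hWn.conj_mem u (hUW hu) x)
    intro b hb
    have h1 := conj_conj_comm_of_mem_centralizer W (hxB b hb) (hUW hu)
    have h2 : b * u * b⁻¹ = u := by rw [hUB u hu b hb]; group
    rw [h2] at h1
    calc b * (x * u * x⁻¹) = (b * (x * u * x⁻¹) * b⁻¹) * b := by group
      _ = (x * u * x⁻¹) * b := by rw [h1]
  have haU : ∀ u ∈ U, a * u * a⁻¹ ∈ U := by
    intro u hu
    apply hmemU _ (hWn.conj_mem u (hUW hu) a)
    intro b hb
    have h1 := hAc a ha b (hBA hb)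
    have h2 := hUB u hu b hb
    have h3 : b * a⁻¹ = a⁻¹ * b := (Commute.inv_right (show Commute b a from h1.symm)).eq
    calc b * (a * u * a⁻¹) = (b * a) * u * a⁻¹ := by group
      _ = (a * b) * u * a⁻¹ := by rw [h1]
      _ = a * (b * u) * a⁻¹ := by group
      _ = a * (u * b) * a⁻¹ := by rw [h2]
      _ = a * u * (b * a⁻¹) := by group
      _ = a * u * (a⁻¹ * b) := by rw [h3]
      _ = (a * u * a⁻¹) * b := by group
  set U' : Subgroup G := U ⊓ Subgroup.centralizer ({x * a * x⁻¹} : Set G) with hU'def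
  have hcount3 : Nat.card U ≤ 2 * Nat.card U' := by
    have hle : Ua.map (MulAut.conj x).toMonoidHom ≤ U' := by
      rintro _ ⟨u, hu, rfl⟩
      refine ⟨hxU u hu.1, ?_⟩
      apply Subgroup.mem_centralizer_singleton_iff.2
      have h1 : u * a = a * u := Subgroup.mem_centralizer_singleton_iff.1 hu.2
      show x * u * x⁻¹ * (x * a * x⁻¹) = x * a * x⁻¹ * (x * u * x⁻¹)
      calc x * u * x⁻¹ * (x * a * x⁻¹) = x * (u * a) * x⁻¹ := by group
        _ = x * (a * u) * x⁻¹ := by rw [h1]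
        _ = x * a * x⁻¹ * (x * u * x⁻¹) := by group
    have h1 : Nat.card Ua ≤ Nat.card U' := by
      have := Subgroup.card_le_of_le hle
      rwa [Subgroup.card_map_of_injective (MulAut.conj x).injective] at this
    omega
  set U₀ : Subgroup G := Ua ⊓ U' with hU₀def
  have hU₀U : U₀ ≤ U := inf_le_left.trans inf_le_left
  have hcount4 : Nat.card U ≤ 4 * Nat.card U₀ := by
    have h1 := card_mul_card_le_card_sup_mul_card_inf Ua U'
    have h2 : Nat.card ↥(Ua ⊔ U') ≤ Nat.card U :=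
      Subgroup.card_le_of_le (sup_le inf_le_left inf_le_left)
    have hpos : 0 < Nat.card U := Nat.card_pos
    have h3 : Nat.card U * Nat.card U ≤ Nat.card U * (4 * Nat.card U₀) := by
      calc Nat.card U * Nat.card U ≤ (2 * Nat.card Ua) * (2 * Nat.card U') :=
            Nat.mul_le_mul hcount2 hcount3
        _ = 4 * (Nat.card Ua * Nat.card U') := by ring
        _ ≤ 4 * (Nat.card ↥(Ua ⊔ U') * Nat.card ↥(Ua ⊓ U')) := Nat.mul_le_mul_left _ h1
        _ ≤ 4 * (Nat.card U * Nat.card U₀) :=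
            Nat.mul_le_mul_left _ (Nat.mul_le_mul_right _ h2)
        _ = Nat.card U * (4 * Nat.card U₀) := by ring
    exact Nat.le_of_mul_le_mul_left h3 hpos
  -- `x` centralizes `U₀`
  have hxU₀ : ∀ u ∈ U₀, x * u = u * x := by
    intro u hu
    have h1 : Commute u a := Subgroup.mem_centralizer_singleton_iff.1 hu.1.2
    have h2 : Commute u (x * a * x⁻¹) := Subgroup.mem_centralizer_singleton_iff.1 hu.2.2
    have h3 : Commute u (a * x * a⁻¹ * x) :=
      Subgroup.mem_centralizer_iff.1 hax u (hUW (hU₀U hu))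
    have h4 : Commute u (x * a * x⁻¹ * a⁻¹ * (a * x * a⁻¹ * x)) :=
      (h2.mul_right h1.inv_right).mul_right h3
    have h5 : x * a * x⁻¹ * a⁻¹ * (a * x * a⁻¹ * x) = x ^ 2 := by rw [pow_two]; group
    rw [h5] at h4
    obtain ⟨j, hj⟩ := hm
    have h6 : (x ^ 2) ^ (j + 1) = x := by
      rw [← pow_mul, show 2 * (j + 1) = m + 1 by omega, pow_succ, hxm, one_mul]
    have h7 := h4.pow_right (j + 1)
    rw [h6] at h7
    exact h7.eq.symm
  -- `x` does not centralize `U`
  have hnot : ¬ ∀ u ∈ U, x * u = u * x := by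
    intro hall
    apply hxW
    apply Subgroup.mem_centralizer_iff.2
    intro w hw
    have := axb_abelian (p := 2) W hWc B hBc (hP.to_le (sup_le_sup_right hBA W)) hxm
      (fun d hd hdm => eq_one_of_sq_of_odd_pow (hW2 d hd) hm hdm) hxB
      (fun u hu h => hall u (hmemU u hu h)) w hw
    exact this.symm
  have hex : ∃ u ∈ U, x * u * x⁻¹ * u⁻¹ ∉ U₀ := by
    by_contra hcon
    push Not at hcon
    apply hnot
    intro u hu
    have hd := hcon u hu
    have h1 : x * u * x⁻¹ = (x * u * x⁻¹ * u⁻¹) * u := by group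
    have h2 := pow_eq_one_of_conj_eq_mul h1 (hxU₀ _ hd) hxm
    have h3 := eq_one_of_sq_of_odd_pow (hW2 _ (hUW (hU₀U hd))) hm h2
    calc x * u = (x * u * x⁻¹ * u⁻¹) * (u * x) := by group
      _ = u * x := by rw [h3, one_mul]
  obtain ⟨u₁, hu₁, hu₁'⟩ := hex
  -- the section
  set Y : Subgroup G := Subgroup.normalizer (U : Set G) ⊓ Subgroup.centralizer (U₀ : Set G)
    with hYdef
  have hxY : x ∈ Y := by
    refine ⟨?_, ?_⟩
    · apply mem_normalizer_of_conj_le
      rintro _ ⟨u, hu, rfl⟩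
      exact hxU u hu
    · apply Subgroup.mem_centralizer_iff.2
      intro u hu
      exact (hxU₀ u hu).symm
  have haY : a ∈ Y := by
    refine ⟨?_, ?_⟩
    · apply mem_normalizer_of_conj_le
      rintro _ ⟨u, hu, rfl⟩
      exact haU u hu
    · apply Subgroup.mem_centralizer_iff.2
      intro u hu
      exact Subgroup.mem_centralizer_singleton_iff.1 hu.1.2
  have hUY : U ≤ Y := by
    intro u hu
    refine ⟨Subgroup.le_normalizer hu, ?_⟩
    apply Subgroup.mem_centralizer_iff.2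
    intro v hv
    exact hUc v (hU₀U hv) u hu
  have hYU : Y ≤ Subgroup.normalizer (U : Set G) := inf_le_left
  set N : Subgroup ↥Y := U₀.subgroupOf Y with hNdef
  have hNn : N.Normal := by
    constructor
    intro n hn g
    have hn' : (n : G) ∈ U₀ := Subgroup.mem_subgroupOf.1 hn
    have hg : (g : G) ∈ Subgroup.centralizer (U₀ : Set G) := g.2.2
    have h1 : (n : G) * (g : G) = (g : G) * (n : G) := Subgroup.mem_centralizer_iff.1 hg _ hn'
    have h2 : g * n * g⁻¹ = n := by
      apply Subtype.ext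
      show (g : G) * (n : G) * (g : G)⁻¹ = (n : G)
      rw [← h1]; group
    rw [h2]
    exact hn
  have hUn : (U.subgroupOf Y).Normal := (Subgroup.normal_subgroupOf_iff_le_normalizer hUY).2 hYU
  set T : Subgroup (↥Y ⧸ N) := (U.subgroupOf Y).map (QuotientGroup.mk' N) with hTdef
  have hTn : T.Normal := hUn.map _ (QuotientGroup.mk'_surjective N)
  have hT2 : ∀ t ∈ T, t ^ 2 = 1 := by
    rintro _ ⟨u, hu, rfl⟩
    rw [← map_pow]
    have : u ^ 2 = 1 := by
      apply Subtype.ext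
      show (u : G) ^ 2 = 1
      exact hW2 _ (hUW (Subgroup.mem_subgroupOf.1 hu))
    rw [this, map_one]
  have hT4 : Nat.card T ≤ 4 := by
    have h1 := T.card_mul_index
    have h2 : T.index = U.relIndex Y := by
      rw [hTdef, Subgroup.index_map_eq _ (QuotientGroup.mk'_surjective N)]
      · rfl
      · rw [QuotientGroup.ker_mk']
        intro n hn
        exact Subgroup.mem_subgroupOf.2 (hU₀U (Subgroup.mem_subgroupOf.1 hn))
    have h3 : Nat.card (↥Y ⧸ N) = U₀.relIndex Y := (Subgroup.index_eq_card N).symm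
    have h4 := Subgroup.relIndex_mul_relIndex U₀ U Y hU₀U hUY
    have h5 := Subgroup.relIndex_mul_relIndex (⊥ : Subgroup G) U₀ U bot_le hU₀U
    rw [Subgroup.relIndex_bot_left, Subgroup.relIndex_bot_left] at h5
    have hpos : 0 < U.relIndex Y :=
      Nat.pos_of_ne_zero (Subgroup.index_ne_zero_of_finite : (U.subgroupOf Y).index ≠ 0)
    have h6 : Nat.card T = U₀.relIndex U := by
      rw [h2, h3, ← h4] at h1
      exact Nat.eq_of_mul_eq_mul_right hpos h1
    rw [h6]
    have hpos0 : 0 < Nat.card U₀ := Nat.card_pos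
    by_contra hlt
    push Not at hlt
    nlinarith
  set xb : ↥Y ⧸ N := QuotientGroup.mk' N ⟨x, hxY⟩ with hxb
  set ab : ↥Y ⧸ N := QuotientGroup.mk' N ⟨a, haY⟩ with hab
  have hxb' : ∃ m : ℕ, Odd m ∧ xb ^ m = 1 := by
    refine ⟨m, hm, ?_⟩
    rw [hxb, ← map_pow]
    have : (⟨x, hxY⟩ : ↥Y) ^ m = 1 := Subtype.ext hxm
    rw [this, map_one]
  have hxT : ∃ t ∈ T, xb * t * xb⁻¹ ≠ t := by
    refine ⟨QuotientGroup.mk' N ⟨u₁, hUY hu₁⟩,
      ⟨⟨u₁, hUY hu₁⟩, Subgroup.mem_subgroupOf.2 hu₁, rfl⟩, ?_⟩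
    intro h
    rw [hxb, ← map_inv, ← map_mul, ← map_mul, QuotientGroup.mk'_apply, QuotientGroup.mk'_apply,
      QuotientGroup.eq] at h
    have h' : (x * u₁ * x⁻¹)⁻¹ * u₁ ∈ U₀ := Subgroup.mem_subgroupOf.1 h
    apply hu₁'
    have h'' := U₀.inv_mem h'
    have e : ((x * u₁ * x⁻¹)⁻¹ * u₁)⁻¹ = u₁⁻¹ * (x * u₁ * x⁻¹) := by group
    rw [e, hWc _ (W.inv_mem (hUW hu₁)) _ (hWn.conj_mem u₁ (hUW hu₁) x)] at h''
    exact h''
  have haxT : ab * xb * ab⁻¹ * xb ∈ Subgroup.centralizer (T : Set (↥Y ⧸ N)) := by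
    apply Subgroup.mem_centralizer_iff.2
    rintro _ ⟨u, hu, rfl⟩
    rw [hab, hxb, ← map_inv, ← map_mul, ← map_mul, ← map_mul, ← map_mul, ← map_mul]
    congr 1
    apply Subtype.ext
    show (u : G) * (a * x * a⁻¹ * x) = (a * x * a⁻¹ * x) * (u : G)
    exact Subgroup.mem_centralizer_iff.1 hax _ (hUW (Subgroup.mem_subgroupOf.1 hu))
  have h := involves_s4_of_four_group T hT2 hT4 xb ab hxb' hxT haxT
  exact involves_of_involves_subgroup Y (involves_of_involves_quotient N h)


end Cfsg.Agent.Lib.helper51
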