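import Mathlib
import Cfsg.Prelude.Def_Solvable
import Cfsg.Prelude.Def_Transfer
import Cfsg.Agent.Lib.helper51.GOff
import Cfsg.Agent.Lib.helper51.PCoreOf
import Cfsg.Agent.Lib.helper60.HallHigman
import Cfsg.Agent.Lib.helper13.Thompson2
import Cfsg.Agent.Lib.helper28.PCores
import Cfsg.Agent.Lib.helper28.CoprimeLayer

/-!
# Glauberman's factorization for solvable `S₄`-free groups with Sylow `2`-subgroups of class `≤ 2`

The core: if `X` is solvable, `S₄`-free, `O_{2'}(X) = 1` and a Sylow `2`-subgroup `S` has class at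
most `2`, then every elementary abelian subgroup of `S` of largest order lies in `O_2(X)`.
-/

set_option autoImplicit false

namespace Cfsg.Agent.Lib.helper51

open scoped commutatorElement

section gcore

universe u

variable {X : Type u} [Group X] [Finite X]

/-- `O_p(X / O_p(X)) = 1`. -/
theorem pCore_quotient_pCore_eq_bot (p : ℕ) [Fact p.Prime] [hn : (Cfsg.pCore p X).Normal] :
    Cfsg.pCore p (X ⧸ Cfsg.pCore p X) = ⊥ := by
  have hQp : IsPGroup p (Cfsg.pCore p X) := Cfsg.Agent.Lib.helper40.pCore_isPGroup p X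
  rw [eq_bot_iff]
  intro y hy
  obtain ⟨r, rfl⟩ := QuotientGroup.mk'_surjective (Cfsg.pCore p X) y
  have hYn : (Cfsg.pCore p (X ⧸ Cfsg.pCore p X)).Normal :=
    Cfsg.Agent.Lib.helper40.pCore_normal' p _
  have hYp : IsPGroup p (Cfsg.pCore p (X ⧸ Cfsg.pCore p X)) :=
    Cfsg.Agent.Lib.helper40.pCore_isPGroup p _
  set R : Subgroup X :=
    (Cfsg.pCore p (X ⧸ Cfsg.pCore p X)).comap (QuotientGroup.mk' (Cfsg.pCore p X)) with hR
  have hRn : R.Normal := inferInstance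
  have hRp : IsPGroup p R := by
    rintro ⟨c, hc⟩
    obtain ⟨j, hj⟩ := hYp ⟨QuotientGroup.mk' _ c, hc⟩
    have h1 : (QuotientGroup.mk' (Cfsg.pCore p X) c) ^ p ^ j = 1 := congrArg Subtype.val hj
    rw [← map_pow, QuotientGroup.mk'_apply, QuotientGroup.eq_one_iff] at h1
    obtain ⟨i, hi⟩ := hQp ⟨_, h1⟩
    refine ⟨j + i, ?_⟩
    apply Subtype.ext
    have h2 : ((c : X) ^ (p ^ j)) ^ (p ^ i) = 1 := congrArg Subtype.val hi
    rw [Subgroup.coe_pow, Subgroup.coe_one, pow_add, pow_mul]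
    exact h2
  have hle : R ≤ Cfsg.pCore p X := Cfsg.Agent.Lib.helper40.le_pCore R hRn hRp
  rw [Subgroup.mem_bot, QuotientGroup.mk'_apply, QuotientGroup.eq_one_iff]
  exact hle hy

/-- In a solvable group, an involution outside `O_2(X)` acts nontrivially modulo `O_2(X)` on a
normal subgroup that has odd order modulo `O_2(X)`. -/
theorem exists_odd_normal_not_centralized [Group.IsSolvable X] [hQn : (Cfsg.pCore 2 X).Normal]
    {a : X} (ha2 : a ^ 2 = 1) (haQ : a ∉ Cfsg.pCore 2 X) :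
    ∃ K : Subgroup X, K.Normal ∧ Cfsg.pCore 2 X ≤ K ∧
      (∀ k ∈ K, ∃ m : ℕ, Odd m ∧ k ^ m ∈ Cfsg.pCore 2 X) ∧
      ∃ k ∈ K, ⁅a, k⁆ ∉ Cfsg.pCore 2 X := by
  have : Fact (Nat.Prime 2) := ⟨Nat.prime_two⟩
  set Q := Cfsg.pCore 2 X with hQ
  set π : X →* X ⧸ Q := QuotientGroup.mk' Q with hπ
  have hπ1 : ∀ g : X, π g = 1 ↔ g ∈ Q := fun g => by
    rw [hπ, QuotientGroup.mk'_apply, QuotientGroup.eq_one_iff]
  have hOY : Cfsg.pCore 2 (X ⧸ Q) = ⊥ := pCore_quotient_pCore_eq_bot 2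
  set F : Subgroup (X ⧸ Q) := Cfsg.fittingSubgroup (X ⧸ Q) with hF
  have hFn : F.Normal := Cfsg.Agent.Lib.helper28.fittingSubgroup_normal _
  have hFodd : (Nat.card F).Coprime 2 :=
    Cfsg.Agent.Lib.helper28.fittingSubgroup_card_coprime_of_pCore_eq_bot hOY
  have hCF : Subgroup.centralizer (F : Set (X ⧸ Q)) ≤ F := by
    rw [hF, Cfsg.Agent.Lib.helper28.centralizer_fittingSubgroup_le_iff,
      Cfsg.Agent.Lib.helper28.layer_eq_bot_iff]
    intro K hK
    exact (Cfsg.Agent.Lib.helper28.isComponent_qs hK).not_isSolvable inferInstance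
  have hodd : Odd (Nat.card F) := Nat.coprime_two_right.mp hFodd
  refine ⟨F.comap π, inferInstance, ?_, ?_, ?_⟩
  · intro q hq
    rw [Subgroup.mem_comap, (hπ1 q).2 hq]
    exact F.one_mem
  · intro k hk
    refine ⟨Nat.card F, hodd, ?_⟩
    rw [← hπ1, map_pow]
    have h1 : (⟨π k, hk⟩ : F) ^ Nat.card F = 1 := pow_card_eq_one'
    exact congrArg Subtype.val h1
  · by_contra hcon
    push Not at hcon
    apply haQ
    rw [← hπ1]
    have hmem : π a ∈ Subgroup.centralizer (F : Set (X ⧸ Q)) := by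
      rw [Subgroup.mem_centralizer_iff]
      intro y hy
      obtain ⟨k, rfl⟩ := QuotientGroup.mk'_surjective Q y
      have h1 := hcon k hy
      rw [← hπ1, map_commutatorElement, commutatorElement_eq_one_iff_mul_comm] at h1
      exact h1.symm
    have h2 := hCF hmem
    have h3 : (⟨π a, h2⟩ : F) ^ Nat.card F = 1 := pow_card_eq_one'
    have h4 : (π a) ^ Nat.card F = 1 := congrArg Subtype.val h3
    have h5 : (π a) ^ 2 = 1 := by rw [← map_pow, ha2, map_one]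
    exact eq_one_of_sq_of_odd_pow h5 hodd h4

omit [Finite X] in
/-- A step of the derived series at which a property of subgroups switches on. -/
theorem exists_dser_step [Group.IsSolvable X] (K : Subgroup X) [hKn : K.Normal]
    (P : Subgroup X → Prop) (h0 : ¬ P K) (hbot : P ⊥) :
    ∃ K₁ : Subgroup X, K₁.Normal ∧ K₁ ≤ K ∧ ¬ P K₁ ∧ P ⁅K₁, K₁⁆ := by
  obtain ⟨n, hn⟩ := (Group.isSolvable_def X).mp inferInstance
  have hn' : Cfsg.Agent.Lib.helper60.dser K n = ⊥ :=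
    le_bot_iff.1 ((Cfsg.Agent.Lib.helper60.dser_le_derivedSeries K n).trans hn.le)
  have key : ∀ n : ℕ, P (Cfsg.Agent.Lib.helper60.dser K n) →
      ∃ i, ¬ P (Cfsg.Agent.Lib.helper60.dser K i) ∧ P (Cfsg.Agent.Lib.helper60.dser K (i + 1)) := by
    intro n
    induction n with
    | zero => intro h; exact absurd h h0
    | succ n ih =>
      intro h
      by_cases hn : P (Cfsg.Agent.Lib.helper60.dser K n)
      · exact ih hn
      · exact ⟨n, hn, h⟩
  obtain ⟨i, hi1, hi2⟩ := key n (hn' ▸ hbot)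
  exact ⟨Cfsg.Agent.Lib.helper60.dser K i, Cfsg.Agent.Lib.helper60.dser_normal K i,
    Cfsg.Agent.Lib.helper60.dser_le K i, hi1, hi2⟩

/-- **The core of Glauberman's factorization.** -/
theorem le_pCore_of_mem_maxIn [Group.IsSolvable X]
    (hS4 : ¬ Cfsg.Involves (Equiv.Perm (Fin 4)) X) (S : Sylow 2 X)
    (hcl : ∀ s₁ ∈ (S : Subgroup X), ∀ s₂ ∈ (S : Subgroup X), ∀ s₃ ∈ (S : Subgroup X),
      ⁅⁅s₁, s₂⁆, s₃⁆ = 1)
    (hO : Cfsg.pPrimeCore 2 X = ⊥) {A : Subgroup X}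
    (hA : A ∈ Cfsg.Agent.Lib.helper13.maxIn 2 (S : Subgroup X)) :
    A ≤ Cfsg.pCore 2 X := by
  classical
  have : Fact (Nat.Prime 2) := ⟨Nat.prime_two⟩
  by_contra hAQ
  have hQn : (Cfsg.pCore 2 X).Normal := Cfsg.Agent.Lib.helper40.pCore_normal' 2 X
  have hQp : IsPGroup 2 (Cfsg.pCore 2 X) := Cfsg.Agent.Lib.helper40.pCore_isPGroup 2 X
  have hCQ : Subgroup.centralizer ((Cfsg.pCore 2 X : Subgroup X) : Set X) ≤ Cfsg.pCore 2 X :=
    Cfsg.Agent.Lib.helper60.centralizer_pCore_le 2 hO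
  set Q : Subgroup X := Cfsg.pCore 2 X with hQdef
  have hQS : Q ≤ S := hQp.le_sylow_of_normal S
  obtain ⟨hAS, hAe, hAmax⟩ := hA
  obtain ⟨hAc, hA2⟩ := (Cfsg.Agent.Lib.helper13.isElementaryAbelian_iff A).1 hAe
  -- `W = Ω₁(Z(Q))`
  have hWn : (omegaZ 2 Q).Normal := omegaZ_normal 2 Q
  have hZn : (zOf Q).Normal := zOf_normal Q
  have hWc : ∀ u ∈ omegaZ 2 Q, ∀ v ∈ omegaZ 2 Q, u * v = v * u := fun u hu v hv =>
    omegaZ_comm hu hv
  have hW2 : ∀ w ∈ omegaZ 2 Q, w ^ 2 = 1 := fun w hw => hw.2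
  have hQC : Q ≤ Subgroup.centralizer (omegaZ 2 Q : Set X) := le_centralizer_omegaZ 2 Q
  have hWQ : omegaZ 2 Q ≤ Q := omegaZ_le 2 Q
  -- class two
  have hcl2 : ∀ q ∈ Q, ∀ s ∈ (S : Subgroup X), ⁅q, s⁆ ∈ zOf Q := by
    intro q hq s hs
    rw [mem_zOf]
    refine ⟨?_, fun t ht => ?_⟩
    · have : ⁅q, s⁆ = q * (s * q⁻¹ * s⁻¹) := by rw [commutatorElement_def]; group
      rw [this]
      exact Q.mul_mem hq (hQn.conj_mem _ (Q.inv_mem hq) s)
    · have h1 := hcl q (hQS hq) s hs t (hQS ht)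
      exact (commutatorElement_eq_one_iff_mul_comm.1 h1).symm
  -- the normal subgroup `E` of elements acting trivially on `Q / Z(Q)`
  have hQmap : (Q.map (QuotientGroup.mk' (zOf Q))).Normal :=
    hQn.map _ (QuotientGroup.mk'_surjective (zOf Q))
  set E : Subgroup X := (Subgroup.centralizer
    ((Q.map (QuotientGroup.mk' (zOf Q)) : Subgroup (X ⧸ zOf Q)) : Set (X ⧸ zOf Q))).comap
      (QuotientGroup.mk' (zOf Q)) with hE
  have hEn : E.Normal := inferInstance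
  have hmemE : ∀ x : X, x ∈ E ↔ ∀ k ∈ Q, ⁅x, k⁆ ∈ zOf Q := by
    intro x
    rw [hE, Subgroup.mem_comap, Subgroup.mem_centralizer_iff]
    constructor
    · intro h k hk
      have h1 := h _ ⟨k, hk, rfl⟩
      rw [← QuotientGroup.eq_one_iff, ← QuotientGroup.mk'_apply, map_commutatorElement,
        commutatorElement_eq_one_iff_mul_comm]
      exact h1.symm
    · rintro h _ ⟨k, hk, rfl⟩
      have h1 := h k hk
      rw [← QuotientGroup.eq_one_iff, ← QuotientGroup.mk'_apply, map_commutatorElement,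
        commutatorElement_eq_one_iff_mul_comm] at h1
      exact h1.symm
  have hAE : A ≤ E := by
    intro a ha
    rw [hmemE]
    intro q hq
    rw [← commutatorElement_inv]
    exact (zOf Q).inv_mem (hcl2 q hq a (hAS ha))
  -- `E ∩ C(W) ≤ Q`
  have hR : E ⊓ Subgroup.centralizer (omegaZ 2 Q : Set X) ≤ Q := by
    have hCWn : (Subgroup.centralizer (omegaZ 2 Q : Set X)).Normal := Subgroup.normal_centralizer
    have hRn : (E ⊓ Subgroup.centralizer (omegaZ 2 Q : Set X)).Normal := inferInstance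
    apply Cfsg.Agent.Lib.helper40.le_pCore _ hRn
    apply isPGroup_two_of_odd_trivial
    rintro g ⟨hgE, hgW⟩ m hm hgm
    have hgZ : ∀ v ∈ zOf Q, g * v = v * g := by
      apply commute_of_commute_omega (p := 2)
      · intro a ha b hb
        exact (mem_zOf.1 hb).2 a (zOf_le Q ha)
      · exact hQp.to_le (zOf_le Q)
      · rw [Subgroup.normalizer_eq_top_iff.2 hZn]; exact Subgroup.mem_top g
      · have h1 : orderOf g ∣ m := orderOf_dvd_of_pow_eq_one hgm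
        exact Nat.Coprime.coprime_dvd_left h1 (Nat.coprime_two_right.mpr hm)
      · intro v hv hv2
        have hvW : v ∈ omegaZ 2 Q := mem_omegaZ.2 ⟨hv, hv2⟩
        exact (Subgroup.mem_centralizer_iff.1 hgW v hvW).symm
    have hgQ : g ∈ Subgroup.centralizer (Q : Set X) := by
      rw [Subgroup.mem_centralizer_iff]
      intro q hq
      have hd : ⁅g, q⁆ ∈ zOf Q := (hmemE g).1 hgE q hq
      have h1 : g * q * g⁻¹ = ⁅g, q⁆ * q := by rw [commutatorElement_def]; group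
      have h2 := pow_eq_one_of_conj_eq_mul h1 (hgZ _ hd) hgm
      obtain ⟨j, hj⟩ := hQp ⟨⁅g, q⁆, zOf_le Q hd⟩
      have h3 : ⁅g, q⁆ ^ 2 ^ j = 1 := congrArg Subtype.val hj
      have h4 := eq_one_of_pow_two_pow_of_odd h3 hm h2
      exact (commutatorElement_eq_one_iff_mul_comm.1 h4).symm
    have hgQ' := hCQ hgQ
    obtain ⟨j, hj⟩ := hQp ⟨g, hgQ'⟩
    have h3 : g ^ 2 ^ j = 1 := congrArg Subtype.val hj
    exact eq_one_of_pow_two_pow_of_odd h3 hm hgm
  -- an element of `A` outside `Q`, and the normal subgroup `K`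
  obtain ⟨a₀, ha₀A, ha₀Q⟩ := SetLike.not_le_iff_exists.1 hAQ
  obtain ⟨K, hKn, hQK, hKodd, k₀, hk₀K, hk₀⟩ :=
    exists_odd_normal_not_centralized (hA2 a₀ ha₀A) ha₀Q
  obtain ⟨K₁, hK₁n, hK₁K, hnotP, hP⟩ := exists_dser_step K
    (fun L => ∀ k ∈ L, ∀ a ∈ A, ⁅a, k⁆ ∈ Q) (fun h => hk₀ (h k₀ hk₀K a₀ ha₀A))
    (fun k hk a _ => by
      rw [Subgroup.mem_bot] at hk
      rw [hk, commutatorElement_one_right]
      exact Q.one_mem)
  have hLn : (⁅K₁, K₁⁆ : Subgroup X).Normal := Subgroup.commutator_normal K₁ K₁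
  set M : Subgroup X := ⁅K₁, K₁⁆ ⊔ Q with hM
  have hMn : M.Normal := inferInstance
  have hQM : Q ≤ M := le_sup_right
  have hLM : ⁅K₁, K₁⁆ ≤ M := le_sup_left
  set ρ : X →* X ⧸ Q := QuotientGroup.mk' Q with hρ
  have hρ1 : ∀ g : X, ρ g = 1 ↔ g ∈ Q := fun g => by
    rw [hρ, QuotientGroup.mk'_apply, QuotientGroup.eq_one_iff]
  set π : X →* X ⧸ M := QuotientGroup.mk' M with hπ
  have hπ1 : ∀ g : X, π g = 1 ↔ g ∈ M := fun g => by
    rw [hπ, QuotientGroup.mk'_apply, QuotientGroup.eq_one_iff]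
  have hKoddρ : ∀ k ∈ K, ∃ m : ℕ, Odd m ∧ (ρ k) ^ m = 1 := by
    intro k hk
    obtain ⟨m, hm, hkm⟩ := hKodd k hk
    exact ⟨m, hm, by rw [← map_pow]; exact (hρ1 _).2 hkm⟩
  -- commutators in `M` lie in `Q`
  have key : ∀ b ∈ A, ∀ u ∈ K₁, ⁅b, u⁆ ∈ M → ⁅b, u⁆ ∈ Q := by
    intro b hb u hu hc
    have hcK : ⁅b, u⁆ ∈ K₁ := by
      rw [commutatorElement_def]
      exact K₁.mul_mem (hK₁n.conj_mem u hu b) (K₁.inv_mem hu)
    have hcomm : ρ b * ρ ⁅b, u⁆ = ρ ⁅b, u⁆ * ρ b := by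
      have hle : M ≤ (Subgroup.centralizer ({ρ b} : Set (X ⧸ Q))).comap ρ := by
        apply sup_le
        · intro l hl
          rw [Subgroup.mem_comap, Subgroup.mem_centralizer_singleton_iff]
          have h1 := hP l hl b hb
          rw [← hρ1, map_commutatorElement, commutatorElement_eq_one_iff_mul_comm] at h1
          exact h1.symm
        · intro q hq
          rw [Subgroup.mem_comap, (hρ1 q).2 hq]
          exact Subgroup.one_mem _
      have h1 := hle hc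
      rw [Subgroup.mem_comap, Subgroup.mem_centralizer_singleton_iff] at h1
      exact h1.symm
    have hconj : ρ b * ρ u * (ρ b)⁻¹ = ρ ⁅b, u⁆ * ρ u := by
      rw [map_commutatorElement, commutatorElement_def]; group
    have h2 := conj_pow_mul_of_commute hconj hcomm 2
    have hb2 : ρ b ^ 2 = 1 := by rw [← map_pow, hA2 b hb, map_one]
    rw [hb2, one_mul, inv_one, mul_one] at h2
    have h3 : ρ ⁅b, u⁆ ^ 2 = 1 := by
      have : ρ ⁅b, u⁆ ^ 2 * ρ u = 1 * ρ u := by rw [one_mul]; exact h2.symm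
      exact mul_right_cancel this
    obtain ⟨m, hm, hcm⟩ := hKoddρ _ (hK₁K hcK)
    exact (hρ1 _).1 (eq_one_of_sq_of_odd_pow h3 hm hcm)
  -- the quotient by `M`
  have hKmapn : (K₁.map π).Normal := hK₁n.map _ (QuotientGroup.mk'_surjective M)
  have hne : ∃ a ∈ A.map π, ∃ k ∈ K₁.map π, a * k ≠ k * a := by
    by_contra hcon
    push Not at hcon
    apply hnotP
    intro k hk a ha
    apply key a ha k hk
    rw [← hπ1, map_commutatorElement, commutatorElement_eq_one_iff_mul_comm]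
    exact hcon (π a) ⟨a, ha, rfl⟩ (π k) ⟨k, hk, rfl⟩
  obtain ⟨xq, hxqK, hxq1, ⟨aq, haqA, haq⟩, hall⟩ := exists_inverted_eigen (K₁.map π) (A.map π)
    (by rw [Subgroup.normalizer_eq_top_iff.2 hKmapn]; exact le_top)
    (by
      rintro _ ⟨k, hk, rfl⟩ _ ⟨k', hk', rfl⟩
      have h1 : ⁅k, k'⁆ ∈ M := hLM (Subgroup.commutator_mem_commutator hk hk')
      rw [← hπ1, map_commutatorElement, commutatorElement_eq_one_iff_mul_comm] at h1
      exact h1)
    (by
      rintro _ ⟨a, ha, rfl⟩ _ ⟨b, hb, rfl⟩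
      rw [← map_mul, ← map_mul, hAc a ha b hb])
    (by
      rintro _ ⟨a, ha, rfl⟩
      rw [← map_pow, hA2 a ha, map_one])
    hne
  obtain ⟨y, hyK₁, rfl⟩ := hxqK
  obtain ⟨a, haA, rfl⟩ := haqA
  have haa : a * a = 1 := by rw [← pow_two]; exact hA2 a haA
  have hainv : a⁻¹ = a := inv_eq_of_mul_eq_one_left haa
  set x₀ : X := y⁻¹ * (a * y * a⁻¹) with hx₀
  have hx₀K₁ : x₀ ∈ K₁ := K₁.mul_mem (K₁.inv_mem hyK₁) (hK₁n.conj_mem y hyK₁ a)
  have hx₀E : x₀ ∈ E := by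
    have h1 : x₀ = (y⁻¹ * a * y⁻¹⁻¹) * a⁻¹ := by rw [hx₀]; group
    rw [h1]
    exact E.mul_mem (hEn.conj_mem a (hAE haA) y⁻¹) (E.inv_mem (hAE haA))
  have hinv : a * x₀ * a⁻¹ = x₀⁻¹ := by
    rw [hx₀]
    calc a * (y⁻¹ * (a * y * a⁻¹)) * a⁻¹
        = (a * y * a⁻¹)⁻¹ * ((a * a) * y * (a * a)⁻¹) := by group
      _ = (y⁻¹ * (a * y * a⁻¹))⁻¹ := by rw [haa]; group
  have hπy_odd : ∃ m : ℕ, Odd m ∧ (π y) ^ m = 1 := by
    obtain ⟨m, hm, hym⟩ := hKodd y (hK₁K hyK₁)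
    exact ⟨m, hm, by rw [← map_pow]; exact (hπ1 _).2 (hQM hym)⟩
  have hx₀M : x₀ ∉ M := by
    intro h
    rw [← hπ1, hx₀, map_mul, map_inv, map_mul, map_mul, map_inv, haq] at h
    have h2 : (π y) ^ 2 = 1 := by
      rw [pow_two, ← inv_inv (π y * π y), mul_inv_rev, h, inv_one]
    obtain ⟨m, hm, hym⟩ := hπy_odd
    exact hxq1 (eq_one_of_sq_of_odd_pow h2 hm hym)
  have hx₀W : x₀ ∉ Subgroup.centralizer (omegaZ 2 Q : Set X) :=
    fun h => hx₀M (hQM (hR ⟨hx₀E, h⟩))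
  have hinvρ : ρ a * ρ x₀ * (ρ a)⁻¹ = (ρ x₀)⁻¹ := by
    rw [← map_inv, ← map_mul, ← map_mul, hinv, map_inv]
  -- elements of `A` centralizing `π y`
  have hcentral : ∀ b ∈ A, π b * π y * (π b)⁻¹ = π y → Commute (ρ b) (ρ x₀) := by
    intro b hb h
    have h1 : ⁅b, y⁆ ∈ M := by
      rw [← hπ1, map_commutatorElement, commutatorElement_def, h, mul_inv_cancel]
    have h2 := key b hb y hyK₁ h1
    rw [← hρ1, map_commutatorElement, commutatorElement_eq_one_iff_mul_comm] at h2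
    have hby : Commute (ρ b) (ρ y) := h2
    have hba : Commute (ρ b) (ρ a) := by
      show ρ b * ρ a = ρ a * ρ b
      rw [← map_mul, ← map_mul, hAc b hb a haA]
    rw [hx₀, map_mul, map_inv, map_mul, map_mul, map_inv]
    exact hby.inv_right.mul_right ((hba.mul_right hby).mul_right hba.inv_right)
  -- elements of `A` inverting `π y`
  have hinvert : ∀ b ∈ A, π b * π y * (π b)⁻¹ = (π y)⁻¹ →
      ρ b * ρ x₀ * (ρ b)⁻¹ = (ρ x₀)⁻¹ := by
    intro b hb h
    have h1 : π (a * b) * π y * (π (a * b))⁻¹ = π y := by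
      rw [map_mul]
      calc π a * π b * π y * (π a * π b)⁻¹
          = π a * (π b * π y * (π b)⁻¹) * (π a)⁻¹ := by group
        _ = (π a * π y * (π a)⁻¹)⁻¹ := by rw [h]; group
        _ = π y := by rw [haq, inv_inv]
    have h2 := hcentral (a * b) (A.mul_mem haA hb) h1
    have h3 : ρ (a * b) * ρ x₀ * (ρ (a * b))⁻¹ = ρ x₀ := by rw [h2.eq]; group
    have h5 : (ρ a)⁻¹ = ρ a := by rw [← map_inv, hainv]
    rw [map_mul] at h3
    calc ρ b * ρ x₀ * (ρ b)⁻¹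
        = (ρ a)⁻¹ * (ρ a * ρ b * ρ x₀ * (ρ a * ρ b)⁻¹) * ((ρ a)⁻¹)⁻¹ := by group
      _ = (ρ a)⁻¹ * ρ x₀ * ((ρ a)⁻¹)⁻¹ := by rw [h3]
      _ = ρ a * ρ x₀ * (ρ a)⁻¹ := by rw [inv_inv, h5]
      _ = (ρ x₀)⁻¹ := hinvρ
  -- an odd-order lift
  have hcop : ∀ k ∈ K, ∃ m : ℕ, m.Coprime 2 ∧ k ^ m ∈ Q := by
    intro k hk
    obtain ⟨m, hm, hkm⟩ := hKodd k hk
    exact ⟨m, Nat.coprime_two_right.mpr hm, hkm⟩
  obtain ⟨x, hxK, hxodd, hxeq⟩ := exists_odd_lift Q K hcop (hK₁K hx₀K₁)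
  have hxeq' : ρ x = ρ x₀ := hxeq
  have hmemQ : ∀ g : X, ρ g = 1 → g ∈ Subgroup.centralizer (omegaZ 2 Q : Set X) :=
    fun g hg => hQC ((hρ1 g).1 hg)
  apply hS4
  apply involves_s4_of_offender_pair (omegaZ 2 Q) hWc hW2 A hAc
    (S.isPGroup'.to_le (sup_le hAS (hWQ.trans hQS))) ?_ x a haA hxodd ?_ ?_ ?_
  · intro B U hBA hUW hBU
    apply hAmax (B ⊔ U) (sup_le (hBA.trans hAS) ((hUW.trans hWQ).trans hQS))
    apply Cfsg.Agent.Lib.helper13.elemAb_sup
    · rw [Cfsg.Agent.Lib.helper13.isElementaryAbelian_iff]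
      exact ⟨fun a ha b hb => hAc a (hBA ha) b (hBA hb), fun a ha => hA2 a (hBA ha)⟩
    · rw [Cfsg.Agent.Lib.helper13.isElementaryAbelian_iff]
      exact ⟨fun a ha b hb => hWc a (hUW ha) b (hUW hb), fun a ha => hW2 a (hUW ha)⟩
    · intro u hu
      rw [Subgroup.mem_centralizer_iff]
      intro b hb
      exact hBU b hb u hu
  · intro h
    apply hx₀W
    have h1 : x₀ = x * (x⁻¹ * x₀) := by group
    rw [h1]
    apply Subgroup.mul_mem _ h
    apply hmemQ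
    rw [map_mul, map_inv, hxeq', inv_mul_cancel]
  · apply hmemQ
    rw [map_mul, map_mul, map_mul, map_inv, hxeq', hinvρ, inv_mul_cancel]
  · intro b hb
    rcases hall (π b) ⟨b, hb, rfl⟩ with h | h
    · left
      apply hmemQ
      rw [map_mul, map_mul, map_mul, map_inv, map_inv, hxeq']
      have := hcentral b hb h
      rw [this.eq]; group
    · right
      apply hmemQ
      rw [map_mul, map_mul, map_mul, map_inv, hxeq', hinvert b hb h, inv_mul_cancel]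

end gcore

end Cfsg.Agent.Lib.helper51
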