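/-
S1430 (NA), piece N5a: the commutator subgroup of an `r'`-subgroup of `N_G(S)` centralizes `S`,
for a Sylow `r`-subgroup `S` with a maximal elementary abelian subgroup of order `r ^ 2`.
-/
import Mathlib
import Cfsg.Agent.Lib.helper25.BGTenNineC

set_option autoImplicit false
open Cfsg

namespace Cfsg.Agent.Lib.helper51.BGNA

variable {G : Type*} [Group G]

/-- PIECE N5a: the commutator subgroup of an `r'`-subgroup of `N_G(S)` centralizes `S`, for a
Sylow `r`-subgroup `S` having a maximal elementary abelian subgroup of order `r ^ 2`. -/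
theorem na_comm_cent [Finite G] (hG : IsMinSimpleOddOrder G) (r : ℕ) [Fact r.Prime]
    (S : Sylow r G) (A : Subgroup G) (hAS : A ≤ (S : Subgroup G))
    (hAe : IsElementaryAbelian r A) (hA2 : Nat.card A = r ^ 2)
    (hAmax : ∀ B : Subgroup G, IsElementaryAbelian r B → A ≤ B → B = A)
    (V : Subgroup G) (hVN : V ≤ Subgroup.normalizer ((S : Subgroup G) : Set G))
    (hV : (Nat.card V).Coprime r) :
    ⁅V, V⁆ ≤ Subgroup.centralizer ((S : Subgroup G) : Set G) := by
  have hrr : r.Prime := Fact.out
  have hodd : Odd (Nat.card G) := hG.1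
  set Q : Subgroup G := (S : Subgroup G) with hQdef
  have hr2 : r ≠ 2 := by
    rintro rfl
    have h1 : Nat.card A ∣ Nat.card G := Subgroup.card_subgroup_dvd_card A
    rw [hA2] at h1
    have h2 : 2 ∣ Nat.card G := (dvd_pow_self 2 (by norm_num)).trans h1
    exact (Nat.not_even_iff_odd.mpr hodd) (even_iff_two_dvd.mpr h2)
  have hQr : IsPGroup r Q := S.isPGroup'
  have hQ1 : Q ≠ ⊥ := by
    intro hb
    have h1 : A = ⊥ := le_bot_iff.mp (hb ▸ hAS)
    rw [h1, Subgroup.card_bot] at hA2
    have : 1 < r ^ 2 := Nat.one_lt_pow (by norm_num) hrr.one_lt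
    omega
  set N : Subgroup G := Subgroup.normalizer (Q : Set G) with hNdef
  have hN : N ≠ ⊤ := Cfsg.Agent.Lib.helper25.BGT.normalizer_ne_top_of_isPGroup hG r Q hQr hQ1
  have hNs : Group.IsSolvable N := hG.2.2.2 N hN
  have hNodd : Odd (Nat.card N) := Odd.of_dvd_nat hodd (Subgroup.card_subgroup_dvd_card N)
  have key : ∀ c ∈ ⁅N, N⁆, (orderOf c).Coprime r → ∀ x ∈ Q, c * x = x * c := by
    by_cases hr : Cfsg.PRankLE r 2 Q
    · exact Cfsg.Agent.Lib.helper30.commutator_centralizes r hr2 Q N hQr hr le_rfl hNs hNodd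
    · have hB' := (Cfsg.Agent.Lib.helper8.bg_elemAb_iff A).mp hAe
      have hE : Cfsg.IsElementaryAbelian r (A.subgroupOf Q) := by
        rw [Cfsg.Agent.Lib.helper8.bg_elemAb_iff]
        refine ⟨fun a ha b hb => ?_, fun a ha => ?_⟩
        · exact Subtype.ext (hB'.1 a ha b hb)
        · exact Subtype.ext (by simpa using hB'.2 a ha)
      have hE2 : Nat.card (A.subgroupOf Q) = r ^ 2 := by
        rw [← hA2]
        exact Nat.card_congr (Subgroup.subgroupOfEquivOfLe hAS).toEquiv
      have hEmax : ∀ B' : Subgroup Q, Cfsg.IsElementaryAbelian r B' → A.subgroupOf Q ≤ B' →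
          B' = A.subgroupOf Q := by
        intro B' hB'ea hle
        have hB'2 := (Cfsg.Agent.Lib.helper8.bg_elemAb_iff B').mp hB'ea
        have h1 : Cfsg.IsElementaryAbelian r (B'.map Q.subtype) := by
          rw [Cfsg.Agent.Lib.helper8.bg_elemAb_iff]
          refine ⟨?_, ?_⟩
          · rintro _ ⟨a, ha, rfl⟩ _ ⟨b, hb, rfl⟩
            have := hB'2.1 a ha b hb
            exact congrArg Subtype.val this
          · rintro _ ⟨a, ha, rfl⟩
            have := hB'2.2 a ha
            simpa using congrArg Subtype.val this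
        have h2 : A ≤ B'.map Q.subtype := by
          intro b hb
          exact ⟨⟨b, hAS hb⟩, hle hb, rfl⟩
        have h3 := hAmax _ h1 h2
        ext x
        constructor
        · intro hx
          have : (x : G) ∈ B'.map Q.subtype := ⟨x, hx, rfl⟩
          rw [h3] at this
          exact this
        · intro hx
          exact hle hx
      have hn : Cfsg.IsNarrow r Q :=
        Cfsg.Agent.Lib.helper8.bg_isNarrow_of_max_elemAb r hr2 hQr (A.subgroupOf Q) hE hE2 hEmax
      exact (Cfsg.Agent.Lib.helper30.narrow_aut r hr2 Q hQr hr hn N le_rfl).1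
  intro c hc
  have hcN : c ∈ ⁅N, N⁆ := Subgroup.commutator_mono hVN hVN hc
  have hcV : c ∈ V :=
    (Subgroup.commutator_le (H₁ := V) (H₂ := V) (H₃ := V)).mpr
      (fun a ha b hb => V.mul_mem (V.mul_mem (V.mul_mem ha hb) (V.inv_mem ha)) (V.inv_mem hb)) hc
  have hord : (orderOf c).Coprime r := by
    have h1 : orderOf c ∣ Nat.card V := by
      have := orderOf_dvd_natCard (⟨c, hcV⟩ : V)
      rwa [Subgroup.orderOf_mk] at this
    exact Nat.Coprime.coprime_dvd_left h1 hV
  rw [Subgroup.mem_centralizer_iff]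
  intro x hx
  exact (key c hcN hord x hx).symm

end Cfsg.Agent.Lib.helper51.BGNA
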