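/-
Characteristic-free theory of the two classes of maximal totally singular subspaces of a hyperbolic
quadratic space over a finite field (on top of helper42's parity theorem and Dickson invariant),
and similarities preserving the classes.
-/
import Mathlib
import Cfsg.Agent.Lib.helper42.TwoClassesSim
import Cfsg.Agent.S0786

set_option autoImplicit false
set_option linter.unusedSectionVars false

namespace Cfsg.Agent.Lib.helper51

open Matrix Module Cfsg Cfsg.Agent.Lib.helper42 Cfsg.Agent.Lib.helper17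

section TwoClass

variable {ι : Type} [Fintype ι] [DecidableEq ι] {F : Type*} [Field F]

/-- The triangle lemma: for three totally singular subspaces of half the dimension, the sum of the
dimensions of the pairwise intersections is congruent to the common dimension mod 2. -/
theorem ofld_triangle (Q : QuadraticForm F (ι → F)) (hQ : (QuadraticMap.polarBilin Q).Nondegenerate)
    (hgen : reflSubgroup Q = ⊤) (U₁ U₂ U₃ : Submodule F (ι → F))
    (h₁ : ∀ u ∈ U₁, Q u = 0) (h₂ : ∀ u ∈ U₂, Q u = 0) (h₃ : ∀ u ∈ U₃, Q u = 0)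
    (d₁ : 2 * finrank F U₁ = Fintype.card ι) (d₂ : 2 * finrank F U₂ = Fintype.card ι)
    (d₃ : 2 * finrank F U₃ = Fintype.card ι) :
    (finrank F (U₁ ⊓ U₂ : Submodule F (ι → F)) + finrank F (U₂ ⊓ U₃ : Submodule F (ι → F))
      + finrank F (U₁ ⊓ U₃ : Submodule F (ι → F))) % 2 = finrank F U₁ % 2 := by
  obtain ⟨g, hg⟩ := exists_isometry_map_ts Q hQ U₁ U₂ h₁ h₂ (by omega)
  obtain ⟨h, hh⟩ := exists_isometry_map_ts Q hQ U₂ U₃ h₂ h₃ (by omega)
  have hgi := (mem_isometryGroup_iff _ _).mp g.2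
  have hhi := (mem_isometryGroup_iff _ _).mp h.2
  have hhgi := (mem_isometryGroup_iff _ _).mp (h * g).2
  have hmap3 : U₁.map (((h * g : ↥(Cfsg.isometryGroup F ⇑Q)) : Matrix.GeneralLinearGroup ι F)
      : Matrix ι ι F).mulVecLin = U₃ := by
    rw [Subgroup.coe_mul, map_GL_mul, hg, hh]
  have l12 : finrank F (U₁ ⊓ U₂ : Submodule F (ι → F)) ≤ finrank F U₁ :=
    Submodule.finrank_mono inf_le_left
  have l23 : finrank F (U₂ ⊓ U₃ : Submodule F (ι → F)) ≤ finrank F U₂ :=
    Submodule.finrank_mono inf_le_left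
  have l13 : finrank F (U₁ ⊓ U₃ : Submodule F (ι → F)) ≤ finrank F U₁ :=
    Submodule.finrank_mono inf_le_left
  have P1 := parity_inf_map Q hQ U₁ h₁ d₁
    (finrank F U₁ - finrank F (U₁ ⊓ U₂ : Submodule F (ι → F))) _ hgi (by rw [hg]; omega)
  have P2 := parity_inf_map Q hQ U₂ h₂ d₂
    (finrank F U₂ - finrank F (U₂ ⊓ U₃ : Submodule F (ι → F))) _ hhi (by rw [hh]; omega)
  have P3 := parity_inf_map Q hQ U₁ h₁ d₁
    (finrank F U₁ - finrank F (U₁ ⊓ U₃ : Submodule F (ι → F))) _ hhgi (by rw [hmap3]; omega)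
  have hD := map_mul (dickson Q hQ hgen) h g
  rw [dickson_apply, dickson_apply, dickson_apply, ← ofAdd_add] at hD
  have hD' := Multiplicative.ofAdd.injective hD
  rw [← Nat.cast_add] at hD'
  have hD'' := (ZMod.natCast_eq_natCast_iff' _ _ _).mp hD'
  omega

/-- The class of a matrix relative to a fixed totally singular subspace `U₀` of half the dimension:
the codimension of `U₀ ∩ g U₀` in `U₀` is even. -/
def ofldCls (U₀ : Submodule F (ι → F)) (g : Matrix ι ι F) : Prop :=
  Even (finrank F U₀ - finrank F (U₀ ⊓ U₀.map g.mulVecLin : Submodule F (ι → F)))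

theorem ofld_ts_map (Q : QuadraticForm F (ι → F)) (U : Submodule F (ι → F))
    (hU : ∀ u ∈ U, Q u = 0) (g : Matrix ι ι F) (μ : F)
    (hg : ∀ x, Q (g *ᵥ x) = μ * Q x) : ∀ w ∈ U.map g.mulVecLin, Q w = 0 := by
  rintro _ ⟨u, hu, rfl⟩
  rw [Matrix.mulVecLin_apply, hg, hU u hu, mul_zero]

theorem ofld_finrank_inf_map (g : Matrix.GeneralLinearGroup ι F) (A B : Submodule F (ι → F)) :
    finrank F (A.map (g : Matrix ι ι F).mulVecLin ⊓ B.map (g : Matrix ι ι F).mulVecLin :
      Submodule F (ι → F)) = finrank F (A ⊓ B : Submodule F (ι → F)) := by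
  rw [← Submodule.map_inf _ (mulVecLin_injective_GL g), finrank_map_GL]

/-- A similarity preserves the two classes iff it does so at one totally singular subspace of half the
dimension. -/
theorem ofld_psc_iff (Q : QuadraticForm F (ι → F)) (hQ : (QuadraticMap.polarBilin Q).Nondegenerate)
    (hgen : reflSubgroup Q = ⊤) (U₀ : Submodule F (ι → F)) (hU₀ : ∀ u ∈ U₀, Q u = 0)
    (hd₀ : 2 * finrank F U₀ = Fintype.card ι) (g : Matrix.GeneralLinearGroup ι F) (μ : F)
    (hg : ∀ x, Q ((g : Matrix ι ι F) *ᵥ x) = μ * Q x) :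
    PreservesSingularClasses ⇑Q (g : Matrix ι ι F) ↔ ofldCls U₀ (g : Matrix ι ι F) := by
  constructor
  · intro h
    exact h U₀ ((isMaxTS_iff Q hQ U₀ hU₀ hd₀ U₀).mpr ⟨hU₀, hd₀⟩)
  · intro h U hU
    obtain ⟨hUts, hUd⟩ := (isMaxTS_iff Q hQ U₀ hU₀ hd₀ U).mp hU
    show Even (finrank F U - finrank F (U ⊓ U.map (g : Matrix ι ι F).mulVecLin :
      Submodule F (ι → F)))
    have tg0 := ofld_ts_map Q U₀ hU₀ (g : Matrix ι ι F) μ hg
    have tg := ofld_ts_map Q U hUts (g : Matrix ι ι F) μ hg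
    have fg0 := finrank_map_GL g U₀
    have fg := finrank_map_GL g U
    have T1 := ofld_triangle Q hQ hgen U U₀ (U₀.map (g : Matrix ι ι F).mulVecLin) hUts hU₀ tg0 hUd hd₀
      (by omega)
    have T2 := ofld_triangle Q hQ hgen U (U₀.map (g : Matrix ι ι F).mulVecLin)
      (U.map (g : Matrix ι ι F).mulVecLin) hUts tg0 tg hUd (by omega) (by omega)
    have e1 := ofld_finrank_inf_map g U₀ U
    have e2 : finrank F (U₀ ⊓ U : Submodule F (ι → F)) = finrank F (U ⊓ U₀ : Submodule F (ι → F)) := by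
      rw [inf_comm]
    have l1 : finrank F (U₀ ⊓ U₀.map (g : Matrix ι ι F).mulVecLin : Submodule F (ι → F))
        ≤ finrank F U₀ := Submodule.finrank_mono inf_le_left
    have l2 : finrank F (U ⊓ U.map (g : Matrix ι ι F).mulVecLin : Submodule F (ι → F))
        ≤ finrank F U := Submodule.finrank_mono inf_le_left
    unfold ofldCls at h
    rw [Nat.even_iff] at h ⊢
    omega

/-- Multiplicativity of the class. -/
theorem ofld_cls_mul (Q : QuadraticForm F (ι → F)) (hQ : (QuadraticMap.polarBilin Q).Nondegenerate)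
    (hgen : reflSubgroup Q = ⊤) (U₀ : Submodule F (ι → F)) (hU₀ : ∀ u ∈ U₀, Q u = 0)
    (hd₀ : 2 * finrank F U₀ = Fintype.card ι) (g h : Matrix.GeneralLinearGroup ι F) (μ ν : F)
    (hg : ∀ x, Q ((g : Matrix ι ι F) *ᵥ x) = μ * Q x)
    (hh : ∀ x, Q ((h : Matrix ι ι F) *ᵥ x) = ν * Q x) :
    ofldCls U₀ ((g * h : Matrix.GeneralLinearGroup ι F) : Matrix ι ι F) ↔
      (ofldCls U₀ (g : Matrix ι ι F) ↔ ofldCls U₀ (h : Matrix ι ι F)) := by
  have tg := ofld_ts_map Q U₀ hU₀ (g : Matrix ι ι F) μ hg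
  have th := ofld_ts_map Q U₀ hU₀ (h : Matrix ι ι F) ν hh
  have tgh := ofld_ts_map Q (U₀.map (h : Matrix ι ι F).mulVecLin) th (g : Matrix ι ι F) μ hg
  have fg := finrank_map_GL g U₀
  have fh := finrank_map_GL h U₀
  have fgh := finrank_map_GL g (U₀.map (h : Matrix ι ι F).mulVecLin)
  have T := ofld_triangle Q hQ hgen U₀ (U₀.map (g : Matrix ι ι F).mulVecLin)
    ((U₀.map (h : Matrix ι ι F).mulVecLin).map (g : Matrix ι ι F).mulVecLin) hU₀ tg tgh hd₀
    (by omega) (by omega)
  have e1 := ofld_finrank_inf_map g U₀ (U₀.map (h : Matrix ι ι F).mulVecLin)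
  have l1 : finrank F (U₀ ⊓ U₀.map (g : Matrix ι ι F).mulVecLin : Submodule F (ι → F))
      ≤ finrank F U₀ := Submodule.finrank_mono inf_le_left
  have l2 : finrank F (U₀ ⊓ U₀.map (h : Matrix ι ι F).mulVecLin : Submodule F (ι → F))
      ≤ finrank F U₀ := Submodule.finrank_mono inf_le_left
  have l3 : finrank F (U₀ ⊓ (U₀.map (h : Matrix ι ι F).mulVecLin).map (g : Matrix ι ι F).mulVecLin :
      Submodule F (ι → F)) ≤ finrank F U₀ := Submodule.finrank_mono inf_le_left
  unfold ofldCls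
  rw [map_GL_mul, Nat.even_iff, Nat.even_iff, Nat.even_iff]
  omega

theorem ofld_cls_one (U₀ : Submodule F (ι → F)) :
    ofldCls U₀ ((1 : Matrix.GeneralLinearGroup ι F) : Matrix ι ι F) := by
  unfold ofldCls
  rw [Units.val_one, Matrix.mulVecLin_one, Submodule.map_id, inf_idem, Nat.sub_self]
  exact Even.zero

theorem ofld_cls_inv (U₀ : Submodule F (ι → F)) (g : Matrix.GeneralLinearGroup ι F) :
    ofldCls U₀ ((g⁻¹ : Matrix.GeneralLinearGroup ι F) : Matrix ι ι F) ↔
      ofldCls U₀ (g : Matrix ι ι F) := by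
  unfold ofldCls
  have e1 := ofld_finrank_inf_map g U₀
    (U₀.map ((g⁻¹ : Matrix.GeneralLinearGroup ι F) : Matrix ι ι F).mulVecLin)
  rw [← map_GL_mul, mul_inv_cancel, Units.val_one, Matrix.mulVecLin_one, Submodule.map_id] at e1
  rw [← e1, inf_comm]

end TwoClass

end Cfsg.Agent.Lib.helper51
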