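/-
Field automorphisms acting on subspaces coordinatewise, and the normal forms
`Σ x_i y_i + ε x_l² + ζ y_l²` of even-dimensional quadratic forms.
-/
import Mathlib
import Cfsg.Agent.Lib.helper51.OFieldA
import Cfsg.Agent.Lib.helper49.PlusOmega

set_option autoImplicit false
set_option linter.unusedSectionVars false

namespace Cfsg.Agent.Lib.helper51

open Matrix Module Cfsg Cfsg.Agent.Lib.helper42 Cfsg.Agent.Lib.helper17

section Sig

variable {ι : Type} [Fintype ι] [DecidableEq ι] {F : Type*} [Field F]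

/-- The image of a subspace under the coordinatewise field automorphism `σ`. -/
def sigSub (σ : F ≃+* F) (W : Submodule F (ι → F)) : Submodule F (ι → F) where
  carrier := {v | (fun i => σ.symm (v i)) ∈ W}
  add_mem' := by
    intro a b ha hb
    have e : (fun i => σ.symm ((a + b) i)) = (fun i => σ.symm (a i)) + (fun i => σ.symm (b i)) := by
      funext i
      simp
    show (fun i => σ.symm ((a + b) i)) ∈ W
    rw [e]
    exact W.add_mem ha hb
  zero_mem' := by
    have e : (fun i => σ.symm ((0 : ι → F) i)) = 0 := by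
      funext i
      simp
    show (fun i => σ.symm ((0 : ι → F) i)) ∈ W
    rw [e]
    exact W.zero_mem
  smul_mem' := by
    intro c x hx
    have e : (fun i => σ.symm ((c • x) i)) = σ.symm c • (fun i => σ.symm (x i)) := by
      funext i
      simp
    show (fun i => σ.symm ((c • x) i)) ∈ W
    rw [e]
    exact W.smul_mem _ hx

theorem mem_sigSub (σ : F ≃+* F) (W : Submodule F (ι → F)) (v : ι → F) :
    v ∈ sigSub σ W ↔ (fun i => σ.symm (v i)) ∈ W := Iff.rfl

theorem sigSub_inf (σ : F ≃+* F) (A B : Submodule F (ι → F)) :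
    sigSub σ (A ⊓ B) = sigSub σ A ⊓ sigSub σ B := by
  ext v
  simp only [mem_sigSub, Submodule.mem_inf]

theorem sigSub_symm_sigSub (σ : F ≃+* F) (W : Submodule F (ι → F)) :
    sigSub σ.symm (sigSub σ W) = W := by
  ext v
  rw [mem_sigSub, mem_sigSub]
  have e : (fun i => σ.symm ((fun i => σ.symm.symm (v i)) i)) = v := by
    funext i
    simp
  rw [e]

theorem sig_mem_sigSub (σ : F ≃+* F) (W : Submodule F (ι → F)) (x : ι → F) (hx : x ∈ W) :
    (fun i => σ (x i)) ∈ sigSub σ W := by
  rw [mem_sigSub]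
  have e : (fun i => σ.symm ((fun i => σ (x i)) i)) = x := by
    funext i
    simp
  rw [e]
  exact hx

theorem finrank_sigSub_le (σ : F ≃+* F) (W : Submodule F (ι → F)) :
    finrank F (sigSub σ W) ≤ finrank F W := by
  classical
  obtain ⟨b⟩ : Nonempty (Module.Basis (Fin (finrank F (sigSub σ W))) F (sigSub σ W)) :=
    ⟨Module.finBasis F (sigSub σ W)⟩
  obtain ⟨w, hw⟩ : ∃ w : Fin (finrank F (sigSub σ W)) → W,
      ∀ i j, ((w i : W) : ι → F) j = σ.symm (((b i : sigSub σ W) : ι → F) j) :=
    ⟨fun i => ⟨fun j => σ.symm (((b i : sigSub σ W) : ι → F) j), (b i).2⟩, fun i j => rfl⟩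
  have hli : LinearIndependent F w := by
    rw [linearIndependent_iff']
    intro s g hg i hi
    have h1 : ∑ i ∈ s, σ (g i) • b i = 0 := by
      apply Subtype.ext
      funext j
      have h2 := congrArg (fun x : W => σ ((x : ι → F) j)) hg
      simp only [Submodule.coe_sum, Submodule.coe_smul, Finset.sum_apply, Pi.smul_apply,
        smul_eq_mul, map_sum, map_mul, Submodule.coe_zero, Pi.zero_apply, map_zero, hw,
        RingEquiv.apply_symm_apply] at h2
      simp only [Submodule.coe_sum, Submodule.coe_smul, Finset.sum_apply, Pi.smul_apply,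
        smul_eq_mul, Submodule.coe_zero, Pi.zero_apply]
      exact h2
    have h3 := linearIndependent_iff'.mp b.linearIndependent s (fun i => σ (g i)) h1 i hi
    simpa using h3
  have := hli.fintype_card_le_finrank
  simpa using this

theorem finrank_sigSub (σ : F ≃+* F) (W : Submodule F (ι → F)) :
    finrank F (sigSub σ W) = finrank F W := by
  apply le_antisymm (finrank_sigSub_le σ W)
  have h := finrank_sigSub_le σ.symm (sigSub σ W)
  rwa [sigSub_symm_sigSub] at h

theorem finrank_sigSub_inf (σ : F ≃+* F) (A B : Submodule F (ι → F)) :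
    finrank F (sigSub σ A ⊓ sigSub σ B : Submodule F (ι → F))
      = finrank F (A ⊓ B : Submodule F (ι → F)) := by
  rw [← sigSub_inf, finrank_sigSub]

end Sig

section NF

variable {F : Type*} [Field F]

/-- The normal forms: the hyperbolic form plus `ε x_l² + ζ y_l²` on the last hyperbolic pair. -/
noncomputable def nfForm (k : ℕ) (F : Type*) [Field F] (ε ζ : F) :
    QuadraticForm F (Fin (k + 1) ⊕ Fin (k + 1) → F) :=
  Cfsg.Agent.Lib.helper49.plusForm (k + 1) F
    + ε • QuadraticMap.proj (R := F) (A := F) (Sum.inl (Fin.last k)) (Sum.inl (Fin.last k))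
    + ζ • QuadraticMap.proj (R := F) (A := F) (Sum.inr (Fin.last k)) (Sum.inr (Fin.last k))

theorem nfForm_apply (k : ℕ) (ε ζ : F) (v : Fin (k + 1) ⊕ Fin (k + 1) → F) :
    nfForm k F ε ζ v = Cfsg.quadFormPlus (k + 1) F v
      + ε * (v (Sum.inl (Fin.last k)) * v (Sum.inl (Fin.last k)))
      + ζ * (v (Sum.inr (Fin.last k)) * v (Sum.inr (Fin.last k))) := by
  rw [nfForm, QuadraticMap.add_apply, QuadraticMap.add_apply, QuadraticMap.smul_apply,
    QuadraticMap.smul_apply, QuadraticMap.proj_apply, QuadraticMap.proj_apply, smul_eq_mul,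
    smul_eq_mul]
  rfl

theorem nfForm_zero (k : ℕ) (v : Fin (k + 1) ⊕ Fin (k + 1) → F) :
    nfForm k F 0 0 v = Cfsg.quadFormPlus (k + 1) F v := by
  rw [nfForm_apply, zero_mul, zero_mul, add_zero, add_zero]

theorem quadFormPlus_last (k : ℕ) (v : Fin (k + 1) ⊕ Fin (k + 1) → F) :
    Cfsg.quadFormPlus (k + 1) F v
      = ∑ j : Fin k, v (Sum.inl (Fin.castSucc j)) * v (Sum.inr (Fin.castSucc j))
        + v (Sum.inl (Fin.last k)) * v (Sum.inr (Fin.last k)) := by
  unfold Cfsg.quadFormPlus
  rw [Fin.sum_univ_castSucc]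

theorem polar_nfForm (k : ℕ) (ε ζ : F) (u v : Fin (k + 1) ⊕ Fin (k + 1) → F) :
    QuadraticMap.polar (nfForm k F ε ζ) u v =
      QuadraticMap.polar (Cfsg.Agent.Lib.helper49.plusForm (k + 1) F) u v
        + 2 * ε * (u (Sum.inl (Fin.last k)) * v (Sum.inl (Fin.last k)))
        + 2 * ζ * (u (Sum.inr (Fin.last k)) * v (Sum.inr (Fin.last k))) := by
  simp only [QuadraticMap.polar, nfForm_apply, Cfsg.Agent.Lib.helper49.plusForm_coe, Pi.add_apply]
  ring

theorem polar_plus_last (k : ℕ) (u v : Fin (k + 1) ⊕ Fin (k + 1) → F) :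
    QuadraticMap.polar (Cfsg.Agent.Lib.helper49.plusForm (k + 1) F) u v
      = ∑ j : Fin k, (u (Sum.inl (Fin.castSucc j)) * v (Sum.inr (Fin.castSucc j))
          + u (Sum.inr (Fin.castSucc j)) * v (Sum.inl (Fin.castSucc j)))
        + (u (Sum.inl (Fin.last k)) * v (Sum.inr (Fin.last k))
          + u (Sum.inr (Fin.last k)) * v (Sum.inl (Fin.last k))) := by
  rw [Cfsg.Agent.Lib.helper49.polar_plusForm, Fin.sum_univ_castSucc]

theorem nfForm_sigma (k : ℕ) (ε ζ : F) (τ : F ≃+* F) (hε : τ ε = ε) (hζ : τ ζ = ζ)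
    (v : Fin (k + 1) ⊕ Fin (k + 1) → F) :
    nfForm k F ε ζ (fun i => τ (v i)) = τ (nfForm k F ε ζ v) := by
  rw [nfForm_apply, nfForm_apply]
  simp only [Cfsg.quadFormPlus, map_add, map_sum, map_mul, hε, hζ]

theorem polar_plus_single_inr (k : ℕ) (x : Fin (k + 1) ⊕ Fin (k + 1) → F) (j : Fin (k + 1)) :
    QuadraticMap.polar (Cfsg.Agent.Lib.helper49.plusForm (k + 1) F) x (Pi.single (Sum.inr j) 1)
      = x (Sum.inl j) := by
  rw [Cfsg.Agent.Lib.helper49.polar_plusForm]
  simp [Pi.single_apply]

theorem polar_plus_single_inl (k : ℕ) (x : Fin (k + 1) ⊕ Fin (k + 1) → F) (j : Fin (k + 1)) :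
    QuadraticMap.polar (Cfsg.Agent.Lib.helper49.plusForm (k + 1) F) x (Pi.single (Sum.inl j) 1)
      = x (Sum.inr j) := by
  rw [Cfsg.Agent.Lib.helper49.polar_plusForm]
  simp [Pi.single_apply]

theorem nfForm_nondeg (k : ℕ) (ε ζ : F) (h : 4 * ε * ζ ≠ 1) :
    (QuadraticMap.polarBilin (nfForm k F ε ζ)).Nondegenerate := by
  have key : ∀ x : Fin (k + 1) ⊕ Fin (k + 1) → F,
      (∀ y, QuadraticMap.polar (nfForm k F ε ζ) x y = 0) → x = 0 := by
    intro x hx
    have hl : ∀ j, x (Sum.inl j)
        + 2 * ζ * (x (Sum.inr (Fin.last k)) * (if Fin.last k = j then 1 else 0)) = 0 := by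
      intro j
      have := hx (Pi.single (Sum.inr j) 1)
      rw [polar_nfForm, polar_plus_single_inr] at this
      simpa [Pi.single_apply] using this
    have hr : ∀ j, x (Sum.inr j)
        + 2 * ε * (x (Sum.inl (Fin.last k)) * (if Fin.last k = j then 1 else 0)) = 0 := by
      intro j
      have := hx (Pi.single (Sum.inl j) 1)
      rw [polar_nfForm, polar_plus_single_inl] at this
      simpa [Pi.single_apply] using this
    have ha := hl (Fin.last k)
    have hb := hr (Fin.last k)
    rw [if_pos rfl, mul_one] at ha hb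
    have hb0 : x (Sum.inr (Fin.last k)) = 0 := by
      have e : x (Sum.inr (Fin.last k)) * (1 - 4 * ε * ζ) = 0 := by
        linear_combination hb - 2 * ε * ha
      rcases mul_eq_zero.mp e with h0 | h0
      · exact h0
      · exact absurd (sub_eq_zero.mp h0).symm h
    have ha0 : x (Sum.inl (Fin.last k)) = 0 := by
      rw [hb0] at ha
      linear_combination ha
    funext a
    rcases a with j | j
    · have := hl j
      rw [hb0] at this
      simpa using this
    · have := hr j
      rw [ha0] at this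
      simpa using this
  refine ⟨fun x hx => key x (fun y => by simpa using hx y), fun x hx => key x (fun y => ?_)⟩
  rw [QuadraticMap.polar_comm]
  simpa using hx y

theorem four_ne_one_of_noroot (ζ : F)
    (h : (2 : F) ≠ 0 → (-(2 : F)⁻¹) ^ 2 + (-(2 : F)⁻¹) + ζ ≠ 0) : 4 * 1 * ζ ≠ 1 := by
  intro h4
  by_cases h2 : (2 : F) = 0
  · have e : (4 : F) = 2 * 2 := by norm_num
    rw [e, h2] at h4
    simp at h4
  · apply h h2
    field_simp
    linear_combination h4

end NF

end Cfsg.Agent.Lib.helper51
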