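/-
The elliptic normal form `Σ x_i y_i + x_l² + ζ y_l²`: if it has a totally singular subspace of half the
dimension then `t² + t + ζ` has a root, and a field automorphism moving the root interchanges the two
classes of maximal totally singular subspaces.
-/
import Mathlib
import Cfsg.Agent.Lib.helper51.OFieldB

set_option autoImplicit false
set_option linter.unusedSectionVars false

namespace Cfsg.Agent.Lib.helper51

open Matrix Module Cfsg Cfsg.Agent.Lib.helper42 Cfsg.Agent.Lib.helper17

section Ell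

variable {F : Type*} [Field F]

theorem ofld_card_idx (k : ℕ) : Fintype.card (Fin (k + 1) ⊕ Fin (k + 1)) = 2 * (k + 1) := by
  rw [Fintype.card_sum, Fintype.card_fin]
  omega

theorem ofld_finrank_ker_ge {ι : Type} [Fintype ι] {V' : Type*} [AddCommGroup V'] [Module F V']
    [FiniteDimensional F V'] (L : (ι → F) →ₗ[F] V') :
    Fintype.card ι ≤ finrank F (LinearMap.ker L) + finrank F V' := by
  have h1 := LinearMap.finrank_range_add_finrank_ker L
  have h2 : finrank F (LinearMap.range L) ≤ finrank F V' := Submodule.finrank_le _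
  rw [Module.finrank_fintype_fun_eq_card] at h1
  omega

/-- If the elliptic normal form has a totally singular subspace of half the dimension, then
`t² + t + ζ` has a root. -/
theorem nf_exists_root (k : ℕ) (ζ : F) (W : Submodule F (Fin (k + 1) ⊕ Fin (k + 1) → F))
    (hW : ∀ w ∈ W, nfForm k F 1 ζ w = 0) (hd : finrank F W = k + 1) :
    ∃ θ : F, θ ^ 2 + θ + ζ = 0 := by
  classical
  by_contra hno
  push Not at hno
  have h4 : 4 * 1 * ζ ≠ 1 := four_ne_one_of_noroot ζ (fun _ => hno _)
  have hQ := nfForm_nondeg k 1 ζ h4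
  have hcard := ofld_card_idx k
  obtain ⟨L, hL⟩ : ∃ L : (Fin (k + 1) ⊕ Fin (k + 1) → F) →ₗ[F] (Fin k → F),
      ∀ v j, L v j = v (Sum.inr (Fin.castSucc j)) :=
    ⟨LinearMap.pi (fun j : Fin k => LinearMap.proj (Sum.inr (Fin.castSucc j))), fun v j => rfl⟩
  have memE : ∀ v, v ∈ LinearMap.ker L ↔ ∀ j : Fin k, v (Sum.inr (Fin.castSucc j)) = 0 := by
    intro v
    rw [LinearMap.mem_ker]
    constructor
    · intro h j
      have h' := hL v j
      rw [h] at h'
      exact h'.symm
    · intro h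
      funext j
      rw [hL, h j]
      rfl
  have hE := ofld_finrank_ker_ge L
  rw [Module.finrank_fin_fun, hcard] at hE
  have hsup := Submodule.finrank_sup_add_finrank_inf_eq W (LinearMap.ker L)
  have hbad : ∀ w ∈ (W ⊓ LinearMap.ker L : Submodule F _),
      w (Sum.inl (Fin.last k)) = 0 ∧ w (Sum.inr (Fin.last k)) = 0 := by
    intro w hw
    have h1 := hW w hw.1
    have h2 := (memE w).mp hw.2
    rw [nfForm_apply, quadFormPlus_last, Finset.sum_eq_zero (fun j _ => by rw [h2 j, mul_zero]),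
      zero_add, one_mul] at h1
    have hb : w (Sum.inr (Fin.last k)) = 0 := by
      by_contra hb
      apply hno (w (Sum.inl (Fin.last k)) / w (Sum.inr (Fin.last k)))
      field_simp
      linear_combination h1
    refine ⟨?_, hb⟩
    rw [hb, mul_zero, mul_zero, mul_zero, zero_add, add_zero] at h1
    exact mul_self_eq_zero.mp h1
  have hle : W ⊔ LinearMap.ker L ≤ polOrth (nfForm k F 1 ζ) (W ⊓ LinearMap.ker L) := by
    apply sup_le
    · intro w hw
      rw [mem_polOrth]
      intro d hd'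
      exact polar_eq_zero_of_ts (nfForm k F 1 ζ) W hW hd'.1 hw
    · intro v hv
      rw [mem_polOrth]
      intro d hd'
      obtain ⟨hd1, hd2⟩ := hbad d hd'
      have hd3 := (memE d).mp hd'.2
      have hv3 := (memE v).mp hv
      rw [polar_nfForm, polar_plus_last, hd1, hd2,
        Finset.sum_eq_zero (fun j _ => by rw [hd3 j, hv3 j, mul_zero, zero_mul, add_zero])]
      ring
  have h5 := Submodule.finrank_mono hle
  have h6 := finrank_polOrth (nfForm k F 1 ζ) hQ (W ⊓ LinearMap.ker L)
  have h7 : finrank F (W ⊓ LinearMap.ker L : Submodule F _) ≤ finrank F W :=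
    Submodule.finrank_mono inf_le_left
  rw [hcard] at h6
  omega

/-- A field automorphism fixing `ζ` but moving a root of `t² + t + ζ` interchanges the two classes of
maximal totally singular subspaces of the elliptic normal form. -/
theorem nf_sigma_odd [Fintype F] (k : ℕ) (hk : 2 ≤ k) (σ : F ≃+* F) (ζ θ : F) (hζ : σ ζ = ζ)
    (hθ : θ ^ 2 + θ + ζ = 0) (hσθ : σ θ ≠ θ) (h4 : 4 * 1 * ζ ≠ 1)
    (W : Submodule F (Fin (k + 1) ⊕ Fin (k + 1) → F))
    (hW : ∀ w ∈ W, nfForm k F 1 ζ w = 0) (hd : finrank F W = k + 1) :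
    ¬ Even (finrank F W - finrank F (W ⊓ sigSub σ W : Submodule F _)) := by
  classical
  have hQ := nfForm_nondeg k 1 ζ h4
  have hcard := ofld_card_idx k
  have hgen : reflSubgroup (nfForm k F 1 ζ) = ⊤ :=
    Cfsg.Agent.S0786.reflSubgroup_eq_top' _ hQ (Or.inr (by rw [hcard]; omega))
  -- the explicit subspace `W'`
  obtain ⟨L, hL1, hL2⟩ : ∃ L : (Fin (k + 1) ⊕ Fin (k + 1) → F) →ₗ[F] (Fin k → F) × F,
      (∀ v j, (L v).1 j = v (Sum.inr (Fin.castSucc j))) ∧
      (∀ v, (L v).2 = v (Sum.inl (Fin.last k)) - θ * v (Sum.inr (Fin.last k))) :=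
    ⟨(LinearMap.pi (fun j : Fin k => LinearMap.proj (Sum.inr (Fin.castSucc j)))).prod
      (LinearMap.proj (Sum.inl (Fin.last k)) - θ • LinearMap.proj (Sum.inr (Fin.last k))),
      fun v j => rfl, fun v => rfl⟩
  have memW' : ∀ v, v ∈ LinearMap.ker L ↔ (∀ j : Fin k, v (Sum.inr (Fin.castSucc j)) = 0) ∧
      v (Sum.inl (Fin.last k)) = θ * v (Sum.inr (Fin.last k)) := by
    intro v
    rw [LinearMap.mem_ker]
    constructor
    · intro h
      refine ⟨fun j => ?_, ?_⟩
      · have h' := hL1 v j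
        rw [h] at h'
        exact h'.symm
      · have := hL2 v
        rw [h] at this
        exact (sub_eq_zero.mp this.symm)
    · rintro ⟨h1, h2⟩
      apply Prod.ext
      · funext j
        rw [hL1, h1 j]
        rfl
      · rw [hL2, h2, sub_self]
        rfl
  have hW'ts : ∀ v ∈ LinearMap.ker L, nfForm k F 1 ζ v = 0 := by
    intro v hv
    obtain ⟨h1, h2⟩ := (memW' v).mp hv
    rw [nfForm_apply, quadFormPlus_last, Finset.sum_eq_zero (fun j _ => by rw [h1 j, mul_zero]), h2]
    linear_combination (v (Sum.inr (Fin.last k))) ^ 2 * hθ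
  have hW'd : finrank F (LinearMap.ker L) = k + 1 := by
    have h1 := ofld_finrank_ker_ge L
    rw [Module.finrank_prod, Module.finrank_fin_fun, Module.finrank_self, hcard] at h1
    have h2 := finrank_le_of_ts (nfForm k F 1 ζ) hQ (LinearMap.ker L) hW'ts
    rw [hcard] at h2
    omega
  -- the intersection `W' ∩ σ W'`
  obtain ⟨L₂, hL₂1, hL₂2⟩ : ∃ L₂ : (Fin (k + 1) ⊕ Fin (k + 1) → F) →ₗ[F] (Fin (k + 1) → F) × F,
      (∀ v j, (L₂ v).1 j = v (Sum.inr j)) ∧ (∀ v, (L₂ v).2 = v (Sum.inl (Fin.last k))) :=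
    ⟨(LinearMap.pi (fun j : Fin (k + 1) => LinearMap.proj (Sum.inr j))).prod
      (LinearMap.proj (Sum.inl (Fin.last k))), fun v j => rfl, fun v => rfl⟩
  have memN : ∀ v, v ∈ LinearMap.ker L₂ ↔ (∀ j : Fin (k + 1), v (Sum.inr j) = 0) ∧
      v (Sum.inl (Fin.last k)) = 0 := by
    intro v
    rw [LinearMap.mem_ker]
    constructor
    · intro h
      refine ⟨fun j => ?_, ?_⟩
      · have h' := hL₂1 v j
        rw [h] at h'
        exact h'.symm
      · have h' := hL₂2 v
        rw [h] at h'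
        exact h'.symm
    · rintro ⟨h1, h2⟩
      apply Prod.ext
      · funext j
        rw [hL₂1, h1 j]
        rfl
      · rw [hL₂2, h2]
        rfl
  have hNd : k ≤ finrank F (LinearMap.ker L₂) := by
    have h1 := ofld_finrank_ker_ge L₂
    rw [Module.finrank_prod, Module.finrank_fin_fun, Module.finrank_self, hcard] at h1
    omega
  have hNle : LinearMap.ker L₂ ≤ LinearMap.ker L ⊓ sigSub σ (LinearMap.ker L) := by
    intro v hv
    obtain ⟨h1, h2⟩ := (memN v).mp hv
    refine ⟨(memW' v).mpr ⟨fun j => h1 _, by rw [h2, h1, mul_zero]⟩, ?_⟩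
    refine (mem_sigSub σ _ v).mpr ((memW' _).mpr ?_)
    refine ⟨fun j => by rw [h1, map_zero], by rw [h2, h1, map_zero, mul_zero]⟩
  -- the vector `w_θ`
  have hwθ : (θ • Pi.single (Sum.inl (Fin.last k)) (1 : F) + Pi.single (Sum.inr (Fin.last k)) (1 : F)
      : Fin (k + 1) ⊕ Fin (k + 1) → F) ∈ LinearMap.ker L := by
    rw [memW']
    refine ⟨fun j => ?_, ?_⟩
    · have hne : Fin.castSucc j ≠ Fin.last k := (Fin.castSucc_lt_last j).ne
      simp [Pi.single_apply, hne]
    · simp [Pi.single_apply]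
  have hwθ' : (θ • Pi.single (Sum.inl (Fin.last k)) (1 : F) + Pi.single (Sum.inr (Fin.last k)) (1 : F)
      : Fin (k + 1) ⊕ Fin (k + 1) → F) ∉ sigSub σ (LinearMap.ker L) := by
    intro h
    rw [mem_sigSub, memW'] at h
    have h2 := h.2
    simp [Pi.single_apply] at h2
    apply hσθ
    have h3 := congrArg σ h2
    rw [RingEquiv.apply_symm_apply] at h3
    exact h3.symm
  have hlt : (LinearMap.ker L ⊓ sigSub σ (LinearMap.ker L) : Submodule F _) < LinearMap.ker L := by
    refine lt_of_le_of_ne inf_le_left (fun h => ?_)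
    have : (θ • Pi.single (Sum.inl (Fin.last k)) (1 : F) + Pi.single (Sum.inr (Fin.last k)) (1 : F)
      : Fin (k + 1) ⊕ Fin (k + 1) → F) ∈ (LinearMap.ker L ⊓ sigSub σ (LinearMap.ker L) :
        Submodule F _) := by
      rw [h]
      exact hwθ
    exact hwθ' this.2
  have hId : finrank F (LinearMap.ker L ⊓ sigSub σ (LinearMap.ker L) : Submodule F _) = k := by
    have h1 := Submodule.finrank_lt_finrank_of_lt hlt
    have h2 := Submodule.finrank_mono hNle
    omega
  -- transfer to `W` by the triangle lemma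
  have ts_sig : ∀ X : Submodule F (Fin (k + 1) ⊕ Fin (k + 1) → F),
      (∀ w ∈ X, nfForm k F 1 ζ w = 0) → ∀ w ∈ sigSub σ X, nfForm k F 1 ζ w = 0 := by
    intro X hX w hw
    rw [mem_sigSub] at hw
    have h1 := hX _ hw
    rw [nfForm_sigma k 1 ζ σ.symm (map_one _) ((RingEquiv.symm_apply_eq σ).mpr hζ.symm)] at h1
    have h2 := congrArg σ h1
    rwa [RingEquiv.apply_symm_apply, map_zero] at h2
  have dW : 2 * finrank F W = Fintype.card (Fin (k + 1) ⊕ Fin (k + 1)) := by
    rw [hcard, hd]
  have dW' : 2 * finrank F (LinearMap.ker L) = Fintype.card (Fin (k + 1) ⊕ Fin (k + 1)) := by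
    rw [hcard, hW'd]
  have dsW : 2 * finrank F (sigSub σ W) = Fintype.card (Fin (k + 1) ⊕ Fin (k + 1)) := by
    rw [finrank_sigSub, dW]
  have dsW' : 2 * finrank F (sigSub σ (LinearMap.ker L))
      = Fintype.card (Fin (k + 1) ⊕ Fin (k + 1)) := by
    rw [finrank_sigSub, dW']
  have T1 := ofld_triangle (nfForm k F 1 ζ) hQ hgen W (sigSub σ W) (sigSub σ (LinearMap.ker L))
    hW (ts_sig W hW) (ts_sig _ hW'ts) dW dsW dsW'
  have T2 := ofld_triangle (nfForm k F 1 ζ) hQ hgen W (LinearMap.ker L) (sigSub σ (LinearMap.ker L))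
    hW hW'ts (ts_sig _ hW'ts) dW dW' dsW'
  have e1 := finrank_sigSub_inf σ W (LinearMap.ker L)
  have l1 : finrank F (W ⊓ sigSub σ W : Submodule F _) ≤ finrank F W :=
    Submodule.finrank_mono inf_le_left
  rw [Nat.even_iff]
  omega

end Ell

end Cfsg.Agent.Lib.helper51
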