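/-
Descent of a quadratic form along the fixed field of a field automorphism, and the normal form of a
non-degenerate quadratic form of even dimension over a finite field.
-/
import Mathlib
import Cfsg.Agent.Lib.helper51.OFieldC
import Cfsg.Agent.Lib.helper49.Witt
import Cfsg.Agent.Lib.helper49.AntiIso

set_option autoImplicit false
set_option linter.unusedSectionVars false

namespace Cfsg.Agent.Lib.helper51

open Matrix Module Cfsg

/-- The fixed field of a field automorphism. -/
def ofldFix {F : Type*} [Field F] (σ : F ≃+* F) : Subfield F :=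
  (σ : F →+* F).eqLocusField (RingHom.id F)

theorem mem_ofldFix {F : Type*} [Field F] (σ : F ≃+* F) (x : F) : x ∈ ofldFix σ ↔ σ x = x :=
  Iff.rfl

section NfSingle

variable {F : Type*} [Field F]

theorem nfForm_single_inl (k : ℕ) (ε ζ : F) (j : Fin (k + 1)) :
    nfForm k F ε ζ (Pi.single (Sum.inl j) 1) = if j = Fin.last k then ε else 0 := by
  rw [nfForm_apply]
  have h0 : Cfsg.quadFormPlus (k + 1) F (Pi.single (Sum.inl j) 1) = 0 :=
    Cfsg.Agent.Lib.helper49.plusForm_single (k + 1) (Sum.inl j)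
  rw [h0]
  by_cases h : j = Fin.last k
  · subst h
    simp
  · have h' : Fin.last k ≠ j := fun e => h e.symm
    simp [Pi.single_apply, h, h']

theorem nfForm_single_inr (k : ℕ) (ε ζ : F) (j : Fin (k + 1)) :
    nfForm k F ε ζ (Pi.single (Sum.inr j) 1) = if j = Fin.last k then ζ else 0 := by
  rw [nfForm_apply]
  have h0 : Cfsg.quadFormPlus (k + 1) F (Pi.single (Sum.inr j) 1) = 0 :=
    Cfsg.Agent.Lib.helper49.plusForm_single (k + 1) (Sum.inr j)
  rw [h0]
  by_cases h : j = Fin.last k
  · subst h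
    simp
  · have h' : Fin.last k ≠ j := fun e => h e.symm
    simp [Pi.single_apply, h, h']

theorem polar_nfForm_single (k : ℕ) (ε ζ : F) (a a' : Fin (k + 1) ⊕ Fin (k + 1)) (h : a ≠ a') :
    QuadraticMap.polar (nfForm k F ε ζ) (Pi.single a 1) (Pi.single a' 1)
      = Cfsg.Agent.Lib.helper49.gramPlus (k + 1) F a a' := by
  rw [polar_nfForm, Cfsg.Agent.Lib.helper49.polar_plusForm_single]
  have key : ∀ c : Fin (k + 1) ⊕ Fin (k + 1),
      (Pi.single a (1 : F) : Fin (k + 1) ⊕ Fin (k + 1) → F) c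
        * (Pi.single a' (1 : F) : Fin (k + 1) ⊕ Fin (k + 1) → F) c = 0 := by
    intro c
    by_cases e1 : c = a
    · have e2 : c ≠ a' := fun e2 => h (e1.symm.trans e2)
      rw [Pi.single_eq_of_ne e2, mul_zero]
    · rw [Pi.single_eq_of_ne e1, zero_mul]
  rw [key, key, mul_zero, mul_zero, add_zero, add_zero]

theorem nfForm_map {K : Type*} [Field K] (k : ℕ) (f : K →+* F) (ε ζ : K)
    (w : Fin (k + 1) ⊕ Fin (k + 1) → K) :
    nfForm k F (f ε) (f ζ) (fun i => f (w i)) = f (nfForm k K ε ζ w) := by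
  rw [nfForm_apply, nfForm_apply]
  simp only [Cfsg.quadFormPlus, map_add, map_sum, map_mul]

end NfSingle

/-- Normal form of a non-degenerate quadratic form of dimension `2(k+1)` over a finite field. -/
theorem ofld_knf {K : Type*} [Field K] [Finite K] {V : Type*} [AddCommGroup V] [Module K V]
    [FiniteDimensional K V] (k : ℕ) (hV : finrank K V = 2 * (k + 1)) (q : QuadraticForm K V)
    (hq : (QuadraticMap.polarBilin q).Nondegenerate) :
    ∃ (ε ζ : K) (E Fm : Fin (k + 1) → V),
      ((ε = 0 ∧ ζ = 0) ∨ (ε = 1 ∧ ∀ t : K, t ^ 2 + t + ζ ≠ 0)) ∧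
      (∀ j, q (E j) = if j = Fin.last k then ε else 0) ∧
      (∀ j, q (Fm j) = if j = Fin.last k then ζ else 0) ∧
      (∀ i j, QuadraticMap.polar q (E i) (Fm j) = if i = j then 1 else 0) ∧
      (∀ i j, i ≠ j → QuadraticMap.polar q (E i) (E j) = 0) ∧
      (∀ i j, i ≠ j → QuadraticMap.polar q (Fm i) (Fm j) = 0) := by
  classical
  obtain ⟨k', e, f, W, h1, h2, h3, h4, h5, h6, h7, h8, h9⟩ :=
    Cfsg.Agent.Lib.helper49.witt_decomp (2 * (k + 1)) hV q hq
  have hqW : (QuadraticMap.polarBilin (Cfsg.Agent.Lib.helper49.restrictQ q W)).Nondegenerate :=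
    (Cfsg.Agent.Lib.helper49.nondegenerate_restrictQ_iff q W).mpr h8
  have han : ∀ w : W, Cfsg.Agent.Lib.helper49.restrictQ q W w = 0 → w = 0 := by
    intro w hw
    exact Subtype.ext (h7 w.1 w.2 hw)
  have hle := Cfsg.Agent.Lib.helper49.finrank_le_two_of_anisotropic _ hqW han
  rcases Nat.lt_or_ge k' (k + 1) with hlt | hge
  · have hk : k' = k := by omega
    subst hk
    have hW2 : finrank K W = 2 := by omega
    obtain ⟨x, y, hx, hxy, hirr⟩ := Cfsg.Agent.Lib.helper49.exists_elliptic_pair _ hqW han hW2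
    have hx' : q (x : V) = 1 := hx
    have hxy' : QuadraticMap.polar q (x : V) (y : V) = 1 := hxy
    refine ⟨1, q (y : V), Fin.snoc (α := fun _ => V) e (x : V), Fin.snoc (α := fun _ => V) f (y : V),
      Or.inr ⟨rfl, fun t => hirr t⟩, ?_, ?_, ?_, ?_, ?_⟩
    · intro j
      refine Fin.lastCases ?_ (fun i => ?_) j
      · rw [Fin.snoc_last, if_pos rfl, hx']
      · rw [Fin.snoc_castSucc, if_neg (Fin.castSucc_lt_last i).ne, h1]
    · intro j
      refine Fin.lastCases ?_ (fun i => ?_) j
      · rw [Fin.snoc_last, if_pos rfl]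
      · rw [Fin.snoc_castSucc, if_neg (Fin.castSucc_lt_last i).ne, h2]
    · intro i j
      refine Fin.lastCases ?_ (fun i' => ?_) i <;> refine Fin.lastCases ?_ (fun j' => ?_) j
      · rw [Fin.snoc_last, Fin.snoc_last, if_pos rfl]
        exact hxy'
      · rw [Fin.snoc_last, Fin.snoc_castSucc, if_neg (Fin.castSucc_lt_last j').ne',
          QuadraticMap.polar_comm]
        exact (h6 x x.2 j').2
      · rw [Fin.snoc_castSucc, Fin.snoc_last, if_neg (Fin.castSucc_lt_last i').ne]
        exact (h6 y y.2 i').1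
      · rw [Fin.snoc_castSucc, Fin.snoc_castSucc, h3]
        simp only [Fin.castSucc_inj]
    · intro i j
      refine Fin.lastCases ?_ (fun i' => ?_) i <;> refine Fin.lastCases ?_ (fun j' => ?_) j
      · intro h
        exact absurd rfl h
      · intro _
        rw [Fin.snoc_last, Fin.snoc_castSucc, QuadraticMap.polar_comm]
        exact (h6 x x.2 j').1
      · intro _
        rw [Fin.snoc_castSucc, Fin.snoc_last]
        exact (h6 x x.2 i').1
      · intro _
        rw [Fin.snoc_castSucc, Fin.snoc_castSucc]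
        exact h4 i' j'
    · intro i j
      refine Fin.lastCases ?_ (fun i' => ?_) i <;> refine Fin.lastCases ?_ (fun j' => ?_) j
      · intro h
        exact absurd rfl h
      · intro _
        rw [Fin.snoc_last, Fin.snoc_castSucc, QuadraticMap.polar_comm]
        exact (h6 y y.2 j').2
      · intro _
        rw [Fin.snoc_castSucc, Fin.snoc_last]
        exact (h6 y y.2 i').2
      · intro _
        rw [Fin.snoc_castSucc, Fin.snoc_castSucc]
        exact h5 i' j'
  · have hk : k' = k + 1 := by omega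
    subst hk
    refine ⟨0, 0, e, f, Or.inl ⟨rfl, rfl⟩, ?_, ?_, h3, fun i j _ => h4 i j, fun i j _ => h5 i j⟩
    · intro j
      rw [h1]
      simp
    · intro j
      rw [h2]
      simp

/-- A quadratic form over `F` whose values on `K`-rational vectors lie in `e · K` gives a quadratic
form over the subfield `K`. -/
theorem ofld_kform {ι : Type*} [Fintype ι] [DecidableEq ι] {F : Type*} [Field F] (K : Subfield F)
    (Q' : QuadraticForm F (ι → F)) (e : F)
    (hval : ∀ w : ι → K, e⁻¹ * Q' (fun i => (w i : F)) ∈ K) :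
    ∃ qK : QuadraticForm K (ι → K), ∀ w, ((qK w : K) : F) = e⁻¹ * Q' (fun i => (w i : F)) := by
  have up_add : ∀ a b : ι → K, (fun i => (((a + b) i : K) : F))
      = (fun i => (a i : F)) + (fun i => (b i : F)) := fun a b => rfl
  have up_smul : ∀ (c : K) (a : ι → K), (fun i => (((c • a) i : K) : F))
      = (c : F) • (fun i => (a i : F)) := fun c a => rfl
  refine ⟨QuadraticMap.ofPolar (fun w => ⟨e⁻¹ * Q' (fun i => (w i : F)), hval w⟩) ?_ ?_ ?_,
    fun w => rfl⟩
  · intro c x
    apply Subtype.ext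
    show e⁻¹ * Q' (fun i => (((c • x) i : K) : F))
      = ((c * c : K) : F) * (e⁻¹ * Q' (fun i => (x i : F)))
    rw [up_smul, QuadraticMap.map_smul, smul_eq_mul]
    push_cast
    ring
  · intro x x' y
    apply Subtype.ext
    have key := QuadraticMap.polar_add_left Q' (fun i => (x i : F)) (fun i => (x' i : F))
      (fun i => (y i : F))
    simp only [QuadraticMap.polar] at key
    show e⁻¹ * Q' (fun i => (((x + x' + y) i : K) : F)) - e⁻¹ * Q' (fun i => (((x + x') i : K) : F))
        - e⁻¹ * Q' (fun i => (y i : F))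
      = (e⁻¹ * Q' (fun i => (((x + y) i : K) : F)) - e⁻¹ * Q' (fun i => (x i : F))
          - e⁻¹ * Q' (fun i => (y i : F)))
        + (e⁻¹ * Q' (fun i => (((x' + y) i : K) : F)) - e⁻¹ * Q' (fun i => (x' i : F))
          - e⁻¹ * Q' (fun i => (y i : F)))
    rw [up_add (x + x') y, up_add x x', up_add x y, up_add x' y]
    linear_combination e⁻¹ * key
  · intro c x y
    apply Subtype.ext
    have key := QuadraticMap.polar_smul_left Q' (c : F) (fun i => (x i : F)) (fun i => (y i : F))
    simp only [QuadraticMap.polar, smul_eq_mul] at key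
    show e⁻¹ * Q' (fun i => (((c • x + y) i : K) : F)) - e⁻¹ * Q' (fun i => (((c • x) i : K) : F))
        - e⁻¹ * Q' (fun i => (y i : F))
      = (c : F) * (e⁻¹ * Q' (fun i => (((x + y) i : K) : F)) - e⁻¹ * Q' (fun i => (x i : F))
          - e⁻¹ * Q' (fun i => (y i : F)))
    rw [up_add (c • x) y, up_smul c x, up_add x y]
    linear_combination e⁻¹ * key

theorem ofld_nondeg_of_key {F V : Type*} [Field F] [AddCommGroup V] [Module F V]
    (Q : QuadraticForm F V) (key : ∀ x, (∀ y, QuadraticMap.polar Q x y = 0) → x = 0) :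
    (QuadraticMap.polarBilin Q).Nondegenerate := by
  refine ⟨fun x hx => key x (fun y => by simpa using hx y), fun x hx => key x (fun y => ?_)⟩
  rw [QuadraticMap.polar_comm]
  simpa using hx y

/-- **Descent**: a form which is multiplied by a scalar under a `σ`-semilinear map with Lang solution
`H` becomes, in a suitable `σ`-fixed basis, a multiple of a normal form with `σ`-fixed coefficients. -/
theorem ofld_descent {ι : Type} [Fintype ι] [DecidableEq ι] [Nonempty ι] {F : Type*} [Field F]
    [Finite F] (k : ℕ) (hcard : Fintype.card ι = 2 * (k + 1))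
    (Q : QuadraticForm F (ι → F)) (hQ : (QuadraticMap.polarBilin Q).Nondegenerate)
    (σ : F ≃+* F) (G : Matrix ι ι F) (c : F)
    (hc : ∀ v : ι → F, Q (G *ᵥ (fun i => σ (v i))) = c * σ (Q v))
    (H : Matrix ι ι F) (μ : F) (hμ : μ ≠ 0) (hH : H.det ≠ 0) (hGH : G * H.map σ = μ • H) :
    ∃ (B : Matrix ι (Fin (k + 1) ⊕ Fin (k + 1)) F) (e ε ζ : F), e ≠ 0 ∧ σ ε = ε ∧ σ ζ = ζ ∧
      ((ε = 0 ∧ ζ = 0) ∨ (ε = 1 ∧ ∀ t : F, σ t = t → t ^ 2 + t + ζ ≠ 0)) ∧
      G * B.map σ = μ • B ∧ ∀ v, Q (B *ᵥ v) = e * nfForm k F ε ζ v := by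
  classical
  obtain ⟨Q', hQ'⟩ : ∃ Q' : QuadraticForm F (ι → F), ∀ v, Q' v = Q (H *ᵥ v) :=
    ⟨Q.comp H.mulVecLin, fun v => rfl⟩
  have hrel : ∀ v : ι → F, μ * μ * Q' (fun i => σ (v i)) = c * σ (Q' v) := by
    intro v
    have h1 := hc (H *ᵥ v)
    have e1 : (fun i => σ ((H *ᵥ v) i)) = H.map σ *ᵥ (fun i => σ (v i)) := by
      funext i
      exact RingHom.map_mulVec (σ : F →+* F) H v i
    rw [e1, Matrix.mulVec_mulVec, hGH, Matrix.smul_mulVec, QuadraticMap.map_smul, smul_eq_mul] at h1
    rw [hQ', hQ']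
    exact h1
  have hHu : IsUnit H.det := isUnit_iff_ne_zero.mpr hH
  have hsep : ∀ x : ι → F, (∀ y, QuadraticMap.polar Q' x y = 0) → x = 0 := by
    intro x hx
    have hHx : H *ᵥ x = 0 := by
      apply hQ.1
      intro z
      have h1 := hx (H⁻¹ *ᵥ z)
      have e1 : H *ᵥ (H⁻¹ *ᵥ z) = z := by
        rw [Matrix.mulVec_mulVec, Matrix.mul_nonsing_inv _ hHu, Matrix.one_mulVec]
      rw [QuadraticMap.polarBilin_apply_apply]
      simp only [QuadraticMap.polar, hQ', Matrix.mulVec_add, e1] at h1
      exact h1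
    have e2 : x = H⁻¹ *ᵥ (H *ᵥ x) := by
      rw [Matrix.mulVec_mulVec, Matrix.nonsing_inv_mul _ hHu, Matrix.one_mulVec]
    rw [e2, hHx, Matrix.mulVec_zero]
  have fix_single : ∀ a : ι, ∀ i, σ ((Pi.single a (1 : F) : ι → F) i)
      = (Pi.single a (1 : F) : ι → F) i := by
    intro a i
    by_cases h : i = a
    · subst h
      rw [Pi.single_eq_same, map_one]
    · rw [Pi.single_eq_of_ne h, map_zero]
  obtain ⟨v₀, hv₀, hv₀Q⟩ : ∃ v₀ : ι → F, (∀ i, σ (v₀ i) = v₀ i) ∧ Q' v₀ ≠ 0 := by
    by_contra hcon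
    push Not at hcon
    have hzero : ∀ x, Q' x = 0 := by
      intro x
      have key : Q' x = (0 : QuadraticForm F (ι → F)) x := by
        refine Cfsg.Agent.Lib.helper49.quad_ext_basis Q' 0 (Pi.basisFun F ι) ?_ ?_ x
        · intro a
          rw [Pi.basisFun_apply, hcon _ (fix_single a)]
          rfl
        · intro a a' _
          rw [Pi.basisFun_apply, Pi.basisFun_apply]
          have h3 : Q' (Pi.single a 1 + Pi.single a' 1) = 0 :=
            hcon _ (fun i => by rw [Pi.add_apply, map_add, fix_single, fix_single])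
          simp only [QuadraticMap.polar, h3, hcon _ (fix_single a), hcon _ (fix_single a'),
            QuadraticMap.zero_apply]
      rw [key]
      rfl
    obtain ⟨a⟩ := ‹Nonempty ι›
    have h0 := hsep (Pi.single a 1) (fun y => by simp only [QuadraticMap.polar, hzero]; ring)
    have h1 := congrFun h0 a
    rw [Pi.single_eq_same] at h1
    exact one_ne_zero h1
  obtain ⟨e, he⟩ : ∃ e, e = Q' v₀ := ⟨_, rfl⟩
  have he0 : e ≠ 0 := by
    rw [he]
    exact hv₀Q
  have hfixv : ∀ v : ι → F, (∀ i, σ (v i) = v i) → μ * μ * Q' v = c * σ (Q' v) := by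
    intro v hv
    have h := hrel v
    have e1 : (fun i => σ (v i)) = v := funext hv
    rwa [e1] at h
  have hc0 : c ≠ 0 := by
    intro hc0
    have h := hfixv v₀ hv₀
    rw [hc0, zero_mul] at h
    exact hv₀Q ((mul_eq_zero.mp h).resolve_left (mul_ne_zero hμ hμ))
  have hval : ∀ w : ι → ofldFix σ, e⁻¹ * Q' (fun i => (w i : F)) ∈ ofldFix σ := by
    intro w
    rw [mem_ofldFix, map_mul, map_inv₀]
    have h1 := hfixv v₀ hv₀
    have h2 := hfixv (fun i => (w i : F)) (fun i => (w i).2)
    rw [← he] at h1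
    have e1 : σ e = μ * μ * e / c := by
      rw [eq_div_iff hc0, h1]
      ring
    have e2 : σ (Q' fun i => (w i : F)) = μ * μ * Q' (fun i => (w i : F)) / c := by
      rw [eq_div_iff hc0, h2]
      ring
    rw [e1, e2]
    field_simp
  obtain ⟨qK, hqK⟩ := ofld_kform (ofldFix σ) Q' e hval
  have hpol : ∀ w w' : ι → ofldFix σ,
      QuadraticMap.polar Q' (fun i => (w i : F)) (fun i => (w' i : F))
        = e * ((QuadraticMap.polar qK w w' : ofldFix σ) : F) := by
    intro w w'
    have e1 : (fun i => (((w + w') i : ofldFix σ) : F))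
        = (fun i => (w i : F)) + (fun i => (w' i : F)) := rfl
    have e2 : ((QuadraticMap.polar qK w w' : ofldFix σ) : F)
        = ((qK (w + w') : ofldFix σ) : F) - ((qK w : ofldFix σ) : F) - ((qK w' : ofldFix σ) : F) := rfl
    rw [e2, hqK, hqK, hqK, e1, mul_sub, mul_sub, mul_inv_cancel_left₀ he0, mul_inv_cancel_left₀ he0,
      mul_inv_cancel_left₀ he0]
    rfl
  have up_single : ∀ a : ι,
      (fun i => (((Pi.single a (1 : ofldFix σ) : ι → ofldFix σ) i : ofldFix σ) : F))
        = Pi.single a (1 : F) := by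
    intro a
    funext i
    by_cases h : i = a
    · subst h
      rw [Pi.single_eq_same, Pi.single_eq_same]
      rfl
    · rw [Pi.single_eq_of_ne h, Pi.single_eq_of_ne h]
      rfl
  have hqKnd : (QuadraticMap.polarBilin qK).Nondegenerate := by
    apply ofld_nondeg_of_key
    intro w hw
    have h0 : (fun i => (w i : F)) = 0 := by
      apply hsep
      intro y
      have hlin : QuadraticMap.polarBilin Q' (fun i => (w i : F)) = 0 := by
        apply (Pi.basisFun F ι).ext
        intro a
        rw [Pi.basisFun_apply, QuadraticMap.polarBilin_apply_apply, ← up_single a, hpol, hw]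
        simp
      have h3 := LinearMap.congr_fun hlin y
      rw [QuadraticMap.polarBilin_apply_apply] at h3
      exact h3
    funext i
    exact Subtype.ext (congrFun h0 i)
  have hV : finrank (ofldFix σ) (ι → ofldFix σ) = 2 * (k + 1) := by
    rw [Module.finrank_fintype_fun_eq_card, hcard]
  obtain ⟨ε, ζ, E, Fm, htype, c4, c5, c1, c2, c3⟩ := ofld_knf k hV qK hqKnd
  obtain ⟨bK, hbK⟩ : ∃ bK : Fin (k + 1) ⊕ Fin (k + 1) → (ι → ofldFix σ), bK = Sum.elim E Fm :=
    ⟨_, rfl⟩
  obtain ⟨C, hC⟩ : ∃ C : Matrix ι (Fin (k + 1) ⊕ Fin (k + 1)) F, ∀ i a, C i a = (bK a i : F) :=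
    ⟨Matrix.of (fun i a => (bK a i : F)), fun i a => rfl⟩
  have hCσ : C.map σ = C := by
    ext i a
    rw [Matrix.map_apply, hC]
    exact (bK a i).2
  have hCcol : ∀ a, C *ᵥ Pi.single a 1 = fun i => (bK a i : F) := by
    intro a
    funext i
    rw [Matrix.mulVec_single_one]
    exact hC i a
  have val1 : ∀ a, ((qK (bK a) : ofldFix σ) : F) = nfForm k F (ε : F) (ζ : F) (Pi.single a 1) := by
    intro a
    rcases a with j | j
    · rw [hbK, Sum.elim_inl, c4, nfForm_single_inl]
      split_ifs <;> rfl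
    · rw [hbK, Sum.elim_inr, c5, nfForm_single_inr]
      split_ifs <;> rfl
  have val2 : ∀ a a', a ≠ a' → ((QuadraticMap.polar qK (bK a) (bK a') : ofldFix σ) : F)
      = Cfsg.Agent.Lib.helper49.gramPlus (k + 1) F a a' := by
    intro a a' hne
    rcases a with i | i <;> rcases a' with j | j
    · have hij : i ≠ j := fun h => hne (congrArg Sum.inl h)
      rw [hbK, Sum.elim_inl, Sum.elim_inl, c2 i j hij]
      simp [Cfsg.Agent.Lib.helper49.gramPlus]
    · rw [hbK, Sum.elim_inl, Sum.elim_inr, c1]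
      simp only [Cfsg.Agent.Lib.helper49.gramPlus, Matrix.fromBlocks_apply₁₂, Matrix.one_apply]
      split_ifs <;> rfl
    · rw [hbK, Sum.elim_inr, Sum.elim_inl, QuadraticMap.polar_comm, c1]
      simp only [Cfsg.Agent.Lib.helper49.gramPlus, Matrix.fromBlocks_apply₂₁, Matrix.one_apply]
      by_cases hij : i = j
      · rw [if_pos hij.symm, if_pos hij]
        rfl
      · rw [if_neg (fun h => hij h.symm), if_neg hij]
        rfl
    · have hij : i ≠ j := fun h => hne (congrArg Sum.inr h)
      rw [hbK, Sum.elim_inr, Sum.elim_inr, c3 i j hij]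
      simp [Cfsg.Agent.Lib.helper49.gramPlus]
  refine ⟨H * C, e, (ε : F), (ζ : F), he0, ε.2, ζ.2, ?_, ?_, ?_⟩
  · rcases htype with ⟨h1, h2⟩ | ⟨h1, h2⟩
    · left
      exact ⟨by rw [h1]; rfl, by rw [h2]; rfl⟩
    · right
      refine ⟨by rw [h1]; rfl, fun t ht hroot => ?_⟩
      apply h2 ⟨t, ht⟩
      apply Subtype.ext
      exact hroot
  · have hmap : (H * C).map σ = H.map σ * C.map σ := Matrix.map_mul (f := (σ : F →+* F))
    rw [hmap, hCσ, ← Matrix.mul_assoc, hGH, Matrix.smul_mul]
  · intro v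
    have key : (Q'.comp C.mulVecLin) v = (e • nfForm k F (ε : F) (ζ : F)) v := by
      refine Cfsg.Agent.Lib.helper49.quad_ext_basis _ _
        (Pi.basisFun F (Fin (k + 1) ⊕ Fin (k + 1))) ?_ ?_ v
      · intro a
        rw [Pi.basisFun_apply, QuadraticMap.comp_apply, Matrix.mulVecLin_apply, hCcol,
          QuadraticMap.smul_apply, smul_eq_mul, ← val1, hqK, mul_inv_cancel_left₀ he0]
      · intro a a' hne
        rw [Pi.basisFun_apply, Pi.basisFun_apply]
        have e1 : QuadraticMap.polar (Q'.comp C.mulVecLin) (Pi.single a 1) (Pi.single a' 1)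
            = QuadraticMap.polar Q' (fun i => (bK a i : F)) (fun i => (bK a' i : F)) := by
          simp only [QuadraticMap.polar, QuadraticMap.comp_apply, Matrix.mulVecLin_apply,
            Matrix.mulVec_add, hCcol]
        have e2 : QuadraticMap.polar (e • nfForm k F (ε : F) (ζ : F)) (Pi.single a 1)
            (Pi.single a' 1) = e * QuadraticMap.polar (nfForm k F (ε : F) (ζ : F)) (Pi.single a 1)
              (Pi.single a' 1) := by
          simp only [QuadraticMap.polar, QuadraticMap.smul_apply, smul_eq_mul]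
          ring
        rw [e1, e2, hpol, val2 a a' hne, polar_nfForm_single k _ _ a a' hne]
    rw [QuadraticMap.comp_apply, Matrix.mulVecLin_apply, QuadraticMap.smul_apply, smul_eq_mul,
      hQ', Matrix.mulVec_mulVec] at key
    exact key

end Cfsg.Agent.Lib.helper51
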