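import Mathlib
import Cfsg.Agent.Lib.helper44.PresDefs
import Cfsg.Agent.Lib.helper92.PresPW

/-! S2286 piece X1: the parametrisation `x : F → G` of the root group. -/

set_option autoImplicit false

namespace Cfsg.Agent.Lib.helper51.PresX1

end Cfsg.Agent.Lib.helper51.PresX1

namespace Cfsg.Agent.Lib.helper44.Pres

open Polynomial

theorem helper51_polyWord_nsmul {G : Type*} [Group G] {p : ℕ} [Fact p.Prime] (g u : G)
    (hp : u ^ p = 1) (hcomm : ∀ n : ℕ, Commute u (g ^ n * u * (g ^ n)⁻¹)) (f : (ZMod p)[X])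
    (k : ℕ) : polyWord g u (k • f) = polyWord g u f ^ k := by
  induction k with
  | zero => simp [polyWord_zero]
  | succ k ih => rw [succ_nsmul, polyWord_add g u hp hcomm, ih, pow_succ]

theorem helper51_polyWord_mul_eq_one {G : Type*} [Group G] {p : ℕ} [Fact p.Prime] (g u : G)
    (hp : u ^ p = 1) (hcomm : ∀ n : ℕ, Commute u (g ^ n * u * (g ^ n)⁻¹)) (f : (ZMod p)[X])
    (hf : polyWord g u f = 1) (q : (ZMod p)[X]) : polyWord g u (q * f) = 1 := by
  have hne : NeZero p := ⟨(Fact.out : p.Prime).ne_zero⟩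
  induction q using Polynomial.induction_on with
  | C a =>
    have h1 : C a * f = a.val • f := by
      rw [← smul_eq_C_mul]
      conv_lhs => rw [← ZMod.natCast_zmod_val a]
      rw [Nat.cast_smul_eq_nsmul]
    rw [h1, helper51_polyWord_nsmul g u hp hcomm, hf, one_pow]
  | add q1 q2 h1 h2 => rw [add_mul, polyWord_add g u hp hcomm, h1, h2, one_mul]
  | monomial n a ih =>
    have h1 : C a * X ^ (n + 1) * f = X * (C a * X ^ n * f) := by ring
    rw [h1, polyWord_X_mul, ih]
    simp

/-- X1: the parametrisation of the root group by the field `F = 𝔽_p[μ]`. -/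
theorem exists_param {G : Type*} [Group G] {F : Type*} [Field F] [Fintype F] {p : ℕ}
    [Fact p.Prime] [Algebra (ZMod p) F] (u g : G) (μ : F)
    (hμ : Algebra.adjoin (ZMod p) {μ} = ⊤) (hp : u ^ p = 1)
    (hcomm : ∀ n : ℕ, Commute u (g ^ n * u * (g ^ n)⁻¹))
    (hrel : polyWord g u (minpoly (ZMod p) μ) = 1) :
    ∃ x : F → G, x 1 = u ∧ (∀ a b, x (a + b) = x a * x b) ∧ (∀ a, g * x a * g⁻¹ = x (μ * a)) ∧
      ∀ f : (ZMod p)[X], x (aeval μ f) = polyWord g u f := by
  classical
  have hsurj : Function.Surjective (fun f : (ZMod p)[X] => aeval μ f) := by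
    intro a
    have ha : a ∈ Algebra.adjoin (ZMod p) {μ} := hμ ▸ Algebra.mem_top
    rw [Algebra.adjoin_singleton_eq_range_aeval] at ha
    exact ha
  have hker : ∀ f f' : (ZMod p)[X], aeval μ f = aeval μ f' →
      polyWord g u f = polyWord g u f' := by
    intro f f' h
    have h0 : aeval μ (f - f') = 0 := by rw [map_sub, h, sub_self]
    obtain ⟨q, hq⟩ := minpoly.dvd (ZMod p) μ h0
    have h1 : f = f' + q * minpoly (ZMod p) μ := by rw [mul_comm, ← hq]; ring
    rw [h1, polyWord_add g u hp hcomm, helper51_polyWord_mul_eq_one g u hp hcomm _ hrel q,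
      mul_one]
  choose r hr using hsurj
  have key : ∀ f, polyWord g u (r (aeval μ f)) = polyWord g u f := fun f => hker _ _ (hr _)
  refine ⟨fun a => polyWord g u (r a), ?_, ?_, ?_, key⟩
  · have h1 := key 1
    rw [map_one] at h1
    show polyWord g u (r 1) = u
    rw [h1, polyWord_one]
  · intro a b
    have h1 := key (r a + r b)
    have e : aeval μ (r a + r b) = a + b := by rw [map_add]; exact congrArg₂ _ (hr a) (hr b)
    rw [e] at h1
    show polyWord g u (r (a + b)) = polyWord g u (r a) * polyWord g u (r b)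
    rw [h1, polyWord_add g u hp hcomm]
  · intro a
    have h1 := key (X * r a)
    have e : aeval μ (X * r a) = μ * a := by rw [map_mul, aeval_X]; exact congrArg _ (hr a)
    rw [e] at h1
    show g * polyWord g u (r a) * g⁻¹ = polyWord g u (r (μ * a))
    rw [h1, polyWord_X_mul]

end Cfsg.Agent.Lib.helper44.Pres
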