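/-
Abstract reflections of a quadratic space, Siegel elements, and the ternary lemma: an odd-order
group of isometries supported on a ternary space and normalised by the products of two reflections
of equal norm is trivial.
-/
import Mathlib

set_option autoImplicit false
set_option linter.unusedSectionVars false
set_option linter.unusedVariables false

namespace Cfsg.Agent.Lib.helper51

open QuadraticMap

section OBalA

variable {E : Type*} [Field E] {V : Type*} [AddCommGroup V] [Module E V]

/-- the reflection in `u` (the identity when `Q u = 0`) -/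
noncomputable def orf (Q : QuadraticForm E V) (u v : V) : V :=
  v - ((Q u)⁻¹ * polar Q u v) • u

theorem orf_add (Q : QuadraticForm E V) (u v v' : V) :
    orf Q u (v + v') = orf Q u v + orf Q u v' := by
  unfold orf
  rw [polar_add_right, mul_add, add_smul]
  abel

theorem orf_smul (Q : QuadraticForm E V) (u : V) (a : E) (v : V) :
    orf Q u (a • v) = a • orf Q u v := by
  unfold orf
  rw [polar_smul_right, smul_sub, smul_smul, smul_eq_mul]
  congr 2
  ring

theorem obal_inv_mul (x : E) : x⁻¹ * x * x⁻¹ = x⁻¹ := by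
  by_cases h : x = 0
  · subst h
    simp
  · field_simp

theorem orf_orf (Q : QuadraticForm E V) (u v : V) : orf Q u (orf Q u v) = v := by
  unfold orf
  rw [polar_sub_right, polar_smul_right, polar_self]
  have key : (Q u)⁻¹ * (polar Q u v - ((Q u)⁻¹ * polar Q u v) • (2 • Q u))
      = -((Q u)⁻¹ * polar Q u v) := by
    have h := obal_inv_mul (Q u)
    simp only [smul_eq_mul, nsmul_eq_mul, Nat.cast_ofNat]
    linear_combination (-2 * polar Q u v) * h
  rw [key, neg_smul]
  abel

theorem orf_Q (Q : QuadraticForm E V) (u v : V) : Q (orf Q u v) = Q v := by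
  unfold orf
  rw [sub_eq_add_neg, ← neg_smul, QuadraticMap.map_add (⇑Q) v, QuadraticMap.map_smul,
    polar_smul_right, polar_comm (⇑Q) v u]
  have h := obal_inv_mul (Q u)
  simp only [smul_eq_mul]
  linear_combination (polar Q u v) ^ 2 * h

theorem orf_of_zero (Q : QuadraticForm E V) (u v : V) (hu : Q u = 0) : orf Q u v = v := by
  unfold orf
  rw [hu, inv_zero, zero_mul, zero_smul, sub_zero]

theorem orf_of_orth (Q : QuadraticForm E V) (u v : V) (h : polar Q u v = 0) : orf Q u v = v := by
  unfold orf
  rw [h, mul_zero, zero_smul, sub_zero]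

theorem orf_self (Q : QuadraticForm E V) (u : V) (hu : Q u ≠ 0) : orf Q u u = -u := by
  unfold orf
  rw [polar_self]
  have : (Q u)⁻¹ * (2 • Q u) = 2 := by
    rw [nsmul_eq_mul, Nat.cast_ofNat]
    field_simp
  rw [this, two_smul]
  abel

/-- the reflection as a linear map -/
noncomputable def orfL (Q : QuadraticForm E V) (u : V) : V →ₗ[E] V where
  toFun := orf Q u
  map_add' := orf_add Q u
  map_smul' := fun a v => by
    rw [RingHom.id_apply]
    exact orf_smul Q u a v

/-- the reflection as a linear equivalence -/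
noncomputable def orfE (Q : QuadraticForm E V) (u : V) : V ≃ₗ[E] V :=
  LinearEquiv.ofInvolutive (orfL Q u) (orf_orf Q u)

theorem orfE_apply (Q : QuadraticForm E V) (u v : V) : orfE Q u v = orf Q u v := rfl

theorem orfE_mul_self (Q : QuadraticForm E V) (u : V) : orfE Q u * orfE Q u = 1 := by
  ext v
  rw [LinearEquiv.mul_apply, orfE_apply, orfE_apply, orf_orf]
  rfl

theorem orfE_inv (Q : QuadraticForm E V) (u : V) : (orfE Q u)⁻¹ = orfE Q u :=
  inv_eq_of_mul_eq_one_left (orfE_mul_self Q u)

theorem obal_polar_of_iso (Q : QuadraticForm E V) (m : V → V)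
    (hadd : ∀ x y, m (x + y) = m x + m y) (hm : ∀ v, Q (m v) = Q v) (u v : V) :
    polar Q (m u) (m v) = polar Q u v := by
  unfold polar
  rw [← hadd, hm, hm, hm]

theorem orf_conj (Q : QuadraticForm E V) (m : V ≃ₗ[E] V) (hm : ∀ v, Q (m v) = Q v) (u v : V) :
    m (orf Q u v) = orf Q (m u) (m v) := by
  unfold orf
  rw [map_sub, map_smul, hm, obal_polar_of_iso Q m (map_add m) hm]

theorem orfE_conj (Q : QuadraticForm E V) (m : V ≃ₗ[E] V) (hm : ∀ v, Q (m v) = Q v) (u : V) :
    m * orfE Q u * m⁻¹ = orfE Q (m u) := by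
  ext v
  rw [LinearEquiv.mul_apply, LinearEquiv.mul_apply, orfE_apply, orfE_apply, orf_conj Q m hm]
  congr 1
  exact LinearEquiv.apply_symm_apply m v

theorem orf_mem (Q : QuadraticForm E V) (T : Submodule E V) (u v : V) (hu : u ∈ T) (hv : v ∈ T) :
    orf Q u v ∈ T :=
  T.sub_mem hv (T.smul_mem _ hu)

theorem orf_sub_mem (Q : QuadraticForm E V) (T : Submodule E V) (u v : V) (hu : u ∈ T) :
    orf Q u v - v ∈ T := by
  unfold orf
  rw [sub_sub_cancel_left]
  exact T.neg_mem (T.smul_mem _ hu)

/-- an adapted basis of a ternary space: a hyperbolic pair and an orthogonal vector of norm `c` -/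
structure OAdapted (Q : QuadraticForm E V) (e f w : V) (c : E) : Prop where
  hc : c ≠ 0
  he : Q e = 0
  hf : Q f = 0
  hw : Q w = c
  hef : polar Q e f = 1
  hew : polar Q e w = 0
  hfw : polar Q f w = 0

theorem obal_Q_comb (Q : QuadraticForm E V) {e f w : V} {c : E} (had : OAdapted Q e f w c)
    (α β γ : E) : Q (α • e + β • f + γ • w) = α * β + c * γ ^ 2 := by
  rw [QuadraticMap.map_add (⇑Q) (α • e + β • f), QuadraticMap.map_add (⇑Q) (α • e),
    QuadraticMap.map_smul, QuadraticMap.map_smul,
    QuadraticMap.map_smul, polar_add_left, polar_smul_left, polar_smul_left, polar_smul_right,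
    polar_smul_right, polar_smul_left, polar_smul_right, had.he, had.hf, had.hw, had.hef, had.hew,
    had.hfw]
  simp only [smul_eq_mul]
  ring

theorem obal_polar_comb (Q : QuadraticForm E V) {e f w : V} {c : E} (had : OAdapted Q e f w c)
    (α β γ α' β' γ' : E) :
    polar Q (α • e + β • f + γ • w) (α' • e + β' • f + γ' • w)
      = α * β' + α' * β + 2 * c * γ * γ' := by
  have e1 : α • e + β • f + γ • w + (α' • e + β' • f + γ' • w)
      = (α + α') • e + (β + β') • f + (γ + γ') • w := by module
  unfold polar
  rw [e1, obal_Q_comb Q had, obal_Q_comb Q had, obal_Q_comb Q had]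
  ring

theorem OAdapted.e_ne {Q : QuadraticForm E V} {e f w : V} {c : E} (had : OAdapted Q e f w c) :
    e ≠ 0 := by
  intro h
  have := had.hef
  rw [h] at this
  simp [polar] at this

theorem OAdapted.w_ne {Q : QuadraticForm E V} {e f w : V} {c : E} (had : OAdapted Q e f w c) :
    w ≠ 0 := by
  intro h
  have := had.hw
  rw [h, QuadraticMap.map_zero] at this
  exact had.hc this.symm

theorem OAdapted.swap {Q : QuadraticForm E V} {e f w : V} {c : E} (had : OAdapted Q e f w c) :
    OAdapted Q f e w c :=
  ⟨had.hc, had.hf, had.he, had.hw, by rw [polar_comm]; exact had.hef, had.hfw, had.hew⟩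

theorem OAdapted.shift1 {Q : QuadraticForm E V} {e f w : V} {c : E} (had : OAdapted Q e f w c) :
    OAdapted Q (f + w - c • e) e (w - (2 * c) • e) c := by
  have e1 : f + w - c • e = (-c) • e + (1 : E) • f + (1 : E) • w := by module
  have e2 : e = (1 : E) • e + (0 : E) • f + (0 : E) • w := by module
  have e3 : w - (2 * c) • e = (-(2 * c)) • e + (0 : E) • f + (1 : E) • w := by module
  refine ⟨had.hc, ?_, had.he, ?_, ?_, ?_, ?_⟩
  · rw [e1, obal_Q_comb Q had]; ring
  · rw [e3, obal_Q_comb Q had]; ring
  · rw [e1]; nth_rewrite 2 [e2]; rw [obal_polar_comb Q had]; ring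
  · rw [e1, e3, obal_polar_comb Q had]; ring
  · rw [e3]; nth_rewrite 1 [e2]; rw [obal_polar_comb Q had]; ring

theorem OAdapted.shift2 {Q : QuadraticForm E V} {e f w : V} {c : E} (had : OAdapted Q e f w c) :
    OAdapted Q (f - w - c • e) e (w + (2 * c) • e) c := by
  have e1 : f - w - c • e = (-c) • e + (1 : E) • f + (-1 : E) • w := by module
  have e2 : e = (1 : E) • e + (0 : E) • f + (0 : E) • w := by module
  have e3 : w + (2 * c) • e = (2 * c) • e + (0 : E) • f + (1 : E) • w := by module
  refine ⟨had.hc, ?_, had.he, ?_, ?_, ?_, ?_⟩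
  · rw [e1, obal_Q_comb Q had]; ring
  · rw [e3, obal_Q_comb Q had]; ring
  · rw [e1]; nth_rewrite 2 [e2]; rw [obal_polar_comb Q had]; ring
  · rw [e1, e3, obal_polar_comb Q had]; ring
  · rw [e3]; nth_rewrite 1 [e2]; rw [obal_polar_comb Q had]; ring

/-- the Siegel element `r_w r_{w + l e}` -/
theorem obal_siegel (Q : QuadraticForm E V) (e w : V) (c : E) (hc : c ≠ 0) (he : Q e = 0)
    (hw : Q w = c) (hew : polar Q e w = 0) (l : E) (v : V) :
    orf Q w (orf Q (w + l • e) v)
      = v + (l / c) • (polar Q e v • w - polar Q w v • e) - (l ^ 2 / c * polar Q e v) • e := by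
  have hwe : polar Q w e = 0 := by rw [polar_comm]; exact hew
  have hee : polar Q e e = 0 := by rw [polar_self, he, smul_zero]
  have hww : polar Q w w = 2 * c := by rw [polar_self, hw, nsmul_eq_mul, Nat.cast_ofNat]
  have hQ : Q (w + l • e) = c := by
    rw [QuadraticMap.map_add (⇑Q) w, QuadraticMap.map_smul, polar_smul_right, he, hw, hwe]
    simp
  unfold orf
  rw [hQ, hw]
  simp only [polar_add_left, polar_smul_left, polar_sub_right, polar_smul_right, polar_add_right,
    hwe, hee, hww, hew, smul_eq_mul, mul_zero, add_zero, zero_add]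
  match_scalars <;> field_simp <;> ring

theorem obal_siegel_e (Q : QuadraticForm E V) (e w : V) (c : E) (hc : c ≠ 0) (he : Q e = 0)
    (hw : Q w = c) (hew : polar Q e w = 0) (l : E) :
    orf Q w (orf Q (w + l • e) e) = e := by
  rw [obal_siegel Q e w c hc he hw hew]
  have hwe : polar Q w e = 0 := by rw [polar_comm]; exact hew
  have hee : polar Q e e = 0 := by rw [polar_self, he, smul_zero]
  rw [hwe, hee]
  simp

theorem obal_siegel_w (Q : QuadraticForm E V) (e w : V) (c : E) (hc : c ≠ 0) (he : Q e = 0)
    (hw : Q w = c) (hew : polar Q e w = 0) (l : E) :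
    orf Q w (orf Q (w + l • e) w) = w - (2 * l) • e := by
  rw [obal_siegel Q e w c hc he hw hew]
  have hww : polar Q w w = 2 * c := by rw [polar_self, hw, nsmul_eq_mul, Nat.cast_ofNat]
  rw [hww, hew]
  match_scalars <;> field_simp <;> ring

theorem obal_siegel_f (Q : QuadraticForm E V) {e f w : V} {c : E} (had : OAdapted Q e f w c)
    (l : E) :
    orf Q w (orf Q (w + l • e) f) = f + (l / c) • w - (l ^ 2 / c) • e := by
  rw [obal_siegel Q e w c had.hc had.he had.hw had.hew]
  have hwf : polar Q w f = 0 := by rw [polar_comm]; exact had.hfw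
  rw [had.hef, hwf]
  match_scalars <;> field_simp <;> ring

/-- an additive map commuting with the Siegel elements `r_w r_{w ± e}` preserves the line of `e` -/
theorem obal_sing (h2 : (2 : E) ≠ 0) (Q : QuadraticForm E V) (e w : V) (c : E) (hc : c ≠ 0)
    (he : Q e = 0) (hw : Q w = c) (hew : polar Q e w = 0) (m : V → V)
    (hadd : ∀ x y, m (x + y) = m x + m y)
    (hcomm : ∀ (l : E) (v : V), m (orf Q w (orf Q (w + l • e) v))
      = orf Q w (orf Q (w + l • e) (m v))) :
    ∃ κ : E, m e = κ • e := by
  by_cases he0 : e = 0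
  · refine ⟨0, ?_⟩
    have h0 : m 0 = 0 := by
      have := hadd 0 0
      rw [add_zero] at this
      exact left_eq_add.mp this
    rw [he0, h0, smul_zero]
  have h1 := hcomm 1 w
  have h2' := hcomm (-1) w
  rw [obal_siegel_w Q e w c hc he hw hew, obal_siegel Q e w c hc he hw hew] at h1 h2'
  have ea : w - (2 * (1 : E)) • e = w + (-e + -e) := by module
  have eb : w - (2 * (-1 : E)) • e = w + (e + e) := by module
  have hneg : ∀ y, m (-y) = -m y := by
    intro y
    have h0 : m 0 = 0 := by
      have := hadd 0 0
      rw [add_zero] at this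
      exact left_eq_add.mp this
    have := hadd y (-y)
    rw [add_neg_cancel, h0] at this
    exact (neg_eq_of_add_eq_zero_right this.symm).symm
  rw [ea, hadd, hadd, hneg] at h1
  rw [eb, hadd, hadd] at h2'
  have hsum : (2 / c * polar Q e (m w)) • e = 0 := by
    have h3 : (m w + (-m e + -m e)) + (m w + (m e + m e))
        = (m w + ((1 : E) / c) • (polar Q e (m w) • w - polar Q w (m w) • e)
            - ((1 : E) ^ 2 / c * polar Q e (m w)) • e)
          + (m w + ((-1 : E) / c) • (polar Q e (m w) • w - polar Q w (m w) • e)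
            - ((-1 : E) ^ 2 / c * polar Q e (m w)) • e) := by
      rw [h1, h2']
    have h4 : (2 / c * polar Q e (m w)) • e
        = ((m w + (-m e + -m e)) + (m w + (m e + m e)))
          - ((m w + ((1 : E) / c) • (polar Q e (m w) • w - polar Q w (m w) • e)
            - ((1 : E) ^ 2 / c * polar Q e (m w)) • e)
          + (m w + ((-1 : E) / c) • (polar Q e (m w) • w - polar Q w (m w) • e)
            - ((-1 : E) ^ 2 / c * polar Q e (m w)) • e)) := by
      match_scalars <;> field_simp <;> ring
    rw [h3, sub_self] at h4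
    exact h4
  have hB : polar Q e (m w) = 0 := by
    rcases smul_eq_zero.mp hsum with h | h
    · rcases mul_eq_zero.mp h with h' | h'
      · exact absurd h' (div_ne_zero h2 hc)
      · exact h'
    · exact absurd h he0
  rw [hB] at h2'
  refine ⟨polar Q w (m w) / (2 * c), ?_⟩
  have h7 : (2 : E) • m e = (2 : E) • ((polar Q w (m w) / (2 * c)) • e) := by
    have h8 : m e + m e = ((-1 : E) / c) • ((0 : E) • w - polar Q w (m w) • e)
        - ((-1 : E) ^ 2 / c * 0) • e := by
      have := h2'
      rw [add_comm (m w) (m e + m e)] at this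
      have h9 := congrArg (fun z => z - m w) this
      simp only [add_sub_cancel_right] at h9
      rw [h9]
      abel
    rw [two_smul, h8]
    match_scalars <;> field_simp <;> ring
  exact smul_right_injective V h2 h7

end OBalA

end Cfsg.Agent.Lib.helper51
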