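/-
The ternary lemma: an odd-order group of isometries supported on a ternary space and normalised by
the products of two reflections of equal norm acts trivially on that space.
-/
import Mathlib
import Cfsg.Agent.Lib.helper51.OBalA

set_option autoImplicit false
set_option linter.unusedSectionVars false
set_option linter.unusedVariables false
set_option linter.unusedSimpArgs false

namespace Cfsg.Agent.Lib.helper51

open QuadraticMap

section OBalB

variable {E : Type*} [Field E] {V : Type*} [AddCommGroup V] [Module E V]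

/-- a linear map preserving four singular lines of an adapted ternary space is a scalar on it -/
theorem obal_tern_scalar (h2 : (2 : E) ≠ 0) (Q : QuadraticForm E V) {e f w : V} {c : E}
    (had : OAdapted Q e f w c) (m : V →ₗ[E] V) (α β γ δ : E) (h1 : m e = α • e)
    (h2' : m f = β • f) (h3 : m (f + w - c • e) = γ • (f + w - c • e))
    (h4 : m (f - w - c • e) = δ • (f - w - c • e)) :
    m f = α • f ∧ m w = α • w := by
  have hc := had.hc
  rw [map_sub, map_add, map_smul, h1, h2'] at h3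
  rw [map_sub, map_sub, map_smul, h1, h2'] at h4
  have hfe : polar Q f e = 1 := by rw [polar_comm]; exact had.hef
  have hwe : polar Q w e = 0 := by rw [polar_comm]; exact had.hew
  have hwf : polar Q w f = 0 := by rw [polar_comm]; exact had.hfw
  have hee : polar Q e e = 0 := by rw [polar_self, had.he, smul_zero]
  have hff : polar Q f f = 0 := by rw [polar_self, had.hf, smul_zero]
  have hww : polar Q w w = 2 * c := by rw [polar_self, had.hw, nsmul_eq_mul, Nat.cast_ofNat]
  have a1 := congrArg (fun v => polar Q v e) h3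
  have a2 := congrArg (fun v => polar Q v e) h4
  have b1 := congrArg (fun v => polar Q v w) h3
  have b2 := congrArg (fun v => polar Q v w) h4
  have c1 := congrArg (fun v => polar Q v f) h3
  have c2 := congrArg (fun v => polar Q v f) h4
  simp only [polar_add_left, polar_sub_left, polar_smul_left, hfe, hwe, hwf, hee, hff, hww,
    had.hef, had.hew, had.hfw, smul_eq_mul, mul_zero, mul_one, sub_zero, zero_add, add_zero,
    zero_sub] at a1 a2 b1 b2 c1 c2
  have hγδ : γ = δ := by
    have : (2 * c) * (γ - δ) = 0 := by linear_combination -b1 - b2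
    rcases mul_eq_zero.mp this with h | h
    · exact absurd h (mul_ne_zero h2 hc)
    · exact sub_eq_zero.mp h
  have hβγ : β = γ := by
    have : (2 : E) * (β - γ) = 0 := by linear_combination a1 + a2 - hγδ
    rcases mul_eq_zero.mp this with h | h
    · exact absurd h h2
    · exact sub_eq_zero.mp h
  have hαγ : α = γ := by
    have : (2 * c) * (α - γ) = 0 := by linear_combination -c1 - c2 - c * hγδ
    rcases mul_eq_zero.mp this with h | h
    · exact absurd h (mul_ne_zero h2 hc)
    · exact sub_eq_zero.mp h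
  refine ⟨by rw [h2', hβγ, hαγ], ?_⟩
  have hmw : m w = γ • (f + w - c • e) - β • f + c • α • e := by
    rw [← h3]
    abel
  rw [hmw, ← hβγ, hαγ, hβγ]
  module

theorem obal_inv_apply (g : V ≃ₗ[E] V) (v : V) : g⁻¹ (g v) = v := by
  show (g⁻¹ * g) v = v
  rw [inv_mul_cancel]
  rfl

theorem obal_apply_inv (g : V ≃ₗ[E] V) (v : V) : g (g⁻¹ v) = v := by
  show (g * g⁻¹) v = v
  rw [mul_inv_cancel]
  rfl

theorem obal_ringChar_ne_two [Finite E] (h2 : (2 : E) ≠ 0) : ringChar E ≠ 2 := by
  intro h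
  have := CharP.cast_eq_zero E (ringChar E)
  rw [h] at this
  exact h2 (by exact_mod_cast this)

/-- an odd-order group of isometries supported on a ternary space and normalised by products of two
reflections of equal norm fixes the singular line of an adapted basis -/
theorem obal_tern_line [Finite E] (h2 : (2 : E) ≠ 0) (Q : QuadraticForm E V) {e f w : V} {c : E}
    (had : OAdapted Q e f w c) (T : Submodule E V) (heT : e ∈ T) (hfT : f ∈ T) (hwT : w ∈ T)
    (hT : ∀ t ∈ T, ∃ α β γ : E, t = α • e + β • f + γ • w)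
    (M : Subgroup (V ≃ₗ[E] V)) [Finite M] (hodd : Odd (Nat.card M))
    (hiso : ∀ m ∈ M, ∀ v, Q (m v) = Q v)
    (hsupp : ∀ m ∈ M, ∀ v, m v - v ∈ T)
    (hnorm : ∀ u ∈ T, ∀ u' ∈ T, Q u = Q u' → Q u ≠ 0 → ∀ m ∈ M,
      orfE Q u * orfE Q u' * m * (orfE Q u * orfE Q u')⁻¹ ∈ M) :
    ∀ m ∈ M, ∃ μ : E, m e = μ • e := by
  classical
  by_contra hcon
  push Not at hcon
  obtain ⟨m₀, hm₀, hm₀e⟩ := hcon
  have he0 := had.e_ne
  have hc := had.hc
  have hee : polar Q e e = 0 := by rw [polar_self, had.he, smul_zero]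
  have e2 : e = (1 : E) • e + (0 : E) • f + (0 : E) • w := by module
  have e3 : w = (0 : E) • e + (0 : E) • f + (1 : E) • w := by module
  -- normal form of the image of `e`
  have NF : ∀ m ∈ M, (polar Q (m e) e = 0 ∧ ∃ α : E, m e = α • e) ∨
      (polar Q (m e) e ≠ 0 ∧ m e = polar Q (m e) e •
        (f + (polar Q (m e) w / (2 * c * polar Q (m e) e)) • w
          - (c * (polar Q (m e) w / (2 * c * polar Q (m e) e)) ^ 2) • e)) := by
    intro m hm
    have hmeT : m e ∈ T := by
      have := T.add_mem (hsupp m hm e) heT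
      rwa [sub_add_cancel] at this
    obtain ⟨α, β, γ, habc⟩ := hT _ hmeT
    have hQ : α * β + c * γ ^ 2 = 0 := by
      rw [← obal_Q_comb Q had, ← habc, hiso m hm, had.he]
    have hpe : polar Q (m e) e = β := by
      rw [habc]; nth_rewrite 2 [e2]; rw [obal_polar_comb Q had]; ring
    have hpw : polar Q (m e) w = 2 * c * γ := by
      rw [habc]; nth_rewrite 2 [e3]; rw [obal_polar_comb Q had]; ring
    by_cases hβ : β = 0
    · left
      refine ⟨by rw [hpe, hβ], α, ?_⟩
      have hγ : γ = 0 := by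
        rw [hβ, mul_zero, zero_add] at hQ
        rcases mul_eq_zero.mp hQ with h | h
        · exact absurd h hc
        · exact pow_eq_zero_iff (two_ne_zero) |>.mp h
      rw [habc, hβ, hγ]
      module
    · right
      refine ⟨by rw [hpe]; exact hβ, ?_⟩
      rw [hpe, hpw, habc]
      have hα : α = -(c * γ ^ 2) / β := by
        field_simp
        linear_combination hQ
      rw [hα]
      match_scalars <;> field_simp <;> ring
  -- the stabiliser of the line
  let S : Subgroup ↥M :=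
    { carrier := {m | ∃ μ : E, (m : V ≃ₗ[E] V) e = μ • e}
      one_mem' := ⟨1, by simp⟩
      mul_mem' := by
        rintro a b ⟨μ, hμ⟩ ⟨ν, hν⟩
        refine ⟨ν * μ, ?_⟩
        rw [Subgroup.coe_mul, LinearEquiv.mul_apply, hν, map_smul, hμ, smul_smul]
      inv_mem' := by
        rintro a ⟨μ, hμ⟩
        have hμ0 : μ ≠ 0 := by
          rintro rfl
          rw [zero_smul] at hμ
          exact he0 ((LinearEquiv.map_eq_zero_iff _).mp hμ)
        refine ⟨μ⁻¹, ?_⟩
        rw [Subgroup.coe_inv]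
        have h := obal_inv_apply (a : V ≃ₗ[E] V) e
        rw [hμ, map_smul] at h
        calc (a : V ≃ₗ[E] V)⁻¹ e = μ⁻¹ • (μ • ((a : V ≃ₗ[E] V)⁻¹ e)) := by
              rw [smul_smul, inv_mul_cancel₀ hμ0, one_smul]
          _ = μ⁻¹ • e := by rw [h] }
  have hS : ∀ a : ↥M, a ∈ S ↔ ∃ μ : E, (a : V ≃ₗ[E] V) e = μ • e := fun a => Iff.rfl
  let Φ : ↥M → Option E := fun m =>
    if polar Q ((m : V ≃ₗ[E] V) e) e = 0 then none
    else some (polar Q ((m : V ≃ₗ[E] V) e) w / (2 * c * polar Q ((m : V ≃ₗ[E] V) e) e))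
  have hΦ : ∀ m : ↥M, Φ m = if polar Q ((m : V ≃ₗ[E] V) e) e = 0 then none
    else some (polar Q ((m : V ≃ₗ[E] V) e) w / (2 * c * polar Q ((m : V ≃ₗ[E] V) e) e)) :=
    fun m => rfl
  have hne : ∀ a : ↥M, (a : V ≃ₗ[E] V) e ≠ 0 := fun a h =>
    he0 ((LinearEquiv.map_eq_zero_iff _).mp h)
  have K1 : ∀ a b : ↥M, (∃ ν : E, ν ≠ 0 ∧ (b : V ≃ₗ[E] V) e = ν • (a : V ≃ₗ[E] V) e) →
      Φ a = Φ b := by
    rintro a b ⟨ν, hν0, hν⟩
    rw [hΦ, hΦ, hν, polar_smul_left, polar_smul_left]
    by_cases h : polar Q ((a : V ≃ₗ[E] V) e) e = 0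
    · rw [if_pos h, if_pos (by rw [h, smul_zero])]
    · rw [if_neg h, if_neg (by
        rw [smul_eq_mul]
        exact mul_ne_zero hν0 h)]
      congr 1
      simp only [smul_eq_mul]
      field_simp
  have K2 : ∀ a b : ↥M, Φ a = Φ b → ∃ ν : E, (b : V ≃ₗ[E] V) e = ν • (a : V ≃ₗ[E] V) e := by
    intro a b hab
    rw [hΦ, hΦ] at hab
    rcases NF a a.2 with ⟨ha0, α, hα⟩ | ⟨ha1, hα⟩
    · rcases NF b b.2 with ⟨hb0, α', hα'⟩ | ⟨hb1, hα'⟩
      · have hα0 : α ≠ 0 := by
          rintro rfl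
          rw [zero_smul] at hα
          exact hne a hα
        refine ⟨α' / α, ?_⟩
        rw [hα', hα, smul_smul, div_mul_cancel₀ _ hα0]
      · rw [if_pos ha0, if_neg hb1] at hab
        exact absurd hab (by simp)
    · rcases NF b b.2 with ⟨hb0, α', hα'⟩ | ⟨hb1, hα'⟩
      · rw [if_neg ha1, if_pos hb0] at hab
        exact absurd hab (by simp)
      · rw [if_neg ha1, if_neg hb1] at hab
        have ht := Option.some.inj hab
        refine ⟨polar Q ((b : V ≃ₗ[E] V) e) e / polar Q ((a : V ≃ₗ[E] V) e) e, ?_⟩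
        nth_rewrite 1 [hα']
        nth_rewrite 2 [hα]
        rw [← ht, smul_smul, div_mul_cancel₀ _ ha1]
  have compat : ∀ a b : ↥M, a⁻¹ * b ∈ S → Φ a = Φ b := by
    intro a b hab
    obtain ⟨μ, hμ⟩ := (hS _).mp hab
    rw [Subgroup.coe_mul, Subgroup.coe_inv, LinearEquiv.mul_apply] at hμ
    have h1 : (b : V ≃ₗ[E] V) e = μ • (a : V ≃ₗ[E] V) e := by
      have h := congrArg (fun v => (a : V ≃ₗ[E] V) v) hμ
      simp only [map_smul] at h
      rw [← h, obal_apply_inv]
    have hμ0 : μ ≠ 0 := by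
      rintro rfl
      rw [zero_smul] at h1
      exact hne b h1
    exact K1 a b ⟨μ, hμ0, h1⟩
  have inj : ∀ a b : ↥M, Φ a = Φ b → a⁻¹ * b ∈ S := by
    intro a b hab
    obtain ⟨ν, hν⟩ := K2 a b hab
    rw [hS]
    refine ⟨ν, ?_⟩
    rw [Subgroup.coe_mul, Subgroup.coe_inv, LinearEquiv.mul_apply, hν, map_smul, obal_inv_apply]
  -- the Siegel elements
  have hη : ∀ l : E, ∀ v, (orfE Q w * orfE Q (w + l • e)) v = orf Q w (orf Q (w + l • e) v) :=
    fun l v => rfl
  have hηinv : ∀ l : E, (orfE Q w * orfE Q (w + l • e))⁻¹ = orfE Q (w + l • e) * orfE Q w := by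
    intro l
    rw [mul_inv_rev, orfE_inv, orfE_inv]
  have hQwl : ∀ l : E, Q (w + l • e) = c := by
    intro l
    have hwe : polar Q w e = 0 := by rw [polar_comm]; exact had.hew
    rw [QuadraticMap.map_add (⇑Q) w, QuadraticMap.map_smul, polar_smul_right, had.he, had.hw, hwe]
    simp
  have hwlT : ∀ l : E, w + l • e ∈ T := fun l => T.add_mem hwT (T.smul_mem _ heT)
  have hn1 : ∀ l : E, ∀ m ∈ M,
      (orfE Q w * orfE Q (w + l • e)) * m * (orfE Q w * orfE Q (w + l • e))⁻¹ ∈ M := by
    intro l m hm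
    exact hnorm w hwT (w + l • e) (hwlT l) (by rw [hQwl, had.hw]) (by rw [had.hw]; exact hc) m hm
  have hn2 : ∀ l : E, ∀ m ∈ M,
      (orfE Q w * orfE Q (w + l • e))⁻¹ * m * (orfE Q w * orfE Q (w + l • e)) ∈ M := by
    intro l m hm
    have h := hnorm (w + l • e) (hwlT l) w hwT (by rw [hQwl, had.hw]) (by rw [hQwl]; exact hc) m hm
    rw [← hηinv, inv_inv] at h
    exact h
  have hηe : ∀ l : E, (orfE Q w * orfE Q (w + l • e)) e = e := fun l => by
    rw [hη]
    exact obal_siegel_e Q e w c hc had.he had.hw had.hew l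
  have hηinve : ∀ l : E, (orfE Q w * orfE Q (w + l • e))⁻¹ e = e := by
    intro l
    have h' := obal_inv_apply (orfE Q w * orfE Q (w + l • e)) e
    rw [hηe] at h'
    exact h'
  have surj : ∀ o : Option E, ∃ m : ↥M, Φ m = o := by
    intro o
    cases o with
    | none =>
      refine ⟨1, ?_⟩
      rw [hΦ, if_pos]
      rw [OneMemClass.coe_one]
      exact hee
    | some t =>
      rcases NF m₀ hm₀ with ⟨-, α, hα⟩ | ⟨hβ₀, hm₀e'⟩
      · exact absurd hα (hm₀e α)
      obtain ⟨β₀, hβ₀def⟩ : ∃ β₀, β₀ = polar Q (m₀ e) e := ⟨_, rfl⟩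
      rw [← hβ₀def] at hm₀e' hβ₀
      obtain ⟨t₀, ht₀def⟩ : ∃ t₀, t₀ = polar Q (m₀ e) w / (2 * c * β₀) := ⟨_, rfl⟩
      rw [← ht₀def] at hm₀e'
      obtain ⟨m₁, hm₁def⟩ : ∃ m₁, m₁ = (orfE Q w * orfE Q (w + (c * t₀) • e))⁻¹ * m₀
          * (orfE Q w * orfE Q (w + (c * t₀) • e)) := ⟨_, rfl⟩
      have hm₁ : m₁ ∈ M := by rw [hm₁def]; exact hn2 _ m₀ hm₀
      obtain ⟨m, hmdef⟩ : ∃ m, m = (orfE Q w * orfE Q (w + (c * t) • e)) * m₁
          * (orfE Q w * orfE Q (w + (c * t) • e))⁻¹ := ⟨_, rfl⟩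
      have hm : m ∈ M := by rw [hmdef]; exact hn1 _ m₁ hm₁
      have hf0 : (orfE Q w * orfE Q (w + (c * t₀) • e)) f = f + t₀ • w - (c * t₀ ^ 2) • e := by
        rw [hη, obal_siegel_f Q had]
        match_scalars <;> field_simp
      have hf0' : (orfE Q w * orfE Q (w + (c * t₀) • e))⁻¹ (f + t₀ • w - (c * t₀ ^ 2) • e) = f := by
        rw [← hf0, obal_inv_apply]
      have hm₁e : m₁ e = β₀ • f := by
        rw [hm₁def, LinearEquiv.mul_apply, LinearEquiv.mul_apply, hηe, hm₀e', map_smul, hf0']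
      have hme : m e = β₀ • (f + t • w - (c * t ^ 2) • e) := by
        rw [hmdef, LinearEquiv.mul_apply, LinearEquiv.mul_apply, hηinve, hm₁e, map_smul, hη,
          obal_siegel_f Q had]
        congr 1
        match_scalars <;> field_simp
      refine ⟨⟨m, hm⟩, ?_⟩
      rw [hΦ]
      have e1 : f + t • w - (c * t ^ 2) • e = (-(c * t ^ 2)) • e + (1 : E) • f + t • w := by module
      have hpe : polar Q (m e) e = β₀ := by
        rw [hme, polar_smul_left, e1]
        nth_rewrite 2 [e2]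
        rw [obal_polar_comb Q had]
        simp
      have hpw : polar Q (m e) w = β₀ * (2 * c * t) := by
        rw [hme, polar_smul_left, e1]
        nth_rewrite 2 [e3]
        rw [obal_polar_comb Q had]
        simp
      show (if polar Q (m e) e = 0 then none
        else some (polar Q (m e) w / (2 * c * polar Q (m e) e))) = some t
      rw [hpe, hpw, if_neg hβ₀]
      congr 1
      field_simp
  -- counting
  have compat' : ∀ a b : ↥M, (QuotientGroup.leftRel S) a b → Φ a = Φ b :=
    fun a b hab => compat a b (QuotientGroup.leftRel_apply.mp hab)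
  have hbij : Function.Bijective
      (Quotient.lift (s := QuotientGroup.leftRel S) Φ compat') := by
    constructor
    · intro x y
      induction x using Quotient.inductionOn with
      | _ a =>
        induction y using Quotient.inductionOn with
        | _ b =>
          intro hab
          exact Quotient.sound (QuotientGroup.leftRel_apply.mpr (inj a b hab))
    · intro o
      obtain ⟨m, hm⟩ := surj o
      exact ⟨Quotient.mk _ m, hm⟩
  have hcardE : Nat.card (Option E) = Nat.card E + 1 := by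
    haveI := Fintype.ofFinite E
    rw [Nat.card_eq_fintype_card, Fintype.card_option, Nat.card_eq_fintype_card]
  have hq : Nat.card (↥M ⧸ S) = Nat.card E + 1 :=
    (Nat.card_congr (Equiv.ofBijective _ hbij)).trans hcardE
  have hM : Nat.card ↥M = (Nat.card E + 1) * Nat.card ↥S := by
    rw [Subgroup.card_eq_card_quotient_mul_card_subgroup S, hq]
  have hEodd : Nat.card E % 2 = 1 := by
    haveI := Fintype.ofFinite E
    rw [Nat.card_eq_fintype_card]
    exact FiniteField.odd_card_of_char_ne_two (obal_ringChar_ne_two h2)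
  have hev : Even (Nat.card ↥M) := by
    rw [hM]
    apply Even.mul_right
    rw [Nat.even_add_one, Nat.not_even_iff]
    exact hEodd
  exact (Nat.not_even_iff_odd.mpr hodd) hev

theorem obal_pow_smul (m : V ≃ₗ[E] V) (α : E) (v : V) (h : m v = α • v) (k : ℕ) :
    (m ^ k) v = α ^ k • v := by
  induction k with
  | zero => simp
  | succ k ih =>
    rw [pow_succ, LinearEquiv.mul_apply, h, map_smul, ih, smul_smul, pow_succ, mul_comm]

theorem obal_pow_card (M : Subgroup (V ≃ₗ[E] V)) [Finite M] (m : V ≃ₗ[E] V) (hm : m ∈ M) :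
    m ^ Nat.card M = 1 := by
  have h := pow_card_eq_one' (G := ↥M) (x := ⟨m, hm⟩)
  have h' := congrArg Subtype.val h
  rw [Subgroup.coe_pow] at h'
  exact h'

/-- in an odd-order group of linear maps, an eigenvalue which is a square root of one is one -/
theorem obal_eigen_one (M : Subgroup (V ≃ₗ[E] V)) [Finite M] (hodd : Odd (Nat.card M))
    (m : V ≃ₗ[E] V) (hm : m ∈ M) (α : E) (v : V) (hv : v ≠ 0) (h : m v = α • v)
    (hα : α * α = 1) : α = 1 := by
  have h1 := obal_pow_smul m α v h (Nat.card M)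
  rw [obal_pow_card M m hm] at h1
  have h2 : (1 : E) • v = α ^ Nat.card M • v := by
    rw [one_smul]
    exact h1
  have h3 : α ^ Nat.card M = 1 := by
    have h4 : ((1 : E) - α ^ Nat.card M) • v = 0 := by rw [sub_smul, h2, sub_self]
    rcases smul_eq_zero.mp h4 with h5 | h5
    · exact (sub_eq_zero.mp h5).symm
    · exact absurd h5 hv
  obtain ⟨j, hj⟩ := hodd
  rw [hj, pow_succ, pow_mul, pow_two, hα, one_pow, one_mul] at h3
  exact h3

/-- **The ternary lemma.** -/
theorem obal_ternary [Finite E] (h2 : (2 : E) ≠ 0) (Q : QuadraticForm E V) {e f w : V} {c : E}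
    (had : OAdapted Q e f w c) (T : Submodule E V) (heT : e ∈ T) (hfT : f ∈ T) (hwT : w ∈ T)
    (hT : ∀ t ∈ T, ∃ α β γ : E, t = α • e + β • f + γ • w)
    (M : Subgroup (V ≃ₗ[E] V)) [Finite M] (hodd : Odd (Nat.card M))
    (hiso : ∀ m ∈ M, ∀ v, Q (m v) = Q v)
    (hsupp : ∀ m ∈ M, ∀ v, m v - v ∈ T)
    (hnorm : ∀ u ∈ T, ∀ u' ∈ T, Q u = Q u' → Q u ≠ 0 → ∀ m ∈ M,
      orfE Q u * orfE Q u' * m * (orfE Q u * orfE Q u')⁻¹ ∈ M) :
    ∀ m ∈ M, m e = e ∧ m f = f ∧ m w = w := by
  intro m hm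
  obtain ⟨α, hα⟩ := obal_tern_line h2 Q had T heT hfT hwT hT M hodd hiso hsupp hnorm m hm
  have hT2 : ∀ t ∈ T, ∃ α β γ : E, t = α • f + β • e + γ • w := by
    intro t ht
    obtain ⟨a, b, g, h⟩ := hT t ht
    exact ⟨b, a, g, by rw [h]; module⟩
  obtain ⟨β, hβ⟩ := obal_tern_line h2 Q had.swap T hfT heT hwT hT2 M hodd hiso hsupp hnorm m hm
  have hp1 : f + w - c • e ∈ T := T.sub_mem (T.add_mem hfT hwT) (T.smul_mem _ heT)
  have hw1 : w - (2 * c) • e ∈ T := T.sub_mem hwT (T.smul_mem _ heT)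
  have hT3 : ∀ t ∈ T, ∃ α β γ : E, t = α • (f + w - c • e) + β • e + γ • (w - (2 * c) • e) := by
    intro t ht
    obtain ⟨a, b, g, h⟩ := hT t ht
    exact ⟨b, a - c * b + 2 * c * g, g - b, by rw [h]; module⟩
  obtain ⟨γ, hγ⟩ := obal_tern_line h2 Q had.shift1 T hp1 heT hw1 hT3 M hodd hiso hsupp hnorm m hm
  have hp2 : f - w - c • e ∈ T := T.sub_mem (T.sub_mem hfT hwT) (T.smul_mem _ heT)
  have hw2 : w + (2 * c) • e ∈ T := T.add_mem hwT (T.smul_mem _ heT)
  have hT4 : ∀ t ∈ T, ∃ α β γ : E, t = α • (f - w - c • e) + β • e + γ • (w + (2 * c) • e) := by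
    intro t ht
    obtain ⟨a, b, g, h⟩ := hT t ht
    exact ⟨b, a - c * b - 2 * c * g, g + b, by rw [h]; module⟩
  obtain ⟨δ, hδ⟩ := obal_tern_line h2 Q had.shift2 T hp2 heT hw2 hT4 M hodd hiso hsupp hnorm m hm
  obtain ⟨hf', hw'⟩ := obal_tern_scalar h2 Q had (m : V →ₗ[E] V) α β γ δ hα hβ hγ hδ
  have hα2 : α * α = 1 := by
    have h1 := hiso m hm w
    have hw'' : m w = α • w := hw'
    rw [hw'', QuadraticMap.map_smul, had.hw, smul_eq_mul] at h1
    exact mul_right_cancel₀ had.hc (by rw [one_mul]; exact h1)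
  have hα1 : α = 1 := obal_eigen_one M hodd m hm α w had.w_ne hw' hα2
  have hf'' : m f = α • f := hf'
  have hw'' : m w = α • w := hw'
  rw [hα1, one_smul] at hα hf'' hw''
  exact ⟨hα, hf'', hw''⟩

end OBalB

end Cfsg.Agent.Lib.helper51
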