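/-
Geometry of a non-degenerate subspace of dimension at least three, and the core lemma: an
odd-order group of isometries preserving such a subspace `W` and normalised by the products of two
reflections of equal norm in `W` and by the reflections of one fixed norm acts trivially on `W`.
-/
import Mathlib
import Cfsg.Agent.Lib.helper51.OBalB

set_option autoImplicit false
set_option linter.unusedSectionVars false
set_option linter.unusedVariables false
set_option linter.unusedSimpArgs false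

namespace Cfsg.Agent.Lib.helper51

open QuadraticMap

section OBalC

variable {E : Type*} [Field E] {V : Type*} [AddCommGroup V] [Module E V]

theorem obal_sq_add_sq [Finite E] (h2 : (2 : E) ≠ 0) (a b c : E) (ha : a ≠ 0) (hb : b ≠ 0) :
    ∃ x y : E, a * x ^ 2 + b * y ^ 2 = c := by
  classical
  haveI := Fintype.ofFinite E
  have hf : (Polynomial.C a * Polynomial.X ^ 2 : Polynomial E).degree = 2 :=
    Polynomial.degree_C_mul_X_pow 2 ha
  have hg : (Polynomial.C b * Polynomial.X ^ 2 - Polynomial.C c : Polynomial E).degree = 2 := by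
    rw [Polynomial.degree_sub_C, Polynomial.degree_C_mul_X_pow 2 hb]
    · rfl
    · rw [Polynomial.degree_C_mul_X_pow 2 hb]
      decide
  obtain ⟨x, y, hxy⟩ := FiniteField.exists_root_sum_quadratic hf hg
    (FiniteField.odd_card_of_char_ne_two (obal_ringChar_ne_two h2))
  refine ⟨x, y, ?_⟩
  simp only [Polynomial.eval_mul, Polynomial.eval_C, Polynomial.eval_pow, Polynomial.eval_X,
    Polynomial.eval_sub] at hxy
  linear_combination hxy

/-- three mutually orthogonal vectors -/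
structure OOrth (Q : QuadraticForm E V) (u u' z : V) : Prop where
  huu' : polar Q u u' = 0
  huz : polar Q u z = 0
  hu'z : polar Q u' z = 0

theorem obal_Q_orth (Q : QuadraticForm E V) {u u' z : V} (h : OOrth Q u u' z) (α β γ : E) :
    Q (α • u + β • u' + γ • z) = α ^ 2 * Q u + β ^ 2 * Q u' + γ ^ 2 * Q z := by
  rw [QuadraticMap.map_add (⇑Q) (α • u + β • u'), QuadraticMap.map_add (⇑Q) (α • u),
    QuadraticMap.map_smul, QuadraticMap.map_smul,
    QuadraticMap.map_smul, polar_add_left, polar_smul_left, polar_smul_left, polar_smul_right,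
    polar_smul_right, polar_smul_left, polar_smul_right, h.huu', h.huz, h.hu'z]
  simp only [smul_eq_mul]
  ring

theorem obal_polar_orth (Q : QuadraticForm E V) {u u' z : V} (h : OOrth Q u u' z)
    (α β γ α' β' γ' : E) :
    polar Q (α • u + β • u' + γ • z) (α' • u + β' • u' + γ' • z)
      = 2 * (α * α' * Q u + β * β' * Q u' + γ * γ' * Q z) := by
  have e1 : α • u + β • u' + γ • z + (α' • u + β' • u' + γ' • z)
      = (α + α') • u + (β + β') • u' + (γ + γ') • z := by module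
  unfold polar
  rw [e1, obal_Q_orth Q h, obal_Q_orth Q h, obal_Q_orth Q h]
  ring

/-- an adapted basis of the span of three mutually orthogonal non-singular vectors -/
theorem obal_adapted_of_orth [Finite E] (h2 : (2 : E) ≠ 0) (Q : QuadraticForm E V) {u u' z : V}
    (h : OOrth Q u u' z) (hu : Q u ≠ 0) (hu' : Q u' ≠ 0) (hz : Q z ≠ 0) :
    ∃ (e f w : V) (c : E), OAdapted Q e f w c ∧
      e ∈ Submodule.span E ({u, u', z} : Set V) ∧ f ∈ Submodule.span E ({u, u', z} : Set V) ∧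
      w ∈ Submodule.span E ({u, u', z} : Set V) ∧
      u ∈ Submodule.span E ({e, f, w} : Set V) ∧ u' ∈ Submodule.span E ({e, f, w} : Set V) ∧
      z ∈ Submodule.span E ({e, f, w} : Set V) := by
  obtain ⟨x, y, hxy⟩ := obal_sq_add_sq h2 (Q u) (Q u') (-(Q z)) hu hu'
  obtain ⟨e, he⟩ : ∃ e, e = x • u + y • u' + (1 : E) • z := ⟨_, rfl⟩
  obtain ⟨g, hg⟩ : ∃ g, g = (-x) • u + (-y) • u' + (1 : E) • z := ⟨_, rfl⟩
  obtain ⟨f, hf⟩ : ∃ f, f = (4 * Q z)⁻¹ • g := ⟨_, rfl⟩
  obtain ⟨w, hw⟩ : ∃ w, w = (Q u' * y) • u + (-(Q u * x)) • u' + (0 : E) • z := ⟨_, rfl⟩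
  have h4 : (4 : E) ≠ 0 := by
    have : (4 : E) = 2 * 2 := by norm_num
    rw [this]
    exact mul_ne_zero h2 h2
  have h4t : 4 * Q z ≠ 0 := mul_ne_zero h4 hz
  have hQe : Q e = 0 := by
    rw [he, obal_Q_orth Q h]
    linear_combination hxy
  have hQg : Q g = 0 := by
    rw [hg, obal_Q_orth Q h]
    linear_combination hxy
  have heg : polar Q e g = 4 * Q z := by
    rw [he, hg, obal_polar_orth Q h]
    linear_combination (-2) * hxy
  have hew : polar Q e w = 0 := by
    rw [he, hw, obal_polar_orth Q h]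
    ring
  have hgw : polar Q g w = 0 := by
    rw [hg, hw, obal_polar_orth Q h]
    ring
  have hQw : Q w = -(Q u * Q u' * Q z) := by
    rw [hw, obal_Q_orth Q h]
    linear_combination (Q u * Q u') * hxy
  have had : OAdapted Q e f w (-(Q u * Q u' * Q z)) := by
    refine ⟨neg_ne_zero.mpr (mul_ne_zero (mul_ne_zero hu hu') hz), hQe, ?_, hQw, ?_, hew, ?_⟩
    · rw [hf, QuadraticMap.map_smul, hQg, smul_zero]
    · rw [hf, polar_smul_right, heg, smul_eq_mul, inv_mul_cancel₀ h4t]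
    · rw [hf, polar_smul_left, hgw, smul_zero]
  have hg4 : g = (4 * Q z) • f := by
    rw [hf, smul_smul, mul_inv_cancel₀ h4t, one_smul]
  have huS : u ∈ Submodule.span E ({u, u', z} : Set V) := Submodule.subset_span (by simp)
  have hu'S : u' ∈ Submodule.span E ({u, u', z} : Set V) := Submodule.subset_span (by simp)
  have hzS : z ∈ Submodule.span E ({u, u', z} : Set V) := Submodule.subset_span (by simp)
  have heS : e ∈ Submodule.span E ({u, u', z} : Set V) := by
    rw [he]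
    exact Submodule.add_mem _ (Submodule.add_mem _ (Submodule.smul_mem _ _ huS)
      (Submodule.smul_mem _ _ hu'S)) (Submodule.smul_mem _ _ hzS)
  have hgS : g ∈ Submodule.span E ({u, u', z} : Set V) := by
    rw [hg]
    exact Submodule.add_mem _ (Submodule.add_mem _ (Submodule.smul_mem _ _ huS)
      (Submodule.smul_mem _ _ hu'S)) (Submodule.smul_mem _ _ hzS)
  have hwS : w ∈ Submodule.span E ({u, u', z} : Set V) := by
    rw [hw]
    exact Submodule.add_mem _ (Submodule.add_mem _ (Submodule.smul_mem _ _ huS)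
      (Submodule.smul_mem _ _ hu'S)) (Submodule.smul_mem _ _ hzS)
  have heT : e ∈ Submodule.span E ({e, f, w} : Set V) := Submodule.subset_span (by simp)
  have hfT : f ∈ Submodule.span E ({e, f, w} : Set V) := Submodule.subset_span (by simp)
  have hwT : w ∈ Submodule.span E ({e, f, w} : Set V) := Submodule.subset_span (by simp)
  have hgT : g ∈ Submodule.span E ({e, f, w} : Set V) := by
    rw [hg4]
    exact Submodule.smul_mem _ _ hfT
  have hs : 2 * (Q u * x ^ 2 + Q u' * y ^ 2) ≠ 0 := by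
    rw [hxy]
    exact mul_ne_zero h2 (neg_ne_zero.mpr hz)
  have ku : (Q u * x) • (e - g) + (2 * y) • w = (2 * (Q u * x ^ 2 + Q u' * y ^ 2)) • u := by
    rw [he, hg, hw]
    module
  have ku' : (Q u' * y) • (e - g) - (2 * x) • w = (2 * (Q u * x ^ 2 + Q u' * y ^ 2)) • u' := by
    rw [he, hg, hw]
    module
  have kz : e + g = (2 : E) • z := by
    rw [he, hg]
    module
  refine ⟨e, f, w, _, had, heS, ?_, hwS, ?_, ?_, ?_⟩
  · rw [hf]
    exact Submodule.smul_mem _ _ hgS
  · have h1 : (2 * (Q u * x ^ 2 + Q u' * y ^ 2)) • u ∈ Submodule.span E ({e, f, w} : Set V) := by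
      rw [← ku]
      exact Submodule.add_mem _ (Submodule.smul_mem _ _ (Submodule.sub_mem _ heT hgT))
        (Submodule.smul_mem _ _ hwT)
    have h3 := Submodule.smul_mem _ (2 * (Q u * x ^ 2 + Q u' * y ^ 2))⁻¹ h1
    rwa [smul_smul, inv_mul_cancel₀ hs, one_smul] at h3
  · have h1 : (2 * (Q u * x ^ 2 + Q u' * y ^ 2)) • u' ∈ Submodule.span E ({e, f, w} : Set V) := by
      rw [← ku']
      exact Submodule.sub_mem _ (Submodule.smul_mem _ _ (Submodule.sub_mem _ heT hgT))
        (Submodule.smul_mem _ _ hwT)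
    have h3 := Submodule.smul_mem _ (2 * (Q u * x ^ 2 + Q u' * y ^ 2))⁻¹ h1
    rwa [smul_smul, inv_mul_cancel₀ hs, one_smul] at h3
  · have h1 : (2 : E) • z ∈ Submodule.span E ({e, f, w} : Set V) := by
      rw [← kz]
      exact Submodule.add_mem _ heT hgT
    have h3 := Submodule.smul_mem _ (2 : E)⁻¹ h1
    rwa [smul_smul, inv_mul_cancel₀ h2, one_smul] at h3

/-- a non-singular vector orthogonal to a non-singular vector -/
theorem obal_orth_one (h2 : (2 : E) ≠ 0) (Q : QuadraticForm E V) (W : Submodule E V)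
    (hnd : ∀ x ∈ W, x ≠ 0 → ∃ y ∈ W, polar Q x y ≠ 0)
    (u : V) (hu : u ∈ W) (hQu : Q u ≠ 0)
    (z₀ : V) (hz₀ : z₀ ∈ W) (hz₀0 : z₀ ≠ 0) (h1 : polar Q z₀ u = 0) :
    ∃ z ∈ W, Q z ≠ 0 ∧ polar Q z u = 0 := by
  obtain ⟨y, hy, hy0⟩ := hnd z₀ hz₀ hz₀0
  obtain ⟨y', hy'⟩ : ∃ y', y' = y - (polar Q u y / (2 * Q u)) • u := ⟨_, rfl⟩
  have hy'W : y' ∈ W := by
    rw [hy']
    exact W.sub_mem hy (W.smul_mem _ hu)
  have huu : polar Q u u = 2 * Q u := by rw [polar_self, nsmul_eq_mul, Nat.cast_ofNat]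
  have h2u : 2 * Q u ≠ 0 := mul_ne_zero h2 hQu
  have a1 : polar Q y' u = 0 := by
    rw [hy', polar_sub_left, polar_smul_left, huu, polar_comm (⇑Q) y u, smul_eq_mul,
      div_mul_cancel₀ _ h2u, sub_self]
  have a2 : polar Q z₀ y' = polar Q z₀ y := by
    rw [hy', polar_sub_right, polar_smul_right, h1, smul_zero, sub_zero]
  by_cases hq1 : Q z₀ = 0
  · by_cases hq2 : Q y' = 0
    · refine ⟨z₀ + y', W.add_mem hz₀ hy'W, ?_, ?_⟩
      · rw [QuadraticMap.map_add (⇑Q) z₀, hq1, hq2, a2, zero_add, zero_add]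
        exact hy0
      · rw [polar_add_left, h1, a1, add_zero]
    · exact ⟨y', hy'W, hq2, a1⟩
  · exact ⟨z₀, hz₀, hq1, h1⟩

/-- a non-singular vector orthogonal to two orthogonal non-singular vectors -/
theorem obal_orth_gen (h2 : (2 : E) ≠ 0) (Q : QuadraticForm E V) (W : Submodule E V)
    (hnd : ∀ x ∈ W, x ≠ 0 → ∃ y ∈ W, polar Q x y ≠ 0)
    (u u' : V) (hu : u ∈ W) (hu' : u' ∈ W) (hQu : Q u ≠ 0) (hQu' : Q u' ≠ 0)
    (huu' : polar Q u u' = 0)
    (z₀ : V) (hz₀ : z₀ ∈ W) (hz₀0 : z₀ ≠ 0) (h1 : polar Q z₀ u = 0) (h1' : polar Q z₀ u' = 0) :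
    ∃ z ∈ W, Q z ≠ 0 ∧ polar Q z u = 0 ∧ polar Q z u' = 0 := by
  obtain ⟨y, hy, hy0⟩ := hnd z₀ hz₀ hz₀0
  obtain ⟨y', hy'⟩ : ∃ y', y' = y - (polar Q u y / (2 * Q u)) • u
      - (polar Q u' y / (2 * Q u')) • u' := ⟨_, rfl⟩
  have hy'W : y' ∈ W := by
    rw [hy']
    exact W.sub_mem (W.sub_mem hy (W.smul_mem _ hu)) (W.smul_mem _ hu')
  have huu : polar Q u u = 2 * Q u := by rw [polar_self, nsmul_eq_mul, Nat.cast_ofNat]
  have hu'u'' : polar Q u' u' = 2 * Q u' := by rw [polar_self, nsmul_eq_mul, Nat.cast_ofNat]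
  have hu'u : polar Q u' u = 0 := by rw [polar_comm]; exact huu'
  have h2u : 2 * Q u ≠ 0 := mul_ne_zero h2 hQu
  have h2u' : 2 * Q u' ≠ 0 := mul_ne_zero h2 hQu'
  have a1 : polar Q y' u = 0 := by
    rw [hy', polar_sub_left, polar_sub_left, polar_smul_left, polar_smul_left, huu, hu'u,
      polar_comm (⇑Q) y u, smul_eq_mul, div_mul_cancel₀ _ h2u, smul_zero, sub_self, sub_zero]
  have a1' : polar Q y' u' = 0 := by
    rw [hy', polar_sub_left, polar_sub_left, polar_smul_left, polar_smul_left, hu'u'', huu',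
      polar_comm (⇑Q) y u']
    simp only [smul_eq_mul, mul_zero, sub_zero]
    rw [div_mul_cancel₀ _ h2u', sub_self]
  have a2 : polar Q z₀ y' = polar Q z₀ y := by
    rw [hy', polar_sub_right, polar_sub_right, polar_smul_right, polar_smul_right, h1, h1',
      smul_zero, smul_zero, sub_zero, sub_zero]
  by_cases hq1 : Q z₀ = 0
  · by_cases hq2 : Q y' = 0
    · refine ⟨z₀ + y', W.add_mem hz₀ hy'W, ?_, ?_, ?_⟩
      · rw [QuadraticMap.map_add (⇑Q) z₀, hq1, hq2, a2, zero_add, zero_add]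
        exact hy0
      · rw [polar_add_left, h1, a1, add_zero]
      · rw [polar_add_left, h1', a1', add_zero]
    · exact ⟨y', hy'W, hq2, a1, a1'⟩
  · exact ⟨z₀, hz₀, hq1, h1, h1'⟩

/-- existence of an adapted triple -/
theorem obal_exists_adapted [Finite E] (h2 : (2 : E) ≠ 0) (Q : QuadraticForm E V)
    (W : Submodule E V) (hnd : ∀ x ∈ W, x ≠ 0 → ∃ y ∈ W, polar Q x y ≠ 0)
    (h3 : ∀ u ∈ W, ∀ u' ∈ W, ∃ z ∈ W, z ≠ 0 ∧ polar Q z u = 0 ∧ polar Q z u' = 0) :
    ∃ (e f w : V) (c : E), OAdapted Q e f w c ∧ e ∈ W ∧ f ∈ W ∧ w ∈ W := by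
  obtain ⟨z₀, hz₀, hz₀0, -, -⟩ := h3 0 W.zero_mem 0 W.zero_mem
  obtain ⟨y, hy, hy0⟩ := hnd z₀ hz₀ hz₀0
  obtain ⟨u, hu, hQu⟩ : ∃ u ∈ W, Q u ≠ 0 := by
    by_cases hq1 : Q z₀ = 0
    · by_cases hq2 : Q y = 0
      · refine ⟨z₀ + y, W.add_mem hz₀ hy, ?_⟩
        rw [QuadraticMap.map_add (⇑Q) z₀, hq1, hq2, zero_add, zero_add]
        exact hy0
      · exact ⟨y, hy, hq2⟩
    · exact ⟨z₀, hz₀, hq1⟩
  obtain ⟨z₁, hz₁, hz₁0, hz₁u, -⟩ := h3 u hu u hu
  obtain ⟨u', hu', hQu', hu'u⟩ := obal_orth_one h2 Q W hnd u hu hQu z₁ hz₁ hz₁0 hz₁u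
  have huu' : polar Q u u' = 0 := by rw [polar_comm]; exact hu'u
  obtain ⟨z₂, hz₂, hz₂0, hz₂u, hz₂u'⟩ := h3 u hu u' hu'
  obtain ⟨z, hz, hQz, hzu, hzu'⟩ :=
    obal_orth_gen h2 Q W hnd u u' hu hu' hQu hQu' huu' z₂ hz₂ hz₂0 hz₂u hz₂u'
  have hor : OOrth Q u u' z := ⟨huu', by rw [polar_comm]; exact hzu, by rw [polar_comm]; exact hzu'⟩
  obtain ⟨e, f, w, c, had, he, hf, hw, -, -, -⟩ := obal_adapted_of_orth h2 Q hor hQu hQu' hQz
  have hle : Submodule.span E ({u, u', z} : Set V) ≤ W := by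
    rw [Submodule.span_le]
    intro x hx
    rcases hx with rfl | rfl | rfl
    · exact hu
    · exact hu'
    · exact hz
  exact ⟨e, f, w, c, had, hle he, hle hf, hle hw⟩

/-- a ternary space with an adapted basis containing two given independent vectors, the first
non-singular -/
theorem obal_exists_ternary [Finite E] (h2 : (2 : E) ≠ 0) (Q : QuadraticForm E V)
    (W : Submodule E V) (hnd : ∀ x ∈ W, x ≠ 0 → ∃ y ∈ W, polar Q x y ≠ 0)
    (h3 : ∀ u ∈ W, ∀ u' ∈ W, ∃ z ∈ W, z ≠ 0 ∧ polar Q z u = 0 ∧ polar Q z u' = 0)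
    (u u₂ : V) (hu : u ∈ W) (hu₂ : u₂ ∈ W) (hQu : Q u ≠ 0) (hne : ∀ κ : E, u₂ ≠ κ • u) :
    ∃ (e f w : V) (c : E), OAdapted Q e f w c ∧ e ∈ W ∧ f ∈ W ∧ w ∈ W ∧
      u ∈ Submodule.span E ({e, f, w} : Set V) ∧ u₂ ∈ Submodule.span E ({e, f, w} : Set V) := by
  obtain ⟨u', hu'def⟩ : ∃ u', u' = u₂ - (polar Q u u₂ / (2 * Q u)) • u := ⟨_, rfl⟩
  have hu' : u' ∈ W := by
    rw [hu'def]
    exact W.sub_mem hu₂ (W.smul_mem _ hu)
  have hu'0 : u' ≠ 0 := by
    intro h0
    rw [hu'def, sub_eq_zero] at h0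
    exact hne _ h0
  have huu : polar Q u u = 2 * Q u := by rw [polar_self, nsmul_eq_mul, Nat.cast_ofNat]
  have h2u : 2 * Q u ≠ 0 := mul_ne_zero h2 hQu
  have huu' : polar Q u u' = 0 := by
    rw [hu'def, polar_sub_right, polar_smul_right, huu, smul_eq_mul, div_mul_cancel₀ _ h2u,
      sub_self]
  have hu₂eq : u₂ = u' + (polar Q u u₂ / (2 * Q u)) • u := by
    rw [hu'def]
    abel
  by_cases hQu' : Q u' = 0
  · -- the degenerate plane
    obtain ⟨f₀, hf₀, hf₀0⟩ := hnd u' hu' hu'0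
    obtain ⟨f₁, hf₁def⟩ : ∃ f₁, f₁ = (polar Q u' f₀)⁻¹ • f₀ := ⟨_, rfl⟩
    have hf₁ : f₁ ∈ W := by
      rw [hf₁def]
      exact W.smul_mem _ hf₀
    have hef₁ : polar Q u' f₁ = 1 := by
      rw [hf₁def, polar_smul_right, smul_eq_mul, inv_mul_cancel₀ hf₀0]
    obtain ⟨x, hx⟩ : ∃ x, x = -(polar Q f₁ u) / (2 * Q u) := ⟨_, rfl⟩
    obtain ⟨y, hy⟩ : ∃ y, y = -(Q f₁ + x ^ 2 * Q u + x * polar Q f₁ u) := ⟨_, rfl⟩
    obtain ⟨f, hfdef⟩ : ∃ f, f = f₁ + x • u + y • u' := ⟨_, rfl⟩
    have hf : f ∈ W := by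
      rw [hfdef]
      exact W.add_mem (W.add_mem hf₁ (W.smul_mem _ hu)) (W.smul_mem _ hu')
    have hu'u : polar Q u' u = 0 := by rw [polar_comm]; exact huu'
    have hu'u'' : polar Q u' u' = 0 := by rw [polar_self, hQu', smul_zero]
    have hf₁u' : polar Q f₁ u' = 1 := by rw [polar_comm]; exact hef₁
    have had : OAdapted Q u' f u (Q u) := by
      refine ⟨hQu, hQu', ?_, rfl, ?_, hu'u, ?_⟩
      · rw [hfdef, QuadraticMap.map_add (⇑Q) (f₁ + x • u), QuadraticMap.map_add (⇑Q) f₁,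
          QuadraticMap.map_smul, QuadraticMap.map_smul, hQu', polar_add_left, polar_smul_right,
          polar_smul_right, polar_smul_left, polar_smul_right, hf₁u', huu', hy]
        simp only [smul_eq_mul]
        ring
      · rw [hfdef, polar_add_right, polar_add_right, polar_smul_right, polar_smul_right, hef₁,
          hu'u, hu'u'']
        simp
      · rw [hfdef, polar_add_left, polar_add_left, polar_smul_left, polar_smul_left, huu, hu'u,
          hx]
        simp only [smul_eq_mul]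
        field_simp
        ring
    have huT : u ∈ Submodule.span E ({u', f, u} : Set V) := Submodule.subset_span (by simp)
    have hu'T : u' ∈ Submodule.span E ({u', f, u} : Set V) := Submodule.subset_span (by simp)
    refine ⟨u', f, u, Q u, had, hu', hf, hu, huT, ?_⟩
    rw [hu₂eq]
    exact Submodule.add_mem _ hu'T (Submodule.smul_mem _ _ huT)
  · obtain ⟨z₂, hz₂, hz₂0, hz₂u, hz₂u'⟩ := h3 u hu u' hu'
    obtain ⟨z, hz, hQz, hzu, hzu'⟩ :=
      obal_orth_gen h2 Q W hnd u u' hu hu' hQu hQu' huu' z₂ hz₂ hz₂0 hz₂u hz₂u'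
    have hor : OOrth Q u u' z :=
      ⟨huu', by rw [polar_comm]; exact hzu, by rw [polar_comm]; exact hzu'⟩
    obtain ⟨e, f, w, c, had, he, hf, hw, huT, hu'T, -⟩ :=
      obal_adapted_of_orth h2 Q hor hQu hQu' hQz
    have hle : Submodule.span E ({u, u', z} : Set V) ≤ W := by
      rw [Submodule.span_le]
      intro x hx
      rcases hx with rfl | rfl | rfl
      · exact hu
      · exact hu'
      · exact hz
    refine ⟨e, f, w, c, had, hle he, hle hf, hle hw, huT, ?_⟩
    rw [hu₂eq]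
    exact Submodule.add_mem _ hu'T (Submodule.smul_mem _ _ huT)

/-- linear equivalences supported on a submodule -/
def obalSupp (T : Submodule E V) : Subgroup (V ≃ₗ[E] V) where
  carrier := {g | ∀ v, g v - v ∈ T ∧ g⁻¹ v - v ∈ T}
  one_mem' := fun v => by
    rw [inv_one]
    have : (1 : V ≃ₗ[E] V) v - v = 0 := sub_self v
    rw [this]
    exact ⟨T.zero_mem, T.zero_mem⟩
  mul_mem' := by
    intro g h hg hh v
    constructor
    · have e1 : (g * h) v - v = (g (h v) - h v) + (h v - v) := by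
        rw [LinearEquiv.mul_apply]
        abel
      rw [e1]
      exact T.add_mem (hg _).1 (hh _).1
    · have e1 : (g * h)⁻¹ v - v = (h⁻¹ (g⁻¹ v) - g⁻¹ v) + (g⁻¹ v - v) := by
        rw [mul_inv_rev, LinearEquiv.mul_apply]
        abel
      rw [e1]
      exact T.add_mem (hh _).2 (hg _).2
  inv_mem' := by
    intro g hg v
    refine ⟨(hg v).2, ?_⟩
    rw [inv_inv]
    exact (hg v).1

theorem mem_obalSupp (T : Submodule E V) (g : V ≃ₗ[E] V) :
    g ∈ obalSupp T ↔ ∀ v, g v - v ∈ T ∧ g⁻¹ v - v ∈ T := Iff.rfl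

theorem obal_conj_supp (Q : QuadraticForm E V) (T : Submodule E V) (a b : V) (ha : a ∈ T)
    (hb : b ∈ T) (g : V ≃ₗ[E] V) (hg : g ∈ obalSupp T) :
    orfE Q a * orfE Q b * g * (orfE Q a * orfE Q b)⁻¹ ∈ obalSupp T := by
  have hρ : ∀ x ∈ T, (orfE Q a * orfE Q b) x ∈ T := fun x hx =>
    orf_mem Q T a _ ha (orf_mem Q T b x hb hx)
  have key : ∀ g' : V ≃ₗ[E] V, (∀ v, g' v - v ∈ T) →
      ∀ v, (orfE Q a * orfE Q b * g' * (orfE Q a * orfE Q b)⁻¹) v - v ∈ T := by
    intro g' hg' v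
    have e1 : (orfE Q a * orfE Q b * g' * (orfE Q a * orfE Q b)⁻¹) v - v
        = (orfE Q a * orfE Q b) (g' ((orfE Q a * orfE Q b)⁻¹ v) - (orfE Q a * orfE Q b)⁻¹ v) := by
      rw [map_sub, obal_apply_inv]
      rfl
    rw [e1]
    exact hρ _ (hg' _)
  intro v
  refine ⟨key g (fun v => (hg v).1) v, ?_⟩
  have e0 : (orfE Q a * orfE Q b * g * (orfE Q a * orfE Q b)⁻¹)⁻¹
      = orfE Q a * orfE Q b * g⁻¹ * (orfE Q a * orfE Q b)⁻¹ := by group
  rw [e0]
  exact key g⁻¹ (fun v => (hg v).2) v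

/-- **The core lemma.** -/
theorem obal_core [Finite E] (h2 : (2 : E) ≠ 0) (Q : QuadraticForm E V) (W : Submodule E V)
    (hnd : ∀ x ∈ W, x ≠ 0 → ∃ y ∈ W, polar Q x y ≠ 0)
    (h3 : ∀ u ∈ W, ∀ u' ∈ W, ∃ z ∈ W, z ≠ 0 ∧ polar Q z u = 0 ∧ polar Q z u' = 0)
    (M : Subgroup (V ≃ₗ[E] V)) [Finite M] (hodd : Odd (Nat.card M))
    (hiso : ∀ m ∈ M, ∀ v, Q (m v) = Q v) (hW : ∀ m ∈ M, ∀ x ∈ W, m x ∈ W)
    (hnorm : ∀ u ∈ W, ∀ u' ∈ W, Q u = Q u' → Q u ≠ 0 → ∀ m ∈ M,
      orfE Q u * orfE Q u' * m * (orfE Q u * orfE Q u')⁻¹ ∈ M)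
    (c₀ : E) (hc₀ : c₀ ≠ 0)
    (hrefl : ∀ u ∈ W, Q u = c₀ → ∀ m ∈ M, orfE Q u * m * (orfE Q u)⁻¹ ∈ M) :
    ∀ m ∈ M, ∀ x ∈ W, m x = x := by
  classical
  have step1 : ∀ m ∈ M, ∀ u ∈ W, Q u = c₀ → m u = u := by
    intro m hm u hu hQu
    by_contra hmu
    have hu0 : u ≠ 0 := by
      rintro rfl
      rw [QuadraticMap.map_zero] at hQu
      exact hc₀ hQu.symm
    have hne : ∀ κ : E, m u ≠ κ • u := by
      intro κ hκ
      have hκ2 : κ * κ = 1 := by
        have h1 := hiso m hm u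
        rw [hκ, QuadraticMap.map_smul, hQu, smul_eq_mul] at h1
        exact mul_right_cancel₀ hc₀ (by rw [one_mul]; exact h1)
      have := obal_eigen_one M hodd m hm κ u hu0 hκ hκ2
      rw [this, one_smul] at hκ
      exact hmu hκ
    obtain ⟨e, f, w, c, had, heW, hfW, hwW, huT, hmuT⟩ :=
      obal_exists_ternary h2 Q W hnd h3 u (m u) hu (hW m hm u hu) (by rw [hQu]; exact hc₀) hne
    obtain ⟨T, hTdef⟩ : ∃ T : Submodule E V, T = Submodule.span E ({e, f, w} : Set V) :=
      ⟨_, rfl⟩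
    rw [← hTdef] at huT hmuT
    have hTW : T ≤ W := by
      rw [hTdef, Submodule.span_le]
      intro x hx
      rcases hx with rfl | rfl | rfl
      · exact heW
      · exact hfW
      · exact hwW
    have heT : e ∈ T := by rw [hTdef]; exact Submodule.subset_span (by simp)
    have hfT : f ∈ T := by rw [hTdef]; exact Submodule.subset_span (by simp)
    have hwT : w ∈ T := by rw [hTdef]; exact Submodule.subset_span (by simp)
    have hT : ∀ t ∈ T, ∃ α β γ : E, t = α • e + β • f + γ • w := by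
      intro t ht
      rw [hTdef] at ht
      obtain ⟨a, b, g, h⟩ := Submodule.mem_span_triple.mp ht
      exact ⟨a, b, g, h.symm⟩
    obtain ⟨MT, hMT⟩ : ∃ MT : Subgroup (V ≃ₗ[E] V), MT = M ⊓ obalSupp T := ⟨_, rfl⟩
    have hMTle : MT ≤ M := by
      rw [hMT]
      exact inf_le_left
    haveI : Finite MT := Finite.of_injective (Subgroup.inclusion hMTle)
      (Subgroup.inclusion_injective hMTle)
    have hMTodd : Odd (Nat.card MT) := Odd.of_dvd_nat hodd (Subgroup.card_dvd_of_le hMTle)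
    have hiso' : ∀ g ∈ MT, ∀ v, Q (g v) = Q v := fun g hg => hiso g (hMTle hg)
    have hsupp : ∀ g ∈ MT, ∀ v, g v - v ∈ T := by
      intro g hg v
      rw [hMT] at hg
      exact (hg.2 v).1
    have hnorm' : ∀ a ∈ T, ∀ b ∈ T, Q a = Q b → Q a ≠ 0 → ∀ g ∈ MT,
        orfE Q a * orfE Q b * g * (orfE Q a * orfE Q b)⁻¹ ∈ MT := by
      intro a ha b hb hab ha0 g hg
      rw [hMT] at hg ⊢
      exact ⟨hnorm a (hTW ha) b (hTW hb) hab ha0 g hg.1, obal_conj_supp Q T a b ha hb g hg.2⟩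
    obtain ⟨s, hs⟩ : ∃ s : V ≃ₗ[E] V, s = orfE Q (m u) * orfE Q u := ⟨_, rfl⟩
    have hs₁M : m * (orfE Q u * m⁻¹ * (orfE Q u)⁻¹) ∈ M :=
      M.mul_mem hm (hrefl u hu hQu m⁻¹ (M.inv_mem hm))
    have hs₁eq : m * (orfE Q u * m⁻¹ * (orfE Q u)⁻¹) = s := by
      rw [hs, ← orfE_conj Q m (hiso m hm) u, orfE_inv]
      group
    have hsT : s ∈ obalSupp T := by
      intro v
      constructor
      · have e1 : s v - v = (orf Q (m u) (orf Q u v) - orf Q u v) + (orf Q u v - v) := by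
          rw [hs, LinearEquiv.mul_apply, orfE_apply, orfE_apply]
          abel
        rw [e1]
        exact T.add_mem (orf_sub_mem Q T _ _ hmuT) (orf_sub_mem Q T _ _ huT)
      · have e1 : s⁻¹ v - v = (orf Q u (orf Q (m u) v) - orf Q (m u) v) + (orf Q (m u) v - v) := by
          rw [hs, mul_inv_rev, orfE_inv, orfE_inv, LinearEquiv.mul_apply, orfE_apply, orfE_apply]
          abel
        rw [e1]
        exact T.add_mem (orf_sub_mem Q T _ _ huT) (orf_sub_mem Q T _ _ hmuT)
    have hsMT : s ∈ MT := by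
      rw [hMT]
      exact ⟨by rw [← hs₁eq]; exact hs₁M, hsT⟩
    obtain ⟨k1, k2, k3⟩ := obal_ternary h2 Q had T heT hfT hwT hT MT hMTodd hiso' hsupp hnorm'
      s hsMT
    have hsu : s u = u := by
      obtain ⟨a, b, g, hu_eq⟩ := hT u huT
      rw [hu_eq, map_add, map_add, map_smul, map_smul, map_smul, k1, k2, k3]
    have hsu' : s u = -u + ((Q (m u))⁻¹ * polar Q (m u) u) • m u := by
      rw [hs, LinearEquiv.mul_apply, orfE_apply, orfE_apply, orf_self Q u (by rw [hQu]; exact hc₀)]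
      unfold orf
      rw [polar_neg_right, mul_neg, neg_smul, sub_neg_eq_add]
    rw [hsu'] at hsu
    have h5 : ((Q (m u))⁻¹ * polar Q (m u) u) • m u = (2 : E) • u := by
      rw [two_smul]
      have h6 : -u + ((Q (m u))⁻¹ * polar Q (m u) u) • m u + u = u + u := by rw [hsu]
      rw [← h6]
      abel
    have hκ0 : (Q (m u))⁻¹ * polar Q (m u) u ≠ 0 := by
      intro h0
      rw [h0, zero_smul] at h5
      rcases smul_eq_zero.mp h5.symm with h | h
      · exact h2 h
      · exact hu0 h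
    apply hne (((Q (m u))⁻¹ * polar Q (m u) u)⁻¹ * 2)
    rw [← smul_smul, ← h5, smul_smul, inv_mul_cancel₀ hκ0, one_smul]
  -- the vectors of norm `c₀` span
  obtain ⟨e, f, w, c, had, heW, hfW, hwW⟩ := obal_exists_adapted h2 Q W hnd h3
  intro m hm
  have hQef : ∀ (a : E) (y' : V), polar Q y' e = 0 → polar Q y' f = 0 →
      Q (e + a • f + y') = a + Q y' := by
    intro a y' h1 h1'
    rw [QuadraticMap.map_add (⇑Q) (e + a • f), QuadraticMap.map_add (⇑Q) e,
      QuadraticMap.map_smul, polar_smul_right, polar_add_left, polar_smul_left, had.he, had.hf,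
      had.hef, polar_comm (⇑Q) e y', polar_comm (⇑Q) f y', h1, h1']
    simp
  have hperp : ∀ y' ∈ W, polar Q y' e = 0 → polar Q y' f = 0 → m y' = y' := by
    intro y' hy' h1 h1'
    have hA := step1 m hm (e + (c₀ - Q y') • f + y')
      (W.add_mem (W.add_mem heW (W.smul_mem _ hfW)) hy') (by rw [hQef _ _ h1 h1']; ring)
    have hB := step1 m hm (e + (c₀ - Q y') • f + (-y'))
      (W.add_mem (W.add_mem heW (W.smul_mem _ hfW)) (W.neg_mem hy'))
      (by rw [hQef _ _ (by rw [polar_neg_left, h1, neg_zero])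
        (by rw [polar_neg_left, h1', neg_zero]), QuadraticMap.map_neg]; ring)
    have hC : m ((2 : E) • y') = (2 : E) • y' := by
      have e1 : (2 : E) • y' = (e + (c₀ - Q y') • f + y') - (e + (c₀ - Q y') • f + (-y')) := by
        module
      rw [e1, map_sub, hA, hB]
    rw [map_smul] at hC
    exact smul_right_injective V h2 hC
  have hfe : polar Q f e = 1 := by rw [polar_comm]; exact had.hef
  have hwe : polar Q w e = 0 := by rw [polar_comm]; exact had.hew
  have hwf : polar Q w f = 0 := by rw [polar_comm]; exact had.hfw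
  have hee : polar Q e e = 0 := by rw [polar_self, had.he, smul_zero]
  have hff : polar Q f f = 0 := by rw [polar_self, had.hf, smul_zero]
  have hmw : m w = w := hperp w hwW hwe hwf
  have hm0 : m (e + c₀ • f) = e + c₀ • f := by
    have h := step1 m hm (e + c₀ • f + 0) (W.add_mem (W.add_mem heW (W.smul_mem _ hfW)) W.zero_mem)
      (by rw [hQef c₀ 0 (by simp [polar]) (by simp [polar]), QuadraticMap.map_zero, add_zero])
    rwa [add_zero] at h
  have hm1 : m (e + (c₀ - c) • f) = e + (c₀ - c) • f := by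
    have h := step1 m hm (e + (c₀ - c) • f + w)
      (W.add_mem (W.add_mem heW (W.smul_mem _ hfW)) hwW)
      (by rw [hQef _ _ hwe hwf, had.hw]; ring)
    rw [map_add, hmw] at h
    exact add_right_cancel h
  have hmf : m f = f := by
    have e1 : c • f = (e + c₀ • f) - (e + (c₀ - c) • f) := by module
    have h : m (c • f) = c • f := by
      rw [e1, map_sub, hm0, hm1]
    rw [map_smul] at h
    exact smul_right_injective V had.hc h
  have hme : m e = e := by
    have h := hm0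
    rw [map_add, map_smul, hmf] at h
    exact add_right_cancel h
  intro x hx
  obtain ⟨y', hy'def⟩ : ∃ y', y' = x - polar Q x f • e - polar Q x e • f := ⟨_, rfl⟩
  have hy'W : y' ∈ W := by
    rw [hy'def]
    exact W.sub_mem (W.sub_mem hx (W.smul_mem _ heW)) (W.smul_mem _ hfW)
  have h1 : polar Q y' e = 0 := by
    rw [hy'def, polar_sub_left, polar_sub_left, polar_smul_left, polar_smul_left, hee, hfe]
    simp
  have h1' : polar Q y' f = 0 := by
    rw [hy'def, polar_sub_left, polar_sub_left, polar_smul_left, polar_smul_left, hff, had.hef]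
    simp
  have hxe : x = y' + polar Q x f • e + polar Q x e • f := by
    rw [hy'def]
    abel
  have hmx : m x = m y' + polar Q x f • m e + polar Q x e • m f := by
    conv_lhs => rw [hxe]
    rw [map_add, map_add, map_smul, map_smul]
  rw [hmx, hperp y' hy'W h1 h1', hme, hmf, ← hxe]

/-- a linear map acting as a scalar on every adapted triple of `W` is a scalar on `W` -/
theorem obal_scalar_cover (h2 : (2 : E) ≠ 0) (Q : QuadraticForm E V) (W : Submodule E V)
    (m : V →ₗ[E] V)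
    (hP : ∀ (e f w : V) (c : E), OAdapted Q e f w c → e ∈ W → f ∈ W → w ∈ W →
      ∃ α : E, m e = α • e ∧ m f = α • f ∧ m w = α • w)
    (hex : ∃ (e f w : V) (c : E), OAdapted Q e f w c ∧ e ∈ W ∧ f ∈ W ∧ w ∈ W) :
    ∃ α : E, ∀ y ∈ W, m y = α • y := by
  obtain ⟨e, f, w, c, had, heW, hfW, hwW⟩ := hex
  obtain ⟨α, hαe, hαf, hαw⟩ := hP e f w c had heW hfW hwW
  refine ⟨α, ?_⟩
  have hfe : polar Q f e = 1 := by rw [polar_comm]; exact had.hef
  have hwe : polar Q w e = 0 := by rw [polar_comm]; exact had.hew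
  have hwf : polar Q w f = 0 := by rw [polar_comm]; exact had.hfw
  have hee : polar Q e e = 0 := by rw [polar_self, had.he, smul_zero]
  have hff : polar Q f f = 0 := by rw [polar_self, had.hf, smul_zero]
  have key : ∀ y' ∈ W, polar Q y' e = 0 → polar Q y' f = 0 → Q y' ≠ 0 → m y' = α • y' := by
    intro y' hy' h1 h1' hq
    have had' : OAdapted Q e f y' (Q y') :=
      ⟨hq, had.he, had.hf, rfl, had.hef, by rw [polar_comm]; exact h1,
        by rw [polar_comm]; exact h1'⟩
    obtain ⟨α', hα'e, -, hα'y⟩ := hP e f y' (Q y') had' heW hfW hy'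
    have hαα' : α' = α := by
      have h : (α' - α) • e = 0 := by rw [sub_smul, ← hα'e, ← hαe, sub_self]
      rcases smul_eq_zero.mp h with h | h
      · exact sub_eq_zero.mp h
      · exact absurd h had.e_ne
    rw [hα'y, hαα']
  have hperp : ∀ y' ∈ W, polar Q y' e = 0 → polar Q y' f = 0 → m y' = α • y' := by
    intro y' hy' h1 h1'
    by_cases hq : Q y' = 0
    · by_cases hb : polar Q y' w = -c
      · have hq2 : Q (y' - w) ≠ 0 := by
          rw [sub_eq_add_neg, QuadraticMap.map_add (⇑Q) y', QuadraticMap.map_neg, polar_neg_right,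
            hq, had.hw, hb]
          have : (0 : E) + c + - -c = 2 * c := by ring
          rw [this]
          exact mul_ne_zero h2 had.hc
        have h := key (y' - w) (W.sub_mem hy' hwW)
          (by rw [polar_sub_left, h1, hwe, sub_zero]) (by rw [polar_sub_left, h1', hwf, sub_zero])
          hq2
        rw [map_sub, hαw, smul_sub] at h
        exact sub_left_injective h
      · have hq2 : Q (y' + w) ≠ 0 := by
          rw [QuadraticMap.map_add (⇑Q) y', hq, had.hw, zero_add]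
          intro h
          exact hb (by linear_combination h)
        have h := key (y' + w) (W.add_mem hy' hwW)
          (by rw [polar_add_left, h1, hwe, add_zero]) (by rw [polar_add_left, h1', hwf, add_zero])
          hq2
        rw [map_add, hαw, smul_add] at h
        exact add_right_cancel h
    · exact key y' hy' h1 h1' hq
  intro x hx
  obtain ⟨y', hy'def⟩ : ∃ y', y' = x - polar Q x f • e - polar Q x e • f := ⟨_, rfl⟩
  have hy'W : y' ∈ W := by
    rw [hy'def]
    exact W.sub_mem (W.sub_mem hx (W.smul_mem _ heW)) (W.smul_mem _ hfW)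
  have h1 : polar Q y' e = 0 := by
    rw [hy'def, polar_sub_left, polar_sub_left, polar_smul_left, polar_smul_left, hee, hfe]
    simp
  have h1' : polar Q y' f = 0 := by
    rw [hy'def, polar_sub_left, polar_sub_left, polar_smul_left, polar_smul_left, hff, had.hef]
    simp
  have hxe : x = y' + polar Q x f • e + polar Q x e • f := by
    rw [hy'def]
    abel
  have hmx : m x = m y' + polar Q x f • m e + polar Q x e • m f := by
    conv_lhs => rw [hxe]
    rw [map_add, map_add, map_smul, map_smul]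
  rw [hmx, hperp y' hy'W h1 h1', hαe, hαf]
  conv_rhs => rw [hxe]
  module

/-- a linear map commuting with the products of two reflections of equal norm in `W` is a scalar
on `W` -/
theorem obal_commute_scalar [Finite E] (h2 : (2 : E) ≠ 0) (Q : QuadraticForm E V)
    (W : Submodule E V) (hnd : ∀ x ∈ W, x ≠ 0 → ∃ y ∈ W, polar Q x y ≠ 0)
    (h3 : ∀ u ∈ W, ∀ u' ∈ W, ∃ z ∈ W, z ≠ 0 ∧ polar Q z u = 0 ∧ polar Q z u' = 0)
    (m : V →ₗ[E] V)
    (hcomm : ∀ u ∈ W, ∀ u' ∈ W, Q u = Q u' → Q u ≠ 0 → ∀ v,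
      m (orf Q u (orf Q u' v)) = orf Q u (orf Q u' (m v))) :
    ∃ α : E, ∀ y ∈ W, m y = α • y := by
  apply obal_scalar_cover h2 Q W m ?_ (obal_exists_adapted h2 Q W hnd h3)
  intro e f w c had he hf hw
  have key : ∀ e' f' w' : V, OAdapted Q e' f' w' c → e' ∈ W → w' ∈ W →
      ∃ κ : E, m e' = κ • e' := by
    intro e' f' w' had' he' hw'
    apply obal_sing h2 Q e' w' c had'.hc had'.he had'.hw had'.hew m (map_add m)
    intro l v
    have hwe : polar Q w' e' = 0 := by rw [polar_comm]; exact had'.hew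
    have hQ : Q (w' + l • e') = c := by
      rw [QuadraticMap.map_add (⇑Q) w', QuadraticMap.map_smul, polar_smul_right, had'.he,
        had'.hw, hwe]
      simp
    exact hcomm w' hw' (w' + l • e') (W.add_mem hw' (W.smul_mem _ he')) (by rw [hQ, had'.hw])
      (by rw [had'.hw]; exact had'.hc) v
  obtain ⟨α, hα⟩ := key e f w had he hw
  obtain ⟨β, hβ⟩ := key f e w had.swap hf hw
  obtain ⟨γ, hγ⟩ := key _ _ _ had.shift1 (W.sub_mem (W.add_mem hf hw) (W.smul_mem _ he))
    (W.sub_mem hw (W.smul_mem _ he))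
  obtain ⟨δ, hδ⟩ := key _ _ _ had.shift2 (W.sub_mem (W.sub_mem hf hw) (W.smul_mem _ he))
    (W.add_mem hw (W.smul_mem _ he))
  obtain ⟨hf', hw'⟩ := obal_tern_scalar h2 Q had m α β γ δ hα hβ hγ hδ
  exact ⟨α, hα, hf', hw'⟩

end OBalC

end Cfsg.Agent.Lib.helper51
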