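/-
A semilinear map commuting with the products of two reflections of equal norm in a non-degenerate
subspace `W` of dimension at least three is linear, and a scalar on `W`.
-/
import Mathlib
import Cfsg.Agent.Lib.helper51.OBalC

set_option autoImplicit false
set_option linter.unusedSectionVars false
set_option linter.unusedVariables false
set_option linter.unusedSimpArgs false

namespace Cfsg.Agent.Lib.helper51

open QuadraticMap

section OBalD

variable {E : Type*} [Field E] {V : Type*} [AddCommGroup V] [Module E V]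

theorem orf_neg_left (Q : QuadraticForm E V) (u v : V) : orf Q (-u) v = orf Q u v := by
  unfold orf
  rw [QuadraticMap.map_neg, polar_neg_left]
  module

theorem orfE_neg (Q : QuadraticForm E V) (u : V) : orfE Q (-u) = orfE Q u := by
  ext v
  rw [orfE_apply, orfE_apply, orf_neg_left]

theorem obal_map_zero (m : V → V) (hadd : ∀ u v, m (u + v) = m u + m v) : m 0 = 0 := by
  have := hadd 0 0
  rw [add_zero] at this
  exact left_eq_add.mp this

theorem obal_map_sub (m : V → V) (hadd : ∀ u v, m (u + v) = m u + m v) (a b : V) :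
    m (a - b) = m a - m b := by
  have := hadd (a - b) b
  rw [sub_add_cancel] at this
  rw [this, add_sub_cancel_right]

/-- a semilinear map commuting with the products of two reflections of equal norm in `W` is
linear, and a scalar on `W` -/
theorem obal_semilinear_scalar [Finite E] (h2 : (2 : E) ≠ 0) (Q : QuadraticForm E V)
    (W : Submodule E V) (hnd : ∀ x ∈ W, x ≠ 0 → ∃ y ∈ W, polar Q x y ≠ 0)
    (h3 : ∀ u ∈ W, ∀ u' ∈ W, ∃ z ∈ W, z ≠ 0 ∧ polar Q z u = 0 ∧ polar Q z u' = 0)
    (m : V → V) (hadd : ∀ u v, m (u + v) = m u + m v) (τ : E →+* E)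
    (hτ : ∀ (l : E) (v : V), m (l • v) = τ l • m v) (hinj : ∀ v, m v = 0 → v = 0)
    (hcomm : ∀ u ∈ W, ∀ u' ∈ W, Q u = Q u' → Q u ≠ 0 → ∀ v,
      m (orf Q u (orf Q u' v)) = orf Q u (orf Q u' (m v))) :
    (∀ l, τ l = l) ∧ ∃ α : E, ∀ y ∈ W, m y = α • y := by
  obtain ⟨e, f, w, c, had, he, hf, hw⟩ := obal_exists_adapted h2 Q W hnd h3
  have key : ∀ e' w' : V, e' ∈ W → w' ∈ W → Q e' = 0 → Q w' = c → polar Q e' w' = 0 →
      ∃ κ : E, m e' = κ • e' := by
    intro e' w' he' hw' hQe hQw hew
    apply obal_sing h2 Q e' w' c had.hc hQe hQw hew m hadd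
    intro l v
    have hwe : polar Q w' e' = 0 := by rw [polar_comm]; exact hew
    have hQ : Q (w' + l • e') = c := by
      rw [QuadraticMap.map_add (⇑Q) w', QuadraticMap.map_smul, polar_smul_right, hQe, hQw, hwe]
      simp
    exact hcomm w' hw' (w' + l • e') (W.add_mem hw' (W.smul_mem _ he')) (by rw [hQ, hQw])
      (by rw [hQw]; exact had.hc) v
  obtain ⟨κ, hκ⟩ := key e w he hw had.he had.hw had.hew
  obtain ⟨κ', hκ'⟩ := key f w hf hw had.hf had.hw had.hfw
  have hκ0 : κ ≠ 0 := by
    rintro rfl
    rw [zero_smul] at hκ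
    exact had.e_ne (hinj e hκ)
  have hfe : polar Q f e = 1 := by rw [polar_comm]; exact had.hef
  have hwe : polar Q w e = 0 := by rw [polar_comm]; exact had.hew
  have hwf : polar Q w f = 0 := by rw [polar_comm]; exact had.hfw
  have hee : polar Q e e = 0 := by rw [polar_self, had.he, smul_zero]
  have hff : polar Q f f = 0 := by rw [polar_self, had.hf, smul_zero]
  have hww : polar Q w w = 2 * c := by rw [polar_self, had.hw, nsmul_eq_mul, Nat.cast_ofNat]
  have hfun : ∀ lam : E, (κ + τ lam * polar Q (m w) f) * (2 * c * lam) = τ lam * polar Q (m w) w := by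
    intro lam
    have e1 : e + lam • w - (lam ^ 2 * c) • f
        = (1 : E) • e + (-(lam ^ 2 * c)) • f + lam • w := by module
    have e2 : w - (2 * lam * c) • f = (0 : E) • e + (-(2 * lam * c)) • f + (1 : E) • w := by
      module
    obtain ⟨κl, hκl⟩ := key (e + lam • w - (lam ^ 2 * c) • f) (w - (2 * lam * c) • f)
      (W.sub_mem (W.add_mem he (W.smul_mem _ hw)) (W.smul_mem _ hf))
      (W.sub_mem hw (W.smul_mem _ hf))
      (by rw [e1, obal_Q_comb Q had]; ring)
      (by rw [e2, obal_Q_comb Q had]; ring)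
      (by rw [e1, e2, obal_polar_comb Q had]; ring)
    rw [obal_map_sub m hadd, hadd, hτ, hτ, hκ, hκ'] at hκl
    have p1 := congrArg (fun z => polar Q z f) hκl
    have p2 := congrArg (fun z => polar Q z w) hκl
    simp only [polar_sub_left, polar_add_left, polar_smul_left, had.hef, hwf, hff, hww, had.hew,
      had.hfw, smul_eq_mul, mul_zero, mul_one, sub_zero, add_zero, zero_add] at p1 p2
    linear_combination (2 * c * lam) * p1 - p2
  have h1 := hfun 1
  have h2' := hfun (-1)
  rw [map_one] at h1
  rw [map_neg, map_one] at h2'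
  have hp : polar Q (m w) f = 0 := by
    have h4 : (2 * (2 * c)) * polar Q (m w) f = 0 := by linear_combination h1 + h2'
    rcases mul_eq_zero.mp h4 with h5 | h5
    · exact absurd h5 (mul_ne_zero h2 (mul_ne_zero h2 had.hc))
    · exact h5
  have hq : polar Q (m w) w = 2 * c * κ := by
    rw [hp] at h1
    linear_combination -h1
  have hτid : ∀ l, τ l = l := by
    intro l
    have h := hfun l
    rw [hp, hq] at h
    have h5 : (2 * c * κ) * (τ l - l) = 0 := by linear_combination -h
    rcases mul_eq_zero.mp h5 with h6 | h6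
    · exact absurd h6 (mul_ne_zero (mul_ne_zero h2 had.hc) hκ0)
    · exact sub_eq_zero.mp h6
  refine ⟨hτid, ?_⟩
  have hsm : ∀ (l : E) (v : V), m (l • v) = l • m v := by
    intro l v
    rw [hτ, hτid]
  exact obal_commute_scalar h2 Q W hnd h3
    { toFun := m, map_add' := hadd, map_smul' := fun l v => by rw [hsm]; rfl } hcomm

end OBalD

end Cfsg.Agent.Lib.helper51
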