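import Mathlib

set_option autoImplicit false

namespace Cfsg.Agent.Lib.helper51.BGR11

end Cfsg.Agent.Lib.helper51.BGR11

namespace Cfsg.Agent.Lib.helper2.BG

universe u

/-- R11: if `N` is perfect and `G = N Z(G)` then `G / Z(G)` is perfect. -/
theorem helper51_R_quot_perfect {G : Type u} [Group G] (N : Subgroup G) (hN : commutator ↥N = ⊤)
    (hsup : N ⊔ Subgroup.center G = ⊤) : commutator (G ⧸ Subgroup.center G) = ⊤ := by
  set φ : ↥N →* G ⧸ Subgroup.center G := (QuotientGroup.mk' (Subgroup.center G)).comp N.subtype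
    with hφ
  have hsurj : Function.Surjective φ := by
    intro q
    obtain ⟨g, rfl⟩ := QuotientGroup.mk'_surjective (Subgroup.center G) q
    have hg : g ∈ N ⊔ Subgroup.center G := by rw [hsup]; exact Subgroup.mem_top g
    rw [Subgroup.mem_sup_of_normal_right] at hg
    obtain ⟨y, hy, z, hz, rfl⟩ := hg
    refine ⟨⟨y, hy⟩, ?_⟩
    simp only [hφ, MonoidHom.comp_apply, Subgroup.coe_subtype, QuotientGroup.mk'_apply]
    rw [QuotientGroup.eq]
    simpa using hz
  have h1 : Subgroup.map φ (commutator ↥N) = commutator (G ⧸ Subgroup.center G) := by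
    rw [commutator_def, commutator_def, Subgroup.map_commutator]
    rw [← MonoidHom.range_eq_map, MonoidHom.range_eq_top.mpr hsurj]
  rw [← h1, hN, ← MonoidHom.range_eq_map, MonoidHom.range_eq_top.mpr hsurj]

end Cfsg.Agent.Lib.helper2.BG
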