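import Mathlib

set_option autoImplicit false

namespace Cfsg.Agent.Lib.helper51.BGR9

end Cfsg.Agent.Lib.helper51.BGR9

namespace Cfsg.Agent.Lib.helper2.BG

open scoped commutatorElement

universe u

/-- R9: a group normally generated by an element `x` of prime order which is conjugate to a
different power of itself is perfect. -/
theorem helper51_R_perfect_of_gen {K : Type u} [Group K] (p : ℕ) [Fact p.Prime] (x : K)
    (hx : orderOf x = p) (hgen : Subgroup.normalClosure ({x} : Set K) = ⊤)
    (hnc : ∃ n : K, n * x * n⁻¹ ≠ x ∧ n * x * n⁻¹ ∈ Subgroup.zpowers x) :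
    commutator K = ⊤ := by
  obtain ⟨n, hne, hmem⟩ := hnc
  obtain ⟨j, hj⟩ := Subgroup.mem_zpowers_iff.mp hmem
  -- `x ^ (j - 1) = [n, x]` lies in the commutator subgroup
  have hcomm : x ^ (j - 1) ∈ commutator K := by
    have h1 : x ^ (j - 1) = ⁅n, x⁆ := by
      rw [commutatorElement_def, ← hj, zpow_sub, zpow_one]
    rw [h1, commutator_def]
    exact Subgroup.commutator_mem_commutator (Subgroup.mem_top n) (Subgroup.mem_top x)
  have hp : (p : ℤ) ∣ j - 1 → False := by
    intro hdvd
    apply hne
    rw [← hj]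
    have : x ^ (j - 1) = 1 := by
      rw [← orderOf_dvd_iff_zpow_eq_one, hx]; exact hdvd
    have h2 : x ^ j = x ^ (j - 1) * x := by
      rw [← zpow_add_one]; congr 1; ring
    rw [h2, this, one_mul]
  have hcop : IsCoprime (j - 1) (p : ℤ) := by
    have hprime : Prime (p : ℤ) := Nat.prime_iff_prime_int.mp (Fact.out)
    exact ((hprime.coprime_iff_not_dvd).mpr hp).symm
  obtain ⟨a, b, hab⟩ := hcop
  have hxmem : x ∈ commutator K := by
    have h3 : x = (x ^ (j - 1)) ^ a := by
      have h4 : x ^ (a * (j - 1) + b * (p : ℤ)) = x := by rw [hab, zpow_one]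
      rw [zpow_add, zpow_mul' x b (p : ℤ)] at h4
      have h5 : x ^ (p : ℤ) = 1 := by
        rw [zpow_natCast, ← hx, pow_orderOf_eq_one]
      rw [h5, one_zpow, mul_one] at h4
      rw [← zpow_mul, mul_comm]; exact h4.symm
    rw [h3]
    exact Subgroup.zpow_mem _ hcomm a
  have hle : Subgroup.normalClosure ({x} : Set K) ≤ commutator K :=
    Subgroup.normalClosure_le_normal (by simpa using hxmem)
  rw [hgen] at hle
  exact top_le_iff.mp hle

end Cfsg.Agent.Lib.helper2.BG
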