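import Cfsg.Agent.Lib.helper51.Involves
import Cfsg.Agent.Lib.helper29.InvAct

set_option autoImplicit false

namespace Cfsg.Agent.Lib.helper51

open Cfsg

section DihedralInv

/-- The sign character of a dihedral group: rotations go to `1`, reflections to `-1`. -/
def dihedralSign (n : ℕ) : DihedralGroup n →* ℤˣ where
  toFun g := match g with
    | DihedralGroup.r _ => 1
    | DihedralGroup.sr _ => -1
  map_one' := rfl
  map_mul' := by
    rintro (a | a) (b | b) <;> rfl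

theorem dihedralSign_r (n : ℕ) (i : ZMod n) : dihedralSign n (DihedralGroup.r i) = 1 := rfl

theorem dihedralSign_sr (n : ℕ) (i : ZMod n) : dihedralSign n (DihedralGroup.sr i) = -1 := rfl

theorem sr_pow_odd {n : ℕ} (i : ZMod n) {m : ℕ} (hm : Odd m) :
    (DihedralGroup.sr i) ^ m = DihedralGroup.sr i := by
  obtain ⟨j, rfl⟩ := hm
  rw [pow_succ, pow_mul, pow_two, DihedralGroup.sr_mul_self, one_pow, one_mul]

theorem exists_two_pow_of_pow_eq_one {G : Type*} [Group G] {x : G} {n : ℕ} (h : x ^ 2 ^ n = 1) :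
    ∃ k : ℕ, orderOf x = 2 ^ k := by
  obtain ⟨k, -, hk⟩ := (Nat.dvd_prime_pow Nat.prime_two).mp (orderOf_dvd_of_pow_eq_one h)
  exact ⟨k, hk⟩

theorem exists_prime_pow_of_mem_pgroup {G : Type*} [Group G] {p : ℕ} [Fact p.Prime]
    {P : Subgroup G} (hP : IsPGroup p P) {y : G} (hy : y ∈ P) : ∃ k : ℕ, orderOf y = p ^ k := by
  obtain ⟨k, hk⟩ := hP ⟨y, hy⟩
  have hk' : y ^ p ^ k = 1 := by simpa using congrArg Subtype.val hk
  obtain ⟨j, -, hj⟩ := (Nat.dvd_prime_pow Fact.out).mp (orderOf_dvd_of_pow_eq_one hk')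
  exact ⟨j, hj⟩

/-- If a finite group `K` maps onto the dihedral group of order `2p`, `p` an odd prime, then some
`2`-element of `K` normalizes but does not centralize some `p`-subgroup of `K`. -/
theorem exists_two_element_normalizing_of_surjective {K : Type*} [Group K] [Finite K] {p : ℕ}
    [Fact p.Prime] (hp : p ≠ 2) (π : K →* DihedralGroup p) (hπ : Function.Surjective π) :
    ∃ (x : K) (P : Subgroup K), (∃ k : ℕ, orderOf x = 2 ^ k) ∧ IsPGroup p ↥P ∧
      x ∈ Subgroup.normalizer (P : Set K) ∧ x ∉ Subgroup.centralizer (P : Set K) := by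
  classical
  have hpp : p.Prime := Fact.out
  have : NeZero p := ⟨hpp.ne_zero⟩
  obtain ⟨σ, hσ⟩ : ∃ σ : K →* ℤˣ, σ = (dihedralSign p).comp π := ⟨_, rfl⟩
  obtain ⟨y₀, hy₀⟩ := hπ (DihedralGroup.r 1)
  obtain ⟨a, m, hm, hord⟩ := Nat.exists_eq_pow_mul_and_not_dvd (orderOf_pos y₀).ne' p hpp.ne_one
  have hy₁pow : (y₀ ^ m) ^ p ^ a = 1 := by
    rw [← pow_mul, mul_comm, ← hord, pow_orderOf_eq_one]
  have hπy₁ : π (y₀ ^ m) = DihedralGroup.r (m : ZMod p) := by
    rw [map_pow, hy₀, DihedralGroup.r_one_pow]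
  have hm0 : (m : ZMod p) ≠ 0 := by
    rw [Ne, ZMod.natCast_eq_zero_iff]; exact hm
  have hy₁Y : y₀ ^ m ∈ σ.ker := by
    rw [MonoidHom.mem_ker, hσ, MonoidHom.comp_apply, hπy₁]; rfl
  have hZ : IsPGroup p (Subgroup.zpowers (⟨y₀ ^ m, hy₁Y⟩ : σ.ker)) := by
    rintro ⟨g, hg⟩
    obtain ⟨j, rfl⟩ := Subgroup.mem_zpowers_iff.mp hg
    refine ⟨a, ?_⟩
    apply Subtype.ext
    apply Subtype.ext
    simp only [Subgroup.coe_pow, Subgroup.coe_zpow, Subgroup.coe_one]
    rw [← zpow_natCast, ← zpow_mul, mul_comm, zpow_mul, zpow_natCast, hy₁pow, one_zpow]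
  obtain ⟨P₀, hP₀⟩ := hZ.exists_le_sylow
  have hfr := Sylow.normalizer_sup_eq_top P₀
  obtain ⟨s, hs⟩ := hπ (DihedralGroup.sr 0)
  have hsY : s ∉ σ.ker := by
    rw [MonoidHom.mem_ker, hσ, MonoidHom.comp_apply, hs, dihedralSign_sr]; decide
  have hnle : ¬ Subgroup.normalizer (((P₀ : Subgroup σ.ker).map σ.ker.subtype : Subgroup K) : Set K) ≤
      σ.ker := by
    intro hle
    have h1 : (⊤ : Subgroup K) ≤ σ.ker := by rw [← hfr]; exact sup_le hle le_rfl
    exact hsY (h1 (Subgroup.mem_top s))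
  obtain ⟨n, hnN, hnY⟩ := SetLike.not_le_iff_exists.mp hnle
  obtain ⟨i, hi⟩ : ∃ i, π n = DihedralGroup.sr i := by
    rcases hπn : π n with i | i
    · exfalso; apply hnY
      rw [MonoidHom.mem_ker, hσ, MonoidHom.comp_apply, hπn]; rfl
    · exact ⟨i, rfl⟩
  obtain ⟨b, m', hm', hord'⟩ := Nat.exists_eq_two_pow_mul_odd (orderOf_pos n).ne'
  have hxpow : (n ^ m') ^ 2 ^ b = 1 := by
    rw [← pow_mul, mul_comm, ← hord', pow_orderOf_eq_one]
  have hπx : π (n ^ m') = DihedralGroup.sr i := by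
    rw [map_pow, hi, sr_pow_odd i hm']
  refine ⟨n ^ m', (P₀ : Subgroup σ.ker).map σ.ker.subtype, exists_two_pow_of_pow_eq_one hxpow,
    P₀.2.map _, Subgroup.pow_mem _ hnN _, ?_⟩
  intro hc
  have huP : y₀ ^ m ∈ (P₀ : Subgroup σ.ker).map σ.ker.subtype :=
    Subgroup.mem_map.mpr ⟨⟨y₀ ^ m, hy₁Y⟩, hP₀ (Subgroup.mem_zpowers _), rfl⟩
  have h1 := Subgroup.mem_centralizer_iff.mp hc _ huP
  have h2 := congrArg π h1
  rw [map_mul, map_mul, hπx, hπy₁, DihedralGroup.r_mul_sr, DihedralGroup.sr_mul_r] at h2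
  have h3 : i - (m : ZMod p) = i + (m : ZMod p) := DihedralGroup.sr.inj h2
  have h4 : (2 : ZMod p) * (m : ZMod p) = 0 := by linear_combination -h3
  have : Fact p.Prime := ⟨hpp⟩
  rcases mul_eq_zero.mp h4 with h5 | h5
  · have h6 : ((2 : ℕ) : ZMod p) = 0 := by exact_mod_cast h5
    rw [ZMod.natCast_eq_zero_iff] at h6
    exact hp ((Nat.prime_dvd_prime_iff_eq hpp Nat.prime_two).mp h6)
  · exact hm0 h5

/-- If a `2`-element normalizes but does not centralize a `p`-subgroup (`p` odd), then some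
`2`-element inverts a nonidentity `p`-element. -/
theorem exists_inverting_of_normalizing {G : Type*} [Group G] {p : ℕ} [Fact p.Prime] :
    ∀ (n : ℕ) (x : G) (P : Subgroup G), x ^ 2 ^ n = 1 → IsPGroup p ↥P →
      x ∈ Subgroup.normalizer (P : Set G) → x ∉ Subgroup.centralizer (P : Set G) →
      ∃ x y : G, (∃ k : ℕ, orderOf x = 2 ^ k) ∧ (∃ k : ℕ, orderOf y = p ^ k) ∧ y ≠ 1 ∧
        x * y * x⁻¹ = y⁻¹ := by
  intro n
  induction n with
  | zero =>
    intro x P hx _ _ hxC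
    exfalso; apply hxC
    have : x = 1 := by simpa using hx
    rw [this]; exact Subgroup.one_mem _
  | succ n ih =>
    intro x P hx hP hxN hxC
    by_cases hc : x ^ 2 ∈ Subgroup.centralizer (P : Set G)
    · obtain ⟨u, huP, hu⟩ : ∃ u ∈ P, u * x ≠ x * u := by
        by_contra hcon
        apply hxC
        rw [Subgroup.mem_centralizer_iff]
        intro h hh
        by_contra hne
        exact hcon ⟨h, hh, hne⟩
      have hconj : x * u * x⁻¹ ∈ P := (Subgroup.mem_normalizer_iff.mp hxN u).mp huP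
      have hyP : u⁻¹ * (x * u * x⁻¹) ∈ P := P.mul_mem (P.inv_mem huP) hconj
      refine ⟨x, u⁻¹ * (x * u * x⁻¹), exists_two_pow_of_pow_eq_one hx,
        exists_prime_pow_of_mem_pgroup hP hyP, ?_, ?_⟩
      · intro h1
        apply hu
        have h2 : x * u * x⁻¹ = u := by
          calc x * u * x⁻¹ = u * (u⁻¹ * (x * u * x⁻¹)) := by group
            _ = u := by rw [h1, mul_one]
        calc u * x = (x * u * x⁻¹) * x := by rw [h2]
          _ = x * u := by group
      · have h1 : u * x ^ 2 = x ^ 2 * u := Subgroup.mem_centralizer_iff.mp hc u huP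
        have h2 : x * (x * u * x⁻¹) * x⁻¹ = u := by
          calc x * (x * u * x⁻¹) * x⁻¹ = (x ^ 2 * u) * (x⁻¹ * x⁻¹) := by rw [pow_two]; group
            _ = (u * x ^ 2) * (x⁻¹ * x⁻¹) := by rw [h1]
            _ = u := by rw [pow_two]; group
        calc x * (u⁻¹ * (x * u * x⁻¹)) * x⁻¹
            = (x * u * x⁻¹)⁻¹ * (x * (x * u * x⁻¹) * x⁻¹) := by group
          _ = (x * u * x⁻¹)⁻¹ * u := by rw [h2]
          _ = (u⁻¹ * (x * u * x⁻¹))⁻¹ := by group
    · refine ih (x ^ 2) P ?_ hP (Subgroup.pow_mem _ hxN 2) hc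
      rw [← pow_mul, ← pow_succ']; exact hx

/-- If a `2`-element inverts a nonidentity `p`-element (`p` an odd prime), then the dihedral group
of order `2p` is involved. -/
theorem involves_dihedral_of_inverting {G : Type*} [Group G] {p : ℕ} [Fact p.Prime] (hp : p ≠ 2)
    {x y : G} (hy : ∃ k : ℕ, orderOf y = p ^ k) (hy1 : y ≠ 1)
    (hxy : x * y * x⁻¹ = y⁻¹) : Involves (DihedralGroup p) G := by
  have hpp : p.Prime := Fact.out
  obtain ⟨j, hj⟩ := hy
  have hj0 : j ≠ 0 := by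
    rintro rfl
    rw [pow_zero, orderOf_eq_one_iff] at hj
    exact hy1 hj
  have hpd : p ∣ orderOf y := by rw [hj]; exact dvd_pow_self p hj0
  have hy0 : orderOf y ≠ 0 := by rw [hj]; exact pow_ne_zero _ hpp.ne_zero
  obtain ⟨y', hy'def⟩ : ∃ y', y' = y ^ (orderOf y / p) := ⟨_, rfl⟩
  have hy'ord : orderOf y' = p := by rw [hy'def]; exact orderOf_pow_orderOf_div hy0 hpd
  have hxy' : x * y' * x⁻¹ = y'⁻¹ := by
    rw [hy'def, ← conj_pow, hxy, inv_pow]
  have hx2 : x ^ 2 * y' = y' * x ^ 2 := by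
    have h1 : x * y'⁻¹ * x⁻¹ = y' := by
      have := congrArg (fun z => z⁻¹) hxy'
      simp only [mul_inv_rev, inv_inv] at this
      rw [← mul_assoc] at this
      exact this
    calc x ^ 2 * y' = x * (x * y' * x⁻¹) * x⁻¹ * x ^ 2 := by rw [pow_two]; group
      _ = x * y'⁻¹ * x⁻¹ * x ^ 2 := by rw [hxy']
      _ = y' * x ^ 2 := by rw [h1]
  obtain ⟨K, hK⟩ : ∃ K, K = Subgroup.zpowers x ⊔ Subgroup.zpowers y' := ⟨_, rfl⟩
  have hxK : x ∈ K := by rw [hK]; exact Subgroup.mem_sup_left (Subgroup.mem_zpowers x)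
  have hyK : y' ∈ K := by rw [hK]; exact Subgroup.mem_sup_right (Subgroup.mem_zpowers y')
  have hcent : ∀ k ∈ K, x ^ 2 * k = k * x ^ 2 := by
    have h1 : K ≤ Subgroup.centralizer ({x ^ 2} : Set G) := by
      rw [hK]
      refine sup_le ?_ ?_
      · rw [Subgroup.zpowers_le, Subgroup.mem_centralizer_iff]
        rintro _ rfl
        rw [← pow_succ, ← pow_succ']
      · rw [Subgroup.zpowers_le, Subgroup.mem_centralizer_iff]
        rintro _ rfl
        exact hx2
    intro k hk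
    exact Subgroup.mem_centralizer_iff.mp (h1 hk) _ rfl
  have hcentz : ∀ z ∈ Subgroup.zpowers (x ^ 2), ∀ k ∈ K, z * k = k * z := by
    intro z hz k hk
    obtain ⟨i, rfl⟩ := Subgroup.mem_zpowers_iff.mp hz
    have hc : Commute (x ^ 2) k := hcent k hk
    exact (hc.zpow_left i).eq
  have hN : ((Subgroup.zpowers (x ^ 2)).subgroupOf K).Normal := by
    constructor
    intro n hn g
    rw [Subgroup.mem_subgroupOf] at hn ⊢
    have h1 := hcentz _ hn g g.2
    have h2 : ((g * n * g⁻¹ : ↥K) : G) = (n : G) := by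
      simp only [Subgroup.coe_mul, Subgroup.coe_inv]
      calc (g : G) * (n : G) * (g : G)⁻¹ = ((n : G) * (g : G)) * (g : G)⁻¹ := by rw [h1]
        _ = (n : G) := by group
    rw [h2]; exact hn
  obtain ⟨a, ha⟩ : ∃ a : ↥K ⧸ (Subgroup.zpowers (x ^ 2)).subgroupOf K,
      a = QuotientGroup.mk' _ ⟨x, hxK⟩ := ⟨_, rfl⟩
  obtain ⟨b, hb⟩ : ∃ b : ↥K ⧸ (Subgroup.zpowers (x ^ 2)).subgroupOf K,
      b = QuotientGroup.mk' _ ⟨y', hyK⟩ := ⟨_, rfl⟩
  have haa : a * a = 1 := by
    rw [ha, ← map_mul, QuotientGroup.mk'_apply, QuotientGroup.eq_one_iff, Subgroup.mem_subgroupOf]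
    show x * x ∈ Subgroup.zpowers (x ^ 2)
    rw [← pow_two]; exact Subgroup.mem_zpowers _
  have hab : a * b * a⁻¹ = b⁻¹ := by
    rw [ha, hb, ← map_inv, ← map_mul, ← map_mul, ← map_inv]
    congr 1
    exact Subtype.ext hxy'
  have hb1 : b ≠ 1 := by
    intro h
    rw [hb, QuotientGroup.mk'_apply, QuotientGroup.eq_one_iff, Subgroup.mem_subgroupOf] at h
    have h1 : y' ∈ Subgroup.zpowers (x ^ 2) := h
    have h2 : y' * x = x * y' := by
      obtain ⟨i, rfl⟩ := Subgroup.mem_zpowers_iff.mp h1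
      have hc : Commute (x ^ 2) x := by
        show x ^ 2 * x = x * x ^ 2
        rw [← pow_succ, ← pow_succ']
      exact (hc.zpow_left i).eq
    have h3 : y' = y'⁻¹ := by
      calc y' = x * y' * x⁻¹ := by rw [← h2]; group
        _ = y'⁻¹ := hxy'
    have h4 : y' ^ 2 = 1 := by
      rw [pow_two]
      nth_rewrite 1 [h3]
      exact inv_mul_cancel y'
    have h5 : p ∣ 2 := by rw [← hy'ord]; exact orderOf_dvd_of_pow_eq_one h4
    exact hp ((Nat.prime_dvd_prime_iff_eq hpp Nat.prime_two).mp h5)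
  have hbp : b ^ p = 1 := by
    rw [hb, ← map_pow]
    have : (⟨y', hyK⟩ : ↥K) ^ p = 1 := by
      apply Subtype.ext
      simp only [Subgroup.coe_pow, Subgroup.coe_one]
      rw [← hy'ord]; exact pow_orderOf_eq_one y'
    rw [this, map_one]
  have hbord : orderOf b = p := by
    rcases (Nat.dvd_prime hpp).mp (orderOf_dvd_of_pow_eq_one hbp) with h | h
    · exact absurd (orderOf_eq_one_iff.mp h) hb1
    · exact h
  have hodd : Odd (orderOf b) := by rw [hbord]; exact hpp.odd_of_ne_two hp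
  obtain ⟨e⟩ := Cfsg.Agent.Lib.helper29.nonempty_mulEquiv_dihedral haa hab hb1 hodd
  rw [hbord] at e
  have h1 : Involves (DihedralGroup p) (↥K ⧸ (Subgroup.zpowers (x ^ 2)).subgroupOf K) :=
    involves_of_surjective _ e.toMonoidHom e.surjective
  have h2 : Involves (DihedralGroup p) ↥K := involves_of_involves_quotient _ h1
  exact involves_of_involves_subgroup K h2

end DihedralInv

end Cfsg.Agent.Lib.helper51
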