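import Mathlib
import Cfsg.Prelude.Def_Classical
import Cfsg.Prelude.Def_GeometricClasses

/-! S5977/S5978 block [B], piece EICHM: an Eichler transformation of order `p` in the isometry
group of the minus-type form, whose `(X - 1)^2`-kernel is a hyperplane (odd dimension). -/

set_option autoImplicit false

namespace Cfsg.Agent.Lib.helper96.FE

open Polynomial Matrix

/-- The nilpotent part of the Eichler transformation attached to four distinct indices. -/
def helper51_eichN (F : Type*) [Field F] {ι : Type} [Fintype ι] [DecidableEq ι] (a b c d : ι) :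
    Matrix ι ι F :=
  Matrix.single c b 1 + Matrix.single d b 1 - Matrix.single a c 1 - Matrix.single a d 1 -
    Matrix.single a b 1

theorem helper51_eichN_sq {F : Type*} [Field F] {ι : Type} [Fintype ι] [DecidableEq ι]
    (a b c d : ι) (hab : a ≠ b) (hac : a ≠ c) (had : a ≠ d) (hbc : b ≠ c) (hbd : b ≠ d)
    (hcd : c ≠ d) :
    helper51_eichN F a b c d * helper51_eichN F a b c d = (-2 : F) • Matrix.single a b 1 := by
  unfold helper51_eichN
  simp only [mul_add, add_mul, mul_sub, sub_mul]
  simp only [Matrix.single_mul_single_same, mul_one, ne_eq, hbc, hbd, hab.symm, hac.symm, had.symm,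
    hcd, hcd.symm, not_false_eq_true, Matrix.single_mul_single_of_ne]
  module

theorem helper51_eichN_cube {F : Type*} [Field F] {ι : Type} [Fintype ι] [DecidableEq ι]
    (a b c d : ι) (hab : a ≠ b) (hac : a ≠ c) (had : a ≠ d) (hbc : b ≠ c) (hbd : b ≠ d)
    (hcd : c ≠ d) :
    helper51_eichN F a b c d * helper51_eichN F a b c d * helper51_eichN F a b c d = 0 := by
  rw [helper51_eichN_sq a b c d hab hac had hbc hbd hcd]
  unfold helper51_eichN
  simp only [mul_add, mul_sub, smul_mul_assoc]
  simp only [ne_eq, hbc, hbd, hab.symm, not_false_eq_true, Matrix.single_mul_single_of_ne]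
  simp

theorem helper51_eich_mulVec {F : Type*} [Field F] {ι : Type} [Fintype ι] [DecidableEq ι]
    (a b c d : ι) (v : ι → F) :
    (1 + helper51_eichN F a b c d) *ᵥ v =
      v + v b • Pi.single c 1 + v b • Pi.single d 1 - v c • Pi.single a 1 - v d • Pi.single a 1 -
        v b • Pi.single a 1 := by
  unfold helper51_eichN
  simp only [Matrix.add_mulVec, Matrix.sub_mulVec, Matrix.one_mulVec, Matrix.single_mulVec_eq,
    one_mul]
  abel

/-- The abstract Eichler element: order dividing `p`, and the kernel of `(x - 1)^2` is a hyperplane. -/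
theorem helper51_eich_exists {F : Type*} [Field F] (p : ℕ) [Fact p.Prime] [CharP F p] (hp2 : p ≠ 2)
    {ι : Type} [Fintype ι] [DecidableEq ι]
    (a b c d : ι) (hab : a ≠ b) (hac : a ≠ c) (had : a ≠ d) (hbc : b ≠ c) (hbd : b ≠ d)
    (hcd : c ≠ d) :
    ∃ x : GL ι F, (x : Matrix ι ι F) = 1 + helper51_eichN F a b c d ∧ x ^ p = 1 ∧
      Module.finrank F (LinearMap.ker
        (aeval (Matrix.toLin' (x : Matrix ι ι F)) ((X - 1 : F[X]) ^ 2))) + 1 = Fintype.card ι := by
  classical
  have : Nonempty ι := ⟨a⟩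
  have hp : p.Prime := Fact.out
  have hp3 : 3 ≤ p := by
    have := hp.two_le
    omega
  have h2F : (2 : F) ≠ 0 := by
    intro h0
    have h2' : ((2 : ℕ) : F) = 0 := by exact_mod_cast h0
    have hd : p ∣ 2 := (CharP.cast_eq_zero_iff F p 2).mp h2'
    exact hp2 ((Nat.prime_dvd_prime_iff_eq hp Nat.prime_two).mp hd)
  have hN2 := helper51_eichN_sq (F := F) a b c d hab hac had hbc hbd hcd
  have hN3 := helper51_eichN_cube (F := F) a b c d hab hac had hbc hbd hcd
  generalize helper51_eichN F a b c d = N at hN2 hN3 ⊢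
  have hNp : N ^ p = 0 := by
    have h1 : N ^ p = N ^ 3 * N ^ (p - 3) := by
      rw [← pow_add]
      congr 1
      omega
    rw [h1, pow_succ, pow_two, hN3, zero_mul]
  have hMp : (1 + N) ^ p = 1 := by
    rw [add_pow_char_of_commute p (Commute.one_left N), hNp, one_pow, add_zero]
  refine ⟨Units.ofPowEqOne (1 + N) p hMp hp.ne_zero, rfl, Units.pow_ofPowEqOne hMp hp.ne_zero, ?_⟩
  have hval : ((Units.ofPowEqOne (1 + N) p hMp hp.ne_zero : GL ι F) : Matrix ι ι F) = 1 + N := rfl
  rw [hval]
  have hL : aeval (Matrix.toLin' (1 + N)) ((X - 1 : F[X]) ^ 2) = Matrix.toLin' (N * N) := by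
    rw [map_pow, map_sub, aeval_X, map_one, map_add, Matrix.toLin'_one, Matrix.toLin'_mul,
      pow_two]
    have h1 : (LinearMap.id + Matrix.toLin' N - 1 : Module.End F (ι → F)) = Matrix.toLin' N := by
      rw [← Module.End.one_eq_id]
      abel
    rw [h1]
    rfl
  rw [hL, hN2]
  have hker : LinearMap.ker (Matrix.toLin' ((-2 : F) • Matrix.single a b (1 : F))) =
      LinearMap.ker (LinearMap.proj (R := F) (φ := fun _ : ι => F) b) := by
    ext v
    simp only [LinearMap.mem_ker, Matrix.toLin'_apply, Matrix.smul_mulVec,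
      Matrix.single_mulVec_eq, LinearMap.proj_apply, one_mul]
    constructor
    · intro h
      have h1 := congrFun h a
      simp only [Pi.smul_apply, Pi.single_eq_same, smul_eq_mul, mul_one, Pi.zero_apply] at h1
      rcases mul_eq_zero.1 h1 with h2 | h2
      · exact absurd (neg_eq_zero.1 h2) h2F
      · exact h2
    · intro h
      rw [h, zero_smul, smul_zero]
  rw [hker]
  have hrn := LinearMap.finrank_range_add_finrank_ker
    (LinearMap.proj (R := F) (φ := fun _ : ι => F) b)
  rw [LinearMap.range_eq_top.2 (LinearMap.proj_surjective b), finrank_top,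
    Module.finrank_self, Module.finrank_fintype_fun_eq_card] at hrn
  omega

/-- EICHM (M/L): `r = p`, minus type. -/
theorem fe_eichler_minus {F : Type*} [Field F] (p : ℕ) [Fact p.Prime] [CharP F p] (hp2 : p ≠ 2)
    (m : ℕ) (hm : 2 ≤ m) (a b : F) :
    ∃ x : GL ((Fin m ⊕ Fin m) ⊕ Fin 2) F,
      x ∈ Cfsg.isometryGroup F (Cfsg.quadFormMinus m F a b) ∧ x ^ p = 1 ∧
      ∃ f : F[X], Odd (Module.finrank F (LinearMap.ker
        (aeval (Matrix.toLin' (x : Matrix ((Fin m ⊕ Fin m) ⊕ Fin 2) ((Fin m ⊕ Fin m) ⊕ Fin 2) F)) f))) := by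
  classical
  obtain ⟨k, rfl⟩ : ∃ k, m = k + 2 := ⟨m - 2, by omega⟩
  obtain ⟨x, hx, hxp, hfin⟩ := helper51_eich_exists (F := F) p hp2
    (Sum.inl (Sum.inl 0) : (Fin (k + 2) ⊕ Fin (k + 2)) ⊕ Fin 2) (Sum.inl (Sum.inr 0))
    (Sum.inl (Sum.inl 1)) (Sum.inl (Sum.inr 1)) (by simp) (by simp) (by simp) (by simp) (by simp)
    (by simp)
  refine ⟨x, ?_, hxp, (X - 1) ^ 2, ?_⟩
  · intro u v
    show Cfsg.quadFormMinus (k + 2) F a b ((x : Matrix _ _ F) *ᵥ u) =
      Cfsg.quadFormMinus (k + 2) F a b u
    rw [hx, helper51_eich_mulVec]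
    unfold Cfsg.quadFormMinus
    rw [Fin.sum_univ_succ, Fin.sum_univ_succ, Fin.sum_univ_succ, Fin.sum_univ_succ]
    simp [Fin.succ_succ_ne_one]
    ring
  · simp only [Fintype.card_sum, Fintype.card_fin] at hfin
    exact ⟨k + 2, by omega⟩

end Cfsg.Agent.Lib.helper96.FE
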