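import Mathlib
import Cfsg.Agent.Lib.helper51.TS4
import Cfsg.Agent.Lib.helper51.DihedralInv

/-!
# `S₃` acting on a `2`-group gives `S₄`

* `involves_s4_of_three_action` : if `y` (of odd order, acting with order `3`) and a `2`-element
  `a` inverting it modulo the centralizer normalize a `2`-subgroup `T` on which `y` acts
  nontrivially, then `S₄` is involved.
* explicit maps `S₃ → D₃` and `S₄ → S₃`.
-/

set_option autoImplicit false

namespace Cfsg.Agent.Lib.helper51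

open Cfsg

universe u

/-- A `2`-power element normalizing a nontrivial abelian subgroup of exponent `2` fixes a
nonidentity element of it. -/
theorem exists_fixed_of_two_pow {X : Type*} [Group X] (W : Subgroup X)
    (hWc : ∀ u ∈ W, ∀ v ∈ W, u * v = v * u) (hW2 : ∀ w ∈ W, w ^ 2 = 1) :
    ∀ (k : ℕ) (a : X), (∀ w ∈ W, a * w * a⁻¹ ∈ W) →
      (∀ w ∈ W, a ^ 2 ^ k * w * (a ^ 2 ^ k)⁻¹ = w) →
      ∀ w₀ ∈ W, w₀ ≠ 1 → ∃ w ∈ W, w ≠ 1 ∧ a * w * a⁻¹ = w := by
  intro k
  induction k with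
  | zero =>
    intro a _ hfix w₀ hw₀ hne
    refine ⟨w₀, hw₀, hne, ?_⟩
    have := hfix w₀ hw₀
    simpa using this
  | succ k ih =>
    intro a hinv hfix w₀ hw₀ hne
    have hinv2 : ∀ w ∈ W, a ^ 2 * w * (a ^ 2)⁻¹ ∈ W := by
      intro w hw
      have h1 := hinv _ (hinv w hw)
      have h2 : a ^ 2 * w * (a ^ 2)⁻¹ = a * (a * w * a⁻¹) * a⁻¹ := by rw [pow_two]; group
      rw [h2]; exact h1
    have hfix2 : ∀ w ∈ W, (a ^ 2) ^ 2 ^ k * w * ((a ^ 2) ^ 2 ^ k)⁻¹ = w := by
      intro w hw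
      have h1 := hfix w hw
      rw [← pow_mul, ← pow_succ']
      exact h1
    obtain ⟨w, hw, hw1, hwfix⟩ := ih (a ^ 2) hinv2 hfix2 w₀ hw₀ hne
    by_cases h : a * w * a⁻¹ = w
    · exact ⟨w, hw, hw1, h⟩
    · refine ⟨w * (a * w * a⁻¹), W.mul_mem hw (hinv w hw), ?_, ?_⟩
      · intro h1
        apply h
        have h2 : w * w = 1 := by rw [← pow_two]; exact hW2 w hw
        exact mul_left_cancel (h1.trans h2.symm)
      · have hwfix' : a * a * w * (a * a)⁻¹ = w := by rw [← pow_two]; exact hwfix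
        calc a * (w * (a * w * a⁻¹)) * a⁻¹
            = (a * w * a⁻¹) * (a * a * w * (a * a)⁻¹) := by group
          _ = (a * w * a⁻¹) * w := by rw [hwfix']
          _ = w * (a * w * a⁻¹) := hWc _ (hinv w hw) _ hw

/-- In a finite group, an element conjugating a subgroup into itself normalizes it. -/
theorem mem_normalizer_of_forall_conj_mem {X : Type*} [Group X] [Finite X] (H : Subgroup X)
    (g : X) (h : ∀ t ∈ H, g * t * g⁻¹ ∈ H) : g ∈ Subgroup.normalizer (H : Set X) := by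
  have hk : ∀ k : ℕ, ∀ t ∈ H, g ^ k * t * (g ^ k)⁻¹ ∈ H := by
    intro k
    induction k with
    | zero => intro t ht; simpa using ht
    | succ k ih =>
      intro t ht
      have h1 := h _ (ih t ht)
      have h2 : g ^ (k + 1) * t * (g ^ (k + 1))⁻¹ = g * (g ^ k * t * (g ^ k)⁻¹) * g⁻¹ := by
        rw [pow_succ']; group
      rw [h2]; exact h1
  rw [Subgroup.mem_normalizer_iff]
  intro t
  refine ⟨h t, fun ht => ?_⟩
  have hpos : 0 < orderOf g := orderOf_pos g
  have h1 := hk (orderOf g - 1) _ ht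
  have h2 : g ^ (orderOf g - 1) = g⁻¹ := by
    rw [eq_inv_iff_mul_eq_one, ← pow_succ, Nat.sub_add_cancel hpos, pow_orderOf_eq_one]
  rw [h2] at h1
  have h3 : g⁻¹ * (g * t * g⁻¹) * g⁻¹⁻¹ = t := by group
  rw [h3] at h1
  exact h1

/-- the order of a join with a normal subgroup divides the product of the orders -/
theorem card_sup_dvd_mul_of_normal {X : Type*} [Group X] (H K : Subgroup X) [K.Normal] :
    Nat.card ↥(H ⊔ K) ∣ Nat.card H * Nat.card K := by
  have h1 : K.relIndex (H ⊔ K) * Nat.card K = Nat.card ↥(H ⊔ K) := by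
    have := Subgroup.relIndex_mul_relIndex (⊥ : Subgroup X) K (H ⊔ K) bot_le le_sup_right
    rw [Subgroup.relIndex_bot_left, Subgroup.relIndex_bot_left] at this
    rw [mul_comm]; exact this
  rw [← h1, Subgroup.relIndex_sup_right]
  exact Nat.mul_dvd_mul_right (Subgroup.relIndex_dvd_card _ _) _

/-- **`S₃` on a normal `2`-subgroup gives `S₄`.** -/
theorem involves_s4_of_three_action_aux :
    ∀ (n : ℕ) (X : Type u) [Group X] [Finite X] (P : Subgroup X) [P.Normal],
      Nat.card X + Nat.card P = n → IsPGroup 2 P →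
      ∀ (y a : X), (∃ m : ℕ, Odd m ∧ y ^ m = 1) → y ∉ Subgroup.centralizer (P : Set X) →
        y ^ 3 ∈ Subgroup.centralizer (P : Set X) →
        (∃ k : ℕ, a ^ 2 ^ k ∈ Subgroup.centralizer (P : Set X)) →
        a * y * a⁻¹ * y ∈ Subgroup.centralizer (P : Set X) →
        Cfsg.Involves (Equiv.Perm (Fin 4)) X := by
  intro n
  induction n using Nat.strong_induction_on with
  | _ n ih =>
  intro X _ _ P hPn hn hP y a hodd hyC hy3 ha2 hay
  classical
  have : Fact (Nat.Prime 2) := ⟨Nat.prime_two⟩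
  obtain ⟨m, hm, hym⟩ := hodd
  by_cases hmin : ∃ M : Subgroup X, M.Normal ∧ M ≤ P ∧ M ≠ ⊥ ∧ M ≠ P
  · obtain ⟨M, hMn, hMP, hM0, hMne⟩ := hmin
    have hMlt : M < P := lt_of_le_of_ne hMP hMne
    by_cases hyM : y ∈ Subgroup.centralizer (M : Set X)
    · -- pass to the quotient
      obtain ⟨π, hπ⟩ : ∃ π : X →* X ⧸ M, π = QuotientGroup.mk' M := ⟨_, rfl⟩
      have hπs : Function.Surjective π := hπ ▸ QuotientGroup.mk'_surjective M
      have hπ1 : ∀ g : X, π g = 1 ↔ g ∈ M := fun g => by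
        rw [hπ, QuotientGroup.mk'_apply, QuotientGroup.eq_one_iff]
      have hPbar : (P.map π).Normal := hPn.map π hπs
      have hcent : ∀ g : X, g ∈ Subgroup.centralizer (P : Set X) →
          π g ∈ Subgroup.centralizer ((P.map π : Subgroup (X ⧸ M)) : Set (X ⧸ M)) := by
        intro g hg
        rw [Subgroup.mem_centralizer_iff]
        rintro _ ⟨q, hq, rfl⟩
        have := Subgroup.mem_centralizer_iff.1 hg q hq
        rw [← map_mul, ← map_mul, this]
      have hcard1 : Nat.card (X ⧸ M) < Nat.card X := by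
        rw [Subgroup.card_eq_card_quotient_mul_card_subgroup M]
        have h1 : 1 < Nat.card M := M.one_lt_card_iff_ne_bot.mpr hM0
        have h2 : 0 < Nat.card (X ⧸ M) := Nat.card_pos
        nlinarith
      have hcard2 : Nat.card (P.map π) ≤ Nat.card P :=
        Nat.le_of_dvd Nat.card_pos (Subgroup.card_map_dvd P π)
      have hybar : π y ∉ Subgroup.centralizer ((P.map π : Subgroup (X ⧸ M)) : Set (X ⧸ M)) := by
        intro hc
        apply hyC
        rw [Subgroup.mem_centralizer_iff]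
        intro u hu
        have h2 := Subgroup.mem_centralizer_iff.1 hc (π u) ⟨u, hu, rfl⟩
        have h1 : π (y * u * y⁻¹ * u⁻¹) = 1 := by
          simp only [map_mul, map_inv]
          rw [← h2]; group
        have hd : y * u * y⁻¹ * u⁻¹ ∈ M := (hπ1 _).1 h1
        have hconj : y * u * y⁻¹ = (y * u * y⁻¹ * u⁻¹) * u := by group
        have hcomm : y * (y * u * y⁻¹ * u⁻¹) = (y * u * y⁻¹ * u⁻¹) * y :=
          (Subgroup.mem_centralizer_iff.1 hyM _ hd).symm
        have hdm := pow_eq_one_of_conj_eq_mul hconj hcomm hym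
        obtain ⟨j, hj⟩ := (hP.to_le hMP) ⟨_, hd⟩
        have hj' : (y * u * y⁻¹ * u⁻¹) ^ 2 ^ j = 1 := by simpa using congrArg Subtype.val hj
        have hcop : Nat.Coprime (2 ^ j) m := Nat.Coprime.pow_left j (Nat.coprime_two_left.2 hm)
        have hd1 : y * u * y⁻¹ * u⁻¹ = 1 := by
          have h3 : orderOf (y * u * y⁻¹ * u⁻¹) ∣ Nat.gcd (2 ^ j) m :=
            Nat.dvd_gcd (orderOf_dvd_of_pow_eq_one hj') (orderOf_dvd_of_pow_eq_one hdm)
          rw [hcop.gcd_eq_one, Nat.dvd_one] at h3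
          exact orderOf_eq_one_iff.1 h3
        calc u * y = (y * u * y⁻¹ * u⁻¹)⁻¹ * (y * u) := by group
          _ = y * u := by rw [hd1]; group
      have h := ih (Nat.card (X ⧸ M) + Nat.card (P.map π)) (by omega) (X ⧸ M) (P.map π) rfl
        (hP.map π) (π y) (π a) ⟨m, hm, by rw [← map_pow, hym, map_one]⟩ hybar
        (by rw [← map_pow]; exact hcent _ hy3)
        (by obtain ⟨k, hk⟩ := ha2; exact ⟨k, by rw [← map_pow]; exact hcent _ hk⟩)
        (by have := hcent _ hay; simpa using this)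
      exact involves_of_involves_quotient M h
    · -- recurse on `M`
      have hcard : Nat.card M < Nat.card P := by
        by_contra hc
        exact hMne (Subgroup.eq_of_le_of_card_ge hMP (not_lt.mp hc))
      have hCle : Subgroup.centralizer (P : Set X) ≤ Subgroup.centralizer (M : Set X) :=
        Subgroup.centralizer_le hMP
      exact ih (Nat.card X + Nat.card M) (by omega) X M rfl (hP.to_le hMP) y a ⟨m, hm, hym⟩ hyM
        (hCle hy3) (by obtain ⟨k, hk⟩ := ha2; exact ⟨k, hCle hk⟩) (hCle hay)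
  · -- the minimal case
    have hmin' : ∀ M : Subgroup X, M.Normal → M ≤ P → M ≠ ⊥ → M = P := by
      intro M h1 h2 h3
      by_contra h4
      exact hmin ⟨M, h1, h2, h3, h4⟩
    have hP0 : P ≠ ⊥ := by
      rintro rfl
      apply hyC
      rw [Subgroup.mem_centralizer_iff]
      intro h hh
      have : h = 1 := Subgroup.mem_bot.1 hh
      rw [this, one_mul, mul_one]
    -- `P` is abelian
    have hPc : ∀ u ∈ P, ∀ v ∈ P, u * v = v * u := by
      have hCn : (Subgroup.centralizer (P : Set X)).Normal := Subgroup.normal_centralizer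
      have hMn : (P ⊓ Subgroup.centralizer (P : Set X)).Normal := Subgroup.normal_inf_normal _ _
      have hM0 : P ⊓ Subgroup.centralizer (P : Set X) ≠ ⊥ := by
        have hnt : Nontrivial ↥P := (Subgroup.nontrivial_iff_ne_bot P).2 hP0
        have hcn : Nontrivial ↥(Subgroup.center ↥P) := hP.center_nontrivial
        obtain ⟨z, hz⟩ := exists_ne (1 : ↥(Subgroup.center ↥P))
        intro hbot
        have hzM : ((z : ↥P) : X) ∈ P ⊓ Subgroup.centralizer (P : Set X) := by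
          refine Subgroup.mem_inf.2 ⟨(z : ↥P).2, Subgroup.mem_centralizer_iff.2 ?_⟩
          intro h hh
          have h1 := Subgroup.mem_center_iff.1 z.2 ⟨h, hh⟩
          exact congrArg Subtype.val h1
        rw [hbot, Subgroup.mem_bot] at hzM
        apply hz
        apply Subtype.ext
        apply Subtype.ext
        exact hzM
      have hM := hmin' _ hMn inf_le_left hM0
      intro u hu v hv
      have hu' : u ∈ P ⊓ Subgroup.centralizer (P : Set X) := by rw [hM]; exact hu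
      exact (Subgroup.mem_centralizer_iff.1 hu'.2 v hv).symm
    -- `P` has exponent two
    have hP2 : ∀ u ∈ P, u ^ 2 = 1 := by
      let M₂ : Subgroup X :=
        { carrier := {u | u ∈ P ∧ u ^ 2 = 1}
          one_mem' := ⟨P.one_mem, one_pow 2⟩
          mul_mem' := by
            rintro u v ⟨hu, hu2⟩ ⟨hv, hv2⟩
            refine ⟨P.mul_mem hu hv, ?_⟩
            have hc : Commute u v := hPc u hu v hv
            rw [hc.mul_pow, hu2, hv2, one_mul]
          inv_mem' := by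
            rintro u ⟨hu, hu2⟩
            exact ⟨P.inv_mem hu, by rw [inv_pow, hu2, inv_one]⟩ }
      have hM₂n : M₂.Normal := ⟨by
        rintro u ⟨hu, hu2⟩ g
        refine ⟨hPn.conj_mem u hu g, ?_⟩
        rw [conj_pow, hu2, mul_one, mul_inv_cancel]⟩
      have hM₂0 : M₂ ≠ ⊥ := by
        obtain ⟨k, hk⟩ := hP.exists_card_eq
        have hk0 : k ≠ 0 := by
          rintro rfl
          rw [pow_zero] at hk
          exact hP0 (Subgroup.card_eq_one.1 hk)
        obtain ⟨z, hz⟩ := exists_prime_orderOf_dvd_card' (G := ↥P) 2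
          (by rw [hk]; exact dvd_pow_self 2 hk0)
        intro hbot
        have hzM : (z : X) ∈ M₂ := ⟨z.2, by
          have h1 : z ^ 2 = 1 := by rw [← hz]; exact pow_orderOf_eq_one z
          simpa using congrArg Subtype.val h1⟩
        rw [hbot, Subgroup.mem_bot] at hzM
        have h1 : z = 1 := Subtype.ext hzM
        rw [h1, orderOf_one] at hz
        norm_num at hz
      have hM₂ := hmin' M₂ hM₂n (fun u hu => hu.1) hM₂0
      intro u hu
      have hu' : u ∈ M₂ := by rw [hM₂]; exact hu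
      exact hu'.2
    have hinvP : ∀ u ∈ P, u⁻¹ = u := by
      intro u hu
      rw [inv_eq_iff_mul_eq_one, ← pow_two]; exact hP2 u hu
    have hy3' : ∀ u ∈ P, y ^ 3 * u * (y ^ 3)⁻¹ = u := by
      intro u hu
      have h1 := Subgroup.mem_centralizer_iff.1 hy3 u hu
      rw [← h1]; group
    have hc' : ∀ u ∈ P, (a * y * a⁻¹ * y) * u * (a * y * a⁻¹ * y)⁻¹ = u := by
      intro u hu
      have h1 := Subgroup.mem_centralizer_iff.1 hay u hu
      rw [← h1]; group
    -- the subgroup `[P, y]`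
    let W : Subgroup X :=
      { carrier := {w | ∃ u ∈ P, w = u * (y * u * y⁻¹)}
        one_mem' := ⟨1, P.one_mem, by group⟩
        mul_mem' := by
          rintro _ _ ⟨u₁, hu₁, rfl⟩ ⟨u₂, hu₂, rfl⟩
          refine ⟨u₁ * u₂, P.mul_mem hu₁ hu₂, ?_⟩
          have h1 : (y * u₁ * y⁻¹) * u₂ = u₂ * (y * u₁ * y⁻¹) :=
            hPc _ (hPn.conj_mem u₁ hu₁ y) _ hu₂
          calc u₁ * (y * u₁ * y⁻¹) * (u₂ * (y * u₂ * y⁻¹))
              = u₁ * ((y * u₁ * y⁻¹) * u₂) * (y * u₂ * y⁻¹) := by group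
            _ = u₁ * (u₂ * (y * u₁ * y⁻¹)) * (y * u₂ * y⁻¹) := by rw [h1]
            _ = u₁ * u₂ * (y * (u₁ * u₂) * y⁻¹) := by group
        inv_mem' := by
          rintro _ ⟨u, hu, rfl⟩
          exact ⟨u, hu, hinvP _ (P.mul_mem hu (hPn.conj_mem u hu y))⟩ }
    have hWmem : ∀ w : X, w ∈ W ↔ ∃ u ∈ P, w = u * (y * u * y⁻¹) := fun w => Iff.rfl
    have hWP : W ≤ P := by
      intro w hw
      obtain ⟨u, hu, rfl⟩ := (hWmem w).1 hw
      exact P.mul_mem hu (hPn.conj_mem u hu y)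
    have haW : ∀ w ∈ W, a * w * a⁻¹ ∈ W := by
      intro w hw
      obtain ⟨u, hu, rfl⟩ := (hWmem w).1 hw
      have hq : y⁻¹ * (a * u * a⁻¹) * y ∈ P := by
        have := hPn.conj_mem _ (hPn.conj_mem u hu a) y⁻¹
        simpa using this
      have h1 := hc' _ hq
      rw [hWmem]
      refine ⟨y⁻¹ * (a * u * a⁻¹) * y, hq, ?_⟩
      calc a * (u * (y * u * y⁻¹)) * a⁻¹
          = (a * u * a⁻¹) * ((a * y * a⁻¹ * y) * (y⁻¹ * (a * u * a⁻¹) * y)
              * (a * y * a⁻¹ * y)⁻¹) := by group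
        _ = (a * u * a⁻¹) * (y⁻¹ * (a * u * a⁻¹) * y) := by rw [h1]
        _ = (y⁻¹ * (a * u * a⁻¹) * y) * (a * u * a⁻¹) := hPc _ (hPn.conj_mem u hu a) _ hq
        _ = y⁻¹ * (a * u * a⁻¹) * y * (y * (y⁻¹ * (a * u * a⁻¹) * y) * y⁻¹) := by group
    obtain ⟨u₀, hu₀, hne₀⟩ : ∃ u ∈ P, y * u * y⁻¹ ≠ u := by
      by_contra hcon
      push Not at hcon
      apply hyC
      rw [Subgroup.mem_centralizer_iff]
      intro u hu
      have h1 := hcon u hu
      calc u * y = (y * u * y⁻¹) * y := by rw [h1]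
        _ = y * u := by group
    have hw₀ : u₀ * (y * u₀ * y⁻¹) ∈ W := (hWmem _).2 ⟨u₀, hu₀, rfl⟩
    have hw₀1 : u₀ * (y * u₀ * y⁻¹) ≠ 1 := by
      intro h
      apply hne₀
      have h2 : y * u₀ * y⁻¹ = u₀⁻¹ := by
        rw [eq_comm, inv_eq_iff_mul_eq_one]; exact h
      rw [h2]; exact hinvP u₀ hu₀
    obtain ⟨k, hk⟩ := ha2
    have hfixk : ∀ w ∈ W, a ^ 2 ^ k * w * (a ^ 2 ^ k)⁻¹ = w := by
      intro w hw
      have h1 := Subgroup.mem_centralizer_iff.1 hk w (hWP hw)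
      rw [← h1]; group
    obtain ⟨v, hvW, hv1, hav⟩ := exists_fixed_of_two_pow W
      (fun u hu v hv => hPc u (hWP hu) v (hWP hv)) (fun w hw => hP2 w (hWP hw)) k a haW hfixk
      _ hw₀ hw₀1
    have hvP : v ∈ P := hWP hvW
    obtain ⟨u, hu, hvu⟩ := (hWmem v).1 hvW
    obtain ⟨v₁, hv₁⟩ : ∃ v₁, v₁ = y * v * y⁻¹ := ⟨_, rfl⟩
    have hv₁P : v₁ ∈ P := hv₁ ▸ hPn.conj_mem v hvP y
    have hθ : v * v₁ * (y * v₁ * y⁻¹) = 1 := by
      have hu1 : (y * u * y⁻¹) * (y * u * y⁻¹) = 1 := by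
        rw [← pow_two]; exact hP2 _ (hPn.conj_mem u hu y)
      have hu2 : (y ^ 2 * u * (y ^ 2)⁻¹) * (y ^ 2 * u * (y ^ 2)⁻¹) = 1 := by
        rw [← pow_two]; exact hP2 _ (hPn.conj_mem u hu _)
      have hu3 : y ^ 3 * u * (y ^ 3)⁻¹ = u := hy3' u hu
      have huu : u * u = 1 := by rw [← pow_two]; exact hP2 u hu
      calc v * v₁ * (y * v₁ * y⁻¹)
          = u * ((y * u * y⁻¹) * (y * u * y⁻¹))
              * ((y ^ 2 * u * (y ^ 2)⁻¹) * (y ^ 2 * u * (y ^ 2)⁻¹))
              * (y ^ 3 * u * (y ^ 3)⁻¹) := by rw [hv₁, hvu]; group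
        _ = u * u := by rw [hu1, hu2, hu3, mul_one, mul_one]
        _ = 1 := huu
    have hyv₁ : y * v₁ * y⁻¹ = v * v₁ := by
      have h1 : y * v₁ * y⁻¹ = (v * v₁)⁻¹ := by
        rw [eq_comm, inv_eq_iff_mul_eq_one]; exact hθ
      rw [h1]; exact hinvP _ (P.mul_mem hvP hv₁P)
    have hvv : v * v = 1 := by rw [← pow_two]; exact hP2 v hvP
    have hv₁ne : v₁ ≠ v := by
      intro h
      have h2 : y * v₁ * y⁻¹ = v := by rw [h, ← hv₁, h]
      rw [h2, h, hvv, one_mul] at hθ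
      exact hv1 hθ
    have hav₁ : a * v₁ * a⁻¹ = v * v₁ := by
      have hq : y⁻¹ * v * y ∈ P := by
        have := hPn.conj_mem v hvP y⁻¹
        simpa using this
      have h1 := hc' _ hq
      have h3 := hy3' _ hq
      calc a * v₁ * a⁻¹
          = (a * y * a⁻¹ * y) * (y⁻¹ * (a * v * a⁻¹) * y) * (a * y * a⁻¹ * y)⁻¹ := by
            rw [hv₁]; group
        _ = (a * y * a⁻¹ * y) * (y⁻¹ * v * y) * (a * y * a⁻¹ * y)⁻¹ := by rw [hav]
        _ = y⁻¹ * v * y := h1
        _ = y ^ 3 * (y⁻¹ * v * y) * (y ^ 3)⁻¹ := h3.symm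
        _ = y * (y * v * y⁻¹) * y⁻¹ := by rw [pow_succ, pow_two]; group
        _ = y * v₁ * y⁻¹ := by rw [hv₁]
        _ = v * v₁ := hyv₁
    -- the four-group
    obtain ⟨T₀, hT₀⟩ : ∃ T₀ : Subgroup X, T₀ = Subgroup.zpowers v ⊔ Subgroup.zpowers v₁ :=
      ⟨_, rfl⟩
    have hvT : v ∈ T₀ := hT₀ ▸ (le_sup_left : Subgroup.zpowers v ≤ _) (Subgroup.mem_zpowers v)
    have hv₁T : v₁ ∈ T₀ := hT₀ ▸ (le_sup_right : Subgroup.zpowers v₁ ≤ _) (Subgroup.mem_zpowers v₁)
    have hT₀P : T₀ ≤ P := by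
      rw [hT₀]
      exact sup_le (Subgroup.zpowers_le.2 hvP) (Subgroup.zpowers_le.2 hv₁P)
    have hT₀card : Nat.card T₀ ≤ 4 := by
      -- inside `P`, where every subgroup is normal
      have hKn : (Subgroup.zpowers (⟨v₁, hv₁P⟩ : ↥P)).Normal := ⟨by
        intro n hn g
        have h1 : g * n * g⁻¹ = n := by
          have h2 : (g : X) * (n : X) = (n : X) * (g : X) := hPc _ g.2 _ n.2
          apply Subtype.ext
          show (g : X) * (n : X) * (g : X)⁻¹ = (n : X)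
          rw [h2]; group
        rw [h1]; exact hn⟩
      have h1 := card_sup_dvd_mul_of_normal (Subgroup.zpowers (⟨v, hvP⟩ : ↥P))
        (Subgroup.zpowers (⟨v₁, hv₁P⟩ : ↥P))
      rw [Nat.card_zpowers, Nat.card_zpowers] at h1
      have h2 : orderOf (⟨v, hvP⟩ : ↥P) ∣ 2 := orderOf_dvd_of_pow_eq_one (by
        apply Subtype.ext; show v ^ 2 = 1; exact hP2 v hvP)
      have h3 : orderOf (⟨v₁, hv₁P⟩ : ↥P) ∣ 2 := orderOf_dvd_of_pow_eq_one (by
        apply Subtype.ext; show v₁ ^ 2 = 1; exact hP2 v₁ hv₁P)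
      have h4 : Nat.card ↥(Subgroup.zpowers (⟨v, hvP⟩ : ↥P) ⊔ Subgroup.zpowers (⟨v₁, hv₁P⟩ : ↥P)) ∣ 4 :=
        h1.trans (Nat.mul_dvd_mul h2 h3)
      have h5 : T₀ = (Subgroup.zpowers (⟨v, hvP⟩ : ↥P) ⊔
          Subgroup.zpowers (⟨v₁, hv₁P⟩ : ↥P)).map P.subtype := by
        rw [Subgroup.map_sup, MonoidHom.map_zpowers, MonoidHom.map_zpowers, hT₀]
        rfl
      rw [h5, Subgroup.card_map_of_injective P.subtype_injective]
      exact Nat.le_of_dvd (by norm_num) h4
    have hnorm : ∀ g : X, g * v * g⁻¹ ∈ T₀ → g * v₁ * g⁻¹ ∈ T₀ →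
        g ∈ Subgroup.normalizer (T₀ : Set X) := by
      intro g h1 h2
      apply mem_normalizer_of_forall_conj_mem
      have hle : T₀ ≤ T₀.comap (MulAut.conj g).toMonoidHom := by
        rw [hT₀]
        refine sup_le (Subgroup.zpowers_le.2 ?_) (Subgroup.zpowers_le.2 ?_)
        · rw [← hT₀]; exact h1
        · rw [← hT₀]; exact h2
      intro t ht
      exact hle ht
    have hyN : y ∈ Subgroup.normalizer (T₀ : Set X) :=
      hnorm y (by rw [← hv₁]; exact hv₁T) (by rw [hyv₁]; exact T₀.mul_mem hvT hv₁T)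
    have haN : a ∈ Subgroup.normalizer (T₀ : Set X) :=
      hnorm a (by rw [hav]; exact hvT) (by rw [hav₁]; exact T₀.mul_mem hvT hv₁T)
    have hTn : (T₀.subgroupOf (Subgroup.normalizer (T₀ : Set X))).Normal :=
      Subgroup.normal_in_normalizer
    have hres := involves_s4_of_four_group (X := ↥(Subgroup.normalizer (T₀ : Set X)))
      (T₀.subgroupOf (Subgroup.normalizer (T₀ : Set X)))
      (by
        intro t ht
        apply Subtype.ext
        show ((t : X)) ^ 2 = 1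
        exact hP2 _ (hT₀P (Subgroup.mem_subgroupOf.1 ht)))
      (by
        rw [Nat.card_congr (Subgroup.subgroupOfEquivOfLe (Subgroup.le_normalizer)).toEquiv]
        exact hT₀card)
      ⟨y, hyN⟩ ⟨a, haN⟩
      ⟨m, hm, Subtype.ext (by simpa using hym)⟩
      ⟨⟨v, Subgroup.le_normalizer hvT⟩, Subgroup.mem_subgroupOf.2 hvT, by
        intro h
        have h1 := congrArg Subtype.val h
        have h2 : y * v * y⁻¹ = v := by simpa using h1
        exact hv₁ne (hv₁.trans h2)⟩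
      (by
        rw [Subgroup.mem_centralizer_iff]
        intro t ht
        apply Subtype.ext
        have h1 := Subgroup.mem_centralizer_iff.1 hay (t : X)
          (hT₀P (Subgroup.mem_subgroupOf.1 ht))
        simpa using h1)
    exact involves_of_involves_subgroup _ hres


/-- centralizer of `T.subgroupOf N` inside `N` -/
theorem mem_centralizer_subgroupOf_iff {G : Type*} [Group G] {T N : Subgroup G} (hTN : T ≤ N)
    (g : ↥N) : g ∈ Subgroup.centralizer ((T.subgroupOf N : Subgroup ↥N) : Set ↥N) ↔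
      (g : G) ∈ Subgroup.centralizer (T : Set G) := by
  rw [Subgroup.mem_centralizer_iff, Subgroup.mem_centralizer_iff]
  constructor
  · intro h t ht
    have := h ⟨t, hTN ht⟩ (Subgroup.mem_subgroupOf.2 ht)
    exact congrArg Subtype.val this
  · intro h t ht
    apply Subtype.ext
    exact h (t : G) (Subgroup.mem_subgroupOf.1 ht)

/-- **`S₃` on a `2`-subgroup gives `S₄`.** If an element `y` of odd order and an element `a` of
`2`-power order modulo `C(T)` normalize the `2`-subgroup `T`, `y` acts on `T` with order `3` and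
`a` inverts `y` modulo `C(T)`, then `S₄` is involved. -/
theorem involves_s4_of_three_action {G : Type u} [Group G] [Finite G] (T : Subgroup G)
    (hT : IsPGroup 2 T) (y a : G) (hyN : y ∈ Subgroup.normalizer (T : Set G))
    (haN : a ∈ Subgroup.normalizer (T : Set G)) (hodd : ∃ m : ℕ, Odd m ∧ y ^ m = 1)
    (hyC : y ∉ Subgroup.centralizer (T : Set G)) (hy3 : y ^ 3 ∈ Subgroup.centralizer (T : Set G))
    (ha2 : ∃ k : ℕ, a ^ 2 ^ k ∈ Subgroup.centralizer (T : Set G))
    (hay : a * y * a⁻¹ * y ∈ Subgroup.centralizer (T : Set G)) :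
    Cfsg.Involves (Equiv.Perm (Fin 4)) G := by
  have hTn : (T.subgroupOf (Subgroup.normalizer (T : Set G))).Normal :=
    Subgroup.normal_in_normalizer
  have hTp : IsPGroup 2 (T.subgroupOf (Subgroup.normalizer (T : Set G))) :=
    hT.comap_of_injective _ (Subgroup.subtype_injective _)
  have hle : T ≤ Subgroup.normalizer (T : Set G) := Subgroup.le_normalizer
  obtain ⟨m, hm, hym⟩ := hodd
  obtain ⟨k, hk⟩ := ha2
  have h := involves_s4_of_three_action_aux _ ↥(Subgroup.normalizer (T : Set G))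
    (T.subgroupOf (Subgroup.normalizer (T : Set G))) rfl hTp ⟨y, hyN⟩ ⟨a, haN⟩
    ⟨m, hm, Subtype.ext (by simpa using hym)⟩
    (fun hc => hyC ((mem_centralizer_subgroupOf_iff hle _).1 hc))
    ((mem_centralizer_subgroupOf_iff hle _).2 (by simpa using hy3))
    ⟨k, (mem_centralizer_subgroupOf_iff hle _).2 (by simpa using hk)⟩
    ((mem_centralizer_subgroupOf_iff hle _).2 (by simpa using hay))
  exact involves_of_involves_subgroup _ h

/-! ### `S₃ ≃ D₃` -/

/-- an explicit isomorphism `S₃ → D₃` -/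
def s3ToD3Fun (σ : Equiv.Perm (Fin 3)) : DihedralGroup 3 :=
  if σ 1 = σ 0 + 1 then DihedralGroup.r (σ 0) else DihedralGroup.sr (-(σ 0))

theorem s3ToD3Fun_mul :
    ∀ σ τ : Equiv.Perm (Fin 3), s3ToD3Fun (σ * τ) = s3ToD3Fun σ * s3ToD3Fun τ := by
  decide

theorem s3ToD3Fun_surj : ∀ d : DihedralGroup 3, ∃ σ : Equiv.Perm (Fin 3), s3ToD3Fun σ = d := by
  decide

theorem s3ToD3Fun_inj :
    ∀ σ τ : Equiv.Perm (Fin 3), s3ToD3Fun σ = s3ToD3Fun τ → σ = τ := by
  decide

/-- the homomorphism `S₃ → D₃` -/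
def s3ToD3 : Equiv.Perm (Fin 3) →* DihedralGroup 3 := MonoidHom.mk' s3ToD3Fun s3ToD3Fun_mul

theorem s3ToD3_surjective : Function.Surjective s3ToD3 := s3ToD3Fun_surj

/-- `S₃ ≃* D₃` -/
noncomputable def s3EquivD3 : Equiv.Perm (Fin 3) ≃* DihedralGroup 3 :=
  MulEquiv.ofBijective s3ToD3 ⟨fun σ τ h => s3ToD3Fun_inj σ τ h, s3ToD3_surjective⟩

/-- If `S₃` is involved in a finite group, some `2`-element inverts a nonidentity `3`-element. -/
theorem exists_inverting_of_involves_s3 {Q : Type*} [Group Q] [Finite Q]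
    (h : Cfsg.Involves (Equiv.Perm (Fin 3)) Q) :
    ∃ x y : Q, (∃ k : ℕ, orderOf x = 2 ^ k) ∧ (∃ k : ℕ, orderOf y = 3 ^ k) ∧ y ≠ 1 ∧
      x * y * x⁻¹ = y⁻¹ := by
  have : Fact (Nat.Prime 3) := ⟨Nat.prime_three⟩
  obtain ⟨K, π, hπ⟩ := exists_surjective_of_involves h
  obtain ⟨x, P, ⟨k, hk⟩, hP, hxN, hxC⟩ := exists_two_element_normalizing_of_surjective (p := 3)
    (by norm_num) (s3ToD3.comp π) (s3ToD3_surjective.comp hπ)
  obtain ⟨x', y', ⟨k', hx'⟩, ⟨j, hy'⟩, hy1, hxy⟩ := exists_inverting_of_normalizing k x P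
    (by rw [← hk]; exact pow_orderOf_eq_one x) hP hxN hxC
  refine ⟨(x' : Q), (y' : Q), ⟨k', ?_⟩, ⟨j, ?_⟩, ?_, ?_⟩
  · rw [Subgroup.orderOf_coe]; exact hx'
  · rw [Subgroup.orderOf_coe]; exact hy'
  · intro h1
    exact hy1 (Subtype.ext h1)
  · have := congrArg Subtype.val hxy
    simpa using this

/-- If some element inverts a nonidentity `3`-element, then `S₃` is involved. -/
theorem involves_s3_of_inverting {Q : Type*} [Group Q] {x y : Q}
    (hy : ∃ k : ℕ, orderOf y = 3 ^ k) (hy1 : y ≠ 1) (hxy : x * y * x⁻¹ = y⁻¹) :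
    Cfsg.Involves (Equiv.Perm (Fin 3)) Q := by
  have : Fact (Nat.Prime 3) := ⟨Nat.prime_three⟩
  exact involves_of_mulEquiv s3EquivD3.symm
    (involves_dihedral_of_inverting (p := 3) (by norm_num) hy hy1 hxy)

/-! ### `S₄ → S₃` -/

/-- the action of `S₄` on the three pairings of four points -/
def s4ToS3Fun (σ : Equiv.Perm (Fin 4)) (i : Fin 3) : Fin 3 :=
  ⟨(if (σ 3).val = 3 then (σ (Fin.castSucc i)).val else
      if (σ (Fin.castSucc i)).val = 3 then (σ 3).val else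
        3 - (σ (Fin.castSucc i)).val - (σ 3).val) % 3, Nat.mod_lt _ (by norm_num)⟩

theorem s4ToS3Fun_inv :
    ∀ (σ : Equiv.Perm (Fin 4)) (i : Fin 3), s4ToS3Fun σ⁻¹ (s4ToS3Fun σ i) = i := by
  decide

theorem s4ToS3Fun_mul : ∀ (σ τ : Equiv.Perm (Fin 4)) (i : Fin 3),
    s4ToS3Fun (σ * τ) i = s4ToS3Fun σ (s4ToS3Fun τ i) := by
  decide

theorem s4ToS3Fun_one : ∀ i : Fin 3, s4ToS3Fun 1 i = i := by
  decide

theorem s4ToS3Fun_surj : ∀ τ : Equiv.Perm (Fin 3), ∃ σ : Equiv.Perm (Fin 4),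
    ∀ i : Fin 3, s4ToS3Fun σ i = τ i := by
  decide

theorem s4ToS3Fun_ker_sq : ∀ σ : Equiv.Perm (Fin 4), (∀ i : Fin 3, s4ToS3Fun σ i = i) →
    σ ^ 2 = 1 := by
  decide

theorem s4ToS3Fun_ker_centralizer : ∀ σ : Equiv.Perm (Fin 4),
    (∀ τ : Equiv.Perm (Fin 4), (∀ i : Fin 3, s4ToS3Fun τ i = i) → σ * τ = τ * σ) →
    ∀ i : Fin 3, s4ToS3Fun σ i = i := by
  decide

/-- the homomorphism `S₄ → S₃` with kernel the Klein four-group -/
def s4ToS3 : Equiv.Perm (Fin 4) →* Equiv.Perm (Fin 3) where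
  toFun σ := ⟨s4ToS3Fun σ, s4ToS3Fun σ⁻¹, s4ToS3Fun_inv σ, fun i => by
    have := s4ToS3Fun_inv σ⁻¹ i
    rwa [inv_inv] at this⟩
  map_one' := Equiv.ext s4ToS3Fun_one
  map_mul' σ τ := Equiv.ext (s4ToS3Fun_mul σ τ)

theorem s4ToS3_apply (σ : Equiv.Perm (Fin 4)) (i : Fin 3) : s4ToS3 σ i = s4ToS3Fun σ i := rfl

theorem s4ToS3_eq_one_iff (σ : Equiv.Perm (Fin 4)) :
    s4ToS3 σ = 1 ↔ ∀ i : Fin 3, s4ToS3Fun σ i = i := by
  constructor
  · intro h i
    rw [← s4ToS3_apply, h]; rfl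
  · intro h
    exact Equiv.ext h

theorem s4ToS3_surjective : Function.Surjective s4ToS3 := by
  intro τ
  obtain ⟨σ, hσ⟩ := s4ToS3Fun_surj τ
  exact ⟨σ, Equiv.ext hσ⟩

theorem s4ToS3_ker_sq {σ : Equiv.Perm (Fin 4)} (h : s4ToS3 σ = 1) : σ ^ 2 = 1 :=
  s4ToS3Fun_ker_sq σ ((s4ToS3_eq_one_iff σ).1 h)

theorem s4ToS3_eq_one_of_commute {σ : Equiv.Perm (Fin 4)}
    (h : ∀ τ : Equiv.Perm (Fin 4), s4ToS3 τ = 1 → σ * τ = τ * σ) : s4ToS3 σ = 1 :=
  (s4ToS3_eq_one_iff σ).2 (s4ToS3Fun_ker_centralizer σ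
    (fun τ hτ => h τ ((s4ToS3_eq_one_iff τ).2 hτ)))

/-- an odd-order element with the same image, when the image has odd order -/
theorem exists_odd_pow_lift {A B : Type*} [Group A] [Finite A] [Group B] (π : A →* B) (y₀ : A)
    {r : ℕ} (hr : Odd r) (h : π y₀ ^ r = 1) :
    ∃ y : A, (∃ m : ℕ, Odd m ∧ y ^ m = 1) ∧ π y = π y₀ := by
  have ho : orderOf y₀ ≠ 0 := (orderOf_pos y₀).ne'
  obtain ⟨e, m', hm', he⟩ := Nat.exists_eq_two_pow_mul_odd ho
  have hcop2 : Nat.Coprime (2 ^ e) (orderOf (π y₀)) := by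
    have h1 : orderOf (π y₀) ∣ r := orderOf_dvd_of_pow_eq_one h
    exact Nat.Coprime.coprime_dvd_right h1 (Nat.Coprime.pow_left e (Nat.coprime_two_left.2 hr))
  obtain ⟨t, ht⟩ := exists_pow_eq_self_of_coprime hcop2
  refine ⟨(y₀ ^ 2 ^ e) ^ t, ⟨m', hm', ?_⟩, ?_⟩
  · rw [← pow_mul, ← pow_mul, show 2 ^ e * (t * m') = orderOf y₀ * t by rw [he]; ring,
      pow_mul, pow_orderOf_eq_one, one_pow]
  · rw [map_pow, map_pow]
    exact ht

end Cfsg.Agent.Lib.helper51
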