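import Mathlib
import Cfsg.Prelude.Def_Solvable
import Cfsg.Prelude.Def_Transfer
import Cfsg.Agent.Lib.helper51.GCore
import Cfsg.Agent.Lib.helper51.S4Crit
import Cfsg.Agent.Lib.helper91.BaerSuzuki

/-!
# Glauberman's factorization for `2`-constrained `S₄`-free groups, Sylow `2`-subgroups of class `≤ 2`

The core: if `X` is `S₄`-free, all `2`-subgroups of `X` have class at most `2`, `Q` is a normal
`2`-subgroup with `C_X(Q) ≤ Q`, and `A` is an elementary abelian `2`-subgroup of largest order,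
then `A` lies in a normal `2`-subgroup.

The proof is by a minimal counterexample: by Baer–Suzuki `X = ⟨A, B⟩ Q` for a conjugate `B` of `A`;
then in `W = Ω₁(Z(Q))` one finds a plane on which `⟨a, b⟩` acts as `S₃`, giving `S₄`.
-/

set_option autoImplicit false

namespace Cfsg.Agent.Lib.helper51

open scoped commutatorElement

section gcons

universe u

variable {X : Type u} [Group X]

/-- `|H| |K| ≤ |H ⊔ K| |H ⊓ K|`. -/
theorem card_mul_card_le_sup_inf [Finite X] (H K : Subgroup X) :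
    Nat.card H * Nat.card K ≤ Nat.card ↥(H ⊔ K) * Nat.card ↥(H ⊓ K) := by
  have h1 : Nat.card ↥(H ⊓ K) * (H ⊓ K).relIndex H = Nat.card H := by
    have := Subgroup.relIndex_mul_relIndex (⊥ : Subgroup X) (H ⊓ K) H bot_le inf_le_left
    rwa [Subgroup.relIndex_bot_left, Subgroup.relIndex_bot_left] at this
  have h2 : Nat.card K * K.relIndex (H ⊔ K) = Nat.card ↥(H ⊔ K) := by
    have := Subgroup.relIndex_mul_relIndex (⊥ : Subgroup X) K (H ⊔ K) bot_le le_sup_right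
    rwa [Subgroup.relIndex_bot_left, Subgroup.relIndex_bot_left] at this
  have h3 : (H ⊓ K).relIndex H = K.relIndex H := Subgroup.inf_relIndex_left H K
  have h4 : K.relIndex H ≤ K.relIndex (H ⊔ K) := by
    apply Subgroup.relIndex_le_of_le_right le_sup_left
    intro h0
    rw [h0, mul_zero] at h2
    exact Nat.card_pos.ne' h2.symm
  calc Nat.card H * Nat.card K
      = Nat.card ↥(H ⊓ K) * K.relIndex H * Nat.card K := by rw [← h1, h3]
    _ ≤ Nat.card ↥(H ⊓ K) * K.relIndex (H ⊔ K) * Nat.card K :=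
        Nat.mul_le_mul_right _ (Nat.mul_le_mul_left _ h4)
    _ = Nat.card ↥(H ⊔ K) * Nat.card ↥(H ⊓ K) := by rw [← h2]; ring

theorem word_aux1 {u v c : X} (huv : u * v = v * u) (hcu : c * u = u * c)
    (hu : u * u = 1) : (u * v) * c * u = v * c := by
  calc (u * v) * c * u = u * v * (c * u) := by group
    _ = u * v * (u * c) := by rw [hcu]
    _ = u * (v * u) * c := by group
    _ = u * (u * v) * c := by rw [← huv]
    _ = (u * u) * v * c := by group
    _ = v * c := by rw [hu, one_mul]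

theorem word_aux2 {u v c : X} (huv : u * v = v * u) (hcu : c * u = u * c) (hcv : c * v = v * c)
    (hv : v * v = 1) (hc : c * c = 1) : (v * c) * (u * v) * c = u := by
  calc (v * c) * (u * v) * c = v * (c * u) * v * c := by group
    _ = v * (u * c) * v * c := by rw [hcu]
    _ = (v * u) * (c * v) * c := by group
    _ = (u * v) * (v * c) * c := by rw [← huv, hcv]
    _ = u * (v * v) * (c * c) := by group
    _ = u := by rw [hv, hc, mul_one, mul_one]

theorem word_aux3 {u v c : X} (huv : u * v = v * u) (hcu : c * u = u * c) (hcv : c * v = v * c)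
    (hv : v * v = 1) : (v * c) * (u * v) = u * c := by
  calc (v * c) * (u * v) = v * (c * u) * v := by group
    _ = v * (u * c) * v := by rw [hcu]
    _ = (v * u) * (c * v) := by group
    _ = (u * v) * (v * c) := by rw [← huv, hcv]
    _ = u * (v * v) * c := by group
    _ = u * c := by rw [hv, mul_one]

/-- The minimal configuration in the proof of Glauberman's factorization for constrained groups. -/
structure GConf (Q A B : Subgroup X) : Prop where
  hQn : Q.Normal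
  hQp : IsPGroup 2 Q
  hQmax : ∀ R : Subgroup X, R.Normal → IsPGroup 2 R → R ≤ Q
  hCQ : Subgroup.centralizer (Q : Set X) ≤ Q
  hcl : ∀ T : Subgroup X, IsPGroup 2 T → ∀ s₁ ∈ T, ∀ s₂ ∈ T, ∀ s₃ ∈ T, ⁅⁅s₁, s₂⁆, s₃⁆ = 1
  hAc : ∀ a ∈ A, ∀ a' ∈ A, a * a' = a' * a
  hA2 : ∀ a ∈ A, a ^ 2 = 1
  hBc : ∀ b ∈ B, ∀ b' ∈ B, b * b' = b' * b
  hB2 : ∀ b ∈ B, b ^ 2 = 1
  hAmax : ∀ C : Subgroup X, (∀ c ∈ C, ∀ c' ∈ C, c * c' = c' * c) → (∀ c ∈ C, c ^ 2 = 1) →
    Nat.card C ≤ Nat.card A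
  hcard : Nat.card A = Nat.card B
  hcardQ : Nat.card ↥(A ⊓ Q) = Nat.card ↥(B ⊓ Q)
  hgen : ∀ Y : Subgroup X, A ≤ Y → B ≤ Y → Q ≤ Y → Y = ⊤
  hconj : ∀ K : Subgroup X, K.Normal → (A ≤ K ↔ B ≤ K)
  hnot : ¬ IsPGroup 2 ↥(A ⊔ B)
  hIHA : ∀ Y : Subgroup X, Y ≠ ⊤ → A ≤ Y → Q ≤ Y →
    ∃ R : Subgroup X, IsPGroup 2 R ∧ A ≤ R ∧ R ≤ Y ∧ Y ≤ Subgroup.normalizer (R : Set X)
  hIHB : ∀ Y : Subgroup X, Y ≠ ⊤ → B ≤ Y → Q ≤ Y →
    ∃ R : Subgroup X, IsPGroup 2 R ∧ B ≤ R ∧ R ≤ Y ∧ Y ≤ Subgroup.normalizer (R : Set X)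

namespace GConf

variable {Q A B : Subgroup X}

theorem symm (h : GConf Q A B) : GConf Q B A where
  hQn := h.hQn
  hQp := h.hQp
  hQmax := h.hQmax
  hCQ := h.hCQ
  hcl := h.hcl
  hAc := h.hBc
  hA2 := h.hB2
  hBc := h.hAc
  hB2 := h.hA2
  hAmax := fun C hC hC2 => h.hcard ▸ h.hAmax C hC hC2
  hcard := h.hcard.symm
  hcardQ := h.hcardQ.symm
  hgen := fun Y hB hA hQ => h.hgen Y hA hB hQ
  hconj := fun K hK => (h.hconj K hK).symm
  hnot := fun hp => h.hnot (by rwa [sup_comm])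
  hIHA := h.hIHB
  hIHB := h.hIHA

theorem isPGroup_A (h : GConf Q A B) : IsPGroup 2 A := by
  rintro ⟨a, ha⟩
  exact ⟨1, Subtype.ext (by simpa using h.hA2 a ha)⟩

theorem isPGroup_AQ (h : GConf Q A B) : IsPGroup 2 ↥(A ⊔ Q) := by
  have := h.hQn
  exact h.isPGroup_A.to_sup_of_normal_right h.hQp

/-- commutators of elements of a `2`-subgroup containing `Q` lie in `Q` -/
theorem comm_mem_Q (h : GConf Q A B) {T : Subgroup X} (hT : IsPGroup 2 T) (hQT : Q ≤ T)
    {s t : X} (hs : s ∈ T) (ht : t ∈ T) : ⁅s, t⁆ ∈ Q := by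
  apply h.hCQ
  rw [Subgroup.mem_centralizer_iff]
  intro q hq
  have h1 := h.hcl T hT s hs t ht q (hQT hq)
  exact (commutatorElement_eq_one_iff_mul_comm.1 h1).symm

/-- quadratic action on `W = Ω₁(Z(Q))` -/
theorem quad (h : GConf Q A B) {w a a' : X} (hw : w ∈ Q) (ha : a ∈ A) (ha' : a' ∈ A) :
    a' * ⁅a, w⁆ = ⁅a, w⁆ * a' := by
  have h1 := h.hcl (A ⊔ Q) h.isPGroup_AQ a ((le_sup_left : A ≤ A ⊔ Q) ha) w
    ((le_sup_right : Q ≤ A ⊔ Q) hw) a' ((le_sup_left : A ≤ A ⊔ Q) ha')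
  exact (commutatorElement_eq_one_iff_mul_comm.1 h1).symm

/-- `X` acts trivially on `Q / Z(Q)` -/
theorem comm_mem_zOf (h : GConf Q A B) (x : X) {q : X} (hq : q ∈ Q) : ⁅x, q⁆ ∈ zOf Q := by
  have hQn := h.hQn
  have hZn : (zOf Q).Normal := zOf_normal Q
  have hQmap : (Q.map (QuotientGroup.mk' (zOf Q))).Normal :=
    hQn.map _ (QuotientGroup.mk'_surjective (zOf Q))
  set E : Subgroup X := (Subgroup.centralizer
    ((Q.map (QuotientGroup.mk' (zOf Q)) : Subgroup (X ⧸ zOf Q)) : Set (X ⧸ zOf Q))).comap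
      (QuotientGroup.mk' (zOf Q)) with hE
  have hmemE : ∀ x : X, x ∈ E ↔ ∀ k ∈ Q, ⁅x, k⁆ ∈ zOf Q := by
    intro x
    rw [hE, Subgroup.mem_comap, Subgroup.mem_centralizer_iff]
    constructor
    · intro h k hk
      have h1 := h _ ⟨k, hk, rfl⟩
      rw [← QuotientGroup.eq_one_iff, ← QuotientGroup.mk'_apply, map_commutatorElement,
        commutatorElement_eq_one_iff_mul_comm]
      exact h1.symm
    · rintro h _ ⟨k, hk, rfl⟩
      have h1 := h k hk
      rw [← QuotientGroup.eq_one_iff, ← QuotientGroup.mk'_apply, map_commutatorElement,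
        commutatorElement_eq_one_iff_mul_comm] at h1
      exact h1.symm
  have key : ∀ {A' B' : Subgroup X}, GConf Q A' B' → A' ≤ E := by
    intro A' B' h' a ha
    rw [hmemE]
    intro k hk
    rw [mem_zOf]
    refine ⟨?_, fun t ht => ?_⟩
    · have : ⁅a, k⁆ = (a * k * a⁻¹) * k⁻¹ := by rw [commutatorElement_def]
      rw [this]
      exact Q.mul_mem (hQn.conj_mem k hk a) (Q.inv_mem hk)
    · have h1 := h'.hcl (A' ⊔ Q) h'.isPGroup_AQ a ((le_sup_left : A' ≤ A' ⊔ Q) ha) k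
        ((le_sup_right : Q ≤ A' ⊔ Q) hk) t ((le_sup_right : Q ≤ A' ⊔ Q) ht)
      exact (commutatorElement_eq_one_iff_mul_comm.1 h1).symm
  have hQE : Q ≤ E := by
    intro a ha
    rw [hmemE]
    intro k hk
    rw [mem_zOf]
    refine ⟨?_, fun t ht => ?_⟩
    · have : ⁅a, k⁆ = (a * k * a⁻¹) * k⁻¹ := by rw [commutatorElement_def]
      rw [this]
      exact Q.mul_mem (hQn.conj_mem k hk a) (Q.inv_mem hk)
    · have h1 := h.hcl Q h.hQp a ha k hk t ht
      exact (commutatorElement_eq_one_iff_mul_comm.1 h1).symm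
  have hEtop : E = ⊤ := h.hgen E (key h) (key h.symm) hQE
  have hx : x ∈ E := by rw [hEtop]; exact Subgroup.mem_top x
  exact (hmemE x).1 hx q hq

/-- `C_X(W) ≤ Q` for `W = Ω₁(Z(Q))` -/
theorem centralizer_W_le [Finite X] (h : GConf Q A B) {x : X}
    (hx : ∀ w ∈ omegaZ 2 Q, x * w = w * x) : x ∈ Q := by
  have : Fact (Nat.Prime 2) := ⟨Nat.prime_two⟩
  have hQn := h.hQn
  have hWn : (omegaZ 2 Q).Normal := omegaZ_normal 2 Q
  have hZn : (zOf Q).Normal := zOf_normal Q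
  have hCWn : (Subgroup.centralizer (omegaZ 2 Q : Set X)).Normal := Subgroup.normal_centralizer
  have hp : IsPGroup 2 (Subgroup.centralizer (omegaZ 2 Q : Set X)) := by
    apply isPGroup_two_of_odd_trivial
    intro g hgW m hm hgm
    have hgZ : ∀ v ∈ zOf Q, g * v = v * g := by
      apply commute_of_commute_omega (p := 2)
      · intro a ha b hb
        exact (mem_zOf.1 hb).2 a (zOf_le Q ha)
      · exact h.hQp.to_le (zOf_le Q)
      · rw [Subgroup.normalizer_eq_top_iff.2 hZn]; exact Subgroup.mem_top g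
      · have h1 : orderOf g ∣ m := orderOf_dvd_of_pow_eq_one hgm
        exact Nat.Coprime.coprime_dvd_left h1 (Nat.coprime_two_right.mpr hm)
      · intro v hv hv2
        have hvW : v ∈ omegaZ 2 Q := mem_omegaZ.2 ⟨hv, hv2⟩
        exact (Subgroup.mem_centralizer_iff.1 hgW v hvW).symm
    have hgQ : g ∈ Subgroup.centralizer (Q : Set X) := by
      rw [Subgroup.mem_centralizer_iff]
      intro q hq
      have hd : ⁅g, q⁆ ∈ zOf Q := h.comm_mem_zOf g hq
      have h1 : g * q * g⁻¹ = ⁅g, q⁆ * q := by rw [commutatorElement_def]; group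
      have h2 := pow_eq_one_of_conj_eq_mul h1 (hgZ _ hd) hgm
      obtain ⟨j, hj⟩ := h.hQp ⟨⁅g, q⁆, zOf_le Q hd⟩
      have h3 : ⁅g, q⁆ ^ 2 ^ j = 1 := congrArg Subtype.val hj
      have h4 := eq_one_of_pow_two_pow_of_odd h3 hm h2
      exact (commutatorElement_eq_one_iff_mul_comm.1 h4).symm
    have hgQ' := h.hCQ hgQ
    obtain ⟨j, hj⟩ := h.hQp ⟨g, hgQ'⟩
    have h3 : g ^ 2 ^ j = 1 := congrArg Subtype.val hj
    exact eq_one_of_pow_two_pow_of_odd h3 hm hgm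
  apply h.hQmax _ hCWn hp
  rw [Subgroup.mem_centralizer_iff]
  intro w hw
  exact (hx w hw).symm

/-- an element of `A` commuting with `B` modulo `Q` lies in `Q` -/
theorem mem_Q_of_comm (h : GConf Q A B) {a : X} (ha : a ∈ A) (hab : ∀ b ∈ B, ⁅a, b⁆ ∈ Q) :
    a ∈ Q := by
  have hQn := h.hQn
  set π : X →* X ⧸ Q := QuotientGroup.mk' Q with hπ
  have hπ1 : ∀ g : X, π g = 1 ↔ g ∈ Q := fun g => by
    rw [hπ, QuotientGroup.mk'_apply, QuotientGroup.eq_one_iff]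
  set D : Subgroup X := (Subgroup.centralizer ({π a} : Set (X ⧸ Q))).comap π with hD
  have hmemD : ∀ x : X, x ∈ D ↔ π x * π a = π a * π x := by
    intro x
    rw [hD, Subgroup.mem_comap, Subgroup.mem_centralizer_singleton_iff]
  have hAD : A ≤ D := by
    intro a' ha'
    rw [hmemD, ← map_mul, ← map_mul, h.hAc a' ha' a ha]
  have hBD : B ≤ D := by
    intro b hb
    rw [hmemD]
    have h1 := hab b hb
    rw [← hπ1, map_commutatorElement, commutatorElement_eq_one_iff_mul_comm] at h1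
    exact h1.symm
  have hQD : Q ≤ D := by
    intro q hq
    rw [hmemD, (hπ1 q).2 hq, one_mul, mul_one]
  have hDtop : D = ⊤ := h.hgen D hAD hBD hQD
  have hcen : ∀ x : X, π x * π a = π a * π x := by
    intro x
    rw [← hmemD, hDtop]
    exact Subgroup.mem_top x
  have hπa2 : π a * π a = 1 := by rw [← map_mul, ← pow_two, h.hA2 a ha, map_one]
  -- the preimage of `⟨π a⟩`
  have hZn : (Subgroup.zpowers (π a)).Normal := by
    constructor
    intro n hn g
    obtain ⟨g', rfl⟩ := QuotientGroup.mk'_surjective Q g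
    have hc : Commute (π g') n := by
      obtain ⟨k, rfl⟩ := Subgroup.mem_zpowers_iff.1 hn
      exact (Commute.zpow_right (hcen g') k)
    have : QuotientGroup.mk' Q g' * n * (QuotientGroup.mk' Q g')⁻¹ = n := by
      rw [← hπ, hc.eq]; group
    rw [this]
    exact hn
  set M : Subgroup X := (Subgroup.zpowers (π a)).comap π with hM
  have hMn : M.Normal := hZn.comap π
  have hMp : IsPGroup 2 M := by
    rintro ⟨x, hx⟩
    rw [hM, Subgroup.mem_comap] at hx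
    have hx2 : π x ^ 2 = 1 := by
      obtain ⟨k, hk⟩ := Subgroup.mem_zpowers_iff.1 hx
      rw [← hk, ← zpow_natCast, ← zpow_mul, mul_comm, zpow_mul, zpow_natCast, pow_two, hπa2,
        one_zpow]
    rw [← map_pow, hπ1] at hx2
    obtain ⟨j, hj⟩ := h.hQp ⟨x ^ 2, hx2⟩
    have h3 : (x ^ 2) ^ 2 ^ j = 1 := congrArg Subtype.val hj
    refine ⟨j + 1, Subtype.ext ?_⟩
    rw [Subgroup.coe_pow, Subgroup.coe_one, pow_succ', pow_mul]
    exact h3
  have haM : a ∈ M := by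
    rw [hM, Subgroup.mem_comap]
    exact Subgroup.mem_zpowers _
  exact h.hQmax M hMn hMp haM

/-- an element of `A` in a proper subgroup containing `B Q` lies in `Q` -/
theorem mem_Q_of_mem_proper (h : GConf Q A B) {Y : Subgroup X} (hY : Y ≠ ⊤) (hBY : B ≤ Y)
    (hQY : Q ≤ Y) {a : X} (ha : a ∈ A) (haY : a ∈ Y) : a ∈ Q := by
  have hQn := h.hQn
  obtain ⟨R, hRp, hBR, hRY, hYR⟩ := h.hIHB Y hY hBY hQY
  have hap : IsPGroup 2 (Subgroup.zpowers a) := by
    rintro ⟨x, hx⟩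
    obtain ⟨k, rfl⟩ := Subgroup.mem_zpowers_iff.1 hx
    refine ⟨1, Subtype.ext ?_⟩
    rw [Subgroup.coe_pow, Subgroup.coe_one, pow_one, ← zpow_natCast, ← zpow_mul, mul_comm,
      zpow_mul, zpow_natCast, h.hA2 a ha, one_zpow]
  have haR : Subgroup.zpowers a ≤ Subgroup.normalizer (R : Set X) := by
    rw [Subgroup.zpowers_le]
    exact hYR haY
  have hp1 : IsPGroup 2 ↥(R ⊔ Subgroup.zpowers a) := hRp.to_sup_of_normal_left' hap haR
  have hp2 : IsPGroup 2 ↥((R ⊔ Subgroup.zpowers a) ⊔ Q) := hp1.to_sup_of_normal_right h.hQp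
  apply h.mem_Q_of_comm ha
  intro b hb
  apply h.comm_mem_Q hp2 le_sup_right
  · exact (le_sup_left : R ⊔ Subgroup.zpowers a ≤ _)
      ((le_sup_right : Subgroup.zpowers a ≤ R ⊔ Subgroup.zpowers a) (Subgroup.mem_zpowers a))
  · exact (le_sup_left : R ⊔ Subgroup.zpowers a ≤ _) ((le_sup_left : R ≤ R ⊔ Subgroup.zpowers a)
      (hBR hb))

/-- (F2) a fixed point of `B` in `W`, not central, is moved modulo the centre by every element
of `A` outside `Q` -/
theorem mem_Q_of_comm_central (h : GConf Q A B) {w' : X} (hw' : w' ∈ omegaZ 2 Q)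
    (hw'B : ∀ b ∈ B, b * w' = w' * b) (hw'Z : w' ∉ Subgroup.center X) {a : X} (ha : a ∈ A)
    (hc : ⁅a, w'⁆ ∈ Subgroup.center X) : a ∈ Q := by
  have hQn := h.hQn
  set π : X →* X ⧸ Subgroup.center X := QuotientGroup.mk' (Subgroup.center X) with hπ
  have hπ1 : ∀ g : X, π g = 1 ↔ g ∈ Subgroup.center X := fun g => by
    rw [hπ, QuotientGroup.mk'_apply, QuotientGroup.eq_one_iff]
  set Y : Subgroup X :=
    (Subgroup.centralizer ({π w'} : Set (X ⧸ Subgroup.center X))).comap π with hY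
  have hmemY : ∀ x : X, x ∈ Y ↔ ⁅x, w'⁆ ∈ Subgroup.center X := by
    intro x
    rw [hY, Subgroup.mem_comap, Subgroup.mem_centralizer_singleton_iff, ← hπ1,
      map_commutatorElement, commutatorElement_eq_one_iff_mul_comm]
  have hQw : ∀ q ∈ Q, q * w' = w' * q := fun q hq =>
    (Subgroup.mem_centralizer_iff.1 (le_centralizer_omegaZ 2 Q hq) w' hw').symm
  have hBY : B ≤ Y := by
    intro b hb
    rw [hmemY, commutatorElement_eq_one_iff_mul_comm.2 (hw'B b hb)]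
    exact Subgroup.one_mem _
  have hQY : Q ≤ Y := by
    intro q hq
    rw [hmemY, commutatorElement_eq_one_iff_mul_comm.2 (hQw q hq)]
    exact Subgroup.one_mem _
  have haY : a ∈ Y := (hmemY a).2 hc
  by_cases hYtop : Y = ⊤
  · exfalso
    have hall : ∀ x : X, ⁅x, w'⁆ ∈ Subgroup.center X := fun x =>
      (hmemY x).1 (hYtop ▸ Subgroup.mem_top x)
    set K : Subgroup X := Subgroup.centralizer ({w'} : Set X) with hK
    have hKn : K.Normal := by
      constructor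
      intro k hk x
      rw [hK, Subgroup.mem_centralizer_singleton_iff] at hk ⊢
      have hcx := hall x⁻¹
      have h1 : x⁻¹ * w' * x = ⁅x⁻¹, w'⁆ * w' := by rw [commutatorElement_def]; group
      have hck : k * ⁅x⁻¹, w'⁆ = ⁅x⁻¹, w'⁆ * k := Subgroup.mem_center_iff.1 hcx k
      generalize ⁅x⁻¹, w'⁆ = c at h1 hck
      calc x * k * x⁻¹ * w' = x * (k * (x⁻¹ * w' * x)) * x⁻¹ := by group
        _ = x * (k * (c * w')) * x⁻¹ := by rw [h1]
        _ = x * ((k * c) * w') * x⁻¹ := by group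
        _ = x * ((c * k) * w') * x⁻¹ := by rw [hck]
        _ = x * (c * (k * w')) * x⁻¹ := by group
        _ = x * (c * (w' * k)) * x⁻¹ := by rw [hk]
        _ = x * ((c * w') * k) * x⁻¹ := by group
        _ = x * ((x⁻¹ * w' * x) * k) * x⁻¹ := by rw [h1]
        _ = w' * (x * k * x⁻¹) := by group
    have hBK : B ≤ K := fun b hb => by
      rw [hK, Subgroup.mem_centralizer_singleton_iff]; exact hw'B b hb
    have hAK : A ≤ K := (h.hconj K hKn).2 hBK
    have hQK : Q ≤ K := fun q hq => by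
      rw [hK, Subgroup.mem_centralizer_singleton_iff]; exact hQw q hq
    have hKtop := h.hgen K hAK hBK hQK
    apply hw'Z
    rw [Subgroup.mem_center_iff]
    intro x
    have hx : x ∈ K := hKtop ▸ Subgroup.mem_top x
    rw [hK, Subgroup.mem_centralizer_singleton_iff] at hx
    exact hx
  · exact h.mem_Q_of_mem_proper hYtop hBY hQY ha haY

theorem comm_mem_W (h : GConf Q A B) (x : X) {w : X} (hw : w ∈ omegaZ 2 Q) :
    ⁅x, w⁆ ∈ omegaZ 2 Q := by
  have hQn := h.hQn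
  have hWn : (omegaZ 2 Q).Normal := omegaZ_normal 2 Q
  have : ⁅x, w⁆ = (x * w * x⁻¹) * w⁻¹ := by rw [commutatorElement_def]
  rw [this]
  exact (omegaZ 2 Q).mul_mem (hWn.conj_mem w hw x) ((omegaZ 2 Q).inv_mem hw)

/-- (F1) `B` has a non-central fixed point in `W` -/
theorem exists_fixed_noncentral [Finite X] (h : GConf Q A B) :
    ∃ w' ∈ omegaZ 2 Q, (∀ b ∈ B, b * w' = w' * b) ∧ w' ∉ Subgroup.center X := by
  have : Fact (Nat.Prime 2) := ⟨Nat.prime_two⟩
  have hQn := h.hQn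
  have hWn : (omegaZ 2 Q).Normal := omegaZ_normal 2 Q
  by_contra hcon
  push Not at hcon
  set π : X →* X ⧸ Subgroup.center X := QuotientGroup.mk' (Subgroup.center X) with hπ
  have hWmap : ((omegaZ 2 Q).map π).Normal := hWn.map _ (QuotientGroup.mk'_surjective _)
  set N : Subgroup X := (Subgroup.centralizer
    (((omegaZ 2 Q).map π : Subgroup (X ⧸ Subgroup.center X)) :
      Set (X ⧸ Subgroup.center X))).comap π with hN
  have hNn : N.Normal := inferInstance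
  have hmemN : ∀ x : X, x ∈ N ↔ ∀ w ∈ omegaZ 2 Q, ⁅x, w⁆ ∈ Subgroup.center X := by
    intro x
    rw [hN, Subgroup.mem_comap, Subgroup.mem_centralizer_iff]
    constructor
    · intro h k hk
      have h1 := h _ ⟨k, hk, rfl⟩
      rw [← QuotientGroup.eq_one_iff, ← QuotientGroup.mk'_apply, map_commutatorElement,
        commutatorElement_eq_one_iff_mul_comm]
      exact h1.symm
    · rintro h _ ⟨k, hk, rfl⟩
      have h1 := h k hk
      rw [← QuotientGroup.eq_one_iff, ← QuotientGroup.mk'_apply, map_commutatorElement,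
        commutatorElement_eq_one_iff_mul_comm] at h1
      exact h1.symm
  have hBN : B ≤ N := by
    intro b hb
    rw [hmemN]
    intro w hw
    apply hcon _ (h.comm_mem_W b hw)
    intro b' hb'
    exact h.symm.quad (omegaZ_le 2 Q hw) hb hb'
  have hNp : IsPGroup 2 N := by
    apply isPGroup_two_of_odd_trivial
    intro g hgN m hm hgm
    have hgQ : g ∈ Q := by
      apply h.centralizer_W_le
      intro w hw
      have hd := (hmemN g).1 hgN w hw
      have h1 : g * w * g⁻¹ = ⁅g, w⁆ * w := by rw [commutatorElement_def]; group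
      have h2 := pow_eq_one_of_conj_eq_mul h1 (Subgroup.mem_center_iff.1 hd g) hgm
      have h3 : ⁅g, w⁆ ^ 2 = 1 := (h.comm_mem_W g hw).2
      have h4 := eq_one_of_sq_of_odd_pow h3 hm h2
      exact commutatorElement_eq_one_iff_mul_comm.1 h4
    obtain ⟨j, hj⟩ := h.hQp ⟨g, hgQ⟩
    have h3 : g ^ 2 ^ j = 1 := congrArg Subtype.val hj
    exact eq_one_of_pow_two_pow_of_odd h3 hm hgm
  have hNQ : N ≤ Q := h.hQmax N hNn hNp
  have hBQ : B ≤ Q := hBN.trans hNQ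
  have hAQ : A ≤ Q := (h.hconj Q hQn).2 hBQ
  exact h.hnot (h.hQp.to_le (sup_le hAQ hBQ))

/-- an element of `W` fixed by `A` and `B` is central -/
theorem mem_center_of_fixed (h : GConf Q A B) {w : X} (hw : w ∈ omegaZ 2 Q)
    (hA : ∀ a ∈ A, a * w = w * a) (hB : ∀ b ∈ B, b * w = w * b) : w ∈ Subgroup.center X := by
  have hQw : ∀ q ∈ Q, q * w = w * q := fun q hq =>
    (Subgroup.mem_centralizer_iff.1 (le_centralizer_omegaZ 2 Q hq) w hw).symm
  have htop := h.hgen (Subgroup.centralizer ({w} : Set X))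
    (fun a ha => by rw [Subgroup.mem_centralizer_singleton_iff]; exact hA a ha)
    (fun b hb => by rw [Subgroup.mem_centralizer_singleton_iff]; exact hB b hb)
    (fun q hq => by rw [Subgroup.mem_centralizer_singleton_iff]; exact hQw q hq)
  rw [Subgroup.mem_center_iff]
  intro x
  have hx : x ∈ Subgroup.centralizer ({w} : Set X) := htop ▸ Subgroup.mem_top x
  rw [Subgroup.mem_centralizer_singleton_iff] at hx
  exact hx

/-- (F3) the counting inequality -/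
theorem card_ineq [Finite X] (h : GConf Q A B) :
    Nat.card ↥(omegaZ 2 Q ⊓ Subgroup.centralizer (B : Set X)) * Nat.card ↥(A ⊓ Q) ≤
      Nat.card ↥(omegaZ 2 Q ⊓ Subgroup.center X) * Nat.card A := by
  have hQn := h.hQn
  have hWc : ∀ u ∈ omegaZ 2 Q, ∀ v ∈ omegaZ 2 Q, u * v = v * u := fun u hu v hv =>
    omegaZ_comm hu hv
  have hW2 : ∀ w ∈ omegaZ 2 Q, w ^ 2 = 1 := fun w hw => hw.2
  -- (a') `|A ∩ Q| |W| ≤ |A| |C_W(A)|`
  have ha : Nat.card ↥(A ⊓ Q) * Nat.card ↥(omegaZ 2 Q) ≤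
      Nat.card A * Nat.card ↥(omegaZ 2 Q ⊓ Subgroup.centralizer (A : Set X)) := by
    have h1 := card_mul_card_le_sup_inf (A ⊓ Q) (omegaZ 2 Q)
    have he : Cfsg.IsElementaryAbelian 2 ((A ⊓ Q) ⊔ omegaZ 2 Q) := by
      apply Cfsg.Agent.Lib.helper13.elemAb_sup
      · rw [Cfsg.Agent.Lib.helper13.isElementaryAbelian_iff]
        exact ⟨fun a ha b hb => h.hAc a ha.1 b hb.1, fun a ha => h.hA2 a ha.1⟩
      · rw [Cfsg.Agent.Lib.helper13.isElementaryAbelian_iff]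
        exact ⟨hWc, hW2⟩
      · intro w hw
        rw [Subgroup.mem_centralizer_iff]
        intro d hd
        exact (Subgroup.mem_centralizer_iff.1 (le_centralizer_omegaZ 2 Q hd.2) w hw).symm
    obtain ⟨hec, he2⟩ := (Cfsg.Agent.Lib.helper13.isElementaryAbelian_iff _).1 he
    have h2 : Nat.card ↥((A ⊓ Q) ⊔ omegaZ 2 Q) ≤ Nat.card A := h.hAmax _ hec he2
    have h3 : Nat.card ↥((A ⊓ Q) ⊓ omegaZ 2 Q) ≤
        Nat.card ↥(omegaZ 2 Q ⊓ Subgroup.centralizer (A : Set X)) := by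
      apply Subgroup.card_le_of_le
      rintro x ⟨⟨hxA, -⟩, hxW⟩
      refine Subgroup.mem_inf.2 ⟨hxW, ?_⟩
      rw [Subgroup.mem_centralizer_iff]
      intro a ha
      exact h.hAc a ha x hxA
    exact h1.trans (Nat.mul_le_mul h2 h3)
  -- (b') `|C_W(B)| |C_W(A)| ≤ |W| |C₀|`
  have hb : Nat.card ↥(omegaZ 2 Q ⊓ Subgroup.centralizer (B : Set X)) *
      Nat.card ↥(omegaZ 2 Q ⊓ Subgroup.centralizer (A : Set X)) ≤
      Nat.card ↥(omegaZ 2 Q) * Nat.card ↥(omegaZ 2 Q ⊓ Subgroup.center X) := by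
    have h1 := card_mul_card_le_sup_inf (omegaZ 2 Q ⊓ Subgroup.centralizer (B : Set X))
      (omegaZ 2 Q ⊓ Subgroup.centralizer (A : Set X))
    have h2 : Nat.card ↥((omegaZ 2 Q ⊓ Subgroup.centralizer (B : Set X)) ⊔
        (omegaZ 2 Q ⊓ Subgroup.centralizer (A : Set X))) ≤ Nat.card ↥(omegaZ 2 Q) :=
      Subgroup.card_le_of_le (sup_le inf_le_left inf_le_left)
    have h3 : Nat.card ↥((omegaZ 2 Q ⊓ Subgroup.centralizer (B : Set X)) ⊓
        (omegaZ 2 Q ⊓ Subgroup.centralizer (A : Set X))) ≤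
        Nat.card ↥(omegaZ 2 Q ⊓ Subgroup.center X) := by
      apply Subgroup.card_le_of_le
      rintro x ⟨⟨hxW, hxB⟩, ⟨-, hxA⟩⟩
      refine Subgroup.mem_inf.2 ⟨hxW, h.mem_center_of_fixed hxW ?_ ?_⟩
      · intro a ha
        exact Subgroup.mem_centralizer_iff.1 hxA a ha
      · intro b hb
        exact Subgroup.mem_centralizer_iff.1 hxB b hb
    exact h1.trans (Nat.mul_le_mul h2 h3)
  have hpos : 0 < Nat.card ↥(omegaZ 2 Q) *
      Nat.card ↥(omegaZ 2 Q ⊓ Subgroup.centralizer (A : Set X)) :=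
    Nat.mul_pos Nat.card_pos Nat.card_pos
  apply Nat.le_of_mul_le_mul_right _ hpos
  calc Nat.card ↥(omegaZ 2 Q ⊓ Subgroup.centralizer (B : Set X)) * Nat.card ↥(A ⊓ Q) *
        (Nat.card ↥(omegaZ 2 Q) * Nat.card ↥(omegaZ 2 Q ⊓ Subgroup.centralizer (A : Set X)))
      = (Nat.card ↥(A ⊓ Q) * Nat.card ↥(omegaZ 2 Q)) *
        (Nat.card ↥(omegaZ 2 Q ⊓ Subgroup.centralizer (B : Set X)) *
          Nat.card ↥(omegaZ 2 Q ⊓ Subgroup.centralizer (A : Set X))) := by ring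
    _ ≤ (Nat.card A * Nat.card ↥(omegaZ 2 Q ⊓ Subgroup.centralizer (A : Set X))) *
        (Nat.card ↥(omegaZ 2 Q) * Nat.card ↥(omegaZ 2 Q ⊓ Subgroup.center X)) :=
        Nat.mul_le_mul ha hb
    _ = Nat.card ↥(omegaZ 2 Q ⊓ Subgroup.center X) * Nat.card A *
        (Nat.card ↥(omegaZ 2 Q) *
          Nat.card ↥(omegaZ 2 Q ⊓ Subgroup.centralizer (A : Set X))) := by ring

/-- **The minimal configuration involves `S₄`.** -/
theorem involves [Finite X] (h : GConf Q A B) : Cfsg.Involves (Equiv.Perm (Fin 4)) X := by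
  classical
  have hQn := h.hQn
  have hWc : ∀ u ∈ omegaZ 2 Q, ∀ v ∈ omegaZ 2 Q, u * v = v * u := fun u hu v hv =>
    omegaZ_comm hu hv
  have hW2 : ∀ w ∈ omegaZ 2 Q, w * w = 1 := fun w hw => by rw [← pow_two]; exact hw.2
  have hWQ : omegaZ 2 Q ≤ Q := omegaZ_le 2 Q
  obtain ⟨w', hw'W, hw'B, hw'Z⟩ := h.exists_fixed_noncentral
  have hAQ : ¬ A ≤ Q := fun hAQ =>
    h.hnot (h.hQp.to_le (sup_le hAQ ((h.hconj Q hQn).1 hAQ)))
  obtain ⟨a, haA, haQ⟩ := SetLike.not_le_iff_exists.1 hAQ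
  obtain ⟨w, hwdef⟩ : ∃ w : X, w = ⁅a, w'⁆ := ⟨_, rfl⟩
  have hwW : w ∈ omegaZ 2 Q := by rw [hwdef]; exact h.comm_mem_W a hw'W
  have hwA : ∀ a' ∈ A, a' * w = w * a' := fun a' ha' => by
    rw [hwdef]; exact h.quad (hWQ hw'W) haA ha'
  have hwZ : w ∉ Subgroup.center X := fun hc =>
    haQ (h.mem_Q_of_comm_central hw'W hw'B hw'Z haA (hwdef ▸ hc))
  -- the homomorphism `Φ : B × C₀ → X`
  have hΦmul : ∀ p q : ↥B × ↥(omegaZ 2 Q ⊓ Subgroup.center X),
      ⁅((p * q).1 : X), w⁆ * ((p * q).2 : X) =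
        (⁅(p.1 : X), w⁆ * (p.2 : X)) * (⁅(q.1 : X), w⁆ * (q.2 : X)) := by
    rintro ⟨⟨b, hb⟩, ⟨c, hc⟩⟩ ⟨⟨b', hb'⟩, ⟨c', hc'⟩⟩
    show ⁅b * b', w⁆ * (c * c') = (⁅b, w⁆ * c) * (⁅b', w⁆ * c')
    have h1 : b * ⁅b', w⁆ = ⁅b', w⁆ * b := h.symm.quad (hWQ hwW) hb' hb
    have h3 : ⁅b', w⁆ * ⁅b, w⁆ = ⁅b, w⁆ * ⁅b', w⁆ :=
      hWc _ (h.comm_mem_W b' hwW) _ (h.comm_mem_W b hwW)
    have h4 : ⁅b', w⁆ * c = c * ⁅b', w⁆ := Subgroup.mem_center_iff.1 hc.2 _
    have h2 : ⁅b * b', w⁆ = ⁅b', w⁆ * ⁅b, w⁆ := by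
      have e1 : ⁅b * b', w⁆ = (b * ⁅b', w⁆) * w * b⁻¹ * w⁻¹ := by
        simp only [commutatorElement_def]; group
      have e2 : ⁅b', w⁆ * ⁅b, w⁆ = (⁅b', w⁆ * b) * w * b⁻¹ * w⁻¹ := by
        simp only [commutatorElement_def]; group
      rw [e1, e2, h1]
    rw [h2, h3]
    calc ⁅b, w⁆ * ⁅b', w⁆ * (c * c') = ⁅b, w⁆ * (⁅b', w⁆ * c) * c' := by group
      _ = ⁅b, w⁆ * (c * ⁅b', w⁆) * c' := by rw [h4]
      _ = ⁅b, w⁆ * c * (⁅b', w⁆ * c') := by group
  let Φ : ↥B × ↥(omegaZ 2 Q ⊓ Subgroup.center X) →* X :=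
    MonoidHom.mk' (fun p => ⁅(p.1 : X), w⁆ * (p.2 : X)) hΦmul
  have hΦ : ∀ p : ↥B × ↥(omegaZ 2 Q ⊓ Subgroup.center X),
      Φ p = ⁅(p.1 : X), w⁆ * (p.2 : X) := fun p => rfl
  have hrange : Φ.range ≤ omegaZ 2 Q ⊓ Subgroup.centralizer (B : Set X) := by
    rintro _ ⟨⟨⟨b, hb⟩, ⟨c, hc⟩⟩, rfl⟩
    rw [hΦ]
    show ⁅b, w⁆ * c ∈ _
    refine Subgroup.mem_inf.2 ⟨(omegaZ 2 Q).mul_mem (h.comm_mem_W b hwW) hc.1, ?_⟩
    rw [Subgroup.mem_centralizer_iff]
    intro b' hb'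
    have h1 : b' * ⁅b, w⁆ = ⁅b, w⁆ * b' := h.symm.quad (hWQ hwW) hb hb'
    have h2 : b' * c = c * b' := Subgroup.mem_center_iff.1 hc.2 b'
    calc b' * (⁅b, w⁆ * c) = (b' * ⁅b, w⁆) * c := by group
      _ = ⁅b, w⁆ * (b' * c) := by rw [h1]; group
      _ = ⁅b, w⁆ * c * b' := by rw [h2]; group
  have hkerQ : ∀ p : ↥B × ↥(omegaZ 2 Q ⊓ Subgroup.center X), p ∈ Φ.ker →
      (p.1 : X) ∈ B ⊓ Q ∧ (p.2 : X) = 1 := by
    rintro ⟨⟨b, hb⟩, ⟨c, hc⟩⟩ hp
    rw [MonoidHom.mem_ker, hΦ] at hp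
    have hp' : ⁅b, w⁆ * c = 1 := hp
    have h1 : ⁅b, w⁆ = c⁻¹ := eq_inv_of_mul_eq_one_left hp'
    have h2 : ⁅b, w⁆ ∈ Subgroup.center X := by rw [h1]; exact Subgroup.inv_mem _ hc.2
    have hbQ : b ∈ Q := h.symm.mem_Q_of_comm_central hwW hwA hwZ hb h2
    have h3 : b * w = w * b :=
      (Subgroup.mem_centralizer_iff.1 (le_centralizer_omegaZ 2 Q hbQ) w hwW).symm
    have h4 : ⁅b, w⁆ = 1 := commutatorElement_eq_one_iff_mul_comm.2 h3
    refine ⟨Subgroup.mem_inf.2 ⟨hb, hbQ⟩, ?_⟩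
    show c = 1
    rw [h4, one_mul] at hp'
    exact hp'
  have hker : Nat.card Φ.ker ≤ Nat.card ↥(B ⊓ Q) := by
    apply Nat.card_le_card_of_injective
      (fun p : Φ.ker => (⟨(p.1.1 : X), (hkerQ p.1 p.2).1⟩ : ↥(B ⊓ Q)))
    intro p q hpq
    have h1 : (p.1.1 : X) = (q.1.1 : X) := by
      have h0 := congrArg (fun z : ↥(B ⊓ Q) => (z : X)) hpq
      exact h0
    have h2 : (p.1.2 : X) = (q.1.2 : X) := by
      rw [(hkerQ p.1 p.2).2, (hkerQ q.1 q.2).2]
    exact Subtype.ext (Prod.ext (Subtype.ext h1) (Subtype.ext h2))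
  have hcardΦ : Nat.card Φ.ker * Nat.card Φ.range =
      Nat.card B * Nat.card ↥(omegaZ 2 Q ⊓ Subgroup.center X) := by
    rw [← Subgroup.index_ker, Subgroup.card_mul_index, Nat.card_prod]
  have hineq := h.card_ineq
  rw [h.hcard, h.hcardQ] at hineq
  have hle : Nat.card ↥(omegaZ 2 Q ⊓ Subgroup.centralizer (B : Set X)) ≤ Nat.card Φ.range := by
    have hpos : 0 < Nat.card ↥(B ⊓ Q) := Nat.card_pos
    apply Nat.le_of_mul_le_mul_right _ hpos
    calc Nat.card ↥(omegaZ 2 Q ⊓ Subgroup.centralizer (B : Set X)) * Nat.card ↥(B ⊓ Q)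
        ≤ Nat.card ↥(omegaZ 2 Q ⊓ Subgroup.center X) * Nat.card B := hineq
      _ = Nat.card Φ.ker * Nat.card Φ.range := by rw [hcardΦ, mul_comm]
      _ ≤ Nat.card ↥(B ⊓ Q) * Nat.card Φ.range := Nat.mul_le_mul_right _ hker
      _ = Nat.card Φ.range * Nat.card ↥(B ⊓ Q) := mul_comm _ _
  have hrange_eq : Φ.range = omegaZ 2 Q ⊓ Subgroup.centralizer (B : Set X) :=
    Subgroup.eq_of_le_of_card_ge hrange hle
  have hw'mem : w' ∈ Φ.range := by
    rw [hrange_eq]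
    refine Subgroup.mem_inf.2 ⟨hw'W, ?_⟩
    rw [Subgroup.mem_centralizer_iff]
    exact hw'B
  obtain ⟨⟨⟨b, hbB⟩, ⟨c, hcC⟩⟩, hbc⟩ := hw'mem
  rw [hΦ] at hbc
  have hbc' : ⁅b, w⁆ * c = w' := hbc
  have hcW : c ∈ omegaZ 2 Q := hcC.1
  have hcx : ∀ g : X, g * c = c * g := Subgroup.mem_center_iff.1 hcC.2
  have hcc : c * c = 1 := hW2 c hcW
  have hww : w * w = 1 := hW2 w hwW
  have hw'w' : w' * w' = 1 := hW2 w' hw'W
  have hww' : w * w' = w' * w := hWc w hwW w' hw'W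
  have haa : a * a = 1 := by rw [← pow_two]; exact h.hA2 a haA
  have hbb : b * b = 1 := by rw [← pow_two]; exact h.hB2 b hbB
  -- the action of `a` and `b`
  have haw : a * w * a⁻¹ = w := by rw [hwA a haA]; group
  have haw' : a * w' * a⁻¹ = w * w' := by rw [hwdef, commutatorElement_def]; group
  have hbw' : b * w' * b⁻¹ = w' := by rw [hw'B b hbB]; group
  have h5 : ⁅b, w⁆ = w' * c := by rw [← hbc', mul_assoc, hcc, mul_one]
  have hbw : b * w * b⁻¹ = w' * c * w := by rw [← h5, commutatorElement_def]; group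
  have hconjc : ∀ g : X, g * c * g⁻¹ = c := fun g => by rw [hcx g]; group
  -- the action of `x = a b`
  obtain ⟨x, hxdef⟩ : ∃ x : X, x = a * b := ⟨_, rfl⟩
  have hxw : x * w * x⁻¹ = w' * c := by
    calc x * w * x⁻¹ = a * (b * w * b⁻¹) * a⁻¹ := by rw [hxdef]; group
      _ = a * (w' * c * w) * a⁻¹ := by rw [hbw]
      _ = (a * w' * a⁻¹) * (a * c * a⁻¹) * (a * w * a⁻¹) := by group
      _ = (w * w') * c * w := by rw [haw', hconjc, haw]
      _ = w' * c := word_aux1 hww' (hcx w).symm hww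
  have hxw' : x * w' * x⁻¹ = w * w' := by
    calc x * w' * x⁻¹ = a * (b * w' * b⁻¹) * a⁻¹ := by rw [hxdef]; group
      _ = a * w' * a⁻¹ := by rw [hbw']
      _ = w * w' := haw'
  have hx2w : x * (x * w * x⁻¹) * x⁻¹ = (w * w') * c := by
    calc x * (x * w * x⁻¹) * x⁻¹ = x * (w' * c) * x⁻¹ := by rw [hxw]
      _ = (x * w' * x⁻¹) * (x * c * x⁻¹) := by group
      _ = (w * w') * c := by rw [hxw', hconjc]
  have hx3e : x ^ 3 = x * x * x := by rw [pow_succ, pow_two]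
  have hx3w : x ^ 3 * w * (x ^ 3)⁻¹ = w := by
    calc x ^ 3 * w * (x ^ 3)⁻¹ = x * (x * (x * w * x⁻¹) * x⁻¹) * x⁻¹ := by
          rw [hx3e]; group
      _ = x * ((w * w') * c) * x⁻¹ := by rw [hx2w]
      _ = (x * w * x⁻¹) * (x * w' * x⁻¹) * (x * c * x⁻¹) := by group
      _ = (w' * c) * (w * w') * c := by rw [hxw, hxw', hconjc]
      _ = w := word_aux2 hww' (hcx w).symm (hcx w').symm hw'w' hcc
  have hx3w' : x ^ 3 * w' * (x ^ 3)⁻¹ = w' := by
    calc x ^ 3 * w' * (x ^ 3)⁻¹ = x * (x * (x * w' * x⁻¹) * x⁻¹) * x⁻¹ := by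
          rw [hx3e]; group
      _ = x * (x * (w * w') * x⁻¹) * x⁻¹ := by rw [hxw']
      _ = x * ((x * w * x⁻¹) * (x * w' * x⁻¹)) * x⁻¹ := by group
      _ = x * ((w' * c) * (w * w')) * x⁻¹ := by rw [hxw, hxw']
      _ = x * (w * c) * x⁻¹ := by rw [word_aux3 hww' (hcx w).symm (hcx w').symm hw'w']
      _ = (x * w * x⁻¹) * (x * c * x⁻¹) := by group
      _ = (w' * c) * c := by rw [hxw, hconjc]
      _ = w' := by rw [mul_assoc, hcc, mul_one]
  -- the subgroup `T`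
  set T : Subgroup X := Subgroup.closure ({w, w'} : Set X) ⊔
    (omegaZ 2 Q ⊓ Subgroup.center X) with hT
  have hwT : w ∈ T := (le_sup_left : Subgroup.closure ({w, w'} : Set X) ≤ T)
    (Subgroup.subset_closure (Set.mem_insert _ _))
  have hw'T : w' ∈ T := (le_sup_left : Subgroup.closure ({w, w'} : Set X) ≤ T)
    (Subgroup.subset_closure (Set.mem_insert_of_mem _ rfl))
  have hcT : c ∈ T := (le_sup_right : omegaZ 2 Q ⊓ Subgroup.center X ≤ T) hcC
  have hTW : T ≤ omegaZ 2 Q := by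
    apply sup_le _ inf_le_left
    rw [Subgroup.closure_le]
    rintro t (rfl | rfl)
    · exact hwW
    · exact hw'W
  have hTp : IsPGroup 2 T := h.hQp.to_le (hTW.trans hWQ)
  have hnorm : ∀ g : X, g * w * g⁻¹ ∈ T → g * w' * g⁻¹ ∈ T →
      g ∈ Subgroup.normalizer (T : Set X) := by
    intro g hg1 hg2
    apply mem_normalizer_of_forall_conj_mem
    have hle : T ≤ T.comap (MulAut.conj g).toMonoidHom := by
      apply sup_le
      · rw [Subgroup.closure_le]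
        rintro t (rfl | rfl)
        · exact hg1
        · exact hg2
      · intro c₁ hc₁
        show g * c₁ * g⁻¹ ∈ T
        have : g * c₁ * g⁻¹ = c₁ := by rw [Subgroup.mem_center_iff.1 hc₁.2 g]; group
        rw [this]
        exact (le_sup_right : omegaZ 2 Q ⊓ Subgroup.center X ≤ T) hc₁
    intro t ht
    exact hle ht
  have haN : a ∈ Subgroup.normalizer (T : Set X) := by
    apply hnorm
    · rw [haw]; exact hwT
    · rw [haw']; exact T.mul_mem hwT hw'T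
  have hbN : b ∈ Subgroup.normalizer (T : Set X) := by
    apply hnorm
    · rw [hbw]; exact T.mul_mem (T.mul_mem hw'T hcT) hwT
    · rw [hbw']; exact hw'T
  have hxN : x ∈ Subgroup.normalizer (T : Set X) := by
    rw [hxdef]; exact Subgroup.mul_mem _ haN hbN
  have hx3C : x ^ 3 ∈ Subgroup.centralizer (T : Set X) := by
    have hle : T ≤ Subgroup.centralizer ({x ^ 3} : Set X) := by
      apply sup_le
      · rw [Subgroup.closure_le]
        rintro t (rfl | rfl)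
        · show t ∈ Subgroup.centralizer ({x ^ 3} : Set X)
          rw [Subgroup.mem_centralizer_singleton_iff]
          exact (mul_inv_eq_iff_eq_mul.1 hx3w).symm
        · show t ∈ Subgroup.centralizer ({x ^ 3} : Set X)
          rw [Subgroup.mem_centralizer_singleton_iff]
          exact (mul_inv_eq_iff_eq_mul.1 hx3w').symm
      · intro c₁ hc₁
        rw [Subgroup.mem_centralizer_singleton_iff]
        exact (Subgroup.mem_center_iff.1 hc₁.2 (x ^ 3)).symm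
    rw [Subgroup.mem_centralizer_iff]
    intro t ht
    have := hle ht
    rw [Subgroup.mem_centralizer_singleton_iff] at this
    exact this
  -- the odd part of `x`
  obtain ⟨k, m, hm, hn⟩ := Nat.exists_eq_two_pow_mul_odd (orderOf_pos x).ne'
  have hyodd : ∃ m : ℕ, Odd m ∧ (x ^ 2 ^ k) ^ m = 1 :=
    ⟨m, hm, by rw [← pow_mul, ← hn, pow_orderOf_eq_one]⟩
  have hyN : x ^ 2 ^ k ∈ Subgroup.normalizer (T : Set X) := Subgroup.pow_mem _ hxN _
  have hy3 : (x ^ 2 ^ k) ^ 3 ∈ Subgroup.centralizer (T : Set X) := by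
    rw [← pow_mul, mul_comm, pow_mul]
    exact Subgroup.pow_mem _ hx3C _
  have hyC : x ^ 2 ^ k ∉ Subgroup.centralizer (T : Set X) := by
    intro hy
    have hyw : x ^ 2 ^ k * w * (x ^ 2 ^ k)⁻¹ = w := by
      have := Subgroup.mem_centralizer_iff.1 hy w hwT
      rw [← this]; group
    have hcomm3 : Commute (x ^ 3) w := mul_inv_eq_iff_eq_mul.1 hx3w
    have hsplit : x ^ 2 ^ k = x ^ (2 ^ k % 3) * (x ^ 3) ^ (2 ^ k / 3) := by
      rw [← pow_mul, ← pow_add, Nat.mod_add_div]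
    have hz : (x ^ 3) ^ (2 ^ k / 3) * w * ((x ^ 3) ^ (2 ^ k / 3))⁻¹ = w := by
      rw [(hcomm3.pow_left _).eq]; group
    have hred : x ^ (2 ^ k % 3) * w * (x ^ (2 ^ k % 3))⁻¹ = w := by
      calc x ^ (2 ^ k % 3) * w * (x ^ (2 ^ k % 3))⁻¹
          = x ^ (2 ^ k % 3) * ((x ^ 3) ^ (2 ^ k / 3) * w * ((x ^ 3) ^ (2 ^ k / 3))⁻¹) *
            (x ^ (2 ^ k % 3))⁻¹ := by rw [hz]
        _ = (x ^ (2 ^ k % 3) * (x ^ 3) ^ (2 ^ k / 3)) * w *
            (x ^ (2 ^ k % 3) * (x ^ 3) ^ (2 ^ k / 3))⁻¹ := by group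
        _ = w := by rw [← hsplit, hyw]
    have hmod : 2 ^ k % 3 = 1 ∨ 2 ^ k % 3 = 2 := by
      have h0 : 2 ^ k % 3 ≠ 0 := by
        intro h0
        have h1 : 3 ∣ 2 ^ k := Nat.dvd_of_mod_eq_zero h0
        have h2 : 3 ∣ 2 := Nat.Prime.dvd_of_dvd_pow Nat.prime_three h1
        omega
      have h3 : 2 ^ k % 3 < 3 := Nat.mod_lt _ (by norm_num)
      omega
    rcases hmod with h1 | h2
    · rw [h1, pow_one, hxw] at hred
      -- `w' c = w`
      apply hw'Z
      apply h.mem_center_of_fixed hw'W _ hw'B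
      intro a' ha'
      have e1 : w' = w * c := by rw [← hred, mul_assoc, hcc, mul_one]
      rw [e1]
      calc a' * (w * c) = (a' * w) * c := by group
        _ = w * (a' * c) := by rw [hwA a' ha']; group
        _ = w * c * a' := by rw [hcx a']; group
    · rw [h2] at hred
      have e0 : x ^ 2 * w * (x ^ 2)⁻¹ = x * (x * w * x⁻¹) * x⁻¹ := by rw [pow_two]; group
      rw [e0, hx2w] at hred
      -- `w w' c = w`
      have e1 : w' * c = 1 := by
        have : w * (w' * c) = w * 1 := by rw [mul_one, ← mul_assoc]; exact hred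
        exact mul_left_cancel this
      apply hw'Z
      have e2 : w' = c⁻¹ := eq_inv_of_mul_eq_one_left e1
      rw [e2]
      exact Subgroup.inv_mem _ hcC.2
  have ha2 : ∃ j : ℕ, a ^ 2 ^ j ∈ Subgroup.centralizer (T : Set X) :=
    ⟨1, by rw [pow_one, pow_two, haa]; exact Subgroup.one_mem _⟩
  have hay : a * x ^ 2 ^ k * a⁻¹ * x ^ 2 ^ k ∈ Subgroup.centralizer (T : Set X) := by
    have hainv : a⁻¹ = a := inv_eq_of_mul_eq_one_left haa
    have hbinv : b⁻¹ = b := inv_eq_of_mul_eq_one_left hbb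
    have e1 : a * x * a⁻¹ = x⁻¹ := by
      rw [hxdef, mul_inv_rev, hbinv]
      calc a * (a * b) * a⁻¹ = (a * a) * b * a⁻¹ := by group
        _ = b * a⁻¹ := by rw [haa, one_mul]
    have e2 : a * x ^ 2 ^ k * a⁻¹ = (x⁻¹) ^ 2 ^ k := by rw [← conj_pow, e1]
    rw [e2, inv_pow, inv_mul_cancel]
    exact Subgroup.one_mem _
  exact involves_s4_of_three_action T hTp (x ^ 2 ^ k) a hyN haN hyodd hyC hy3 ha2 hay

end GConf

/-- **The core of Glauberman's factorization, constrained form.**  In an `S₄`-free group all of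
whose `2`-subgroups have class at most `2`, with a normal `2`-subgroup `Q` containing its
centralizer, every elementary abelian `2`-subgroup of largest order lies in a normal
`2`-subgroup. -/
theorem exists_normal_two_of_maxElem :
    ∀ (n : ℕ) (X : Type u) [Group X] [Finite X], Nat.card X = n →
      ¬ Cfsg.Involves (Equiv.Perm (Fin 4)) X →
      (∀ T : Subgroup X, IsPGroup 2 T → ∀ s₁ ∈ T, ∀ s₂ ∈ T, ∀ s₃ ∈ T, ⁅⁅s₁, s₂⁆, s₃⁆ = 1) →
      ∀ (Q : Subgroup X), Q.Normal → IsPGroup 2 Q → Subgroup.centralizer (Q : Set X) ≤ Q →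
      ∀ (A : Subgroup X), (∀ a ∈ A, ∀ a' ∈ A, a * a' = a' * a) → (∀ a ∈ A, a ^ 2 = 1) →
        (∀ C : Subgroup X, (∀ c ∈ C, ∀ c' ∈ C, c * c' = c' * c) → (∀ c ∈ C, c ^ 2 = 1) →
          Nat.card C ≤ Nat.card A) →
        ∃ R : Subgroup X, R.Normal ∧ IsPGroup 2 R ∧ A ≤ R := by
  intro n
  induction n using Nat.strong_induction_on with
  | _ n ih =>
  intro X _ _ hn hS4 hcl Q hQn hQp hCQ A hAc hA2 hAmax
  classical
  have : Fact (Nat.Prime 2) := ⟨Nat.prime_two⟩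
  by_contra hno
  -- replace `Q` by `O_2(X)`
  have hQ₀n : (Cfsg.pCore 2 X).Normal := Cfsg.Agent.Lib.helper40.pCore_normal' 2 X
  have hQ₀p : IsPGroup 2 (Cfsg.pCore 2 X) := Cfsg.Agent.Lib.helper40.pCore_isPGroup 2 X
  have hQQ₀ : Q ≤ Cfsg.pCore 2 X := Cfsg.Agent.Lib.helper40.le_pCore Q hQn hQp
  have hCQ₀ : Subgroup.centralizer ((Cfsg.pCore 2 X : Subgroup X) : Set X) ≤ Cfsg.pCore 2 X :=
    (Subgroup.centralizer_le hQQ₀).trans (hCQ.trans hQQ₀)
  have hQ₀max : ∀ R : Subgroup X, R.Normal → IsPGroup 2 R → R ≤ Cfsg.pCore 2 X :=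
    fun R hRn hRp => Cfsg.Agent.Lib.helper40.le_pCore R hRn hRp
  obtain ⟨Q₀, hQ₀def⟩ : ∃ Q₀ : Subgroup X, Q₀ = Cfsg.pCore 2 X := ⟨_, rfl⟩
  rw [← hQ₀def] at hQ₀n hQ₀p hCQ₀ hQ₀max
  -- Baer–Suzuki
  have hBS : ∃ g : X, ¬ IsPGroup 2 ↥(A ⊔ A.map (MulAut.conj g).toMonoidHom) := by
    by_contra hcon
    push Not at hcon
    obtain ⟨N, hNn, hNp, hAN⟩ := Cfsg.Agent.Lib.helper91.baer_suzuki_subgroup (p := 2) A hcon
    exact hno ⟨N, hNn, hNp, hAN⟩
  obtain ⟨g, hg⟩ := hBS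
  obtain ⟨B, hB⟩ : ∃ B : Subgroup X, B = A.map (MulAut.conj g).toMonoidHom := ⟨_, rfl⟩
  rw [← hB] at hg
  have hBmem : ∀ b ∈ B, ∃ a ∈ A, b = g * a * g⁻¹ := by
    intro b hb
    rw [hB] at hb
    obtain ⟨a, ha, rfl⟩ := hb
    exact ⟨a, ha, rfl⟩
  have hmemB : ∀ a ∈ A, g * a * g⁻¹ ∈ B := fun a ha => by
    rw [hB]; exact ⟨a, ha, rfl⟩
  have hBc : ∀ b ∈ B, ∀ b' ∈ B, b * b' = b' * b := by
    intro b hb b' hb'
    obtain ⟨a, ha, rfl⟩ := hBmem b hb
    obtain ⟨a', ha', rfl⟩ := hBmem b' hb'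
    calc g * a * g⁻¹ * (g * a' * g⁻¹) = g * (a * a') * g⁻¹ := by group
      _ = g * (a' * a) * g⁻¹ := by rw [hAc a ha a' ha']
      _ = g * a' * g⁻¹ * (g * a * g⁻¹) := by group
  have hB2 : ∀ b ∈ B, b ^ 2 = 1 := by
    intro b hb
    obtain ⟨a, ha, rfl⟩ := hBmem b hb
    rw [conj_pow, hA2 a ha]; group
  have hcard : Nat.card A = Nat.card B := by
    rw [hB]; exact (Subgroup.card_map_of_injective (MulAut.conj g).injective).symm
  have hcardQ : Nat.card ↥(A ⊓ Q₀) = Nat.card ↥(B ⊓ Q₀) := by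
    have hmap : B ⊓ Q₀ = (A ⊓ Q₀).map (MulAut.conj g).toMonoidHom := by
      ext y
      constructor
      · rintro ⟨hyB, hyQ⟩
        obtain ⟨a, ha, rfl⟩ := hBmem y hyB
        refine ⟨a, Subgroup.mem_inf.2 ⟨ha, ?_⟩, rfl⟩
        have h1 := hQ₀n.conj_mem _ hyQ g⁻¹
        have h2 : g⁻¹ * (g * a * g⁻¹) * g⁻¹⁻¹ = a := by group
        rwa [h2] at h1
      · rintro ⟨a, ⟨ha, haQ⟩, rfl⟩
        exact Subgroup.mem_inf.2 ⟨hmemB a ha, hQ₀n.conj_mem a haQ g⟩
    rw [hmap]; exact (Subgroup.card_map_of_injective (MulAut.conj g).injective).symm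
  -- the induction hypothesis for proper subgroups
  have ihsub : ∀ (A' : Subgroup X), (∀ a ∈ A', ∀ a' ∈ A', a * a' = a' * a) →
      (∀ a ∈ A', a ^ 2 = 1) →
      (∀ C : Subgroup X, (∀ c ∈ C, ∀ c' ∈ C, c * c' = c' * c) → (∀ c ∈ C, c ^ 2 = 1) →
        Nat.card C ≤ Nat.card A') →
      ∀ Y : Subgroup X, Y ≠ ⊤ → A' ≤ Y → Q₀ ≤ Y →
      ∃ R : Subgroup X, IsPGroup 2 R ∧ A' ≤ R ∧ R ≤ Y ∧
        Y ≤ Subgroup.normalizer (R : Set X) := by
    intro A' hA'c hA'2 hA'max Y hY hA'Y hQY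
    have hlt : Nat.card ↥Y < n := by
      rw [← hn]
      exact lt_of_le_of_ne (Subgroup.card_le_card_group Y)
        (fun h => hY ((Subgroup.card_eq_iff_eq_top Y).1 h))
    obtain ⟨R, hRn, hRp, hAR⟩ := ih (Nat.card ↥Y) hlt ↥Y rfl
      (fun hinv => hS4 (involves_of_involves_subgroup Y hinv))
      (by
        intro T hT s₁ hs₁ s₂ hs₂ s₃ hs₃
        have h1 := hcl (T.map Y.subtype) (hT.map _) s₁ ⟨s₁, hs₁, rfl⟩ s₂ ⟨s₂, hs₂, rfl⟩
          s₃ ⟨s₃, hs₃, rfl⟩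
        apply Subtype.ext
        exact h1)
      (Q₀.subgroupOf Y) (hQ₀n.subgroupOf Y) hQ₀p.comap_subtype
      (by
        intro y hy
        rw [Subgroup.mem_subgroupOf]
        apply hCQ₀
        rw [Subgroup.mem_centralizer_iff]
        intro q hq
        have h1 := Subgroup.mem_centralizer_iff.1 hy ⟨q, hQY hq⟩
          (by rw [SetLike.mem_coe, Subgroup.mem_subgroupOf]; exact hq)
        exact congrArg Subtype.val h1)
      (A'.subgroupOf Y)
      (by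
        intro a ha a' ha'
        rw [Subgroup.mem_subgroupOf] at ha ha'
        exact Subtype.ext (hA'c _ ha _ ha'))
      (by
        intro a ha
        rw [Subgroup.mem_subgroupOf] at ha
        apply Subtype.ext
        rw [Subgroup.coe_pow, Subgroup.coe_one]
        exact hA'2 _ ha)
      (by
        intro C hCc hC2
        have h1 := hA'max (C.map Y.subtype)
          (by
            rintro _ ⟨c, hc, rfl⟩ _ ⟨c', hc', rfl⟩
            exact congrArg Subtype.val (hCc c hc c' hc'))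
          (by
            rintro _ ⟨c, hc, rfl⟩
            have h2 := congrArg Subtype.val (hC2 c hc)
            rw [Subgroup.coe_pow, Subgroup.coe_one] at h2
            exact h2)
        rw [Subgroup.card_map_of_injective Y.subtype_injective] at h1
        rw [Cfsg.Agent.Lib.helper13.card_subgroupOf_of_le hA'Y]
        exact h1)
    refine ⟨R.map Y.subtype, hRp.map _, ?_, Subgroup.map_subtype_le _, ?_⟩
    · intro a ha
      exact ⟨⟨a, hA'Y ha⟩, hAR (by rw [Subgroup.mem_subgroupOf]; exact ha), rfl⟩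
    · have h1 := Subgroup.le_normalizer_map (H := R) Y.subtype
      rw [Subgroup.normalizer_eq_top_iff.2 hRn, ← MonoidHom.range_eq_map,
        Subgroup.range_subtype] at h1
      exact h1
  have hBmax : ∀ C : Subgroup X, (∀ c ∈ C, ∀ c' ∈ C, c * c' = c' * c) → (∀ c ∈ C, c ^ 2 = 1) →
      Nat.card C ≤ Nat.card B := fun C hC hC2 => hcard ▸ hAmax C hC hC2
  have hconf : GConf Q₀ A B :=
    { hQn := hQ₀n
      hQp := hQ₀p
      hQmax := hQ₀max
      hCQ := hCQ₀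
      hcl := hcl
      hAc := hAc
      hA2 := hA2
      hBc := hBc
      hB2 := hB2
      hAmax := hAmax
      hcard := hcard
      hcardQ := hcardQ
      hgen := by
        intro Y hAY hBY hQY
        by_contra hY
        obtain ⟨R₁, hR₁p, hAR₁, hR₁Y, hYR₁⟩ := ihsub A hAc hA2 hAmax Y hY hAY hQY
        obtain ⟨R₂, hR₂p, hBR₂, hR₂Y, hYR₂⟩ := ihsub B hBc hB2 hBmax Y hY hBY hQY
        have hp : IsPGroup 2 ↥(R₁ ⊔ R₂) := hR₁p.to_sup_of_normal_right' hR₂p (hR₁Y.trans hYR₂)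
        exact hg (hp.to_le (sup_le (hAR₁.trans le_sup_left) (hBR₂.trans le_sup_right)))
      hconj := by
        intro K hK
        constructor
        · intro hAK b hb
          obtain ⟨a, ha, rfl⟩ := hBmem b hb
          exact hK.conj_mem a (hAK ha) g
        · intro hBK a ha
          have h1 := hK.conj_mem _ (hBK (hmemB a ha)) g⁻¹
          have h2 : g⁻¹ * (g * a * g⁻¹) * g⁻¹⁻¹ = a := by group
          rwa [h2] at h1
      hnot := hg
      hIHA := ihsub A hAc hA2 hAmax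
      hIHB := ihsub B hBc hB2 hBmax }
  exact hS4 hconf.involves

/-- In an `S₄`-free group `X` with `C_X(O_2(X)) ≤ O_2(X)` whose Sylow `2`-subgroups have class at
most `2`, every elementary abelian subgroup of largest order of a Sylow `2`-subgroup lies in
`O_2(X)`. -/
theorem le_pCore_of_mem_maxIn_of_centralizer [Finite X]
    (hS4 : ¬ Cfsg.Involves (Equiv.Perm (Fin 4)) X) (S : Sylow 2 X)
    (hcl : ∀ s₁ ∈ (S : Subgroup X), ∀ s₂ ∈ (S : Subgroup X), ∀ s₃ ∈ (S : Subgroup X),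
      ⁅⁅s₁, s₂⁆, s₃⁆ = 1)
    (hC : Subgroup.centralizer ((Cfsg.pCore 2 X : Subgroup X) : Set X) ≤ Cfsg.pCore 2 X)
    {A : Subgroup X} (hA : A ∈ Cfsg.Agent.Lib.helper13.maxIn 2 (S : Subgroup X)) :
    A ≤ Cfsg.pCore 2 X := by
  have : Fact (Nat.Prime 2) := ⟨Nat.prime_two⟩
  obtain ⟨hAS, hAe, hAmax⟩ := hA
  obtain ⟨hAc, hA2⟩ := (Cfsg.Agent.Lib.helper13.isElementaryAbelian_iff A).1 hAe
  have hconjS : ∀ T : Subgroup X, IsPGroup 2 T →
      ∃ g : X, ∀ t ∈ T, g * t * g⁻¹ ∈ (S : Subgroup X) := by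
    intro T hT
    obtain ⟨P, hTP⟩ := hT.exists_le_sylow
    obtain ⟨g, hg⟩ := MulAction.exists_smul_eq X P S
    refine ⟨g, fun t ht => ?_⟩
    rw [← hg, Sylow.coe_subgroup_smul]
    exact Subgroup.smul_mem_pointwise_smul t (MulAut.conj g) (P : Subgroup X) (hTP ht)
  have hclT : ∀ T : Subgroup X, IsPGroup 2 T → ∀ s₁ ∈ T, ∀ s₂ ∈ T, ∀ s₃ ∈ T,
      ⁅⁅s₁, s₂⁆, s₃⁆ = 1 := by
    intro T hT s₁ h₁ s₂ h₂ s₃ h₃
    obtain ⟨g, hg⟩ := hconjS T hT
    have h := hcl _ (hg s₁ h₁) _ (hg s₂ h₂) _ (hg s₃ h₃)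
    have e : ⁅⁅g * s₁ * g⁻¹, g * s₂ * g⁻¹⁆, g * s₃ * g⁻¹⁆ = g * ⁅⁅s₁, s₂⁆, s₃⁆ * g⁻¹ := by
      simp only [commutatorElement_def]; group
    rw [e] at h
    exact conj_eq_one_iff.1 h
  have hmaxC : ∀ C : Subgroup X, (∀ c ∈ C, ∀ c' ∈ C, c * c' = c' * c) → (∀ c ∈ C, c ^ 2 = 1) →
      Nat.card C ≤ Nat.card A := by
    intro C hCc hC2
    have hCp : IsPGroup 2 C := by
      rintro ⟨c, hc⟩
      exact ⟨1, Subtype.ext (by simpa using hC2 c hc)⟩
    obtain ⟨g, hg⟩ := hconjS C hCp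
    have h1 := hAmax (C.map (MulAut.conj g).toMonoidHom)
      (by rintro _ ⟨c, hc, rfl⟩; exact hg c hc)
      (Cfsg.Agent.Lib.helper13.elemAb_map _
        ((Cfsg.Agent.Lib.helper13.isElementaryAbelian_iff C).2 ⟨hCc, hC2⟩))
    rwa [Subgroup.card_map_of_injective (MulAut.conj g).injective] at h1
  obtain ⟨R, hRn, hRp, hAR⟩ := exists_normal_two_of_maxElem (Nat.card X) X rfl hS4 hclT
    (Cfsg.pCore 2 X) (Cfsg.Agent.Lib.helper40.pCore_normal' 2 X)
    (Cfsg.Agent.Lib.helper40.pCore_isPGroup 2 X) hC A hAc hA2 hmaxC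
  exact hAR.trans (Cfsg.Agent.Lib.helper40.le_pCore R hRn hRp)

end gcons

end Cfsg.Agent.Lib.helper51
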