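import Mathlib
import Cfsg.Prelude.Def_Solvable
import Cfsg.Prelude.Def_Transfer
import Cfsg.Agent.Lib.helper51.GCore
import Cfsg.Agent.Lib.helper13.ThompsonQuot

/-!
# Glauberman's factorization `G = N_G(J_e(S)) O_{2'}(G)`

for finite solvable `S₄`-free groups whose Sylow `2`-subgroups have class at most `2`.
-/

set_option autoImplicit false

namespace Cfsg.Agent.Lib.helper51

open scoped commutatorElement

universe u

/-- If `O_{2'}(X) = 1` then `J_e(S)` is normal in `X`. -/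
theorem thompsonSubgroupOf_normal_of_class_two {X : Type u} [Group X] [Finite X]
    [Group.IsSolvable X] (hS4 : ¬ Cfsg.Involves (Equiv.Perm (Fin 4)) X) (S : Sylow 2 X)
    (hcl : ∀ s₁ ∈ (S : Subgroup X), ∀ s₂ ∈ (S : Subgroup X), ∀ s₃ ∈ (S : Subgroup X),
      ⁅⁅s₁, s₂⁆, s₃⁆ = 1)
    (hO : Cfsg.pPrimeCore 2 X = ⊥) :
    (Cfsg.thompsonSubgroupOf 2 (S : Subgroup X)).Normal := by
  have : Fact (Nat.Prime 2) := ⟨Nat.prime_two⟩
  have hQn : (Cfsg.pCore 2 X).Normal := Cfsg.Agent.Lib.helper40.pCore_normal' 2 X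
  have hQp : IsPGroup 2 (Cfsg.pCore 2 X) := Cfsg.Agent.Lib.helper40.pCore_isPGroup 2 X
  have hQS : Cfsg.pCore 2 X ≤ S := hQp.le_sylow_of_normal S
  have hJle : Cfsg.thompsonSubgroupOf 2 (S : Subgroup X) ≤ Cfsg.pCore 2 X := by
    rw [Cfsg.Agent.Lib.helper13.thompsonSubgroupOf_eq_sSup]
    exact sSup_le (fun A hA => le_pCore_of_mem_maxIn hS4 S hcl hO hA)
  have hJeq := Cfsg.Agent.Lib.helper13.thompsonSubgroupOf_eq_of_le (p := 2) hQS hJle
  rw [← hJeq, ← Subgroup.normalizer_eq_top_iff, eq_top_iff]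
  refine le_trans ?_ (Cfsg.Agent.Lib.helper13.normalizer_le_normalizer_thompsonSubgroupOf 2 _)
  rw [Subgroup.normalizer_eq_top_iff.2 hQn]

/-- **Glauberman's factorization** for solvable `S₄`-free groups with Sylow `2`-subgroups of
class at most `2`: `G = N_G(J_e(S)) O_{2'}(G)`. -/
theorem glauberman_factorization_class_two {G : Type u} [Group G] [Finite G]
    [Group.IsSolvable G] (hS4 : ¬ Cfsg.Involves (Equiv.Perm (Fin 4)) G) (S : Sylow 2 G)
    (hcl : Subgroup.lowerCentralSeries (S : Subgroup G) 2 = ⊥) :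
    Subgroup.normalizer ((Cfsg.thompsonSubgroupOf 2 (S : Subgroup G)) : Set G) ⊔
      Cfsg.pPrimeCore 2 G = ⊤ := by
  classical
  have : Fact (Nat.Prime 2) := ⟨Nat.prime_two⟩
  have hKn : (Cfsg.pPrimeCore 2 G).Normal := Cfsg.Agent.Lib.helper40.pPrimeCore_normal' 2 G
  have hKcop : (Nat.card (Cfsg.pPrimeCore 2 G)).Coprime 2 :=
    Cfsg.Agent.Lib.helper40.pPrimeCore_card_coprime 2 G
  have hOX : Cfsg.pPrimeCore 2 (G ⧸ Cfsg.pPrimeCore 2 G) = ⊥ :=
    Cfsg.Agent.Lib.helper28.pPrimeCore_quotient_eq_bot 2 G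
  have hKord : ∀ x ∈ Cfsg.pPrimeCore 2 G, (orderOf x).Coprime 2 := fun x hx =>
    Cfsg.Agent.Lib.helper40.orderOf_coprime_of_mem_pPrimeCore hx
  set K : Subgroup G := Cfsg.pPrimeCore 2 G with hK
  set π : G →* G ⧸ K := QuotientGroup.mk' K with hπ
  have hπs : Function.Surjective π := QuotientGroup.mk'_surjective K
  have hπ1 : ∀ g : G, π g = 1 ↔ g ∈ K := fun g => by
    rw [hπ, QuotientGroup.mk'_apply, QuotientGroup.eq_one_iff]
  set S' : Sylow 2 (G ⧸ K) := S.mapSurjective hπs with hS'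
  have hS'coe : (S' : Subgroup (G ⧸ K)) = (S : Subgroup G).map π := Sylow.coe_mapSurjective hπs S
  have hS4X : ¬ Cfsg.Involves (Equiv.Perm (Fin 4)) (G ⧸ K) :=
    fun h => hS4 (involves_of_involves_quotient K h)
  have hclX : ∀ s₁ ∈ (S' : Subgroup (G ⧸ K)), ∀ s₂ ∈ (S' : Subgroup (G ⧸ K)),
      ∀ s₃ ∈ (S' : Subgroup (G ⧸ K)), ⁅⁅s₁, s₂⁆, s₃⁆ = 1 := by
    rw [hS'coe]
    rintro _ ⟨t₁, ht₁, rfl⟩ _ ⟨t₂, ht₂, rfl⟩ _ ⟨t₃, ht₃, rfl⟩
    have h1 : ⁅⁅t₁, t₂⁆, t₃⁆ ∈ Subgroup.lowerCentralSeries (S : Subgroup G) 2 :=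
      Subgroup.commutator_mem_commutator (Subgroup.commutator_mem_commutator ht₁ ht₂) ht₃
    rw [hcl, Subgroup.mem_bot] at h1
    rw [← map_commutatorElement, ← map_commutatorElement, h1, map_one]
  have hJ'n := thompsonSubgroupOf_normal_of_class_two hS4X S' hclX hOX
  -- transport
  have hinj : Set.InjOn π ((S : Subgroup G) : Set G) := by
    intro s hs t ht hst
    have h1 : s⁻¹ * t ∈ K := by rw [← hπ1, map_mul, map_inv, hst, inv_mul_cancel]
    have h2 : s⁻¹ * t ∈ (S : Subgroup G) := mul_mem (inv_mem hs) ht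
    have h3 := hKord _ h1
    obtain ⟨j, hj⟩ := S.isPGroup' ⟨s⁻¹ * t, h2⟩
    have h4 : (s⁻¹ * t) ^ 2 ^ j = 1 := congrArg Subtype.val hj
    have h5 : s⁻¹ * t = 1 := by
      have d1 := orderOf_dvd_of_pow_eq_one h4
      have : orderOf (s⁻¹ * t) = 1 :=
        Nat.eq_one_of_dvd_coprimes (Nat.Coprime.pow_right j h3) dvd_rfl d1
      exact orderOf_eq_one_iff.1 this
    exact inv_mul_eq_one.1 h5
  set J : Subgroup G := Cfsg.thompsonSubgroupOf 2 (S : Subgroup G) with hJ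
  have hJmap : Cfsg.thompsonSubgroupOf 2 (S' : Subgroup (G ⧸ K)) = J.map π := by
    rw [hS'coe]
    exact Cfsg.Agent.Lib.helper13.thompsonSubgroupOf_map_of_injOn π (S : Subgroup G) hinj
  rw [hJmap] at hJ'n
  -- the preimage `M = J K`
  set M : Subgroup G := (J.map π).comap π with hM
  have hMn : M.Normal := inferInstance
  have hJM : J ≤ M := Subgroup.le_comap_map π J
  have hMle : M ≤ J ⊔ K := by
    intro m hm
    obtain ⟨j, hj, hjm⟩ := hm
    have h1 : j⁻¹ * m ∈ K := by rw [← hπ1, map_mul, map_inv, hjm, inv_mul_cancel]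
    have h2 : m = j * (j⁻¹ * m) := by group
    rw [h2]
    exact Subgroup.mul_mem_sup hj h1
  have hJS : J ≤ S := Cfsg.Agent.Lib.helper13.thompsonSubgroupOf_le_self _
  have hJp : IsPGroup 2 (J.subgroupOf M) := (S.isPGroup'.to_le hJS).comap_subtype
  have hidx : ¬ 2 ∣ (J.subgroupOf M).index := by
    intro hdvd
    have h1 : J.relIndex M ∣ Nat.card K := by
      have h2 : Nat.card ↥(J ⊔ K) ∣ Nat.card J * Nat.card K :=
        Cfsg.Agent.Lib.helper40.card_sup_dvd_mul J K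
      have h3 := Subgroup.relIndex_mul_relIndex (⊥ : Subgroup G) J M bot_le hJM
      rw [Subgroup.relIndex_bot_left, Subgroup.relIndex_bot_left] at h3
      have h4 : Nat.card M ∣ Nat.card ↥(J ⊔ K) := Subgroup.card_dvd_of_le hMle
      have h5 : Nat.card J * J.relIndex M ∣ Nat.card J * Nat.card K := by
        rw [h3]; exact h4.trans h2
      exact Nat.dvd_of_mul_dvd_mul_left Nat.card_pos h5
    have h6 : 2 ∣ Nat.card K := hdvd.trans h1
    have h7 : (2 : ℕ) ∣ 1 := by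
      have := Nat.dvd_gcd h6 dvd_rfl
      rwa [hKcop.gcd_eq_one] at this
    omega
  let P : Sylow 2 ↥M := hJp.toSylow hidx
  have hP : ((P : Subgroup ↥M).map M.subtype) = J := by
    rw [IsPGroup.toSylow_coe, Subgroup.map_subgroupOf_eq_of_le hJM]
  have hfr := Sylow.normalizer_sup_eq_top P
  rw [hP] at hfr
  rw [eq_top_iff, ← hfr]
  apply sup_le le_sup_left
  exact hMle.trans (sup_le (Subgroup.le_normalizer.trans le_sup_left) le_sup_right)

end Cfsg.Agent.Lib.helper51
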