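import Mathlib
import Cfsg.Prelude.Def_JComponents
import Cfsg.Agent.Lib.helper51.JNorm

/-!
Counting with maximal elementary abelian subgroups: the four-group bound used for the existence
of `J(T)`-components.
-/

set_option autoImplicit false

namespace Cfsg.Agent.Lib.helper51

open Cfsg Cfsg.Agent.Lib.helper13

section SecondFixed

universe u

variable {G : Type u} [Group G]

/-- Second fixed points: commuting involutory automorphisms (elements of `B`) of an elementary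
abelian 2-group `U` fixing `u₁`, with `U ≠ {1, u₁}`, have a common fixed point modulo `u₁`
outside `{1, u₁}`. -/
theorem exists_second_fixed {U B : Subgroup G} (hUc : ∀ x ∈ U, ∀ y ∈ U, x * y = y * x)
    (hU2 : ∀ x ∈ U, x * x = 1) {u₁ : G} (hu₁ : u₁ ∈ U)
    (hBU : ∀ b ∈ B, ∀ u ∈ U, b * u * b⁻¹ ∈ U)
    (hB2 : ∀ b ∈ B, ∀ u ∈ U, b * (b * u * b⁻¹) * b⁻¹ = u)
    (hBc : ∀ b ∈ B, ∀ c ∈ B, ∀ u ∈ U, b * (c * u * c⁻¹) * b⁻¹ = c * (b * u * b⁻¹) * c⁻¹)
    (hBu : ∀ b ∈ B, b * u₁ * b⁻¹ = u₁)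
    (hex : ∃ x ∈ U, x ≠ 1 ∧ x ≠ u₁) (S : Finset G) (hS : ∀ b ∈ S, b ∈ B) :
    ∃ u ∈ U, u ≠ 1 ∧ u ≠ u₁ ∧ ∀ c ∈ S, c * u * c⁻¹ = u ∨ c * u * c⁻¹ = u * u₁ := by
  classical
  induction S using Finset.induction_on with
  | empty =>
    obtain ⟨x, hx, hx1, hxu⟩ := hex
    exact ⟨x, hx, hx1, hxu, by simp⟩
  | insert b S' hb ih =>
    obtain ⟨x, hx, hx1, hxu, hxS⟩ := ih (fun c hc => hS c (Finset.mem_insert_of_mem hc))
    have hbB : b ∈ B := hS b (Finset.mem_insert_self b S')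
    by_cases hcase : b * x * b⁻¹ = x ∨ b * x * b⁻¹ = x * u₁
    · refine ⟨x, hx, hx1, hxu, ?_⟩
      intro c hc
      rcases Finset.mem_insert.mp hc with rfl | hc
      · exact hcase
      · exact hxS c hc
    · push Not at hcase
      obtain ⟨hc1, hc2⟩ := hcase
      have hy : b * x * b⁻¹ ∈ U := hBU b hbB x hx
      have hxx := hU2 x hx
      refine ⟨x * (b * x * b⁻¹), U.mul_mem hx hy, ?_, ?_, ?_⟩
      · intro h
        apply hc1
        calc b * x * b⁻¹ = x * (x * (b * x * b⁻¹)) := by rw [← mul_assoc, hxx, one_mul]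
          _ = x := by rw [h, mul_one]
      · intro h
        apply hc2
        calc b * x * b⁻¹ = x * (x * (b * x * b⁻¹)) := by rw [← mul_assoc, hxx, one_mul]
          _ = x * u₁ := by rw [h]
      · intro c hc
        left
        have hconj : c * (x * (b * x * b⁻¹)) * c⁻¹ = (c * x * c⁻¹) * (c * (b * x * b⁻¹) * c⁻¹) := by
          group
        rw [hconj]
        rcases Finset.mem_insert.mp hc with rfl | hc
        · rw [hB2 c hbB x hx]
          exact hUc _ hy _ hx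
        · have hcB : c ∈ B := hS c (Finset.mem_insert_of_mem hc)
          rw [hBc c hcB b hbB x hx]
          rcases hxS c hc with h | h
          · rw [h]
          · rw [h]
            have e : b * (x * u₁) * b⁻¹ = (b * x * b⁻¹) * (b * u₁ * b⁻¹) := by group
            rw [e, hBu b hbB]
            have h1 := hUc u₁ hu₁ _ hy
            have h2 := hU2 u₁ hu₁
            calc x * u₁ * (b * x * b⁻¹ * u₁) = x * (u₁ * (b * x * b⁻¹)) * u₁ := by group
              _ = x * ((b * x * b⁻¹) * u₁) * u₁ := by rw [h1]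
              _ = x * (b * x * b⁻¹) * (u₁ * u₁) := by group
              _ = x * (b * x * b⁻¹) := by rw [h2, mul_one]

end SecondFixed

section Count

universe u

variable {G : Type u} [Group G] [Finite G]

/-- `|H ⊔ K| ≤ |H| |K|`. -/
theorem card_sup_le_mul (H K : Subgroup G) (h : H ≤ Subgroup.normalizer (K : Set G)) :
    Nat.card (H ⊔ K : Subgroup G) ≤ Nat.card H * Nat.card K := by
  have h1 := card_sup_mul_card_inf H K h
  have h2 : 0 < Nat.card (H ⊓ K : Subgroup G) := Nat.card_pos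
  calc Nat.card (H ⊔ K : Subgroup G)
      ≤ Nat.card (H ⊔ K : Subgroup G) * Nat.card (H ⊓ K : Subgroup G) :=
        Nat.le_mul_of_pos_right _ h2
    _ = _ := h1

theorem card_zpowers_le_two {a : G} (ha : a * a = 1) : Nat.card (Subgroup.zpowers a) ≤ 2 := by
  rw [Nat.card_zpowers]
  apply Nat.le_of_dvd (by norm_num)
  apply orderOf_dvd_of_pow_eq_one
  rw [pow_two]; exact ha

/-- If `A = B ∪ aB` with `a² = 1` normalizing `B` then `|A| ≤ 2|B|`. -/
theorem card_le_two_mul {A B : Subgroup G} {a : G} (ha : a * a = 1)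
    (haB : ∀ b ∈ B, a * b * a⁻¹ ∈ B) (hAB : ∀ y ∈ A, y ∈ B ∨ a * y ∈ B) :
    Nat.card A ≤ 2 * Nat.card B := by
  have hle : A ≤ Subgroup.zpowers a ⊔ B := by
    intro y hy
    rcases hAB y hy with h | h
    · exact Subgroup.mem_sup_right h
    · have e : y = a⁻¹ * (a * y) := by group
      rw [e]
      exact Subgroup.mul_mem _
        (Subgroup.mem_sup_left (Subgroup.inv_mem _ (Subgroup.mem_zpowers a)))
        (Subgroup.mem_sup_right h)
  have hn : Subgroup.zpowers a ≤ Subgroup.normalizer (B : Set G) := by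
    rw [Subgroup.zpowers_le]
    exact mem_normalizer_of_forall_conj_mem haB
  calc Nat.card A ≤ Nat.card (Subgroup.zpowers a ⊔ B : Subgroup G) := Subgroup.card_le_of_le hle
    _ ≤ Nat.card (Subgroup.zpowers a) * Nat.card B := card_sup_le_mul _ _ hn
    _ ≤ 2 * Nat.card B := Nat.mul_le_mul_right _ (card_zpowers_le_two ha)

/-- The basic count with a maximal elementary abelian subgroup `A` of `T`. -/
theorem maxIn_count {T A B X : Subgroup G} (hA : A ∈ maxIn 2 T) (hBT : B ≤ T) (hXT : X ≤ T)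
    (hB : IsElementaryAbelian 2 B) (hX : IsElementaryAbelian 2 X)
    (hXB : X ≤ Subgroup.centralizer (B : Set G)) :
    Nat.card B * Nat.card X ≤ Nat.card A * Nat.card (B ⊓ X : Subgroup G) := by
  have h1 := Cfsg.Agent.Lib.helper13.card_mul_card_le_sup_inf B X
  have h2 : Nat.card (B ⊔ X : Subgroup G) ≤ Nat.card A :=
    hA.2.2 _ (sup_le hBT hXT) (elemAb_sup hB hX hXB)
  exact h1.trans (Nat.mul_le_mul_right _ h2)

theorem exists_of_card_le_two {H : Subgroup G} (h : Nat.card H ≤ 2) :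
    ∃ u₁ ∈ H, ∀ y ∈ H, y = 1 ∨ y = u₁ := by
  by_cases hbot : H = ⊥
  · refine ⟨1, H.one_mem, fun y hy => ?_⟩
    rw [hbot] at hy
    exact Or.inl (Subgroup.mem_bot.mp hy)
  · obtain ⟨x, hx1⟩ := (Subgroup.ne_bot_iff_exists_ne_one).mp hbot
    have h1 : 1 < Nat.card H := by
      rw [Subgroup.one_lt_card_iff_ne_bot]; exact hbot
    have h2 : Nat.card H = 2 := by omega
    refine ⟨(x : G), x.2, fun y hy => ?_⟩
    exact eq_one_or_eq_of_card_two h2 x.2 (fun h' => hx1 (Subtype.ext h')) hy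

end Count

section Four

universe u

variable {G : Type u} [Group G]

/-- `C_W(S)`. -/
def fixOf (W : Subgroup G) (S : Set G) : Subgroup G := W ⊓ Subgroup.centralizer S

theorem mem_fixOf {W : Subgroup G} {S : Set G} {w : G} :
    w ∈ fixOf W S ↔ w ∈ W ∧ ∀ s ∈ S, s * w * s⁻¹ = w := by
  unfold fixOf
  rw [Subgroup.mem_inf, Subgroup.mem_centralizer_iff]
  constructor
  · rintro ⟨h1, h2⟩
    exact ⟨h1, fun s hs => by rw [h2 s hs]; group⟩
  · rintro ⟨h1, h2⟩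
    refine ⟨h1, fun s hs => ?_⟩
    have := h2 s hs
    calc s * w = (s * w * s⁻¹) * s := by group
      _ = w * s := by rw [this]

theorem fixOf_le (W : Subgroup G) (S : Set G) : fixOf W S ≤ W := inf_le_left

theorem fixOf_le_centralizer (W : Subgroup G) (S : Set G) :
    fixOf W S ≤ Subgroup.centralizer S := inf_le_right

/-- The configuration for the four-group bound: `A = B ∪ aB` is a maximal elementary abelian
subgroup of `T`, `W ≤ T` is elementary abelian, `d` acts fixed-point-freely of order 3 on `W`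
and is inverted by `a`, and the action of `B` on `W` commutes with that of `d`. -/
structure FourSetup (T A B W : Subgroup G) (d a : G) : Prop where
  hA : A ∈ maxIn 2 T
  WT : W ≤ T
  Wc : ∀ x ∈ W, ∀ y ∈ W, x * y = y * x
  W2 : ∀ x ∈ W, x * x = 1
  aA : a ∈ A
  BA : B ≤ A
  AB : ∀ y ∈ A, y ∈ B ∨ a * y ∈ B
  dW : ∀ w ∈ W, d * w * d⁻¹ ∈ W
  aW : ∀ w ∈ W, a * w * a⁻¹ ∈ W
  BW : ∀ b ∈ B, ∀ w ∈ W, b * w * b⁻¹ ∈ W
  d3 : ∀ w ∈ W, d * (d * (d * w * d⁻¹) * d⁻¹) * d⁻¹ = w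
  nrm : ∀ w ∈ W, w * (d * w * d⁻¹) * (d * (d * w * d⁻¹) * d⁻¹) = 1
  ad : a * d * a⁻¹ = d⁻¹
  Bd : ∀ b ∈ B, ∀ w ∈ W, b * (d * w * d⁻¹) * b⁻¹ = d * (b * w * b⁻¹) * d⁻¹

variable {T A B W : Subgroup G} {d a : G}

theorem FourSetup.Ac (Φ : FourSetup T A B W d a) : ∀ x ∈ A, ∀ y ∈ A, x * y = y * x :=
  ((isElementaryAbelian_iff A).mp Φ.hA.2.1).1

theorem FourSetup.A2 (Φ : FourSetup T A B W d a) : ∀ x ∈ A, x * x = 1 := fun x hx => by
  have := ((isElementaryAbelian_iff A).mp Φ.hA.2.1).2 x hx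
  rwa [pow_two] at this

theorem FourSetup.aa (Φ : FourSetup T A B W d a) : a * a = 1 := Φ.A2 a Φ.aA

theorem FourSetup.W_inv (Φ : FourSetup T A B W d a) {w : G} (hw : w ∈ W) : w⁻¹ = w :=
  inv_eq_of_mul_eq_one_left (Φ.W2 w hw)

theorem FourSetup.Wel (Φ : FourSetup T A B W d a) : IsElementaryAbelian 2 W :=
  (isElementaryAbelian_iff W).mpr ⟨Φ.Wc, fun w hw => by rw [pow_two]; exact Φ.W2 w hw⟩

/-- `δ²w = w · δw`. -/
theorem FourSetup.dd (Φ : FourSetup T A B W d a) {w : G} (hw : w ∈ W) :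
    d * (d * w * d⁻¹) * d⁻¹ = w * (d * w * d⁻¹) := by
  have h := Φ.nrm w hw
  have hm : w * (d * w * d⁻¹) ∈ W := W.mul_mem hw (Φ.dW w hw)
  have h1 : d * (d * w * d⁻¹) * d⁻¹ = (w * (d * w * d⁻¹))⁻¹ := eq_inv_of_mul_eq_one_right h
  rw [h1, Φ.W_inv hm]

/-- `δ⁻¹ = δ²` on `W`. -/
theorem FourSetup.d_inv (Φ : FourSetup T A B W d a) {w : G} (hw : w ∈ W) :
    d⁻¹ * w * d = d * (d * w * d⁻¹) * d⁻¹ := by
  have h := Φ.d3 w hw
  calc d⁻¹ * w * d = d⁻¹ * (d * (d * (d * w * d⁻¹) * d⁻¹) * d⁻¹) * d := by rw [h]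
    _ = d * (d * w * d⁻¹) * d⁻¹ := by group

theorem FourSetup.a_delta (Φ : FourSetup T A B W d a) {u : G} (hu : u ∈ W)
    (hau : a * u * a⁻¹ = u) : a * (d * u * d⁻¹) * a⁻¹ = u * (d * u * d⁻¹) := by
  have e : a * (d * u * d⁻¹) * a⁻¹ = (a * d * a⁻¹) * (a * u * a⁻¹) * (a * d * a⁻¹)⁻¹ := by group
  rw [e, Φ.ad, hau, inv_inv, Φ.d_inv hu, Φ.dd hu]

/-- `C_W(a) ∩ δ C_W(a) = 1`. -/
theorem FourSetup.U0_inter (Φ : FourSetup T A B W d a) {w u : G} (hw : w ∈ fixOf W {a})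
    (hu : u ∈ fixOf W {a}) (h : w = d * u * d⁻¹) : w = 1 := by
  obtain ⟨hwW, hwa⟩ := mem_fixOf.mp hw
  obtain ⟨huW, hua⟩ := mem_fixOf.mp hu
  have h1 := hwa a rfl
  have h2 := Φ.a_delta huW (hua a rfl)
  rw [← h] at h2
  rw [h1] at h2
  have hu1 : u = 1 := by
    have : u * w = 1 * w := by rw [one_mul]; exact h2.symm
    exact mul_right_cancel this
  rw [h, hu1]; group

theorem FourSetup.F1_le_U0 (Φ : FourSetup T A B W d a) : fixOf W (A : Set G) ≤ fixOf W {a} := by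
  intro w hw
  obtain ⟨hwW, hwA⟩ := mem_fixOf.mp hw
  refine mem_fixOf.mpr ⟨hwW, ?_⟩
  rintro s rfl
  exact hwA s Φ.aA

theorem FourSetup.F1_le_F0 (Φ : FourSetup T A B W d a) :
    fixOf W (A : Set G) ≤ fixOf W (B : Set G) := by
  intro w hw
  obtain ⟨hwW, hwA⟩ := mem_fixOf.mp hw
  exact mem_fixOf.mpr ⟨hwW, fun s hs => hwA s (Φ.BA hs)⟩

theorem FourSetup.mem_F1 (Φ : FourSetup T A B W d a) {w : G} (hw0 : w ∈ fixOf W (B : Set G))
    (hwa : w ∈ fixOf W {a}) : w ∈ fixOf W (A : Set G) := by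
  obtain ⟨hwW, hwB⟩ := mem_fixOf.mp hw0
  obtain ⟨-, hwa'⟩ := mem_fixOf.mp hwa
  have ha := hwa' a rfl
  refine mem_fixOf.mpr ⟨hwW, fun y hy => ?_⟩
  rcases Φ.AB y hy with h | h
  · exact hwB y h
  · have h1 := hwB _ h
    have ha' : a⁻¹ * w * a = w := by
      calc a⁻¹ * w * a = a⁻¹ * (a * w * a⁻¹) * a := by rw [ha]
        _ = w := by group
    calc y * w * y⁻¹ = a⁻¹ * ((a * y) * w * (a * y)⁻¹) * a := by group
      _ = w := by rw [h1, ha']

theorem FourSetup.BW_le_F1 (Φ : FourSetup T A B W d a) : B ⊓ W ≤ fixOf W (A : Set G) := by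
  rintro w ⟨hwB, hwW⟩
  refine mem_fixOf.mpr ⟨hwW, fun s hs => ?_⟩
  rw [Φ.Ac s hs w (Φ.BA hwB)]; group

theorem FourSetup.F0_delta (Φ : FourSetup T A B W d a) {w : G} (hw : w ∈ fixOf W (B : Set G)) :
    d * w * d⁻¹ ∈ fixOf W (B : Set G) := by
  obtain ⟨hwW, hwB⟩ := mem_fixOf.mp hw
  refine mem_fixOf.mpr ⟨Φ.dW w hwW, fun b hb => ?_⟩
  rw [Φ.Bd b hb w hwW, hwB b hb]

theorem FourSetup.B_U0 (Φ : FourSetup T A B W d a) {b u : G} (hb : b ∈ B)
    (hu : u ∈ fixOf W {a}) : b * u * b⁻¹ ∈ fixOf W {a} := by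
  obtain ⟨huW, hua⟩ := mem_fixOf.mp hu
  refine mem_fixOf.mpr ⟨Φ.BW b hb u huW, ?_⟩
  rintro s rfl
  have hc := Φ.Ac s Φ.aA b (Φ.BA hb)
  calc s * (b * u * b⁻¹) * s⁻¹ = (s * b) * u * (s * b)⁻¹ := by group
    _ = (b * s) * u * (b * s)⁻¹ := by rw [hc]
    _ = b * (s * u * s⁻¹) * b⁻¹ := by group
    _ = b * u * b⁻¹ := by rw [hua s rfl]

theorem FourSetup.BT (Φ : FourSetup T A B W d a) : B ≤ T := Φ.BA.trans Φ.hA.1

theorem FourSetup.Bel (Φ : FourSetup T A B W d a) : IsElementaryAbelian 2 B :=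
  elemAb_mono Φ.hA.2.1 Φ.BA

theorem FourSetup.card_A_le [Finite G] (Φ : FourSetup T A B W d a) :
    Nat.card A ≤ 2 * Nat.card B := by
  apply card_le_two_mul Φ.aa _ Φ.AB
  intro b hb
  rw [Φ.Ac a Φ.aA b (Φ.BA hb)]
  have e : b * a * a⁻¹ = b := by group
  rw [e]; exact hb

theorem FourSetup.card_F0_le [Finite G] (Φ : FourSetup T A B W d a) :
    Nat.card (fixOf W (B : Set G)) ≤ 2 * Nat.card (fixOf W (A : Set G)) := by
  have h1 := maxIn_count Φ.hA Φ.BT ((fixOf_le W _).trans Φ.WT) Φ.Bel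
    (elemAb_mono Φ.Wel (fixOf_le W _)) (fixOf_le_centralizer W _)
  have h2 : Nat.card (B ⊓ fixOf W (B : Set G) : Subgroup G) ≤ Nat.card (fixOf W (A : Set G)) :=
    Subgroup.card_le_of_le ((inf_le_inf_left B (fixOf_le W _)).trans Φ.BW_le_F1)
  have h3 := Φ.card_A_le
  have hB : 0 < Nat.card B := Nat.card_pos
  have h4 : Nat.card B * Nat.card (fixOf W (B : Set G)) ≤
      Nat.card B * (2 * Nat.card (fixOf W (A : Set G))) := by
    calc Nat.card B * Nat.card (fixOf W (B : Set G))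
        ≤ Nat.card A * Nat.card (B ⊓ fixOf W (B : Set G) : Subgroup G) := h1
      _ ≤ (2 * Nat.card B) * Nat.card (fixOf W (A : Set G)) := Nat.mul_le_mul h3 h2
      _ = Nat.card B * (2 * Nat.card (fixOf W (A : Set G))) := by ring
  exact Nat.le_of_mul_le_mul_left h4 hB

/-- `P ∩ δP = 1` for `P ≤ C_W(a)`. -/
theorem FourSetup.inf_map_eq_bot (Φ : FourSetup T A B W d a) {P : Subgroup G}
    (hP : P ≤ fixOf W {a}) : P ⊓ P.map (MulAut.conj d).toMonoidHom = ⊥ := by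
  rw [eq_bot_iff]
  rintro w ⟨hw, ⟨u, hu, rfl⟩⟩
  exact Subgroup.mem_bot.mpr (Φ.U0_inter (hP hw) (hP hu) rfl)

/-- `|P|² ≤ |P δP|` for `P ≤ C_W(a)`. -/
theorem FourSetup.card_sq_le [Finite G] (Φ : FourSetup T A B W d a) {P : Subgroup G}
    (hP : P ≤ fixOf W {a}) :
    Nat.card P * Nat.card P ≤ Nat.card (P ⊔ P.map (MulAut.conj d).toMonoidHom : Subgroup G) := by
  have h1 := Cfsg.Agent.Lib.helper13.card_mul_card_le_sup_inf P
    (P.map (MulAut.conj d).toMonoidHom)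
  rw [Φ.inf_map_eq_bot hP, Subgroup.card_bot, mul_one,
    Subgroup.card_map_of_injective (MulAut.conj d).injective] at h1
  exact h1

theorem FourSetup.card_F1_le_two [Finite G] (Φ : FourSetup T A B W d a) :
    Nat.card (fixOf W (A : Set G)) ≤ 2 := by
  have h1 := Φ.card_sq_le Φ.F1_le_U0
  have h2 : fixOf W (A : Set G) ⊔ (fixOf W (A : Set G)).map (MulAut.conj d).toMonoidHom ≤
      fixOf W (B : Set G) := by
    apply sup_le Φ.F1_le_F0
    rintro _ ⟨u, hu, rfl⟩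
    exact Φ.F0_delta (Φ.F1_le_F0 hu)
  have h3 := Subgroup.card_le_of_le h2
  have h4 := Φ.card_F0_le
  have hpos : 0 < Nat.card (fixOf W (A : Set G)) := Nat.card_pos
  have h5 : Nat.card (fixOf W (A : Set G)) * Nat.card (fixOf W (A : Set G)) ≤
      Nat.card (fixOf W (A : Set G)) * 2 := by
    calc _ ≤ _ := h1
      _ ≤ _ := h3
      _ ≤ 2 * Nat.card (fixOf W (A : Set G)) := h4
      _ = _ := by ring
  exact Nat.le_of_mul_le_mul_left h5 hpos

theorem mem_zpowers_of_sq {u y : G} (hu : u * u = 1) (hy : y ∈ Subgroup.zpowers u) :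
    y = 1 ∨ y = u := by
  obtain ⟨k, rfl⟩ := Subgroup.mem_zpowers_iff.mp hy
  rcases Int.emod_two_eq_zero_or_one k with h | h
  · left
    have : k = 2 * (k / 2) := by omega
    rw [this, zpow_mul, zpow_two, hu, one_zpow]
  · right
    have : k = 2 * (k / 2) + 1 := by omega
    rw [this, zpow_add, zpow_mul, zpow_two, hu, one_zpow, one_mul, zpow_one]

/-- The counting step: a second fixed point `u` of `B` on `C_W(a)` forces `C_W(A) = 1`. -/
theorem FourSetup.F1_eq_bot [Finite G] (Φ : FourSetup T A B W d a) {u u₁ : G}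
    (hu₁F : u₁ ∈ fixOf W (A : Set G)) (huU : u ∈ fixOf W {a}) (hu1 : u ≠ 1)
    (huF : u ∉ fixOf W (A : Set G))
    (hfix' : ∀ c ∈ B, c * u * c⁻¹ = u ∨ c * u * c⁻¹ = u * u₁) :
    fixOf W (A : Set G) = ⊥ := by
  have hU0W : fixOf W {a} ≤ W := fixOf_le W _
  have huW : u ∈ W := hU0W huU
  have hBu : ∀ b ∈ B, b * u₁ * b⁻¹ = u₁ := fun b hb =>
    (mem_fixOf.mp (Φ.F1_le_F0 hu₁F)).2 b hb
  obtain ⟨B₁, hB₁⟩ : ∃ B₁ : Subgroup G, B₁ = B ⊓ Subgroup.centralizer ({u} : Set G) := ⟨_, rfl⟩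
  have hB₁mem : ∀ b, b ∈ B₁ ↔ b ∈ B ∧ b * u * b⁻¹ = u := by
    intro b
    rw [hB₁, Subgroup.mem_inf, Subgroup.mem_centralizer_singleton_iff]
    constructor
    · rintro ⟨h1, h2⟩
      exact ⟨h1, by rw [h2]; group⟩
    · rintro ⟨h1, h2⟩
      refine ⟨h1, ?_⟩
      calc b * u = (b * u * b⁻¹) * b := by group
        _ = u * b := by rw [h2]
  have hB₁B : B₁ ≤ B := by rw [hB₁]; exact inf_le_left
  have hcardB : Nat.card B ≤ 2 * Nat.card B₁ := by
    by_cases hall : ∀ y ∈ B, y ∈ B₁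
    · calc Nat.card B ≤ Nat.card B₁ := Subgroup.card_le_of_le hall
        _ ≤ 2 * Nat.card B₁ := Nat.le_mul_of_pos_left _ (by norm_num)
    · push Not at hall
      obtain ⟨b₀, hb₀B, hb₀⟩ := hall
      have hb₀u : b₀ * u * b₀⁻¹ = u * u₁ := by
        rcases hfix' b₀ hb₀B with h | h
        · exact absurd ((hB₁mem b₀).mpr ⟨hb₀B, h⟩) hb₀
        · exact h
      apply card_le_two_mul (Φ.A2 b₀ (Φ.BA hb₀B))
      · intro b hb
        have hbB := hB₁B hb
        rw [Φ.Ac b₀ (Φ.BA hb₀B) b (Φ.BA hbB)]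
        have e : b * b₀ * b₀⁻¹ = b := by group
        rw [e]; exact hb
      · intro y hy
        by_cases hyB₁ : y ∈ B₁
        · exact Or.inl hyB₁
        · right
          have hyu : y * u * y⁻¹ = u * u₁ := by
            rcases hfix' y hy with h | h
            · exact absurd ((hB₁mem y).mpr ⟨hy, h⟩) hyB₁
            · exact h
          refine (hB₁mem _).mpr ⟨B.mul_mem hb₀B hy, ?_⟩
          calc b₀ * y * u * (b₀ * y)⁻¹ = b₀ * (y * u * y⁻¹) * b₀⁻¹ := by group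
            _ = b₀ * (u * u₁) * b₀⁻¹ := by rw [hyu]
            _ = (b₀ * u * b₀⁻¹) * (b₀ * u₁ * b₀⁻¹) := by group
            _ = u * u₁ * u₁ := by rw [hb₀u, hBu b₀ hb₀B]
            _ = u := by rw [mul_assoc, Φ.W2 u₁ (fixOf_le W _ hu₁F), mul_one]
  obtain ⟨P, hP⟩ : ∃ P : Subgroup G, P = fixOf W (A : Set G) ⊔ Subgroup.zpowers u := ⟨_, rfl⟩
  have hPU : P ≤ fixOf W {a} := by
    rw [hP]; exact sup_le Φ.F1_le_U0 (Subgroup.zpowers_le.mpr huU)
  have hcardP : 2 * Nat.card (fixOf W (A : Set G)) ≤ Nat.card P := by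
    have h1 := Cfsg.Agent.Lib.helper13.card_mul_card_le_sup_inf (fixOf W (A : Set G))
      (Subgroup.zpowers u)
    have h2 : fixOf W (A : Set G) ⊓ Subgroup.zpowers u = ⊥ := by
      rw [eq_bot_iff]
      rintro y ⟨hy1, hy2⟩
      rcases mem_zpowers_of_sq (Φ.W2 u huW) hy2 with h | h
      · exact Subgroup.mem_bot.mpr h
      · rw [h] at hy1; exact absurd hy1 huF
    have h3 : Nat.card (Subgroup.zpowers u) = 2 := by
      rw [Nat.card_zpowers]
      exact orderOf_eq_prime (by rw [pow_two]; exact Φ.W2 u huW) hu1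
    rw [h2, Subgroup.card_bot, mul_one, h3, ← hP] at h1
    rw [mul_comm]; exact h1
  obtain ⟨X, hX⟩ : ∃ X : Subgroup G, X = P ⊔ P.map (MulAut.conj d).toMonoidHom := ⟨_, rfl⟩
  have hcardX : Nat.card P * Nat.card P ≤ Nat.card X := by rw [hX]; exact Φ.card_sq_le hPU
  have hPW : P ≤ W := hPU.trans hU0W
  have hXW : X ≤ W := by
    rw [hX]
    apply sup_le hPW
    rintro _ ⟨p, hp, rfl⟩
    exact Φ.dW p (hPW hp)
  have hPfix : ∀ b ∈ B₁, ∀ p ∈ P, b * p * b⁻¹ = p := by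
    intro b hb
    have hbB := hB₁B hb
    have hle : P ≤ fixOf W ({b} : Set G) := by
      rw [hP]
      apply sup_le
      · intro w hw
        obtain ⟨hwW, hwA⟩ := mem_fixOf.mp hw
        refine mem_fixOf.mpr ⟨hwW, ?_⟩
        rintro s rfl
        exact hwA s (Φ.BA hbB)
      · rw [Subgroup.zpowers_le]
        refine mem_fixOf.mpr ⟨huW, ?_⟩
        rintro s rfl
        exact ((hB₁mem s).mp hb).2
    intro p hp
    exact (mem_fixOf.mp (hle hp)).2 b rfl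
  have hXB₁ : X ≤ Subgroup.centralizer (B₁ : Set G) := by
    rw [hX]
    apply sup_le
    · intro p hp
      rw [Subgroup.mem_centralizer_iff]
      intro b hb
      have := hPfix b hb p hp
      calc b * p = (b * p * b⁻¹) * b := by group
        _ = p * b := by rw [this]
    · rintro _ ⟨p, hp, rfl⟩
      rw [Subgroup.mem_centralizer_iff]
      intro b hb
      have h1 := Φ.Bd b (hB₁B hb) p (hPW hp)
      rw [hPfix b hb p hp] at h1
      show b * (d * p * d⁻¹) = (d * p * d⁻¹) * b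
      calc b * (d * p * d⁻¹) = (b * (d * p * d⁻¹) * b⁻¹) * b := by group
        _ = (d * p * d⁻¹) * b := by rw [h1]
  have hcount := maxIn_count Φ.hA (hB₁B.trans Φ.BT) (hXW.trans Φ.WT) (elemAb_mono Φ.Bel hB₁B)
    (elemAb_mono Φ.Wel hXW) hXB₁
  have hinf : Nat.card (B₁ ⊓ X : Subgroup G) ≤ Nat.card (fixOf W (A : Set G)) :=
    Subgroup.card_le_of_le ((inf_le_inf hB₁B hXW).trans Φ.BW_le_F1)
  have hA := Φ.card_A_le
  have hb1 : 0 < Nat.card B₁ := Nat.card_pos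
  have hf : 0 < Nat.card (fixOf W (A : Set G)) := Nat.card_pos
  have hF1one : Nat.card (fixOf W (A : Set G)) ≤ 1 := by
    obtain ⟨f, hfdef⟩ : ∃ f, f = Nat.card (fixOf W (A : Set G)) := ⟨_, rfl⟩
    obtain ⟨b, hbdef⟩ : ∃ b, b = Nat.card B₁ := ⟨_, rfl⟩
    rw [← hfdef] at hcardP hinf hf ⊢
    rw [← hbdef] at hcardB hcount hb1
    have h1 : b * ((2 * f) * (2 * f)) ≤ b * (4 * f) := by
      calc b * ((2 * f) * (2 * f)) ≤ b * (Nat.card P * Nat.card P) :=
            Nat.mul_le_mul_left _ (Nat.mul_le_mul hcardP hcardP)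
        _ ≤ b * Nat.card X := Nat.mul_le_mul_left _ hcardX
        _ ≤ Nat.card A * Nat.card (B₁ ⊓ X : Subgroup G) := hcount
        _ ≤ (2 * Nat.card B) * f := Nat.mul_le_mul hA hinf
        _ ≤ (2 * (2 * b)) * f := Nat.mul_le_mul_right _ (Nat.mul_le_mul_left _ hcardB)
        _ = b * (4 * f) := by ring
    have h2 := Nat.le_of_mul_le_mul_left h1 hb1
    nlinarith
  apply Subgroup.card_eq_one.mp
  omega

/-- `C_W(a) ≤ C_W(A)`. -/
theorem FourSetup.U0_le_F1 [Finite G] (Φ : FourSetup T A B W d a) :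
    fixOf W {a} ≤ fixOf W (A : Set G) := by
  classical
  intro x hx
  by_contra hxF
  obtain ⟨u₁, hu₁F, hF1⟩ := exists_of_card_le_two Φ.card_F1_le_two
  have hU0W : fixOf W {a} ≤ W := fixOf_le W _
  have hUc : ∀ x ∈ fixOf W {a}, ∀ y ∈ fixOf W {a}, x * y = y * x :=
    fun x hx y hy => Φ.Wc x (hU0W hx) y (hU0W hy)
  have hU2 : ∀ x ∈ fixOf W {a}, x * x = 1 := fun x hx => Φ.W2 x (hU0W hx)
  have hB2 : ∀ b ∈ B, ∀ u ∈ fixOf W {a}, b * (b * u * b⁻¹) * b⁻¹ = u := by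
    intro b hb u _
    have hbb := Φ.A2 b (Φ.BA hb)
    calc b * (b * u * b⁻¹) * b⁻¹ = (b * b) * u * (b * b)⁻¹ := by group
      _ = u := by rw [hbb]; group
  have hBc : ∀ b ∈ B, ∀ c ∈ B, ∀ u ∈ fixOf W {a},
      b * (c * u * c⁻¹) * b⁻¹ = c * (b * u * b⁻¹) * c⁻¹ := by
    intro b hb c hc u _
    have h := Φ.Ac b (Φ.BA hb) c (Φ.BA hc)
    calc b * (c * u * c⁻¹) * b⁻¹ = (b * c) * u * (b * c)⁻¹ := by group
      _ = (c * b) * u * (c * b)⁻¹ := by rw [h]
      _ = c * (b * u * b⁻¹) * c⁻¹ := by group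
  have hBu : ∀ b ∈ B, b * u₁ * b⁻¹ = u₁ := fun b hb =>
    (mem_fixOf.mp (Φ.F1_le_F0 hu₁F)).2 b hb
  have hex : ∃ x ∈ fixOf W {a}, x ≠ 1 ∧ x ≠ u₁ := by
    refine ⟨x, hx, ?_, ?_⟩
    · rintro rfl; exact hxF (Subgroup.one_mem _)
    · rintro rfl; exact hxF hu₁F
  obtain ⟨u, huU, hu1, huu₁, hfix⟩ := exists_second_fixed hUc hU2 (Φ.F1_le_U0 hu₁F)
    (fun b hb u hu => Φ.B_U0 hb hu) hB2 hBc hBu hex (Set.toFinite (B : Set G)).toFinset
    (fun b hb => (Set.Finite.mem_toFinset _).mp hb)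
  have hfix' : ∀ c ∈ B, c * u * c⁻¹ = u ∨ c * u * c⁻¹ = u * u₁ :=
    fun c hc => hfix c ((Set.Finite.mem_toFinset _).mpr hc)
  have huW : u ∈ W := hU0W huU
  have huF : u ∉ fixOf W (A : Set G) := by
    intro h
    rcases hF1 u h with h | h
    · exact hu1 h
    · exact huu₁ h
  have hF1bot := Φ.F1_eq_bot hu₁F huU hu1 huF hfix'
  have hu₁1 : u₁ = 1 := by
    rw [hF1bot] at hu₁F; exact Subgroup.mem_bot.mp hu₁F
  apply hu1
  have huF0 : u ∈ fixOf W (B : Set G) := by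
    refine mem_fixOf.mpr ⟨huW, fun c hc => ?_⟩
    rcases hfix' c hc with h | h
    · exact h
    · rw [h, hu₁1, mul_one]
  have := Φ.mem_F1 huF0 huU
  rw [hF1bot] at this
  exact Subgroup.mem_bot.mp this

/-- The four-group bound. -/
theorem FourSetup.card_le_four [Finite G] (Φ : FourSetup T A B W d a) : Nat.card W ≤ 4 := by
  have hU0W : fixOf W {a} ≤ W := fixOf_le W _
  have hcU : Nat.card (fixOf W {a}) ≤ 2 :=
    (Subgroup.card_le_of_le Φ.U0_le_F1).trans Φ.card_F1_le_two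
  have hle : W ≤ fixOf W {a} ⊔ (fixOf W {a}).map (MulAut.conj d).toMonoidHom := by
    intro w hw
    have haw := Φ.aW w hw
    have haaw : a * (a * w * a⁻¹) * a⁻¹ = w := by
      calc a * (a * w * a⁻¹) * a⁻¹ = (a * a) * w * (a * a)⁻¹ := by group
        _ = w := by rw [Φ.aa]; group
    have hu' : w * (a * w * a⁻¹) ∈ fixOf W {a} := by
      refine mem_fixOf.mpr ⟨W.mul_mem hw haw, ?_⟩
      rintro s rfl
      calc s * (w * (s * w * s⁻¹)) * s⁻¹ = (s * w * s⁻¹) * (s * (s * w * s⁻¹) * s⁻¹) := by group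
        _ = (s * w * s⁻¹) * w := by rw [haaw]
        _ = w * (s * w * s⁻¹) := Φ.Wc _ haw _ hw
    obtain ⟨u', hu'def⟩ : ∃ u', u' = w * (a * w * a⁻¹) := ⟨_, rfl⟩
    rw [← hu'def] at hu'
    have hu'W : u' ∈ W := hU0W hu'
    have hδ : d * u' * d⁻¹ ∈ W := Φ.dW u' hu'W
    have hu : w * (d * u' * d⁻¹) ∈ fixOf W {a} := by
      refine mem_fixOf.mpr ⟨W.mul_mem hw hδ, ?_⟩
      rintro s rfl
      have h1 := Φ.a_delta hu'W ((mem_fixOf.mp hu').2 s rfl)
      calc s * (w * (d * u' * d⁻¹)) * s⁻¹ = (s * w * s⁻¹) * (s * (d * u' * d⁻¹) * s⁻¹) := by group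
        _ = (s * w * s⁻¹) * (u' * (d * u' * d⁻¹)) := by rw [h1]
        _ = (s * w * s⁻¹) * (w * (s * w * s⁻¹) * (d * u' * d⁻¹)) := by rw [hu'def]
        _ = ((s * w * s⁻¹) * w * (s * w * s⁻¹)) * (d * u' * d⁻¹) := by group
        _ = (w * ((s * w * s⁻¹) * (s * w * s⁻¹))) * (d * u' * d⁻¹) := by
            rw [Φ.Wc _ haw _ hw]; group
        _ = w * (d * u' * d⁻¹) := by rw [Φ.W2 _ haw, mul_one]
    have e : w = (w * (d * u' * d⁻¹)) * (d * u' * d⁻¹) := by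
      rw [mul_assoc, Φ.W2 _ hδ, mul_one]
    rw [e]
    exact Subgroup.mul_mem _ (Subgroup.mem_sup_left hu)
      (Subgroup.mem_sup_right ⟨u', hu', rfl⟩)
  have hn : fixOf W {a} ≤ Subgroup.normalizer
      (((fixOf W {a}).map (MulAut.conj d).toMonoidHom : Subgroup G) : Set G) := by
    intro x hx
    apply mem_normalizer_of_forall_conj_mem
    rintro _ ⟨u, hu, rfl⟩
    have hδ : d * u * d⁻¹ ∈ W := Φ.dW u (hU0W hu)
    have : x * (d * u * d⁻¹) * x⁻¹ = d * u * d⁻¹ := by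
      rw [Φ.Wc x (hU0W hx) _ hδ]; group
    show x * (d * u * d⁻¹) * x⁻¹ ∈ _
    rw [this]
    exact ⟨u, hu, rfl⟩
  calc Nat.card W ≤ Nat.card (fixOf W {a} ⊔ (fixOf W {a}).map (MulAut.conj d).toMonoidHom :
        Subgroup G) := Subgroup.card_le_of_le hle
    _ ≤ Nat.card (fixOf W {a}) * Nat.card ((fixOf W {a}).map (MulAut.conj d).toMonoidHom) :=
        card_sup_le_mul _ _ hn
    _ = Nat.card (fixOf W {a}) * Nat.card (fixOf W {a}) := by
        rw [Subgroup.card_map_of_injective (MulAut.conj d).injective]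
    _ ≤ 2 * 2 := Nat.mul_le_mul hcU hcU

end Four

end Cfsg.Agent.Lib.helper51
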