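import Mathlib
import Cfsg.Prelude.Def_JComponents
import Cfsg.Agent.Lib.helper51.JNorm
import Cfsg.Agent.Lib.helper51.JCount

/-!
Existence of `J(T)`-components in an overgroup `L` of characteristic 2 with Sylow 2-subgroup `T`
and `J(T) ≰ O_2(L)`.
-/

set_option autoImplicit false

namespace Cfsg.Agent.Lib.helper51

open Cfsg Cfsg.Agent.Lib.helper13

section IndexFacts

variable {G : Type*} [Group G]

/-- The facts of `jComponent_facts`, from the index condition alone. -/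
theorem index_three_facts {K : Subgroup G} (hidx : (pCoreOf 2 K).relIndex K = 3) {d : G}
    (hd : d ∈ K) (hdQ : d ∉ pCoreOf 2 K) :
    (∀ k ∈ K, ∃ n : ℕ, ∃ q ∈ pCoreOf 2 K, k = d ^ n * q) ∧
    (∀ w ∈ wOf K, w ∈ omegaCenterOf (pCoreOf 2 K)) ∧
    (∀ k ∈ K, ∀ w ∈ wOf K, k * w * k⁻¹ ∈ wOf K) ∧
    (∀ q ∈ pCoreOf 2 K, ∀ w ∈ wOf K, q * w = w * q) ∧
    (∀ w ∈ wOf K, d * (d * (d * w * d⁻¹) * d⁻¹) * d⁻¹ = w) ∧
    (∀ w ∈ wOf K, w * (d * w * d⁻¹) * (d * (d * w * d⁻¹) * d⁻¹) = 1) := by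
  have hdec : ∀ k ∈ K, ∃ n : ℕ, ∃ q ∈ pCoreOf 2 K, k = d ^ n * q :=
    fun k hk => exists_pow_mul_of_not_mem_pCoreOf hidx hd hdQ hk
  have hKQ : K ≤ Subgroup.normalizer (pCoreOf 2 K : Set G) :=
    Cfsg.Agent.Lib.helper51.le_normalizer_pCoreOf 2 K
  have hQU : ∀ q ∈ pCoreOf 2 K, ∀ a ∈ omegaCenterOf (pCoreOf 2 K), q * a = a * q :=
    fun q hq a ha => Subgroup.mem_centralizer_iff.mp (omegaCenterOf_le _ ha).2 q hq
  have hKU : ∀ k ∈ K, ∀ a ∈ omegaCenterOf (pCoreOf 2 K),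
      k * a * k⁻¹ ∈ omegaCenterOf (pCoreOf 2 K) :=
    fun k hk a ha => conj_mem_omegaCenterOf (hKQ hk) ha
  have hd3 : ∀ a ∈ omegaCenterOf (pCoreOf 2 K), d * (d * (d * a * d⁻¹) * d⁻¹) * d⁻¹ = a := by
    intro a ha
    calc d * (d * (d * a * d⁻¹) * d⁻¹) * d⁻¹ = d ^ 3 * a * (d ^ 3)⁻¹ := by
          simp only [pow_succ, pow_zero, one_mul, mul_inv_rev, mul_assoc]
      _ = a := by rw [hQU _ (pow_three_mem_pCoreOf hidx hd) a ha]; group
  have hnorm := norm_eq_one_of_mem_commutator (U := omegaCenterOf (pCoreOf 2 K)) (K := K)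
    (Q := pCoreOf 2 K) (d := d) (fun a ha b hb => omegaCenterOf_comm ha hb)
    (fun a ha => mul_self_of_mem_omegaCenterOf ha) (hKU d hd) hd3 hQU hdec
  have hWU : ∀ w ∈ wOf K, w ∈ omegaCenterOf (pCoreOf 2 K) := fun w hw => (hnorm w hw).1
  have hKnU : K ≤ Subgroup.normalizer (omegaCenterOf (pCoreOf 2 K) : Set G) :=
    Subgroup.le_normalizer_iff.mpr hKU
  have hKW : K ≤ Subgroup.normalizer (wOf K : Set G) :=
    Cfsg.Agent.Lib.helper1.right_le_normalizer_commutator hKnU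
  refine ⟨hdec, hWU, ?_, ?_, ?_, ?_⟩
  · exact fun k hk w hw => Subgroup.le_normalizer_iff.mp hKW k hk w hw
  · exact fun q hq w hw => hQU q hq w (hWU w hw)
  · exact fun w hw => hd3 w (hWU w hw)
  · exact fun w hw => (hnorm w hw).2

open scoped commutatorElement in
/-- `[V, K] ≤ W_K`, from the index condition alone. -/
theorem index_three_commutator_mem_wOf {K V : Subgroup G}
    (hidx : (pCoreOf 2 K).relIndex K = 3)
    (hVc : ∀ a ∈ V, ∀ b ∈ V, a * b = b * a) (hV2 : ∀ a ∈ V, a * a = 1)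
    (hKV : K ≤ Subgroup.normalizer (V : Set G)) (hVK : V ≤ Subgroup.normalizer (K : Set G))
    (hQV : pCoreOf 2 K ≤ Subgroup.centralizer (V : Set G)) :
    ∀ v ∈ V, ∀ k ∈ K, ⁅v, k⁆ ∈ wOf K := by
  have hp2 : Fact (Nat.Prime 2) := ⟨Nat.prime_two⟩
  have hKVc : ∀ k ∈ K, ∀ v ∈ V, k * v * k⁻¹ ∈ V := Subgroup.le_normalizer_iff.mp hKV
  have hVKc : ∀ v ∈ V, ∀ k ∈ K, v * k * v⁻¹ ∈ K := Subgroup.le_normalizer_iff.mp hVK
  have hVp : IsPGroup 2 ↥(V ⊓ K) := by
    intro x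
    refine ⟨1, ?_⟩
    apply Subtype.ext
    rw [pow_one, Subgroup.coe_pow, Subgroup.coe_one, pow_two]
    exact hV2 _ x.2.1
  have hVKQ : V ⊓ K ≤ pCoreOf 2 K := by
    apply Cfsg.Agent.Lib.helper51.le_pCoreOf inf_le_right _ hVp
    rw [Subgroup.le_normalizer_iff]
    intro k hk x hx
    exact ⟨hKVc k hk x hx.1, K.mul_mem (K.mul_mem hk hx.2) (K.inv_mem hk)⟩
  have hU : ∀ v ∈ V, ∀ k ∈ K, ⁅v, k⁆ ∈ omegaCenterOf (pCoreOf 2 K) := by
    intro v hv k hk
    have h1 : ⁅v, k⁆ ∈ V := by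
      have e : ⁅v, k⁆ = v * (k * v⁻¹ * k⁻¹) := by simp only [commutatorElement_def]; group
      rw [e]; exact V.mul_mem hv (hKVc k hk _ (V.inv_mem hv))
    have h2 : ⁅v, k⁆ ∈ K := by
      have e : ⁅v, k⁆ = (v * k * v⁻¹) * k⁻¹ := by simp only [commutatorElement_def]
      rw [e]; exact K.mul_mem (hVKc v hv k hk) (K.inv_mem hk)
    have h3 : ⁅v, k⁆ ∈ pCoreOf 2 K := hVKQ ⟨h1, h2⟩
    have h4 : ⁅v, k⁆ ∈ Subgroup.centralizer (pCoreOf 2 K : Set G) := by
      apply Subgroup.mem_centralizer_iff.mpr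
      intro q hq
      exact (Subgroup.mem_centralizer_iff.mp (hQV hq) _ h1).symm
    exact Cfsg.Agent.Lib.helper51.mem_omegaOne_of_pow 2 ⟨h3, h4⟩
      (by rw [pow_two]; exact hV2 _ h1)
  intro v hv k hk
  have hk3 : k ^ 3 ∈ Subgroup.centralizer (V : Set G) :=
    hQV (pow_three_mem_pCoreOf hidx hk)
  rw [commutator_eq_commutator_commutator hVc hV2 (hKVc k hk)
    (fun a ha => conj_conj_conj_eq_of_pow_three_mem_centralizer hk3 ha) hv]
  exact Subgroup.commutator_mem_commutator (hU _ (hKVc k hk v hv) k hk) hk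

open scoped commutatorElement in
/-- The norm kernel of `d` on `V` lies in `W_K`, from the index condition alone. -/
theorem index_three_mem_wOf_of_norm {K V : Subgroup G}
    (hidx : (pCoreOf 2 K).relIndex K = 3)
    (hVc : ∀ a ∈ V, ∀ b ∈ V, a * b = b * a) (hV2 : ∀ a ∈ V, a * a = 1)
    (hKV : K ≤ Subgroup.normalizer (V : Set G)) (hVK : V ≤ Subgroup.normalizer (K : Set G))
    (hQV : pCoreOf 2 K ≤ Subgroup.centralizer (V : Set G)) {d : G} (hd : d ∈ K) :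
    ∀ v ∈ V, v * (d * v * d⁻¹) * (d * (d * v * d⁻¹) * d⁻¹) = 1 → v ∈ wOf K := by
  intro v hv h
  have hKVc : ∀ k ∈ K, ∀ v ∈ V, k * v * k⁻¹ ∈ V := Subgroup.le_normalizer_iff.mp hKV
  have hb := hKVc d hd v hv
  have hc := hKVc d hd _ hb
  have hbc := V.mul_mem hb hc
  have e1 : v = (d * v * d⁻¹) * (d * (d * v * d⁻¹) * d⁻¹) := by
    have h' : v * ((d * v * d⁻¹) * (d * (d * v * d⁻¹) * d⁻¹)) = 1 := by rw [← mul_assoc]; exact h
    calc v = ((d * v * d⁻¹) * (d * (d * v * d⁻¹) * d⁻¹))⁻¹ := eq_inv_of_mul_eq_one_left h'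
      _ = (d * v * d⁻¹) * (d * (d * v * d⁻¹) * d⁻¹) := inv_eq_of_mul_eq_one_left (hV2 _ hbc)
  have e2 : ⁅d * v * d⁻¹, d⁆ = (d * v * d⁻¹) * (d * (d * v * d⁻¹) * d⁻¹) := by
    have hci : (d * (d * v * d⁻¹) * d⁻¹)⁻¹ = d * (d * v * d⁻¹) * d⁻¹ :=
      inv_eq_of_mul_eq_one_left (hV2 _ hc)
    calc ⁅d * v * d⁻¹, d⁆ = (d * v * d⁻¹) * (d * (d * v * d⁻¹) * d⁻¹)⁻¹ := by
          simp only [commutatorElement_def]; group
      _ = _ := by rw [hci]
  rw [e1, ← e2]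
  exact index_three_commutator_mem_wOf hidx hVc hV2 hKV hVK hQV _ hb d hd

end IndexFacts

section OddClosure

variable {G : Type*} [Group G]

/-- The subgroup generated by the elements of odd order of `Y`. -/
def oddClosure (Y : Subgroup G) : Subgroup G :=
  Subgroup.closure {g : G | g ∈ Y ∧ Odd (orderOf g)}

theorem oddClosure_le (Y : Subgroup G) : oddClosure Y ≤ Y := by
  unfold oddClosure
  rw [Subgroup.closure_le]
  exact fun g hg => hg.1

theorem mem_oddClosure {Y : Subgroup G} {g : G} (hg : g ∈ Y) (hodd : Odd (orderOf g)) :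
    g ∈ oddClosure Y :=
  Subgroup.subset_closure ⟨hg, hodd⟩

theorem oddClosure_gen (Y : Subgroup G) :
    Subgroup.closure {g : G | g ∈ oddClosure Y ∧ Odd (orderOf g)} = oddClosure Y := by
  apply le_antisymm
  · rw [Subgroup.closure_le]
    exact fun g hg => hg.1
  · conv_lhs => unfold oddClosure
    apply Subgroup.closure_mono
    exact fun g hg => ⟨mem_oddClosure hg.1 hg.2, hg.2⟩

theorem normalizer_le_normalizer_oddClosure [Finite G] (Y : Subgroup G) :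
    Subgroup.normalizer (Y : Set G) ≤ Subgroup.normalizer (oddClosure Y : Set G) := by
  intro t ht
  apply mem_normalizer_of_forall_conj_mem
  have hle : oddClosure Y ≤ (oddClosure Y).comap (MulAut.conj t).toMonoidHom := by
    conv_lhs => unfold oddClosure
    rw [Subgroup.closure_le]
    rintro g ⟨hgY, hgodd⟩
    show t * g * t⁻¹ ∈ oddClosure Y
    apply mem_oddClosure (conj_mem_of_mem_normalizer ht hgY)
    have : orderOf (t * g * t⁻¹) = orderOf g :=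
      orderOf_injective (MulAut.conj t).toMonoidHom (MulAut.conj t).injective g
    rw [this]; exact hgodd
  intro y hy
  exact hle hy

end OddClosure

section Seeds

universe u

variable {G : Type u} [Group G] {T L V N JL : Subgroup G}

open scoped commutatorElement in
/-- From `k ∈ N` with `[k, a] ∉ C(V)` (`a ∈ T` an involution): an element `d ∈ N ∖ C(V)` of
order 3 inverted by `a`, with `[k, a] ∈ ⟨d⟩ C_L(V)`. -/
theorem exists_inverted_three [Finite G] (F : FineData T L V N JL) {a k : G} (haT : a ∈ T)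
    (haa : a * a = 1) (hk : k ∈ N) (hka : ⁅k, a⁆ ∉ Subgroup.centralizer (V : Set G)) :
    ∃ d : G, d ∈ N ∧ d ∉ Subgroup.centralizer (V : Set G) ∧ d ^ 3 = 1 ∧ a * d * a⁻¹ = d⁻¹ ∧
      ∃ q m : ℕ, ⁅k, a⁆ = ((⁅k, a⁆ ^ 3) ^ q)⁻¹ * d ^ m := by
  have ainv : a⁻¹ = a := inv_eq_of_mul_eq_one_left haa
  have haL : a ∈ L := F.TL haT
  obtain ⟨e, he⟩ : ∃ e, e = ⁅k, a⁆ := ⟨_, rfl⟩
  rw [← he] at hka ⊢
  have heN : e ∈ N := by
    have e1 : e = k * (a * k⁻¹ * a⁻¹) := by rw [he, commutatorElement_def]; group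
    rw [e1]
    exact N.mul_mem hk (F.conjN haL (N.inv_mem hk))
  have hae : a * e * a⁻¹ = e⁻¹ := by
    rw [he, commutatorElement_def]
    calc a * (k * a * k⁻¹ * a⁻¹) * a⁻¹ = a * k * a * k⁻¹ * (a * a)⁻¹ := by group
      _ = a * k * a * k⁻¹ := by rw [haa]; group
      _ = a * k * a⁻¹ * k⁻¹ := by rw [ainv]
      _ = (k * a * k⁻¹ * a⁻¹)⁻¹ := by group
  have hconj : ∀ (x : G), a * x * a⁻¹ = x⁻¹ → ∀ n : ℕ, a * x ^ n * a⁻¹ = (x ^ n)⁻¹ := by
    intro x hx n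
    rw [← conj_pow, hx, inv_pow]
  obtain ⟨s, m, hm, horder⟩ := Nat.exists_eq_two_pow_mul_odd (orderOf_pos e).ne'
  have hdm : (e ^ 2 ^ s) ^ m = 1 := by
    rw [← pow_mul, ← horder, pow_orderOf_eq_one]
  have hdodd : Odd (orderOf (e ^ 2 ^ s)) := Odd.of_dvd_nat hm (orderOf_dvd_of_pow_eq_one hdm)
  have hdN : e ^ 2 ^ s ∈ N := N.pow_mem heN _
  have hdC : e ^ 2 ^ s ∉ Subgroup.centralizer (V : Set G) := by
    intro h
    exact hka (mem_of_pow_mem_of_coprime _ e (2 ^ s) 3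
      (Nat.Coprime.pow_left s (by norm_num)) h (F.cube e heN))
  have had : a * e ^ 2 ^ s * a⁻¹ = (e ^ 2 ^ s)⁻¹ := hconj e hae _
  have hd3 : (e ^ 2 ^ s) ^ 3 = 1 := by
    obtain ⟨d, hd⟩ : ∃ d, d = e ^ 2 ^ s := ⟨_, rfl⟩
    rw [← hd] at hdodd hdN had ⊢
    have hc : d ^ 3 ∈ L ⊓ Subgroup.centralizer (V : Set G) :=
      ⟨L.pow_mem (F.NL hdN) _, F.cube d hdN⟩
    have h1 := F.comm_TC haT hc
    rw [hconj d had 3] at h1
    have h2 : d ^ 6 ∈ pCoreOf 2 L := by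
      have e2 : d ^ 6 = ((d ^ 3)⁻¹ * (d ^ 3)⁻¹)⁻¹ := by
        rw [mul_inv_rev, inv_inv, ← pow_add]
      rw [e2]
      exact Subgroup.inv_mem _ h1
    obtain ⟨j, hj⟩ := F.R2 ⟨d ^ 6, h2⟩
    have hj' : (d ^ 6) ^ 2 ^ j = 1 := by
      have := congrArg Subtype.val hj
      simpa using this
    have h3 : orderOf d ∣ 3 * 2 ^ (j + 1) := by
      apply orderOf_dvd_of_pow_eq_one
      have e3 : 3 * 2 ^ (j + 1) = 6 * 2 ^ j := by rw [pow_succ]; ring
      rw [e3, pow_mul]; exact hj'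
    have hcop : Nat.Coprime (orderOf d) (2 ^ (j + 1)) :=
      Nat.Coprime.pow_right _ (Nat.Coprime.symm (Nat.coprime_two_left.mpr hdodd))
    exact orderOf_dvd_iff_pow_eq_one.mp (hcop.dvd_of_dvd_mul_right h3)
  refine ⟨e ^ 2 ^ s, hdN, hdC, hd3, had, 4 ^ s / 3, 2 ^ s, ?_⟩
  have h4 : 4 ^ s % 3 = 1 := by
    rw [Nat.pow_mod]; norm_num
  have h5 : 4 ^ s = 3 * (4 ^ s / 3) + 1 := by
    have := Nat.div_add_mod (4 ^ s) 3
    omega
  have h6 : (e ^ 2 ^ s) ^ 2 ^ s = (e ^ 3) ^ (4 ^ s / 3) * e := by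
    rw [← pow_mul, ← pow_mul, ← pow_succ, ← h5, ← pow_two, ← pow_mul]
    congr 1
    rw [mul_comm, pow_mul]; norm_num
  rw [h6]; group

/-- The commutator condition `F5` for an element of order 3 inverted by `a ∈ T`. -/
theorem F5_of_inverted (F : FineData T L V N JL) {a d : G} (haT : a ∈ T)
    (hdN : d ∈ N) (hd3 : d ^ 3 = 1) (had : a * d * a⁻¹ = d⁻¹) :
    ∀ c ∈ L ⊓ Subgroup.centralizer (V : Set G), d * c * d⁻¹ * c⁻¹ ∈ pCoreOf 2 L := by
  intro c hc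
  have hdL := F.NL hdN
  have h1 := F.comm_TC haT hc
  have h2 := F.comm_TC haT (F.conjC hdL hc)
  have e2 : a * (d * c * d⁻¹) * a⁻¹ = (a * d * a⁻¹) * (a * c * a⁻¹) * (a * d * a⁻¹)⁻¹ := by group
  rw [e2, had, inv_inv] at h2
  have h3 := F.conjR hdL h2
  have h4 := Subgroup.mul_mem _ (Subgroup.inv_mem _ h1) h3
  have e4 : (a * c * a⁻¹ * c⁻¹)⁻¹ *
      (d * (d⁻¹ * (a * c * a⁻¹) * d * (d * c * d⁻¹)⁻¹) * d⁻¹) =
      c * (d * d) * c⁻¹ * (d⁻¹ * d⁻¹) := by group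
  rw [e4] at h4
  have hdd : d * d = d⁻¹ := by
    rw [eq_inv_iff_mul_eq_one]
    rw [← hd3, pow_succ, pow_two]
  have hdd' : d⁻¹ * d⁻¹ = d := by
    rw [← mul_inv_rev, hdd, inv_inv]
  rw [hdd, hdd'] at h4
  have h5 := F.conjR hdL h4
  have e5 : d * (c * d⁻¹ * c⁻¹ * d) * d⁻¹ = d * c * d⁻¹ * c⁻¹ := by group
  rw [e5] at h5
  exact h5

/-- Any 2-subgroup `S ≤ L` containing `J(T)` (`T` Sylow in `L`) has `J(S) = J(T)`. -/
theorem thompson_eq_of_ge [Finite G] {T L S : Subgroup G} (hT : IsSylowTwoIn T L) (hSL : S ≤ L)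
    (hS : IsPGroup 2 S) (hJS : thompsonSubgroupOf 2 T ≤ S) :
    thompsonSubgroupOf 2 S = thompsonSubgroupOf 2 T := by
  obtain ⟨l, hl, hconj⟩ := exists_conj_mem_of_isPGroup hT hSL hS
  have hST' : S ≤ T.map (MulAut.conj l⁻¹).toMonoidHom := by
    intro x hx
    refine ⟨l * x * l⁻¹, hconj x hx, ?_⟩
    simp only [MulEquiv.coe_toMonoidHom, MulAut.conj_apply]
    group
  have h1 := thompson_eq_of_le_conj (p := 2) rfl (hJS.trans hST')
  rw [← h1]
  exact thompsonSubgroupOf_eq_of_le hST' (by rw [h1]; exact hJS)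

/-- An inverted pair with `d` of order 3 inverted exactly by the minimal generator `a ∈ J(T)`,
together with `K = O^2(⟨d⟩ O_2(L))`. -/
structure Seed (T L V N JL : Subgroup G) (d a : G) (K : Subgroup G) : Prop where
  P : InvPair T L V N JL d a
  d3 : d ^ 3 = 1
  ad : a * d * a⁻¹ = d⁻¹
  aJ : a ∈ thompsonSubgroupOf 2 T
  min : IsMinGen T V a
  hK : K = oddClosure (Subgroup.zpowers d ⊔ pCoreOf 2 L)

variable {d a : G} {K : Subgroup G}

theorem Seed.dL (F : FineData T L V N JL) (S : Seed T L V N JL d a K) : d ∈ L := F.NL S.P.dN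

theorem Seed.d_ne_one (S : Seed T L V N JL d a K) : d ≠ 1 := by
  intro h; exact S.P.dC (by rw [h]; exact Subgroup.one_mem _)

theorem Seed.orderOf_d (S : Seed T L V N JL d a K) : orderOf d = 3 := by
  have h := orderOf_dvd_of_pow_eq_one S.d3
  rcases (Nat.dvd_prime Nat.prime_three).mp h with h1 | h1
  · exact absurd (orderOf_eq_one_iff.mp h1) S.d_ne_one
  · exact h1

theorem Seed.d_odd (S : Seed T L V N JL d a K) : Odd (orderOf d) := by
  rw [S.orderOf_d]; exact ⟨1, rfl⟩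

theorem Seed.dR (F : FineData T L V N JL) (S : Seed T L V N JL d a K) : d ∉ pCoreOf 2 L :=
  fun h => S.P.dC (F.RC h)

theorem Seed.Y_le (F : FineData T L V N JL) (S : Seed T L V N JL d a K) :
    Subgroup.zpowers d ⊔ pCoreOf 2 L ≤ L :=
  sup_le (Subgroup.zpowers_le.mpr (S.dL F)) F.RL

theorem Seed.K_le_Y (S : Seed T L V N JL d a K) : K ≤ Subgroup.zpowers d ⊔ pCoreOf 2 L := by
  rw [S.hK]; exact oddClosure_le _

theorem Seed.dK (S : Seed T L V N JL d a K) : d ∈ K := by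
  rw [S.hK]
  exact mem_oddClosure (Subgroup.mem_sup_left (Subgroup.mem_zpowers d)) S.d_odd

theorem Seed.K_le (F : FineData T L V N JL) (S : Seed T L V N JL d a K) : K ≤ L :=
  S.K_le_Y.trans (S.Y_le F)

theorem Seed.card_Y [Finite G] (F : FineData T L V N JL) (S : Seed T L V N JL d a K) :
    Nat.card (Subgroup.zpowers d ⊔ pCoreOf 2 L : Subgroup G) = 3 * Nat.card (pCoreOf 2 L) := by
  have hp2 : Fact (Nat.Prime 2) := ⟨Nat.prime_two⟩
  have h1 := card_sup_mul_card_inf (Subgroup.zpowers d) (pCoreOf 2 L)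
    (Subgroup.zpowers_le.mpr (F.LR (S.dL F)))
  have h2 : Nat.card (Subgroup.zpowers d) = 3 := by rw [Nat.card_zpowers, S.orderOf_d]
  have h3 : Nat.card (Subgroup.zpowers d ⊓ pCoreOf 2 L : Subgroup G) = 1 := by
    have ha : Nat.card (Subgroup.zpowers d ⊓ pCoreOf 2 L : Subgroup G) ∣ 3 := by
      rw [← h2]; exact Subgroup.card_dvd_of_le inf_le_left
    obtain ⟨n, hn⟩ := (IsPGroup.iff_card).mp F.R2
    have hb : Nat.card (Subgroup.zpowers d ⊓ pCoreOf 2 L : Subgroup G) ∣ 2 ^ n := by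
      rw [← hn]; exact Subgroup.card_dvd_of_le inf_le_right
    have hc : Nat.Coprime 3 (2 ^ n) := Nat.Coprime.pow_right n (by norm_num)
    have hg := Nat.dvd_gcd ha hb
    rw [Nat.Coprime.gcd_eq_one hc] at hg
    exact Nat.dvd_one.mp hg
  rw [h3, mul_one, h2] at h1
  exact h1

theorem Seed.sylow_Y [Finite G] (F : FineData T L V N JL) (S : Seed T L V N JL d a K) :
    IsSylowTwoIn (pCoreOf 2 L) (Subgroup.zpowers d ⊔ pCoreOf 2 L) := by
  refine ⟨le_sup_right, F.R2, ?_⟩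
  have h1 := relIndex_mul_card_of_le
    (le_sup_right : pCoreOf 2 L ≤ Subgroup.zpowers d ⊔ pCoreOf 2 L)
  rw [S.card_Y F] at h1
  have hpos : 0 < Nat.card (pCoreOf 2 L) := Nat.card_pos
  have h2 : (pCoreOf 2 L).relIndex (Subgroup.zpowers d ⊔ pCoreOf 2 L) = 3 :=
    Nat.eq_of_mul_eq_mul_right hpos h1
  rw [h2]; exact ⟨1, rfl⟩

/-- Every 2-subgroup of `⟨d⟩ O_2(L)` lies in `O_2(L)`. -/
theorem Seed.two_le [Finite G] (F : FineData T L V N JL) (S : Seed T L V N JL d a K)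
    {Q : Subgroup G} (hQY : Q ≤ Subgroup.zpowers d ⊔ pCoreOf 2 L) (hQ : IsPGroup 2 Q) :
    Q ≤ pCoreOf 2 L := by
  obtain ⟨l, hl, hconj⟩ := exists_conj_mem_of_isPGroup (S.sylow_Y F) hQY hQ
  intro x hx
  have h1 := hconj x hx
  have hlL : l ∈ L := S.Y_le F hl
  have h2 := F.conjR (L.inv_mem hlL) h1
  have e : l⁻¹ * (l * x * l⁻¹) * l⁻¹⁻¹ = x := by group
  rwa [e] at h2

theorem Seed.core_eq [Finite G] (F : FineData T L V N JL) (S : Seed T L V N JL d a K) :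
    pCoreOf 2 K = K ⊓ pCoreOf 2 L := by
  have hp2 : Fact (Nat.Prime 2) := ⟨Nat.prime_two⟩
  apply le_antisymm
  · exact le_inf (pCoreOf_le 2 _)
      (S.two_le F ((pCoreOf_le 2 _).trans S.K_le_Y) (isPGroup_pCoreOf _))
  · apply le_pCoreOf inf_le_left _ (F.R2.to_le inf_le_right)
    exact le_normalizer_inf' Subgroup.le_normalizer ((S.K_le F).trans F.LR)

theorem Seed.sup_eq (S : Seed T L V N JL d a K) :
    K ⊔ pCoreOf 2 L = Subgroup.zpowers d ⊔ pCoreOf 2 L := by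
  apply le_antisymm
  · exact sup_le S.K_le_Y le_sup_right
  · exact sup_le ((Subgroup.zpowers_le.mpr S.dK).trans le_sup_left) le_sup_right

theorem Seed.index [Finite G] (F : FineData T L V N JL) (S : Seed T L V N JL d a K) :
    (pCoreOf 2 K).relIndex K = 3 := by
  rw [S.core_eq F]
  have h1 := card_sup_mul_card_inf K (pCoreOf 2 L) ((S.K_le F).trans F.LR)
  rw [S.sup_eq, S.card_Y F] at h1
  have h2 := relIndex_mul_card_of_le (inf_le_left : K ⊓ pCoreOf 2 L ≤ K)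
  have hR : 0 < Nat.card (pCoreOf 2 L) := Nat.card_pos
  have hQ : 0 < Nat.card (K ⊓ pCoreOf 2 L : Subgroup G) := Nat.card_pos
  have h3 : Nat.card K = 3 * Nat.card (K ⊓ pCoreOf 2 L : Subgroup G) := by
    apply Nat.eq_of_mul_eq_mul_right hR
    rw [← h1]; ring
  rw [h3] at h2
  exact Nat.eq_of_mul_eq_mul_right hQ h2

theorem Seed.d_not_core [Finite G] (F : FineData T L V N JL) (S : Seed T L V N JL d a K) :
    d ∉ pCoreOf 2 K := by
  rw [S.core_eq F]
  exact fun h => S.dR F h.2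

theorem Seed.Y_normK [Finite G] (S : Seed T L V N JL d a K) :
    Subgroup.normalizer ((Subgroup.zpowers d ⊔ pCoreOf 2 L : Subgroup G) : Set G) ≤
      Subgroup.normalizer (K : Set G) := by
  rw [S.hK]; exact normalizer_le_normalizer_oddClosure _

theorem Seed.J_le [Finite G] (F : FineData T L V N JL) (S : Seed T L V N JL d a K) :
    thompsonSubgroupOf 2 T ≤ Subgroup.normalizer (K : Set G) :=
  F.JJL.trans ((S.P.JL_le F).trans S.Y_normK)

theorem Seed.R_le [Finite G] (S : Seed T L V N JL d a K) :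
    pCoreOf 2 L ≤ Subgroup.normalizer (K : Set G) :=
  (le_sup_right.trans Subgroup.le_normalizer).trans S.Y_normK

open scoped commutatorElement in
theorem Seed.comm_eq [Finite G] (F : FineData T L V N JL) (S : Seed T L V N JL d a K) :
    ⁅K, thompsonSubgroupOf 2 T⁆ = K := by
  have hp2 : Fact (Nat.Prime 2) := ⟨Nat.prime_two⟩
  apply le_antisymm
  · rw [Subgroup.commutator_le]
    intro g₁ h₁ g₂ h₂
    have e : ⁅g₁, g₂⁆ = g₁ * (g₂ * g₁⁻¹ * g₂⁻¹) := by rw [commutatorElement_def]; group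
    rw [e]
    exact K.mul_mem h₁ (conj_mem_of_mem_normalizer (S.J_le F h₂) (K.inv_mem h₁))
  · have hXn : K ≤ Subgroup.normalizer ((⁅K, thompsonSubgroupOf 2 T⁆ : Subgroup G) : Set G) :=
      Cfsg.Agent.Lib.helper1.left_le_normalizer_commutator K _
    have hdX : d ∈ ⁅K, thompsonSubgroupOf 2 T⁆ := by
      have h1 : ⁅d, a⁆ ∈ ⁅K, thompsonSubgroupOf 2 T⁆ :=
        Subgroup.commutator_mem_commutator S.dK S.aJ
      have e1 : ⁅d, a⁆ = d * d := by
        rw [commutatorElement_def]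
        calc d * a * d⁻¹ * a⁻¹ = d * (a * d * a⁻¹)⁻¹ := by group
          _ = d * d := by rw [S.ad, inv_inv]
      rw [e1] at h1
      have e2 : d = (d * d) * (d * d) := by
        have h4 : d ^ 4 = d := by rw [pow_succ, S.d3, one_mul]
        calc d = d ^ 4 := h4.symm
          _ = (d * d) * (d * d) := by rw [show (4 : ℕ) = 2 + 2 from rfl, pow_add, pow_two]
      rw [e2]; exact Subgroup.mul_mem _ h1 h1
    have hQn : pCoreOf 2 K ≤
        Subgroup.normalizer ((⁅K, thompsonSubgroupOf 2 T⁆ : Subgroup G) : Set G) :=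
      (pCoreOf_le 2 K).trans hXn
    have hKX : K ≤ ⁅K, thompsonSubgroupOf 2 T⁆ ⊔ pCoreOf 2 K := by
      intro k hk
      obtain ⟨n, q, hq, rfl⟩ :=
        exists_pow_mul_of_not_mem_pCoreOf (S.index F) S.dK (S.d_not_core F) hk
      exact Subgroup.mul_mem _ (Subgroup.mem_sup_left (Subgroup.pow_mem _ hdX n))
        (Subgroup.mem_sup_right hq)
    have hgen : Subgroup.closure {g : G | g ∈ K ∧ Odd (orderOf g)} = K := by
      rw [S.hK]; exact oddClosure_gen _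
    conv_lhs => rw [← hgen]
    rw [Subgroup.closure_le]
    rintro g ⟨hgK, hgodd⟩
    exact mem_of_odd_of_mem_sup hQn (isPGroup_pCoreOf K) (hKX hgK) hgodd

/-- `O_2(L)` acts on `W_K` commuting with `d`. -/
theorem Seed.R_comm [Finite G] (F : FineData T L V N JL) (S : Seed T L V N JL d a K) {b w : G}
    (hb : b ∈ pCoreOf 2 L) (hw : w ∈ wOf K) :
    b * (d * w * d⁻¹) * b⁻¹ = d * (b * w * b⁻¹) * d⁻¹ := by
  obtain ⟨-, -, hKW, hQW, -, -⟩ := index_three_facts (S.index F) S.dK (S.d_not_core F)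
  have hbK : b ∈ Subgroup.normalizer (K : Set G) := S.R_le hb
  have hbW : b ∈ Subgroup.normalizer (wOf K : Set G) := normalizer_le_normalizer_wOf K hbK
  have hw' : b * w * b⁻¹ ∈ wOf K := conj_mem_of_mem_normalizer hbW hw
  have hq : b * d * b⁻¹ * d⁻¹ ∈ pCoreOf 2 K := by
    rw [S.core_eq F]
    refine ⟨K.mul_mem (conj_mem_of_mem_normalizer hbK S.dK) (K.inv_mem S.dK), ?_⟩
    have e : b * d * b⁻¹ * d⁻¹ = b * (d * b⁻¹ * d⁻¹) := by group
    rw [e]
    exact Subgroup.mul_mem _ hb (F.conjR (S.dL F) (Subgroup.inv_mem _ hb))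
  have h1 := hQW _ hq _ (hKW d S.dK _ hw')
  calc b * (d * w * d⁻¹) * b⁻¹
      = (b * d * b⁻¹ * d⁻¹) * (d * (b * w * b⁻¹) * d⁻¹) * (b * d * b⁻¹ * d⁻¹)⁻¹ := by group
    _ = (d * (b * w * b⁻¹) * d⁻¹) * (b * d * b⁻¹ * d⁻¹) * (b * d * b⁻¹ * d⁻¹)⁻¹ := by rw [h1]
    _ = d * (b * w * b⁻¹) * d⁻¹ := by group

theorem Seed.four [Finite G] (F : FineData T L V N JL) (S : Seed T L V N JL d a K) :
    ∃ A B : Subgroup G, FourSetup T A B (wOf K) d a := by
  obtain ⟨A, hA, haA, -, hAC⟩ := S.min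
  obtain ⟨-, hWU, hKW, hQW, hd3, hnrm⟩ := index_three_facts (S.index F) S.dK (S.d_not_core F)
  have hQR : pCoreOf 2 K ≤ pCoreOf 2 L := by rw [S.core_eq F]; exact inf_le_right
  have hAT := hA.1
  have hA2 : ∀ y ∈ A, y ^ 2 = 1 := ((isElementaryAbelian_iff A).mp hA.2.1).2
  refine ⟨A, A ⊓ pCoreOf 2 L, ?_⟩
  refine { hA := hA, WT := ?_, Wc := ?_, W2 := ?_, aA := haA, BA := inf_le_left, AB := ?_,
           dW := ?_, aW := ?_, BW := ?_, d3 := hd3, nrm := hnrm, ad := S.ad, Bd := ?_ }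
  · intro w hw
    exact F.RT (hQR (omegaCenterOf_le _ (hWU w hw)).1)
  · exact fun x hx y hy => omegaCenterOf_comm (hWU x hx) (hWU y hy)
  · exact fun x hx => mul_self_of_mem_omegaCenterOf (hWU x hx)
  · intro y hy
    have key : ∀ z ∈ A, z ∈ Subgroup.centralizer (V : Set G) → z ∈ A ⊓ pCoreOf 2 L := by
      intro z hz hzC
      refine ⟨hz, F.two_elt ⟨F.TL (hAT hz), hzC⟩ ⟨1, ?_⟩⟩
      rw [pow_one]; exact hA2 z hz
    rcases hAC y hy with h | h
    · exact Or.inl (key y hy h)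
    · exact Or.inr (key _ (A.mul_mem haA hy) h)
  · exact fun w hw => hKW d S.dK w hw
  · intro w hw
    exact conj_mem_of_mem_normalizer (normalizer_le_normalizer_wOf K (S.J_le F S.aJ)) hw
  · intro b hb w hw
    exact conj_mem_of_mem_normalizer (normalizer_le_normalizer_wOf K (S.R_le hb.2)) hw
  · intro b hb w hw
    exact S.R_comm F hb.2 hw

theorem Seed.card_wOf [Finite G] (F : FineData T L V N JL) (S : Seed T L V N JL d a K) :
    Nat.card (wOf K) = 4 := by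
  obtain ⟨A, B, Φ⟩ := S.four F
  apply le_antisymm Φ.card_le_four
  have hQR : pCoreOf 2 K ≤ pCoreOf 2 L := by rw [S.core_eq F]; exact inf_le_right
  have hdV : ∀ v ∈ V, d * v * d⁻¹ ∈ V := fun v hv => F.conjV (S.dL F) hv
  have hd3 : d ^ 3 ∈ Subgroup.centralizer (V : Set G) := F.RC S.P.d3
  obtain ⟨v₀, hv₀, ha'⟩ := S.P.atr
  obtain ⟨W, hWV, hW, hWc, -, -⟩ :=
    exists_normKer_four F.Vc F.V2 hdV hd3 S.P.dC S.P.aa hv₀ ha' (F.RC S.P.inv)
  have hWle : W ≤ wOf K := by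
    intro v hv
    exact index_three_mem_wOf_of_norm (S.index F) F.Vc F.V2 ((S.K_le F).trans F.LV)
      (F.VR.trans S.R_le) (hQR.trans F.RC) S.dK v (hWV hv) ((hW v (hWV hv)).mp hv)
  rw [← hWc]
  exact Subgroup.card_le_of_le hWle

/-- `K = O^2(⟨d⟩ O_2(L))` is a `J(T)`-component. -/
theorem Seed.component [Finite G] (F : FineData T L V N JL) (S : Seed T L V N JL d a K) :
    IsJComponent T K := by
  refine ⟨?_, S.comm_eq F, S.index F, ?_, S.card_wOf F, ?_⟩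
  · rw [S.hK]; exact oddClosure_gen _
  · intro S' hS' hJS'
    exact thompson_eq_of_ge F.syl (hS'.1.trans (sup_le (S.K_le F) (F.JT.trans F.TL))) hS'.2.1 hJS'
  · obtain ⟨-, hWU, -, -, -, -⟩ := index_three_facts (S.index F) S.dK (S.d_not_core F)
    exact fun w hw => mul_self_of_mem_omegaCenterOf (hWU w hw)

open scoped commutatorElement in
/-- Existence of `J(T)`-components: for a minimal generator `a` of `J(T)` and `k ∈ N` with
`[k, a] ∉ C(V)` there is a `J(T)`-component `K ≤ L` with `[k, a] ∈ K C_L(V)`. -/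
theorem exists_component [Finite G] (F : FineData T L V N JL) {a k : G} (ha : IsMinGen T V a)
    (hk : k ∈ N) (hka : ⁅k, a⁆ ∉ Subgroup.centralizer (V : Set G)) :
    ∃ K : Subgroup G, IsJComponent T K ∧ K ≤ L ∧
      ⁅k, a⁆ ∈ K ⊔ (L ⊓ Subgroup.centralizer (V : Set G)) := by
  obtain ⟨A, hA, haA, hatr, hAC⟩ := id ha
  have haJ : a ∈ thompsonSubgroupOf 2 T := le_thompsonSubgroupOf_of_mem_maxIn hA haA
  have haT : a ∈ T := hA.1 haA
  have haa : a * a = 1 := by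
    have := ((isElementaryAbelian_iff A).mp hA.2.1).2 a haA
    rwa [pow_two] at this
  obtain ⟨d, hdN, hdC, hd3, had, q, m, he⟩ := exists_inverted_three F haT haa hk hka
  have P : InvPair T L V N JL d a :=
    { dN := hdN, dC := hdC, d3 := by rw [hd3]; exact Subgroup.one_mem _,
      F5 := F5_of_inverted F haT hdN hd3 had, aT := haT, aJ := F.JJL haJ, aa := haa,
      atr := hatr, inv := by rw [had, inv_mul_cancel]; exact Subgroup.one_mem _ }
  have S : Seed T L V N JL d a (oddClosure (Subgroup.zpowers d ⊔ pCoreOf 2 L)) :=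
    { P := P, d3 := hd3, ad := had, aJ := haJ, min := ha, hK := rfl }
  refine ⟨_, S.component F, S.K_le F, ?_⟩
  have heN : ⁅k, a⁆ ∈ N := by
    have e1 : ⁅k, a⁆ = k * (a * k⁻¹ * a⁻¹) := by rw [commutatorElement_def]; group
    rw [e1]
    exact N.mul_mem hk (F.conjN (F.TL haT) (N.inv_mem hk))
  have h0 : ⁅k, a⁆ ^ 3 ∈ L ⊓ Subgroup.centralizer (V : Set G) :=
    ⟨L.pow_mem (F.NL heN) _, F.cube _ heN⟩
  have h1 : (⁅k, a⁆ ^ 3) ^ q ∈ L ⊓ Subgroup.centralizer (V : Set G) :=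
    Subgroup.pow_mem _ h0 q
  have h2 : ((⁅k, a⁆ ^ 3) ^ q)⁻¹ * d ^ m ∈ oddClosure (Subgroup.zpowers d ⊔ pCoreOf 2 L) ⊔
      (L ⊓ Subgroup.centralizer (V : Set G)) :=
    Subgroup.mul_mem _ (Subgroup.mem_sup_right (Subgroup.inv_mem _ h1))
      (Subgroup.mem_sup_left (Subgroup.pow_mem _ S.dK m))
  rw [← he] at h2
  exact h2

end Seeds

end Cfsg.Agent.Lib.helper51
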