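import Mathlib
import Cfsg.Prelude.Def_JComponents
import Cfsg.Agent.Lib.helper51.JExist

/-!
Generation of an overgroup `L` (characteristic 2, Sylow 2-subgroup `T`) by `N_L(J(T))` and the
`J(T)`-components of `L`.
-/

set_option autoImplicit false

namespace Cfsg.Agent.Lib.helper51

open Cfsg Cfsg.Agent.Lib.helper13

section Gen

universe u

variable {G : Type u} [Group G] [Finite G] {T L V N JL : Subgroup G}

/-- If `g ∈ L` conjugates `J(T)` into `X ⊇ N_L(J(T))` then `g ∈ X`. -/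
theorem gen_core (hT : IsSylowTwoIn T L) {X : Subgroup G}
    (hNJ : L ⊓ Subgroup.normalizer (thompsonSubgroupOf 2 T : Set G) ≤ X) {g : G} (hg : g ∈ L)
    (h : ∀ x ∈ thompsonSubgroupOf 2 T, g * x * g⁻¹ ∈ X) : g ∈ X := by
  have hJT : thompsonSubgroupOf 2 T ≤ T := thompsonSubgroupOf_le_self T
  have hTN : T ≤ Subgroup.normalizer (thompsonSubgroupOf 2 T : Set G) :=
    Subgroup.le_normalizer.trans (normalizer_le_normalizer_thompsonSubgroupOf 2 T)
  have hTX : T ≤ X := (le_inf hT.1 hTN).trans hNJ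
  have hsyl : IsSylowTwoIn T (X ⊓ L) := by
    refine ⟨le_inf hTX hT.1, hT.2.1, ?_⟩
    have h1 := Subgroup.relIndex_mul_relIndex T (X ⊓ L) L (le_inf hTX hT.1) inf_le_right
    exact Odd.of_dvd_nat hT.2.2 (Dvd.intro _ h1)
  have hS : (thompsonSubgroupOf 2 T).map (MulAut.conj g).toMonoidHom ≤ X ⊓ L := by
    rintro _ ⟨x, hx, rfl⟩
    exact ⟨h x hx, L.mul_mem (L.mul_mem hg (hT.1 (hJT hx))) (L.inv_mem hg)⟩
  have hS2 : IsPGroup 2 ((thompsonSubgroupOf 2 T).map (MulAut.conj g).toMonoidHom) :=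
    (hT.2.1.to_le hJT).map _
  obtain ⟨y, hy, hconj⟩ := exists_conj_mem_of_isPGroup hsyl hS hS2
  have hyg : y * g ∈ Subgroup.normalizer (thompsonSubgroupOf 2 T : Set G) := by
    apply mem_normalizer_thompson_of_conj_mem
    intro x hx
    have h1 := hconj _ ⟨x, hx, rfl⟩
    have e : y * g * x * (y * g)⁻¹ = y * (g * x * g⁻¹) * y⁻¹ := by group
    rw [e]; exact h1
  have h2 : y * g ∈ X := hNJ ⟨L.mul_mem hy.2 hg, hyg⟩
  have e : g = y⁻¹ * (y * g) := by group
  rw [e]
  exact X.mul_mem (X.inv_mem hy.1) h2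

open scoped commutatorElement in
/-- Generation: `L = ⟨N_L(J(T)), J(T)-components of L⟩`. -/
theorem generation (F : FineData T L V N JL) (X : Subgroup G)
    (hNJ : L ⊓ Subgroup.normalizer (thompsonSubgroupOf 2 T : Set G) ≤ X)
    (hcomp : ∀ K : Subgroup G, IsJComponent T K → K ≤ L → K ≤ X) : L ≤ X := by
  have hJT : thompsonSubgroupOf 2 T ≤ T := thompsonSubgroupOf_le_self T
  have hTN : T ≤ Subgroup.normalizer (thompsonSubgroupOf 2 T : Set G) :=
    Subgroup.le_normalizer.trans (normalizer_le_normalizer_thompsonSubgroupOf 2 T)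
  have hTX : T ≤ X := (le_inf F.TL hTN).trans hNJ
  have hCX : L ⊓ Subgroup.centralizer (V : Set G) ≤ X :=
    (le_inf inf_le_left (F.CT.trans (normalizer_le_normalizer_thompsonSubgroupOf 2 T))).trans hNJ
  -- reduce to generators
  have core : ∀ g ∈ L, (∀ x ∈ thompsonSubgroupOf 2 T,
      (x ∈ Subgroup.centralizer (V : Set G) ∨ IsMinGen T V x) → g * x * g⁻¹ ∈ X) → g ∈ X := by
    intro g hg h
    apply gen_core F.syl hNJ hg
    have hle : thompsonSubgroupOf 2 T ≤ X.comap (MulAut.conj g).toMonoidHom := by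
      refine F.gen.trans ?_
      rw [Subgroup.closure_le]
      rintro x ⟨hx, hx'⟩
      exact h x hx hx'
    intro x hx
    exact hle hx
  have hNX : N ≤ X := by
    intro n hn
    apply core n (F.NL hn)
    intro x hx hx'
    have hxL : x ∈ L := F.TL (hJT hx)
    have hcN : n * x * n⁻¹ * x⁻¹ ∈ N := by
      have e : n * x * n⁻¹ * x⁻¹ = n * (x * n⁻¹ * x⁻¹) := by group
      rw [e]
      exact N.mul_mem hn (F.conjN hxL (N.inv_mem hn))
    have hcX : n * x * n⁻¹ * x⁻¹ ∈ X := by
      by_cases hc : n * x * n⁻¹ * x⁻¹ ∈ Subgroup.centralizer (V : Set G)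
      · exact hCX ⟨F.NL hcN, hc⟩
      · rcases hx' with hxC | hxM
        · exfalso
          apply hc
          have h1 : n * x * n⁻¹ ∈ L ⊓ Subgroup.centralizer (V : Set G) :=
            F.conjC (F.NL hn) ⟨hxL, hxC⟩
          exact Subgroup.mul_mem _ h1.2 (Subgroup.inv_mem _ hxC)
        · have hc' : ⁅n, x⁆ ∉ Subgroup.centralizer (V : Set G) := by
            rw [commutatorElement_def]; exact hc
          obtain ⟨K, hK, hKL, hmem⟩ := exists_component F hxM hn hc'
          rw [commutatorElement_def] at hmem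
          exact (sup_le (hcomp K hK hKL) hCX) hmem
    have e : n * x * n⁻¹ = (n * x * n⁻¹ * x⁻¹) * x := by group
    rw [e]
    exact X.mul_mem hcX (hTX (hJT hx))
  have hJLX : JL ≤ X := by
    intro y hy
    obtain ⟨t, ht, hty⟩ := F.JNT y hy
    have e : y = t * (t⁻¹ * y) := by group
    rw [e]
    exact X.mul_mem (hTX ht) (hNX hty)
  intro l hl
  apply core l hl
  intro x hx _
  exact hJLX (F.conjJL hl (F.JJL hx))

end Gen

end Cfsg.Agent.Lib.helper51
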