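import Mathlib
import Cfsg.Prelude.Def_JComponents
import Cfsg.Agent.Lib.helper51.JGen
import Cfsg.Agent.Lib.helper53.Conj

/-!
The family `𝒯*(M)` (`maxStraddlingTwoSubgroups M`): basic consequences of maximality.
-/

set_option autoImplicit false

namespace Cfsg.Agent.Lib.helper51

open Cfsg Cfsg.Agent.Lib.helper13

section Max

universe u

variable {G : Type u} [Group G] [Finite G]

/-- `a(T)` is the order of any maximal elementary abelian subgroup of `T`. -/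
theorem maxElemAbelianOrder_eq {T A : Subgroup G} (hA : A ∈ maxIn 2 T) :
    maxElemAbelianOrder T = Nat.card A := by
  unfold maxElemAbelianOrder
  have himg : (fun B : Subgroup ↥T => Nat.card ↥B) '' maxElementaryAbelianSubgroups 2 ↥T =
      {Nat.card A} := by
    ext n
    constructor
    · rintro ⟨B, hB, rfl⟩
      have hB' := map_subtype_mem_maxIn hB
      have h1 := hA.2.2 _ hB'.1 hB'.2.1
      have h2 := hB'.2.2 _ hA.1 hA.2.1
      rw [Subgroup.card_subtype] at h1 h2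
      exact Set.mem_singleton_iff.mpr (le_antisymm h1 h2)
    · intro hn
      rw [Set.mem_singleton_iff] at hn
      exact ⟨A.subgroupOf T, subgroupOf_mem_max_of_mem_maxIn hA,
        by rw [hn]; exact card_subgroupOf_of_le hA.1⟩
  rw [himg, csSup_singleton]

/-- A nontrivial 2-group has nontrivial Thompson subgroup. -/
theorem thompsonSubgroupOf_ne_bot {T : Subgroup G} (hT : IsPGroup 2 T) (hT1 : T ≠ ⊥) :
    thompsonSubgroupOf 2 T ≠ ⊥ := by
  have hp2 : Fact (Nat.Prime 2) := ⟨Nat.prime_two⟩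
  obtain ⟨A, hA⟩ := maxIn_nonempty 2 T
  have h2 : 2 ∣ Nat.card T := by
    obtain ⟨n, hn⟩ := (IsPGroup.iff_card).mp hT
    rcases Nat.eq_zero_or_pos n with h0 | hpos
    · exfalso
      rw [h0, pow_zero] at hn
      exact hT1 (Subgroup.card_eq_one.mp hn)
    · rw [hn]; exact dvd_pow_self 2 hpos.ne'
  obtain ⟨x, hx⟩ := exists_prime_orderOf_dvd_card' 2 h2
  have hx2 : (x : G) ^ 2 = 1 := by
    have := pow_orderOf_eq_one x
    rw [hx] at this
    have h' := congrArg Subtype.val this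
    simpa using h'
  have hx1 : (x : G) ≠ 1 := by
    intro h
    have : x = 1 := Subtype.ext h
    rw [this, orderOf_one] at hx
    norm_num at hx
  have hle := hA.2.2 (Subgroup.zpowers (x : G)) (Subgroup.zpowers_le.mpr x.2)
    (isElementaryAbelian_zpowers hx2)
  intro hbot
  have hAbot : A = ⊥ := le_bot_iff.mp ((le_thompsonSubgroupOf_of_mem_maxIn hA).trans hbot.le)
  rw [hAbot, Subgroup.card_bot] at hle
  have hz : Subgroup.zpowers (x : G) = ⊥ := by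
    apply Subgroup.card_eq_one.mp
    have hpos : 0 < Nat.card (Subgroup.zpowers (x : G)) := Nat.card_pos
    omega
  exact hx1 (Subgroup.zpowers_eq_bot.mp hz)

/-- For `T ∈ 𝒯*(M)` and a member `T'` of `𝒯(M)` containing `J(T)`: `J(T') = J(T)` and
`|T'| ≤ |T|`. -/
theorem straddle_thompson_eq {M T T' : Subgroup G} (hT : T ∈ maxStraddlingTwoSubgroups M)
    (hT' : T' ∈ straddlingTwoSubgroups M) (hJ : thompsonSubgroupOf 2 T ≤ T') :
    thompsonSubgroupOf 2 T' = thompsonSubgroupOf 2 T ∧ Nat.card T' ≤ Nat.card T := by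
  obtain ⟨h1, h2⟩ := hT.2 T' hT'
  obtain ⟨A, hA⟩ := maxIn_nonempty 2 T
  obtain ⟨A', hA'⟩ := maxIn_nonempty 2 T'
  have hAT' : A ≤ T' := (le_thompsonSubgroupOf_of_mem_maxIn hA).trans hJ
  rw [maxElemAbelianOrder_eq hA, maxElemAbelianOrder_eq hA'] at h1 h2
  have hcard : Nat.card A' = Nat.card A := le_antisymm h1 (hA'.2.2 A hAT' hA.2.1)
  obtain ⟨h3, h4⟩ := h2 hcard
  have hsub : ∀ B, B ∈ maxIn 2 T → B ∈ maxIn 2 T' := by
    intro B hB
    refine ⟨(le_thompsonSubgroupOf_of_mem_maxIn hB).trans hJ, hB.2.1, fun C hC hCel => ?_⟩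
    calc Nat.card C ≤ Nat.card A' := hA'.2.2 C hC hCel
      _ = Nat.card A := hcard
      _ ≤ Nat.card B := hB.2.2 A hA.1 hA.2.1
  have hle : thompsonSubgroupOf 2 T ≤ thompsonSubgroupOf 2 T' := by
    rw [thompsonSubgroupOf_eq_sSup, thompsonSubgroupOf_eq_sSup]
    exact sSup_le_sSup hsub
  have heq : thompsonSubgroupOf 2 T = thompsonSubgroupOf 2 T' :=
    Subgroup.eq_of_le_of_card_ge hle h3
  exact ⟨heq.symm, h4 (by rw [heq])⟩

/-- For `T ∈ 𝒯*(M)`, with `N_G(J(S)) ≤ M` for a Sylow 2-subgroup `S`: `N_G(J(T)) ≤ M`. -/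
theorem normalizer_thompson_le (S : Sylow 2 G) {M T : Subgroup G}
    (hMJ : Subgroup.normalizer (thompsonSubgroupOf 2 (S : Subgroup G) : Set G) ≤ M)
    (hT : T ∈ maxStraddlingTwoSubgroups M) :
    Subgroup.normalizer (thompsonSubgroupOf 2 T : Set G) ≤ M := by
  have hp2 : Fact (Nat.Prime 2) := ⟨Nat.prime_two⟩
  obtain ⟨hT2, hT1, hTM, -⟩ := hT.1
  by_contra hcon
  have hJT : thompsonSubgroupOf 2 T ≤ T := thompsonSubgroupOf_le_self T
  have hJ2 : IsPGroup 2 (thompsonSubgroupOf 2 T) := hT2.to_le hJT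
  have hJ1 := thompsonSubgroupOf_ne_bot hT2 hT1
  have hloc : IsTwoLocal (Subgroup.normalizer (thompsonSubgroupOf 2 T : Set G)) :=
    ⟨_, hJ2, hJ1, rfl⟩
  have hTN : T ≤ Subgroup.normalizer (thompsonSubgroupOf 2 T : Set G) :=
    Subgroup.le_normalizer.trans (normalizer_le_normalizer_thompsonSubgroupOf 2 T)
  obtain ⟨Ts, hTs, hTTs⟩ := exists_sylowTwoIn_ge (le_inf hTM hTN) hT2
  have hTs_str : Ts ∈ straddlingTwoSubgroups M := by
    refine ⟨hTs.2.1, ?_, hTs.1.trans inf_le_left, _, hloc, hTs.1.trans inf_le_right, hcon⟩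
    intro h; rw [h] at hTTs; exact hT1 (le_bot_iff.mp hTTs)
  obtain ⟨-, hcard⟩ := straddle_thompson_eq hT hTs_str (hJT.trans hTTs)
  have hTsT : Ts = T := (Subgroup.eq_of_le_of_card_ge hTTs hcard).symm
  rw [hTsT] at hTs
  obtain ⟨T₁, hT₁, hTT₁⟩ := exists_sylowTwoIn_ge hTM hT2
  have hT₁T : T₁ = T := by
    by_contra hne
    have hlt : T < T₁ := lt_of_le_of_ne hTT₁ (Ne.symm hne)
    obtain ⟨x, hx₁, hxT, hxN⟩ :=
      Cfsg.Agent.Lib.helper53.exists_mem_normalizer_not_mem hT₁.2.1 hlt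
    have hS2 : IsPGroup 2 (T ⊔ Subgroup.zpowers x : Subgroup G) :=
      IsPGroup.to_sup_of_normal_left' hT2 (hT₁.2.1.to_le (Subgroup.zpowers_le.mpr hx₁))
        (Subgroup.zpowers_le.mpr hxN)
    have := eq_inf_of_isSylowTwoIn hTs hS2 le_sup_left
    apply hxT
    rw [← this]
    exact ⟨Subgroup.mem_sup_right (Subgroup.mem_zpowers x), hT₁.1 hx₁,
      normalizer_le_normalizer_thompsonSubgroupOf 2 T hxN⟩
  rw [hT₁T] at hT₁
  have hSM : (S : Subgroup G) ≤ M :=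
    (Subgroup.le_normalizer.trans
      (normalizer_le_normalizer_thompsonSubgroupOf 2 (S : Subgroup G))).trans hMJ
  obtain ⟨m, hm, hconj⟩ := exists_conj_mem_of_isPGroup hT₁ hSM S.isPGroup'
  have hle : ((m • S : Sylow 2 G) : Subgroup G) ≤ T := by
    rw [Cfsg.Agent.Lib.helper55.coe_smul_sylow]
    rintro _ ⟨x, hx, rfl⟩
    exact hconj x hx
  have hTeq : T = ((m • S : Sylow 2 G) : Subgroup G) := (m • S).is_maximal' hT2 hle
  apply hcon
  rw [hTeq, Cfsg.Agent.Lib.helper55.coe_smul_sylow, ← map_thompsonSubgroupOf (MulAut.conj m),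
    ← Subgroup.map_equiv_normalizer_eq]
  rintro _ ⟨g, hg, rfl⟩
  exact M.mul_mem (M.mul_mem hm (hMJ hg)) (M.inv_mem hm)

/-- Core of the `𝒯*(M)` analysis: for `T ∈ 𝒯*(M)` and a Sylow 2-subgroup `T₀ ⊇ J(T)` of a
2-local subgroup `L ≰ M`: `J(T₀) = J(T)`, `T₀ ∈ 𝒯(M)`, `L ∈ ℒ(T₀)` and `|T₀| ≤ |T|`. -/
theorem straddle_sylow (hL : Cfsg.IsCharacteristicTwoType G) (S : Sylow 2 G)
    {M T L T₀ : Subgroup G}
    (hMJ : Subgroup.normalizer (thompsonSubgroupOf 2 (S : Subgroup G) : Set G) ≤ M)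
    (hT : T ∈ maxStraddlingTwoSubgroups M) (hL2 : IsTwoLocal L) (hLM : ¬ L ≤ M)
    (hT₀ : IsSylowTwoIn T₀ L) (hJT₀ : thompsonSubgroupOf 2 T ≤ T₀) :
    thompsonSubgroupOf 2 T₀ = thompsonSubgroupOf 2 T ∧ T₀ ∈ straddlingTwoSubgroups M ∧
      L ∈ jOvergroups T₀ ∧ Nat.card T₀ ≤ Nat.card T := by
  have hp2 : Fact (Nat.Prime 2) := ⟨Nat.prime_two⟩
  obtain ⟨hT2, hT1, hTM, -⟩ := hT.1
  have hNJM := normalizer_thompson_le S hMJ hT
  have hJ1 := thompsonSubgroupOf_ne_bot hT2 hT1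
  obtain ⟨T₂, hT₂def⟩ : ∃ T₂, T₂ = T₀ ⊓ Subgroup.normalizer (thompsonSubgroupOf 2 T : Set G) :=
    ⟨_, rfl⟩
  have hJT₂ : thompsonSubgroupOf 2 T ≤ T₂ := by
    rw [hT₂def]; exact le_inf hJT₀ Subgroup.le_normalizer
  have hT₂T₀ : T₂ ≤ T₀ := by rw [hT₂def]; exact inf_le_left
  have hT₂str : T₂ ∈ straddlingTwoSubgroups M := by
    refine ⟨hT₀.2.1.to_le hT₂T₀, ?_, ?_, L, hL2, hT₂T₀.trans hT₀.1, hLM⟩
    · intro h; rw [h] at hJT₂; exact hJ1 (le_bot_iff.mp hJT₂)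
    · rw [hT₂def]; exact inf_le_right.trans hNJM
  obtain ⟨hJ₂, -⟩ := straddle_thompson_eq hT hT₂str hJT₂
  have hT₂eq : T₂ = T₀ := by
    by_contra hne
    have hlt : T₂ < T₀ := lt_of_le_of_ne hT₂T₀ hne
    obtain ⟨x, hx₀, hxT₂, hxN⟩ :=
      Cfsg.Agent.Lib.helper53.exists_mem_normalizer_not_mem hT₀.2.1 hlt
    apply hxT₂
    have := normalizer_le_normalizer_thompsonSubgroupOf 2 T₂ hxN
    rw [hJ₂] at this
    rw [hT₂def]; exact ⟨hx₀, this⟩
  rw [hT₂eq] at hT₂str hJ₂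
  obtain ⟨-, hcard⟩ := straddle_thompson_eq hT hT₂str hJT₀
  refine ⟨hJ₂, hT₂str, ⟨hT₀, ?_, isTwoLocal_char hL hL2⟩, hcard⟩
  intro hJR
  apply hLM
  have hRT₀ := pCoreOf_le_of_isSylowTwoIn hT₀
  have h1 := thompsonSubgroupOf_eq_of_le (p := 2) hRT₀ hJR
  have h2 : L ≤ Subgroup.normalizer (thompsonSubgroupOf 2 (pCoreOf 2 L) : Set G) :=
    (le_normalizer_pCoreOf 2 L).trans (normalizer_le_normalizer_thompsonSubgroupOf 2 _)
  rw [h1, hJ₂] at h2
  exact h2.trans hNJM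

end Max

end Cfsg.Agent.Lib.helper51
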