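import Mathlib
import Cfsg.Prelude.Def_JComponents
import Cfsg.Agent.Lib.helper51.JMax

/-!
`J(T)`-components outside `M` for `T ∈ 𝒯*(M)`.
-/

set_option autoImplicit false

namespace Cfsg.Agent.Lib.helper51

open Cfsg Cfsg.Agent.Lib.helper13

section Out

universe u

variable {G : Type u} [Group G] [Finite G]

theorem isPGroup_wOf {T K : Subgroup G} (hK : IsJComponent T K) : IsPGroup 2 (wOf K) := by
  intro w
  refine ⟨1, ?_⟩
  apply Subtype.ext
  have := hK.2.2.2.2.2 w.1 w.2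
  simp only [pow_one, Subgroup.coe_pow, Subgroup.coe_one]
  rw [pow_two]; exact this

theorem wOf_ne_bot {T K : Subgroup G} (hK : IsJComponent T K) : wOf K ≠ ⊥ := by
  intro h
  have := Subgroup.card_eq_one.mpr h
  rw [hK.2.2.2.2.1] at this
  norm_num at this

/-- `N_G(W_K)` is a 2-local subgroup for a `J(T)`-component `K`. -/
theorem isTwoLocal_normalizer_wOf {T K : Subgroup G} (hK : IsJComponent T K) :
    IsTwoLocal (Subgroup.normalizer (wOf K : Set G)) :=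
  ⟨wOf K, isPGroup_wOf hK, wOf_ne_bot hK, rfl⟩

theorem component_le_normalizer_wOf (K : Subgroup G) :
    K ≤ Subgroup.normalizer (wOf K : Set G) :=
  Subgroup.le_normalizer.trans (normalizer_le_normalizer_wOf K)

theorem thompson_le_normalizer_wOf {T K : Subgroup G} (hK : IsJComponent T K) :
    thompsonSubgroupOf 2 T ≤ Subgroup.normalizer (wOf K : Set G) :=
  (le_normalizer_of_commutator_eq hK.2.1).trans (normalizer_le_normalizer_wOf K)

/-- For `T ∈ 𝒯*(M)`: two `J(T)`-components of a common 2-local subgroup `L₁ ≰ M` containing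
`J(T)` normalize each other. -/
theorem components_normalize (hL : Cfsg.IsCharacteristicTwoType G)
    (hN : ∀ N : Subgroup G, Cfsg.IsTwoLocal N → Group.IsSolvable ↥N)
    (hZ : ∀ S : Sylow 2 G, Subgroup.centralizer (Cfsg.omegaCenterOf (S : Subgroup G) : Set G) ≤
      Subgroup.normalizer ((S : Subgroup G) : Set G))
    (S : Sylow 2 G) {M T L₁ K₁ K₂ : Subgroup G}
    (hMJ : Subgroup.normalizer (thompsonSubgroupOf 2 (S : Subgroup G) : Set G) ≤ M)
    (hT : T ∈ maxStraddlingTwoSubgroups M) (hL₁ : IsTwoLocal L₁) (hL₁M : ¬ L₁ ≤ M)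
    (hJL₁ : thompsonSubgroupOf 2 T ≤ L₁) (hK₁ : IsJComponent T K₁) (hK₁L : K₁ ≤ L₁)
    (hK₂ : IsJComponent T K₂) (hK₂L : K₂ ≤ L₁) :
    K₁ ≤ Subgroup.normalizer (K₂ : Set G) ∧ pCoreOf 2 K₂ ≤ pCoreOf 2 L₁ := by
  obtain ⟨hT2, hT1, hTM, -⟩ := hT.1
  have hJ2 : IsPGroup 2 (thompsonSubgroupOf 2 T) := hT2.to_le (thompsonSubgroupOf_le_self T)
  obtain ⟨S₁, hS₁, hJS₁⟩ := exists_sylowTwoIn_ge hJL₁ hJ2
  obtain ⟨hJeq, hS₁str, hL₁S₁, -⟩ := straddle_sylow hL S hMJ hT hL₁ hL₁M hS₁ hJS₁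
  obtain ⟨V, N, JL, F⟩ := overgroup_fine hZ hS₁ (hN L₁ hL₁) hL₁S₁.2.2
  have hK₁' : IsJComponent S₁ K₁ := component_congr hJeq hK₁
  have hK₂' : IsJComponent S₁ K₂ := component_congr hJeq hK₂
  obtain ⟨-, hN₂, -, -, -⟩ := component_normalized hL hN hZ hS₁str.1 hS₁str.2.1 F hK₂' hK₂L
  obtain ⟨-, -, -, hK₁N, -⟩ := component_normalized hL hN hZ hS₁str.1 hS₁str.2.1 F hK₁' hK₁L
  obtain ⟨d, a, -, -, -, -, -, -, -, -, hQR, -, -⟩ :=
    exists_invPair hL hN hZ hS₁str.1 hS₁str.2.1 F hK₂' hK₂L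
  exact ⟨hK₁N.trans hN₂, hQR⟩

/-- For `T ∈ 𝒯*(M)`, a `J(T)`-component outside `M` lies in `𝒦⁰(T)`. -/
theorem mem_jComponentsZero (hL : Cfsg.IsCharacteristicTwoType G) (S : Sylow 2 G)
    {M T K : Subgroup G}
    (hMJ : Subgroup.normalizer (thompsonSubgroupOf 2 (S : Subgroup G) : Set G) ≤ M)
    (hT : T ∈ maxStraddlingTwoSubgroups M) (hK : IsJComponent T K) (hKM : ¬ K ≤ M) :
    K ∈ jComponentsZero T := by
  refine ⟨hK, fun S' hJS' hS' => ?_⟩
  have hNM : ¬ Subgroup.normalizer (wOf K : Set G) ≤ M :=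
    fun h => hKM ((component_le_normalizer_wOf K).trans h)
  exact (straddle_sylow hL S hMJ hT (isTwoLocal_normalizer_wOf hK) hNM hS' hJS').1

/-- For `T ∈ 𝒯*(M)` and a 2-local `L ≰ M` containing `T`: `T` is a Sylow 2-subgroup of `L`,
`L ∈ ℒ(T)`, and `L` has a `J(T)`-component outside `M`. -/
theorem exists_component_outside (hL : Cfsg.IsCharacteristicTwoType G)
    (hN : ∀ N : Subgroup G, Cfsg.IsTwoLocal N → Group.IsSolvable ↥N)
    (hZ : ∀ S : Sylow 2 G, Subgroup.centralizer (Cfsg.omegaCenterOf (S : Subgroup G) : Set G) ≤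
      Subgroup.normalizer ((S : Subgroup G) : Set G))
    (S : Sylow 2 G) {M T L : Subgroup G}
    (hMJ : Subgroup.normalizer (thompsonSubgroupOf 2 (S : Subgroup G) : Set G) ≤ M)
    (hT : T ∈ maxStraddlingTwoSubgroups M) (hL2 : IsTwoLocal L) (hLM : ¬ L ≤ M) (hTL : T ≤ L) :
    IsSylowTwoIn T L ∧ L ∈ jOvergroups T ∧
      ∃ K : Subgroup G, IsJComponent T K ∧ K ≤ L ∧ ¬ K ≤ M := by
  obtain ⟨hT2, hT1, hTM, -⟩ := hT.1
  have hJT : thompsonSubgroupOf 2 T ≤ T := thompsonSubgroupOf_le_self T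
  obtain ⟨T₁, hT₁, hTT₁⟩ := exists_sylowTwoIn_ge hTL hT2
  obtain ⟨-, -, -, hcard⟩ := straddle_sylow hL S hMJ hT hL2 hLM hT₁ (hJT.trans hTT₁)
  have hT₁T : T₁ = T := (Subgroup.eq_of_le_of_card_ge hTT₁ hcard).symm
  rw [hT₁T] at hT₁
  obtain ⟨-, -, hLT, -⟩ := straddle_sylow hL S hMJ hT hL2 hLM hT₁ hJT
  refine ⟨hT₁, hLT, ?_⟩
  obtain ⟨V, N, JL, F⟩ := overgroup_fine hZ hT₁ (hN L hL2) hLT.2.2
  by_contra hno
  push Not at hno
  apply hLM
  apply generation F M (inf_le_right.trans (normalizer_thompson_le S hMJ hT))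
  intro K hK hKL
  exact hno K hK hKL

end Out

end Cfsg.Agent.Lib.helper51
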