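import Mathlib
import Cfsg.Agent.Lib.helper51.LevDefs

set_option autoImplicit false

namespace Cfsg.Agent.Lib.helper51.Lev

open Matrix

variable {K : Type*} [Field K]

theorem helper51_indep3' {ι : Type} {a b c : ι → K}
    (h : LinearIndependent K ![a, b, c]) {α β γ : K} (h0 : α • a + β • b + γ • c = 0) :
    α = 0 ∧ β = 0 ∧ γ = 0 := by
  have := Fintype.linearIndependent_iff.mp h ![α, β, γ] (by simpa [Fin.sum_univ_three] using h0)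
  exact ⟨this 0, this 1, this 2⟩

theorem helper51_ch1a_step {ι : Type} [Fintype ι] [DecidableEq ι]
    (g : Matrix ι ι K) (z : ι → K) (t : K) (ht : t ≠ 0) (lam : ι → K)
    (h0 : lam ⬝ᵥ z = 1 + t) (h1 : lam ⬝ᵥ (g *ᵥ z) = t) (h2 : lam ⬝ᵥ (g *ᵥ (g *ᵥ z)) = t - 1)
    (s : K)
    (hq : ∀ h, lam ⬝ᵥ h = 0 → Dt g (z - g *ᵥ z) lam (Dt g (z - g *ᵥ z) lam h) =
      s • Dt g (z - g *ᵥ z) lam h - h) :
    ∃ a₁ a₂ : K, g *ᵥ (g *ᵥ (g *ᵥ z)) = z + a₁ • g *ᵥ z + a₂ • g *ᵥ (g *ᵥ z) ∧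
      s = 2 + t * (a₁ + a₂) := by
  have hgx' : g *ᵥ (z - g *ᵥ z) = g *ᵥ z - g *ᵥ (g *ᵥ z) := by rw [Matrix.mulVec_sub]
  have hlh₁ : lam ⬝ᵥ (t • z - (1 + t) • g *ᵥ z) = 0 := by
    rw [dotProduct_sub, dotProduct_smul, dotProduct_smul, h0, h1]
    simp only [smul_eq_mul]; ring
  have hgh₁ : g *ᵥ (t • z - (1 + t) • g *ᵥ z) = t • g *ᵥ z - (1 + t) • g *ᵥ (g *ᵥ z) := by
    rw [Matrix.mulVec_sub, Matrix.mulVec_smul, Matrix.mulVec_smul]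
  have hlgh₁ : lam ⬝ᵥ (g *ᵥ (t • z - (1 + t) • g *ᵥ z)) = 1 := by
    rw [hgh₁, dotProduct_sub, dotProduct_smul, dotProduct_smul, h1, h2]
    simp only [smul_eq_mul]; ring
  have hD1 : Dt g (z - g *ᵥ z) lam (t • z - (1 + t) • g *ᵥ z) =
      (t - 1) • g *ᵥ z - t • g *ᵥ (g *ᵥ z) := by
    unfold Dt
    rw [hlgh₁, one_smul, hgh₁, hgx']
    ext i
    simp only [Pi.sub_apply, Pi.smul_apply, Pi.add_apply, smul_eq_mul]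
    ring
  have hq1 := hq _ hlh₁
  rw [hD1] at hq1
  unfold Dt at hq1
  rw [hgx'] at hq1
  have hg2 : g *ᵥ ((t - 1) • g *ᵥ z - t • g *ᵥ (g *ᵥ z)) =
      (t - 1) • g *ᵥ (g *ᵥ z) - t • g *ᵥ (g *ᵥ (g *ᵥ z)) := by
    rw [Matrix.mulVec_sub, Matrix.mulVec_smul, Matrix.mulVec_smul]
  rw [hg2] at hq1
  generalize lam ⬝ᵥ ((t - 1) • g *ᵥ (g *ᵥ z) - t • g *ᵥ (g *ᵥ (g *ᵥ z))) = κ at hq1
  refine ⟨(-κ - s * (t - 1) - (1 + t)) / t, ((t - 1) + κ + s * t) / t, ?_, ?_⟩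
  · ext i
    have := congrFun hq1 i
    simp only [Pi.sub_apply, Pi.smul_apply, Pi.add_apply, smul_eq_mul] at this ⊢
    field_simp
    linear_combination (-1 : K) * this
  · field_simp
    ring

theorem helper51_ch1a_mem {ι : Type} [Fintype ι] [DecidableEq ι]
    (g : Matrix ι ι K) (z : ι → K) (t : K) (lam : ι → K)
    (h0 : lam ⬝ᵥ z = 1 + t) (h1 : lam ⬝ᵥ (g *ᵥ z) = t)
    (s : K)
    (hq : ∀ h, lam ⬝ᵥ h = 0 → Dt g (z - g *ᵥ z) lam (Dt g (z - g *ᵥ z) lam h) =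
      s • Dt g (z - g *ᵥ z) lam h - h)
    (a₁ a₂ : K) (e3 : g *ᵥ (g *ᵥ (g *ᵥ z)) = z + a₁ • g *ᵥ z + a₂ • g *ᵥ (g *ᵥ z)) :
    ∀ h : ι → K, g *ᵥ (g *ᵥ h) - s • g *ᵥ h + h ∈
      Submodule.span K (Set.range ![z, g *ᵥ z, g *ᵥ (g *ᵥ z)]) := by
  have hgx' : g *ᵥ (z - g *ᵥ z) = g *ᵥ z - g *ᵥ (g *ᵥ z) := by rw [Matrix.mulVec_sub]
  have hlx : lam ⬝ᵥ (z - g *ᵥ z) = 1 := by rw [dotProduct_sub, h0, h1]; ring
  have m0 : z ∈ Submodule.span K (Set.range ![z, g *ᵥ z, g *ᵥ (g *ᵥ z)]) :=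
    Submodule.subset_span ⟨0, rfl⟩
  have m1 : g *ᵥ z ∈ Submodule.span K (Set.range ![z, g *ᵥ z, g *ᵥ (g *ᵥ z)]) :=
    Submodule.subset_span ⟨1, rfl⟩
  have m2 : g *ᵥ (g *ᵥ z) ∈ Submodule.span K (Set.range ![z, g *ᵥ z, g *ᵥ (g *ᵥ z)]) :=
    Submodule.subset_span ⟨2, rfl⟩
  have m3 : g *ᵥ (g *ᵥ (g *ᵥ z)) ∈
      Submodule.span K (Set.range ![z, g *ᵥ z, g *ᵥ (g *ᵥ z)]) := by
    rw [e3]
    exact Submodule.add_mem _ (Submodule.add_mem _ m0 (Submodule.smul_mem _ _ m1))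
      (Submodule.smul_mem _ _ m2)
  have aux : ∀ (h : ι → K) (κ κ' : K),
      g *ᵥ (g *ᵥ h - κ • (g *ᵥ z - g *ᵥ (g *ᵥ z))) - κ' • (g *ᵥ z - g *ᵥ (g *ᵥ z)) =
        s • (g *ᵥ h - κ • (g *ᵥ z - g *ᵥ (g *ᵥ z))) - h →
      g *ᵥ (g *ᵥ h) - s • g *ᵥ h + h ∈
        Submodule.span K (Set.range ![z, g *ᵥ z, g *ᵥ (g *ᵥ z)]) := by
    intro h κ κ' e
    rw [Matrix.mulVec_sub, Matrix.mulVec_smul, Matrix.mulVec_sub] at e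
    have e' : g *ᵥ (g *ᵥ h) - s • g *ᵥ h + h =
        κ • (g *ᵥ (g *ᵥ z) - g *ᵥ (g *ᵥ (g *ᵥ z))) + κ' • (g *ᵥ z - g *ᵥ (g *ᵥ z)) -
          (s * κ) • (g *ᵥ z - g *ᵥ (g *ᵥ z)) := by
      ext i
      have := congrFun e i
      simp only [Pi.sub_apply, Pi.smul_apply, Pi.add_apply, smul_eq_mul] at this ⊢
      linear_combination this
    rw [e']
    exact Submodule.sub_mem _ (Submodule.add_mem _ (Submodule.smul_mem _ _ (Submodule.sub_mem _ m2 m3))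
      (Submodule.smul_mem _ _ (Submodule.sub_mem _ m1 m2)))
      (Submodule.smul_mem _ _ (Submodule.sub_mem _ m1 m2))
  have hker : ∀ h, lam ⬝ᵥ h = 0 → g *ᵥ (g *ᵥ h) - s • g *ᵥ h + h ∈
      Submodule.span K (Set.range ![z, g *ᵥ z, g *ᵥ (g *ᵥ z)]) := by
    intro h hl
    have e := hq h hl
    unfold Dt at e
    rw [hgx'] at e
    exact aux h _ _ e
  intro h
  have hl : lam ⬝ᵥ (h - (lam ⬝ᵥ h) • (z - g *ᵥ z)) = 0 := by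
    rw [dotProduct_sub, dotProduct_smul, hlx]
    simp
  have e1 := hker _ hl
  have e2 : g *ᵥ (g *ᵥ h) - s • g *ᵥ h + h =
      (g *ᵥ (g *ᵥ (h - (lam ⬝ᵥ h) • (z - g *ᵥ z))) - s • g *ᵥ (h - (lam ⬝ᵥ h) • (z - g *ᵥ z)) +
        (h - (lam ⬝ᵥ h) • (z - g *ᵥ z))) +
      (lam ⬝ᵥ h) • ((g *ᵥ (g *ᵥ z) - g *ᵥ (g *ᵥ (g *ᵥ z))) - s • (g *ᵥ z - g *ᵥ (g *ᵥ z)) +
        (z - g *ᵥ z)) := by
    simp only [Matrix.mulVec_sub, Matrix.mulVec_smul]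
    ext i
    simp only [Pi.sub_apply, Pi.smul_apply, Pi.add_apply, smul_eq_mul]
    ring
  rw [e2]
  exact Submodule.add_mem _ e1 (Submodule.smul_mem _ _ (Submodule.add_mem _
    (Submodule.sub_mem _ (Submodule.sub_mem _ m2 m3) (Submodule.smul_mem _ _ (Submodule.sub_mem _ m1 m2)))
    (Submodule.sub_mem _ m0 m1)))

/-- PIECE CH1A. -/
theorem ch1_h3 {ι : Type} [Fintype ι] [DecidableEq ι] (h4 : 4 ≤ Fintype.card ι)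
    (g : Matrix ι ι K) (hdet : g.det = 1) (hinv : IsUnit (g - 1)) (z : ι → K)
    (hz : LinearIndependent K ![z, g *ᵥ z, g *ᵥ (g *ᵥ z)]) (t₁ t₂ : K) (ht₁ : t₁ ≠ 0)
    (ht₂ : t₂ ≠ 0) (hne : t₁ ≠ t₂) (lam₁ lam₂ : ι → K)
    (h10 : lam₁ ⬝ᵥ z = 1 + t₁) (h11 : lam₁ ⬝ᵥ (g *ᵥ z) = t₁)
    (h12 : lam₁ ⬝ᵥ (g *ᵥ (g *ᵥ z)) = t₁ - 1)
    (h20 : lam₂ ⬝ᵥ z = 1 + t₂) (h21 : lam₂ ⬝ᵥ (g *ᵥ z) = t₂)
    (h22 : lam₂ ⬝ᵥ (g *ᵥ (g *ᵥ z)) = t₂ - 1) (s₁ s₂ : K)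
    (hq₁ : ∀ h, lam₁ ⬝ᵥ h = 0 → Dt g (z - g *ᵥ z) lam₁ (Dt g (z - g *ᵥ z) lam₁ h) =
      s₁ • Dt g (z - g *ᵥ z) lam₁ h - h)
    (hq₂ : ∀ h, lam₂ ⬝ᵥ h = 0 → Dt g (z - g *ᵥ z) lam₂ (Dt g (z - g *ᵥ z) lam₂ h) =
      s₂ • Dt g (z - g *ᵥ z) lam₂ h - h) : False := by
  obtain ⟨a₁, a₂, e3, es₁⟩ := helper51_ch1a_step g z t₁ ht₁ lam₁ h10 h11 h12 s₁ hq₁
  obtain ⟨b₁, b₂, e3', es₂⟩ := helper51_ch1a_step g z t₂ ht₂ lam₂ h20 h21 h22 s₂ hq₂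
  have hab : a₁ = b₁ ∧ a₂ = b₂ := by
    have h0 : (0 : K) • z + (a₁ - b₁) • g *ᵥ z + (a₂ - b₂) • g *ᵥ (g *ᵥ z) = 0 := by
      ext i
      have := congrFun (e3.symm.trans e3') i
      simp only [Pi.sub_apply, Pi.smul_apply, Pi.add_apply, smul_eq_mul, Pi.zero_apply] at this ⊢
      linear_combination this
    obtain ⟨-, k1, k2⟩ := helper51_indep3' hz h0
    exact ⟨sub_eq_zero.mp k1, sub_eq_zero.mp k2⟩
  obtain ⟨rfl, rfl⟩ := hab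
  have m₁ := helper51_ch1a_mem g z t₁ lam₁ h10 h11 s₁ hq₁ a₁ a₂ e3
  have m₂ := helper51_ch1a_mem g z t₂ lam₂ h20 h21 s₂ hq₂ a₁ a₂ e3
  have hall : (∀ y : ι → K, y ∈ Submodule.span K (Set.range ![z, g *ᵥ z, g *ᵥ (g *ᵥ z)])) →
      False := by
    intro hall
    have htop : Submodule.span K (Set.range ![z, g *ᵥ z, g *ᵥ (g *ᵥ z)]) = ⊤ :=
      Submodule.eq_top_iff'.mpr hall
    have k1 : Module.finrank K (Submodule.span K (Set.range ![z, g *ᵥ z, g *ᵥ (g *ᵥ z)])) =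
        Fintype.card ι := by
      rw [htop, finrank_top, Module.finrank_fintype_fun_eq_card]
    have k2 := finrank_range_le_card (R := K) ![z, g *ᵥ z, g *ᵥ (g *ᵥ z)]
    rw [Set.finrank] at k2
    simp only [Fintype.card_fin] at k2
    omega
  apply hall
  have hgu : IsUnit g := (Matrix.isUnit_iff_isUnit_det g).mpr (by rw [hdet]; exact isUnit_one)
  obtain ⟨G, hG⟩ := hgu.exists_right_inv
  obtain ⟨N, hN⟩ := hinv.exists_right_inv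
  by_cases hs : s₁ = s₂
  · have ha : a₁ + a₂ = 0 := by
      have h5 : (t₁ - t₂) * (a₁ + a₂) = 0 := by linear_combination hs - es₁ + es₂
      rcases mul_eq_zero.mp h5 with h | h
      · exact absurd (sub_eq_zero.mp h) hne
      · exact h
    have hs2 : s₁ = 2 := by rw [es₁, ha]; ring
    intro y
    have h6 := m₁ (N *ᵥ (N *ᵥ y))
    have k : ∀ w : ι → K, (g - 1) *ᵥ (N *ᵥ w) = w := fun w => by
      rw [Matrix.mulVec_mulVec, hN, Matrix.one_mulVec]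
    have h7 : ∀ w : ι → K, g *ᵥ (g *ᵥ w) - s₁ • g *ᵥ w + w = (g - 1) *ᵥ ((g - 1) *ᵥ w) := by
      intro w
      rw [hs2]
      simp only [Matrix.sub_mulVec, Matrix.one_mulVec, Matrix.mulVec_sub]
      ext i
      simp only [Pi.sub_apply, Pi.smul_apply, Pi.add_apply, smul_eq_mul]
      ring
    rw [h7, k, k] at h6
    exact h6
  · intro y
    have e1 := m₁ (G *ᵥ y)
    have e2 := m₂ (G *ᵥ y)
    have k : g *ᵥ (G *ᵥ y) = y := by rw [Matrix.mulVec_mulVec, hG, Matrix.one_mulVec]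
    rw [k] at e1 e2
    have h8 := Submodule.sub_mem _ e2 e1
    have e : (g *ᵥ y - s₂ • y + G *ᵥ y) - (g *ᵥ y - s₁ • y + G *ᵥ y) = (s₁ - s₂) • y := by
      ext i
      simp only [Pi.sub_apply, Pi.smul_apply, Pi.add_apply, smul_eq_mul]
      ring
    rw [e] at h8
    have h9 := Submodule.smul_mem _ (s₁ - s₂)⁻¹ h8
    rwa [smul_smul, inv_mul_cancel₀ (sub_ne_zero.mpr hs), one_smul] at h9

end Cfsg.Agent.Lib.helper51.Lev
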