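import Mathlib
import Cfsg.Agent.Lib.helper51.LevDefs
import Cfsg.Agent.Lib.helper80.LevUTIL
import Cfsg.Agent.Lib.helper51.LevCH1A
import Cfsg.Agent.Lib.helper63.LevCHILD
import Cfsg.Agent.Lib.helper63.LevGOODZ

set_option autoImplicit false

namespace Cfsg.Agent.Lib.helper51.Lev

open Matrix

variable {K : Type*} [Field K]

theorem helper51_indep3 {ι : Type} {a b c : ι → K}
    (h : LinearIndependent K ![a, b, c]) {α β γ : K} (h0 : α • a + β • b + γ • c = 0) :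
    α = 0 ∧ β = 0 ∧ γ = 0 := by
  have := Fintype.linearIndependent_iff.mp h ![α, β, γ] (by simpa [Fin.sum_univ_three] using h0)
  exact ⟨this 0, this 1, this 2⟩

theorem helper51_ch1_core {ι : Type} [Fintype ι] [DecidableEq ι]
    (g : Matrix ι ι K) (hdet : g.det = 1) (hinv : IsUnit (g - 1)) (z : ι → K)
    (hz : LinearIndependent K ![z, g *ᵥ z, g *ᵥ (g *ᵥ z)]) (c r : ι → K)
    (hrz : r ⬝ᵥ (z - g *ᵥ z) ≠ 0) (t : K) (ht : t ≠ 0) (lam : ι → K)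
    (h0 : lam ⬝ᵥ z = 1 + t) (h1 : lam ⬝ᵥ (g *ᵥ z) = t) (h2 : lam ⬝ᵥ (g *ᵥ (g *ᵥ z)) = t - 1)
    (hc : lam ⬝ᵥ c ≠ 0)
    (h3 : Fintype.card ι = 3 ∨ ∀ s : K, ∃ h, lam ⬝ᵥ h = 0 ∧
      Dt g (z - g *ᵥ z) lam (Dt g (z - g *ᵥ z) lam h) ≠ s • Dt g (z - g *ᵥ z) lam h - h) :
    Child g c r := by
  have hinj : ∀ w : ι → K, (g - 1) *ᵥ w = 0 → w = 0 := by
    intro w hw
    obtain ⟨N, hN⟩ := hinv.exists_left_inv
    have := congrArg (fun y => N *ᵥ y) hw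
    simpa [Matrix.mulVec_mulVec, hN] using this
  have hlx : lam ⬝ᵥ (z - g *ᵥ z) = 1 := by rw [dotProduct_sub, h0, h1]; ring
  have hgx' : g *ᵥ (z - g *ᵥ z) = g *ᵥ z - g *ᵥ (g *ᵥ z) := by rw [Matrix.mulVec_sub]
  have hlgx : lam ⬝ᵥ (g *ᵥ (z - g *ᵥ z)) = 1 := by rw [hgx', dotProduct_sub, h1, h2]; ring
  have hlh₁ : lam ⬝ᵥ (t • z - (1 + t) • g *ᵥ z) = 0 := by
    rw [dotProduct_sub, dotProduct_smul, dotProduct_smul, h0, h1]
    simp only [smul_eq_mul]; ring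
  have hgh₁ : g *ᵥ (t • z - (1 + t) • g *ᵥ z) = t • g *ᵥ z - (1 + t) • g *ᵥ (g *ᵥ z) := by
    rw [Matrix.mulVec_sub, Matrix.mulVec_smul, Matrix.mulVec_smul]
  have hlgh₁ : lam ⬝ᵥ (g *ᵥ (t • z - (1 + t) • g *ᵥ z)) = 1 := by
    rw [hgh₁, dotProduct_sub, dotProduct_smul, dotProduct_smul, h1, h2]
    simp only [smul_eq_mul]; ring
  refine child_of_vec g hdet (z - g *ᵥ z) lam c r hlx hlgx ?_ ?_ h3 ?_
    ⟨_, hlh₁, by rw [hlgh₁]; exact one_ne_zero⟩ hc hrz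
  · -- h1
    intro a
    refine ⟨_, hlh₁, ?_⟩
    intro heq
    unfold Dt at heq
    rw [hlgh₁, one_smul, hgh₁, hgx'] at heq
    have h0' : (-(a * t)) • z + ((t - 1) + a * (1 + t)) • g *ᵥ z + (-t) • g *ᵥ (g *ᵥ z) = 0 := by
      ext i
      have := congrFun heq i
      simp only [Pi.sub_apply, Pi.smul_apply, Pi.add_apply, smul_eq_mul, Pi.zero_apply] at this ⊢
      linear_combination this
    exact ht (neg_eq_zero.mp (helper51_indep3 hz h0').2.2)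
  · -- h2
    intro h hlh hD
    unfold Dt at hD
    rw [hgx'] at hD
    have e1 : (g - 1) *ᵥ (h - (lam ⬝ᵥ (g *ᵥ h)) • (z - g *ᵥ z) + (lam ⬝ᵥ (g *ᵥ h)) • z) = 0 := by
      rw [Matrix.sub_mulVec, Matrix.one_mulVec, Matrix.mulVec_add, Matrix.mulVec_sub,
        Matrix.mulVec_smul, Matrix.mulVec_smul, hgx']
      ext i
      have := congrFun hD i
      simp only [Pi.sub_apply, Pi.smul_apply, Pi.add_apply, smul_eq_mul, Pi.zero_apply] at this ⊢
      linear_combination this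
    have e2 := hinj _ e1
    have e3 : h = (-(lam ⬝ᵥ (g *ᵥ h))) • g *ᵥ z := by
      ext i
      have := congrFun e2 i
      simp only [Pi.sub_apply, Pi.smul_apply, Pi.add_apply, smul_eq_mul, Pi.zero_apply] at this ⊢
      linear_combination this
    have e4 : (lam ⬝ᵥ (g *ᵥ h)) * t = 0 := by
      have h5 := hlh
      rw [e3, dotProduct_smul, h1] at h5
      simp only [smul_eq_mul] at h5
      linear_combination -h5
    rcases mul_eq_zero.mp e4 with h' | h'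
    · rw [e3, h']; simp
    · exact absurd h' ht
  · -- h4
    intro hfix
    have e1 : (g - 1) *ᵥ (z - g *ᵥ z) = 0 := by
      rw [Matrix.sub_mulVec, Matrix.one_mulVec, hfix, sub_self]
    have hx0 := hinj _ e1
    have h0' : (1 : K) • z + (-1 : K) • g *ᵥ z + (0 : K) • g *ᵥ (g *ᵥ z) = 0 := by
      ext i
      have := congrFun hx0 i
      simp only [Pi.sub_apply, Pi.smul_apply, Pi.add_apply, smul_eq_mul, Pi.zero_apply] at this ⊢
      linear_combination this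
    exact one_ne_zero (helper51_indep3 hz h0').1

theorem helper51_ch1_lam {ι : Type} [Fintype ι] [DecidableEq ι] (g : Matrix ι ι K)
    (z c : ι → K) (hz : LinearIndependent K ![z, g *ᵥ z, g *ᵥ (g *ᵥ z)])
    (hcz : ∀ a : K, c ≠ a • (z - (2 : K) • g *ᵥ z + g *ᵥ (g *ᵥ z))) :
    ∃ tc : K, ∀ t : K, t ≠ tc → ∃ lam : ι → K, lam ⬝ᵥ z = 1 + t ∧ lam ⬝ᵥ (g *ᵥ z) = t ∧
      lam ⬝ᵥ (g *ᵥ (g *ᵥ z)) = t - 1 ∧ lam ⬝ᵥ c ≠ 0 := by
  by_cases hcT : c ∈ Submodule.span K (Set.range ![z, g *ᵥ z, g *ᵥ (g *ᵥ z)])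
  · obtain ⟨f, hf⟩ := (Submodule.mem_span_range_iff_exists_fun K).mp hcT
    rw [Fin.sum_univ_three] at hf
    simp only [Matrix.cons_val_zero, Matrix.cons_val_one, Matrix.cons_val_two, Matrix.head_cons,
      Matrix.tail_cons] at hf
    have key : ∀ t : K, ∀ lam : ι → K, lam ⬝ᵥ z = 1 + t → lam ⬝ᵥ (g *ᵥ z) = t →
        lam ⬝ᵥ (g *ᵥ (g *ᵥ z)) = t - 1 →
        lam ⬝ᵥ c = (f 0 - f 2) + t * (f 0 + f 1 + f 2) := by
      intro t lam l0 l1 l2
      rw [← hf, dotProduct_add, dotProduct_add, dotProduct_smul, dotProduct_smul,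
        dotProduct_smul, l0, l1, l2]
      simp only [smul_eq_mul]
      ring
    by_cases hsum : f 0 + f 1 + f 2 = 0
    · refine ⟨0, fun t _ => ?_⟩
      obtain ⟨lam, hl⟩ := exists_dual _ hz ![1 + t, t, t - 1]
      have l0 := hl 0
      have l1 := hl 1
      have l2 := hl 2
      simp only [Matrix.cons_val_zero, Matrix.cons_val_one, Matrix.cons_val_two,
        Matrix.head_cons, Matrix.tail_cons] at l0 l1 l2
      refine ⟨lam, l0, l1, l2, ?_⟩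
      rw [key t lam l0 l1 l2, hsum, mul_zero, add_zero]
      intro h
      apply hcz (f 0)
      have h02 : f 2 = f 0 := by linear_combination -h
      have h1 : f 1 = -2 * f 0 := by linear_combination hsum - h02
      rw [← hf, h02, h1]
      ext i
      simp only [Pi.sub_apply, Pi.smul_apply, Pi.add_apply, smul_eq_mul]
      ring
    · refine ⟨-(f 0 - f 2) / (f 0 + f 1 + f 2), fun t ht => ?_⟩
      obtain ⟨lam, hl⟩ := exists_dual _ hz ![1 + t, t, t - 1]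
      have l0 := hl 0
      have l1 := hl 1
      have l2 := hl 2
      simp only [Matrix.cons_val_zero, Matrix.cons_val_one, Matrix.cons_val_two,
        Matrix.head_cons, Matrix.tail_cons] at l0 l1 l2
      refine ⟨lam, l0, l1, l2, ?_⟩
      rw [key t lam l0 l1 l2]
      intro h
      apply ht
      rw [eq_div_iff hsum]
      linear_combination h
  · have hb : LinearIndependent K
        (Fin.cons c ![z, g *ᵥ z, g *ᵥ (g *ᵥ z)] : Fin 4 → ι → K) :=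
      linearIndependent_finCons.mpr ⟨hz, hcT⟩
    refine ⟨0, fun t _ => ?_⟩
    obtain ⟨lam, hl⟩ := exists_dual _ hb ![1, 1 + t, t, t - 1]
    have l0 := hl 0
    have l1 := hl 1
    have l2 := hl 2
    have l3 := hl 3
    refine ⟨lam, ?_, ?_, ?_, ?_⟩
    · exact l1
    · exact l2
    · exact l3
    · have : lam ⬝ᵥ c = 1 := l0
      rw [this]
      exact one_ne_zero

/-- PIECE CH1B. -/
theorem choice1 (hK : 4 ≤ Cardinal.mk K) {ι : Type} [Fintype ι] [DecidableEq ι]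
    (h3 : 3 ≤ Fintype.card ι) (g : Matrix ι ι K) (hdet : g.det = 1) (hinv : IsUnit (g - 1))
    (z₀ : ι → K) (hz₀ : LinearIndependent K ![z₀, g *ᵥ z₀, g *ᵥ (g *ᵥ z₀)])
    (c r : ι → K) (hc : c ≠ 0) (hr : r ≠ 0) : Child g c r := by
  classical
  have hK4 : ((4 : ℕ) : Cardinal) ≤ Cardinal.mk K := by exact_mod_cast hK
  have hgu : IsUnit g := (Matrix.isUnit_iff_isUnit_det g).mpr (by rw [hdet]; exact isUnit_one)
  obtain ⟨N, hN1, hN2⟩ : ∃ N : Matrix ι ι K, N * (1 - g) = 1 ∧ (1 - g) * N = 1 := by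
    have h1 : IsUnit (1 - g) := by
      have := hinv.neg
      rwa [neg_sub] at this
    obtain ⟨u, hu⟩ := h1
    exact ⟨↑u⁻¹, by rw [← hu]; exact u.inv_mul, by rw [← hu]; exact u.mul_inv⟩
  have hρ : r ᵥ* (1 - g) ≠ 0 := by
    intro h
    apply hr
    have := congrArg (fun y => y ᵥ* N) h
    simpa [Matrix.vecMul_vecMul, hN2] using this
  obtain ⟨z, hz, hρz, hzd⟩ := good_z hK h3 g hgu z₀ hz₀ (r ᵥ* (1 - g)) (N *ᵥ (N *ᵥ c)) hρ
  have hrz : r ⬝ᵥ (z - g *ᵥ z) ≠ 0 := by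
    have : z - g *ᵥ z = (1 - g) *ᵥ z := by rw [Matrix.sub_mulVec, Matrix.one_mulVec]
    rw [this, Matrix.dotProduct_mulVec]
    exact hρz
  have hcz : ∀ a : K, c ≠ a • (z - (2 : K) • g *ᵥ z + g *ᵥ (g *ᵥ z)) := by
    intro a hca
    have e : z - (2 : K) • g *ᵥ z + g *ᵥ (g *ᵥ z) = (1 - g) *ᵥ ((1 - g) *ᵥ z) := by
      simp only [Matrix.sub_mulVec, Matrix.one_mulVec, Matrix.mulVec_sub]
      ext i
      simp only [Pi.sub_apply, Pi.smul_apply, Pi.add_apply, smul_eq_mul]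
      ring
    have ha : a ≠ 0 := by
      rintro rfl
      exact hc (by rw [hca, zero_smul])
    have k1 : ∀ w : ι → K, N *ᵥ ((1 - g) *ᵥ w) = w := fun w => by
      rw [Matrix.mulVec_mulVec, hN1, Matrix.one_mulVec]
    apply hzd a⁻¹
    rw [hca, e, Matrix.mulVec_smul, Matrix.mulVec_smul, k1, k1, smul_smul,
      inv_mul_cancel₀ ha, one_smul]
  obtain ⟨tc, htc⟩ := helper51_ch1_lam g z c hz hcz
  obtain ⟨t₁, ht₁⟩ := exists_notMem_of_card ({0, tc} : Finset K)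
    ((Nat.cast_le.mpr (by have := Finset.card_le_two (a := (0 : K)) (b := tc); omega)).trans hK4)
  have ht₁0 : t₁ ≠ 0 := fun h => ht₁ (by rw [h]; simp)
  have ht₁c : t₁ ≠ tc := fun h => ht₁ (by rw [h]; simp)
  obtain ⟨lam₁, a0, a1, a2, ac⟩ := htc t₁ ht₁c
  by_cases hcard : Fintype.card ι = 3
  · exact helper51_ch1_core g hdet hinv z hz c r hrz t₁ ht₁0 lam₁ a0 a1 a2 ac (Or.inl hcard)
  · obtain ⟨t₂, ht₂⟩ := exists_notMem_of_card ({0, tc, t₁} : Finset K)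
      ((Nat.cast_le.mpr (by
        have := Finset.card_le_three (a := (0 : K)) (b := tc) (c := t₁); omega)).trans hK4)
    have ht₂0 : t₂ ≠ 0 := fun h => ht₂ (by rw [h]; simp)
    have ht₂c : t₂ ≠ tc := fun h => ht₂ (by rw [h]; simp)
    have ht₂1 : t₂ ≠ t₁ := fun h => ht₂ (by rw [h]; simp)
    obtain ⟨lam₂, b0, b1, b2, bc⟩ := htc t₂ ht₂c
    by_cases hq₁ : ∀ s : K, ∃ h, lam₁ ⬝ᵥ h = 0 ∧
        Dt g (z - g *ᵥ z) lam₁ (Dt g (z - g *ᵥ z) lam₁ h) ≠ s • Dt g (z - g *ᵥ z) lam₁ h - h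
    · exact helper51_ch1_core g hdet hinv z hz c r hrz t₁ ht₁0 lam₁ a0 a1 a2 ac (Or.inr hq₁)
    · by_cases hq₂ : ∀ s : K, ∃ h, lam₂ ⬝ᵥ h = 0 ∧
          Dt g (z - g *ᵥ z) lam₂ (Dt g (z - g *ᵥ z) lam₂ h) ≠ s • Dt g (z - g *ᵥ z) lam₂ h - h
      · exact helper51_ch1_core g hdet hinv z hz c r hrz t₂ ht₂0 lam₂ b0 b1 b2 bc (Or.inr hq₂)
      · push Not at hq₁ hq₂
        obtain ⟨s₁, hs₁⟩ := hq₁
        obtain ⟨s₂, hs₂⟩ := hq₂
        exact (ch1_h3 (by omega) g hdet hinv z hz t₁ t₂ ht₁0 ht₂0 (Ne.symm ht₂1) lam₁ lam₂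
          a0 a1 a2 b0 b1 b2 s₁ s₂ hs₁ hs₂).elim

end Cfsg.Agent.Lib.helper51.Lev
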