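/-
S2522: assembly of the split project (every non-scalar matrix of determinant one over a field
with at least four elements is a product of two regular unipotent matrices).
-/
import Mathlib
import Cfsg.Agent.Lib.helper51.LevDefs
import Cfsg.Agent.Lib.helper46.LevCONJ
import Cfsg.Agent.Lib.helper77.LevJORD
import Cfsg.Agent.Lib.helper77.LevGLUEB
import Cfsg.Agent.Lib.helper77.LevBORD
import Cfsg.Agent.Lib.helper51.LevBASE2
import Cfsg.Agent.Lib.helper39.LevR1B
import Cfsg.Agent.Lib.helper6.LevBTRI
import Cfsg.Agent.Lib.helper63.LevGOODZ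
import Cfsg.Agent.Lib.helper63.LevCHILD
import Cfsg.Agent.Lib.helper51.LevCH1B
import Cfsg.Agent.Lib.helper61.LevCH2B
import Cfsg.Agent.Lib.helper46.LevLG
import Cfsg.Agent.Lib.helper39.LevQ1
import Cfsg.Agent.Lib.helper80.LevUTIL
import Cfsg.Agent.Lib.helper6.LevCOMPL
import Cfsg.Agent.Lib.helper77.LevGLUEA
import Cfsg.Agent.Lib.helper39.LevR1A
import Cfsg.Agent.Lib.helper46.LevNONEV
import Cfsg.Agent.Lib.helper51.LevCH1A
import Cfsg.Agent.Lib.helper82.LevCH2A

set_option autoImplicit false

namespace Cfsg.Agent.Lib.helper51.Lev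

open Matrix

variable {K : Type*} [Field K]

theorem ps_pp {ι : Type} [Fintype ι] [DecidableEq ι] {g : Matrix ι ι K} {c r : ι → K}
    (h : PS g c r) : PP g := by
  obtain ⟨A, B, hA, hB, hg, -, -⟩ := h
  exact ⟨A, B, hA, hB, hg⟩

theorem exists_ne_zero_vec {ι : Type} [Fintype ι] [DecidableEq ι] (h : 1 ≤ Fintype.card ι) :
    ∃ c : ι → K, c ≠ 0 := by
  have : Nonempty ι := Fintype.card_pos_iff.mp h
  obtain ⟨i⟩ := this
  refine ⟨Pi.single i 1, ?_⟩
  intro h0
  have := congrFun h0 i
  simp at this

theorem pp_of_card_one {ι : Type} [Fintype ι] [DecidableEq ι] (h : Fintype.card ι = 1)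
    (g : Matrix ι ι K) (hdet : g.det = 1) : PP g := by
  obtain ⟨i, hi⟩ := Fintype.card_eq_one_iff.mp h
  have hu : Unique ι := ⟨⟨i⟩, hi⟩
  have hg : g = 1 := by
    ext a b
    rw [Matrix.det_unique] at hdet
    rw [Subsingleton.elim a default, Subsingleton.elim b default, hdet]
    simp
  have hRU : RU (1 : Matrix ι ι K) := by
    refine ⟨?_, ?_⟩
    · rw [sub_self]; exact IsNilpotent.zero
    · rw [sub_self, Matrix.rank_zero, h]
  exact ⟨1, 1, hRU, hRU, by rw [hg, mul_one]⟩

theorem scalar_of_card_one {ι : Type} [Fintype ι] [DecidableEq ι] (h : Fintype.card ι = 1)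
    (g : Matrix ι ι K) : ¬ NonScalar g := by
  obtain ⟨i, hi⟩ := Fintype.card_eq_one_iff.mp h
  intro hns
  apply hns
  refine ⟨g i i, ?_⟩
  ext a b
  rw [hi a, hi b]
  simp

theorem r1_zeta_ne_one {ι : Type} [Fintype ι] [DecidableEq ι] (h2 : 2 ≤ Fintype.card ι)
    (g : Matrix ι ι K) (ζ : K) (v φ : ι → K)
    (hg : g = ζ • (1 : Matrix ι ι K) + vecMulVec v φ) (hinv : IsUnit (g - 1)) : ζ ≠ 1 := by
  rintro rfl
  rw [hg, one_smul, add_sub_cancel_left] at hinv
  have h1 := Matrix.rank_of_isUnit _ hinv
  have h2' := Matrix.rank_vecMulVec_le v φ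
  omega

theorem det_block_conj {ι κ : Type} [Fintype ι] [DecidableEq ι] [Fintype κ] [DecidableEq κ]
    (P : Matrix ι κ K) (P' : Matrix κ ι K) (h1 : P * P' = 1) (h2 : P' * P = 1)
    (g : Matrix ι ι K) : (P' * g * P).det = g.det :=
  Matrix.det_conj_of_mul_eq_one h2 h1

/-- the inductive statement with side conditions -/
theorem psB (hK : 4 ≤ Cardinal.mk K) : ∀ (n : ℕ) (ι : Type) [Fintype ι] [DecidableEq ι],
    Fintype.card ι = n → 2 ≤ n → ∀ g : Matrix ι ι K, g.det = 1 → NonScalar g → IsUnit (g - 1) →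
    (n = 2 ∨ IsR1 g ∨ ¬ IsQ1 g) → ∀ c r : ι → K, c ≠ 0 → r ≠ 0 → PS g c r := by
  have hK3 : 3 ≤ Cardinal.mk K := le_trans (by norm_num) hK
  intro n
  induction n with
  | zero => intro ι _ _ _ h2; omega
  | succ k ih =>
    intro ι _ _ hcard h2 g hdet hns hinv hcase c r hc hr
    by_cases hk : k + 1 = 2
    · exact base2 hK (hcard.trans hk) g hdet hns hinv c r hc hr
    · have h3 : 3 ≤ Fintype.card ι := by omega
      by_cases hR : IsR1 g
      · obtain ⟨ζ, v, φ, hg⟩ := hR
        have hζ : ζ ≠ 1 := r1_zeta_ne_one (by omega) g ζ v φ hg hinv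
        exact rankone hK h3 g hdet hns ζ v φ hg hζ c r hc hr
      · have hQ : ¬ IsQ1 g := by
          rcases hcase with h | h | h
          · omega
          · exact absurd h hR
          · exact h
        have hch : Child g c r := by
          by_cases hz : ∃ z : ι → K, LinearIndependent K ![z, g *ᵥ z, g *ᵥ (g *ᵥ z)]
          · obtain ⟨z, hz⟩ := hz
            exact choice1 hK h3 g hdet hinv z hz c r hc hr
          · push Not at hz
            obtain ⟨s, p, hq⟩ := quad_of_dep hK3 g hz
            have hp : p ≠ 1 := by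
              rintro rfl
              exact hQ ⟨s, by rw [hq, one_smul]⟩
            exact choice2 hK h3 g hdet hinv hns s p hq hp hR c r hc hr
        obtain ⟨m, P, P', D, c₁, r₁, h1, h2', hm, hform, hDdet, hDns, hDinv, hDcase, hc₁, hr₁,
          hsc, hsr⟩ := hch
        have hmk : m = k := by omega
        have hPS : PS D c₁ r₁ := by
          refine ih (Fin m) (by rw [Fintype.card_fin, hmk]) (by omega) D hDdet hDns hDinv ?_
            c₁ r₁ hc₁ hr₁
          rcases hDcase with h | h
          · left; omega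
          · right; right; exact h
        have hb := border D c₁ r₁ hPS (P' *ᵥ c) (r ᵥ* P) hsc hsr
        rw [← hform] at hb
        exact ps_conj P P' h1 h2' g c r hb

/-- every non-scalar matrix of determinant one (and the identity) is a product of two regular
unipotents -/
theorem ppMain (hK : 4 ≤ Cardinal.mk K) : ∀ (n : ℕ) (ι : Type) [Fintype ι] [DecidableEq ι],
    Fintype.card ι = n → 1 ≤ n → ∀ g : Matrix ι ι K, g.det = 1 → (NonScalar g ∨ g = 1) →
    PP g := by
  have hK3 : 3 ≤ Cardinal.mk K := le_trans (by norm_num) hK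
  intro n
  induction n using Nat.strong_induction_on with
  | _ n ih =>
    intro ι _ _ hcard hn1 g hdet hg
    by_cases hn : n = 1
    · exact pp_of_card_one (hcard.trans hn) g hdet
    have hn2 : 2 ≤ n := by omega
    have hne : Nonempty ι := Fintype.card_pos_iff.mp (by omega)
    obtain ⟨c₀, hc₀⟩ := exists_ne_zero_vec (K := K) (ι := ι) (by omega)
    by_cases hinv : IsUnit (g - 1)
    · have hns : NonScalar g := by
        rcases hg with h | h
        · exact h
        · exfalso
          rw [h, sub_self] at hinv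
          exact not_isUnit_zero hinv
      by_cases h2 : n = 2
      · exact ps_pp (base2 hK (hcard.trans h2) g hdet hns hinv c₀ c₀ hc₀ hc₀)
      have h3 : 3 ≤ Fintype.card ι := by omega
      by_cases hR : IsR1 g
      · obtain ⟨ζ, v, φ, hgR⟩ := hR
        have hζ : ζ ≠ 1 := r1_zeta_ne_one (by omega) g ζ v φ hgR hinv
        exact ps_pp (rankone hK h3 g hdet hns ζ v φ hgR hζ c₀ c₀ hc₀ hc₀)
      by_cases hQ : IsQ1 g
      · obtain ⟨s, hq⟩ := hQ
        obtain ⟨m, P, P', g₁, Z, g₂, h1, h2', hm, hform, hd1, hns1, hinv1, hd2, hns2, hinv2⟩ :=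
          q1_block h3 g hdet hinv hns s hq hR
        obtain ⟨c₁, hc₁⟩ := exists_ne_zero_vec (K := K) (ι := Fin 2) (by simp)
        have hP1 : PP g₁ := ps_pp (base2 hK (by simp) g₁ hd1 hns1 hinv1 c₁ c₁ hc₁ hc₁)
        have hm1 : 1 ≤ m := by
          by_contra hm0
          have hm0' : m = 0 := by omega
          subst hm0'
          exact hns2 ⟨1, Subsingleton.elim _ _⟩
        have hP2 : PP g₂ := ih m (by omega) (Fin m) (by simp) hm1 g₂ hd2 (Or.inl hns2)
        have hgl := glue hK3 g₁ g₂ Z hP1 hP2
        rw [← hform] at hgl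
        exact pp_conj P P' h1 h2' g hgl
      · exact ps_pp (psB hK n ι hcard hn2 g hdet hns hinv (Or.inr (Or.inr hQ)) c₀ c₀ hc₀ hc₀)
    · -- `g` has a fixed vector
      have hdet0 : (g - 1).det = 0 := by
        by_contra h
        exact hinv ((Matrix.isUnit_iff_isUnit_det _).mpr (isUnit_iff_ne_zero.mpr h))
      obtain ⟨v, hv0, hv⟩ := Matrix.exists_mulVec_eq_zero_iff.mpr hdet0
      have hgv : g *ᵥ v = v := by
        rw [Matrix.sub_mulVec, Matrix.one_mulVec, sub_eq_zero] at hv
        exact hv
      have hb : LinearIndependent K (fun _ : Fin 1 => v) :=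
        LinearIndependent.of_subsingleton (0 : Fin 1) hv0
      obtain ⟨m, P, P', g₁, Z, g₂, h1, h2', hm, hform, hcol, hsc⟩ :=
        block_tri g 1 (fun _ : Fin 1 => v) hb (by
          intro j
          rw [hgv]
          exact Submodule.subset_span ⟨0, rfl⟩)
      have hg₁ : g₁ = 1 := by
        have h00 := hcol 0
        rw [hgv, Fin.sum_univ_one] at h00
        have h01 : g₁ 0 0 = 1 := by
          by_contra hne1
          have : (1 - g₁ 0 0) • v = 0 := by rw [sub_smul, one_smul, ← h00, sub_self]
          rcases smul_eq_zero.mp this with h | h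
          · exact hne1 (sub_eq_zero.mp h).symm
          · exact hv0 h
        ext a b
        rw [Subsingleton.elim a 0, Subsingleton.elim b 0, h01]
        simp
      have hdetblock : (fromBlocks g₁ Z 0 g₂).det = 1 := by
        rw [← hform, det_block_conj P P' h1 h2', hdet]
      have hd2 : g₂.det = 1 := by
        rw [Matrix.det_fromBlocks_zero₂₁, hg₁, Matrix.det_one, one_mul] at hdetblock
        exact hdetblock
      have hm1 : 1 ≤ m := by omega
      have hP1 : PP g₁ := pp_of_card_one (by simp) g₁ (by rw [hg₁, Matrix.det_one])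
      by_cases hg₂ : NonScalar g₂ ∨ g₂ = 1
      · have hP2 : PP g₂ := ih m (by omega) (Fin m) (by simp) hm1 g₂ hd2 hg₂
        have hgl := glue hK3 g₁ g₂ Z hP1 hP2
        rw [← hform] at hgl
        exact pp_conj P P' h1 h2' g hgl
      · push Not at hg₂
        obtain ⟨hsc2, hne2⟩ := hg₂
        have hsc2' : ∃ a : K, g₂ = a • (1 : Matrix (Fin m) (Fin m) K) := by
          by_contra h
          exact hsc2 h
        obtain ⟨a, ha⟩ := hsc2'
        have ha1 : a ≠ 1 := by
          rintro rfl
          exact hne2 (by rw [ha, one_smul])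
        have hm2 : 2 ≤ m := by
          by_contra hlt
          have hm' : m = 1 := by omega
          subst hm'
          apply ha1
          rw [ha, Matrix.det_smul, Matrix.det_one, mul_one, Fintype.card_fin, pow_one] at hd2
          exact hd2
        have hform' : fromBlocks g₁ Z 0 g₂ = a • (1 : Matrix (Fin 1 ⊕ Fin m) (Fin 1 ⊕ Fin m) K) +
            vecMulVec (Sum.elim (fun _ => 1) (fun _ => 0))
              (Sum.elim (fun _ => 1 - a) (fun j => Z 0 j)) := by
          rw [hg₁, ha]
          ext i j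
          rcases i with i | i <;> rcases j with j | j
          · rw [Subsingleton.elim i 0, Subsingleton.elim j 0]
            simp [vecMulVec_apply]
          · rw [Subsingleton.elim i 0]
            simp [vecMulVec_apply]
          · simp [vecMulVec_apply]
          · simp [vecMulVec_apply, Matrix.one_apply]
        have hnsb : NonScalar (fromBlocks g₁ Z 0 g₂) := by
          rintro ⟨b, hb'⟩
          have e1 := congrFun (congrFun hb' (Sum.inl 0)) (Sum.inl 0)
          have e2 : g₂ = b • (1 : Matrix (Fin m) (Fin m) K) := by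
            ext i j
            have := congrFun (congrFun hb' (Sum.inr i)) (Sum.inr j)
            simpa [Matrix.one_apply] using this
          rw [hg₁] at e1
          simp at e1
          apply hne2
          rw [e2, ← e1, one_smul]
        obtain ⟨c₂, hc₂⟩ := exists_ne_zero_vec (K := K) (ι := Fin 1 ⊕ Fin m) (by simp)
        have hps := rankone hK (by simp; omega) (fromBlocks g₁ Z 0 g₂) hdetblock hnsb a _ _ hform'
          ha1 c₂ c₂ hc₂ hc₂
        have hpp := ps_pp hps
        rw [← hform] at hpp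
        exact pp_conj P P' h1 h2' g hpp

/-- the final statement in matrix form -/
theorem lev_main (hK : 4 ≤ Cardinal.mk K) (n : ℕ) (hn : 3 ≤ n) (J g : GL (Fin n) K)
    (hJ : ∀ i j : Fin n, (J : Matrix (Fin n) (Fin n) K) i j =
      if i = j then 1 else if j.val = i.val + 1 then 1 else 0)
    (hg : ¬ ∃ c : K, (g : Matrix (Fin n) (Fin n) K) = c • (1 : Matrix (Fin n) (Fin n) K))
    (hdet : (g : Matrix (Fin n) (Fin n) K).det = 1) :
    ∃ x y : GL (Fin n) K, g = (x * J * x⁻¹) * (y * J * y⁻¹) := by
  obtain ⟨A, B, hA, hB, hAB⟩ := ppMain hK n (Fin n) (by simp) (by omega)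
    (g : Matrix (Fin n) (Fin n) K) hdet (Or.inl hg)
  obtain ⟨x, hx⟩ := ru_to_J n J hJ A hA
  obtain ⟨y, hy⟩ := ru_to_J n J hJ B hB
  refine ⟨x, y, ?_⟩
  apply Units.ext
  rw [hAB, hx, hy]
  rfl

end Cfsg.Agent.Lib.helper51.Lev
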