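/-
The case of an involutory isometry (up to a scalar): the space is the orthogonal sum of the two
eigenspaces, an odd-order group of isometries normalised by the products of two reflections in
eigenvectors is trivial, and a semilinear map commuting with these products is a scalar on each
eigenspace.
-/
import Mathlib
import Cfsg.Agent.Lib.helper51.OBalD

set_option autoImplicit false
set_option linter.unusedSectionVars false
set_option linter.unusedVariables false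
set_option linter.unusedSimpArgs false

namespace Cfsg.Agent.Lib.helper51

open QuadraticMap

section OBalE

variable {E : Type*} [Field E] {V : Type*} [AddCommGroup V] [Module E V]

/-- a non-degenerate line -/
def ObalT1 (Q : QuadraticForm E V) (W : Submodule E V) : Prop :=
  ∃ a ∈ W, Q a ≠ 0 ∧ ∀ x ∈ W, polar Q x a = 0 → x = 0

/-- a non-degenerate plane -/
def ObalT2 (Q : QuadraticForm E V) (W : Submodule E V) : Prop :=
  ∃ a ∈ W, ∃ b ∈ W, Q a ≠ 0 ∧ Q b ≠ 0 ∧ polar Q a b = 0 ∧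
    ∀ x ∈ W, polar Q x a = 0 → polar Q x b = 0 → x = 0

/-- a subspace containing three mutually orthogonal non-singular vectors -/
def ObalT3 (Q : QuadraticForm E V) (W : Submodule E V) : Prop :=
  ∃ a ∈ W, ∃ b ∈ W, ∃ z ∈ W, Q a ≠ 0 ∧ Q b ≠ 0 ∧ Q z ≠ 0 ∧ polar Q a b = 0 ∧ polar Q a z = 0 ∧
    polar Q b z = 0

theorem obal_types (h2 : (2 : E) ≠ 0) (Q : QuadraticForm E V) (W : Submodule E V)
    (hnd : ∀ x ∈ W, x ≠ 0 → ∃ y ∈ W, polar Q x y ≠ 0) :
    (∀ x ∈ W, x = 0) ∨ ObalT1 Q W ∨ ObalT2 Q W ∨ ObalT3 Q W := by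
  by_cases h0 : ∀ x ∈ W, x = 0
  · exact Or.inl h0
  right
  push Not at h0
  obtain ⟨z₀, hz₀, hz₀0⟩ := h0
  obtain ⟨y, hy, hy0⟩ := hnd z₀ hz₀ hz₀0
  obtain ⟨a, ha, hQa⟩ : ∃ u ∈ W, Q u ≠ 0 := by
    by_cases hq1 : Q z₀ = 0
    · by_cases hq2 : Q y = 0
      · refine ⟨z₀ + y, W.add_mem hz₀ hy, ?_⟩
        rw [QuadraticMap.map_add (⇑Q) z₀, hq1, hq2, zero_add, zero_add]
        exact hy0
      · exact ⟨y, hy, hq2⟩
    · exact ⟨z₀, hz₀, hq1⟩
  by_cases h1 : ∀ x ∈ W, polar Q x a = 0 → x = 0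
  · exact Or.inl ⟨a, ha, hQa, h1⟩
  right
  push Not at h1
  obtain ⟨z₁, hz₁, hz₁a, hz₁0⟩ := h1
  obtain ⟨b, hb, hQb, hba⟩ := obal_orth_one h2 Q W hnd a ha hQa z₁ hz₁ hz₁0 hz₁a
  have hab : polar Q a b = 0 := by rw [polar_comm]; exact hba
  by_cases h2' : ∀ x ∈ W, polar Q x a = 0 → polar Q x b = 0 → x = 0
  · exact Or.inl ⟨a, ha, b, hb, hQa, hQb, hab, h2'⟩
  right
  push Not at h2'
  obtain ⟨z₂, hz₂, hz₂a, hz₂b, hz₂0⟩ := h2'
  obtain ⟨z, hz, hQz, hza, hzb⟩ :=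
    obal_orth_gen h2 Q W hnd a b ha hb hQa hQb hab z₂ hz₂ hz₂0 hz₂a hz₂b
  exact ⟨a, ha, b, hb, z, hz, hQa, hQb, hQz, hab, by rw [polar_comm]; exact hza,
    by rw [polar_comm]; exact hzb⟩

theorem obal_h3_of_T3 (h2 : (2 : E) ≠ 0) (Q : QuadraticForm E V) (W : Submodule E V)
    (h : ObalT3 Q W) (u u' : V) :
    ∃ y ∈ W, y ≠ 0 ∧ polar Q y u = 0 ∧ polar Q y u' = 0 := by
  classical
  obtain ⟨a, ha, b, hb, z, hz, hQa, hQb, hQz, hab, haz, hbz⟩ := h
  have hba : polar Q b a = 0 := by rw [polar_comm]; exact hab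
  have hza : polar Q z a = 0 := by rw [polar_comm]; exact haz
  have hzb : polar Q z b = 0 := by rw [polar_comm]; exact hbz
  have hdet : (!![polar Q a u, polar Q b u, polar Q z u; polar Q a u', polar Q b u', polar Q z u';
      0, 0, 0] : Matrix (Fin 3) (Fin 3) E).det = 0 := by
    rw [Matrix.det_fin_three]
    simp
  obtain ⟨v, hv, hMv⟩ := Matrix.exists_mulVec_eq_zero_iff.mpr hdet
  have e0 := congrFun hMv 0
  have e1 := congrFun hMv 1
  simp [Matrix.mulVec, dotProduct, Fin.sum_univ_three] at e0 e1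
  refine ⟨v 0 • a + v 1 • b + v 2 • z,
    W.add_mem (W.add_mem (W.smul_mem _ ha) (W.smul_mem _ hb)) (W.smul_mem _ hz), ?_, ?_, ?_⟩
  · intro h0
    apply hv
    have ka := congrArg (fun y => polar Q y a) h0
    have kb := congrArg (fun y => polar Q y b) h0
    have kz := congrArg (fun y => polar Q y z) h0
    simp only [polar_add_left, polar_smul_left, polar_zero_left, hba, hza, hab, hzb, haz, hbz,
      polar_self, smul_eq_mul, mul_zero, add_zero, zero_add, nsmul_eq_mul, Nat.cast_ofNat] at ka kb kz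
    have k0 : v 0 = 0 := by
      rcases mul_eq_zero.mp ka with h | h
      · exact h
      · exact absurd h (mul_ne_zero h2 hQa)
    have k1 : v 1 = 0 := by
      rcases mul_eq_zero.mp kb with h | h
      · exact h
      · exact absurd h (mul_ne_zero h2 hQb)
    have k2 : v 2 = 0 := by
      rcases mul_eq_zero.mp kz with h | h
      · exact h
      · exact absurd h (mul_ne_zero h2 hQz)
    funext i
    fin_cases i
    · exact k0
    · exact k1
    · exact k2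
  · rw [polar_add_left, polar_add_left, polar_smul_left, polar_smul_left, polar_smul_left]
    simp only [smul_eq_mul]
    linear_combination e0
  · rw [polar_add_left, polar_add_left, polar_smul_left, polar_smul_left, polar_smul_left]
    simp only [smul_eq_mul]
    linear_combination e1

/-- an orthogonal decomposition of a non-degenerate space -/
structure ObalDec (Q : QuadraticForm E V) (W W' : Submodule E V) : Prop where
  hsum : ∀ v : V, ∃ a ∈ W, ∃ b ∈ W', v = a + b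
  horth : ∀ a ∈ W, ∀ b ∈ W', polar Q a b = 0
  hnd : ∀ x : V, x ≠ 0 → ∃ y, polar Q x y ≠ 0

theorem ObalDec.symm {Q : QuadraticForm E V} {W W' : Submodule E V} (h : ObalDec Q W W') :
    ObalDec Q W' W :=
  ⟨fun v => by
      obtain ⟨a, ha, b, hb, rfl⟩ := h.hsum v
      exact ⟨b, hb, a, ha, add_comm a b⟩,
    fun a ha b hb => by rw [polar_comm]; exact h.horth b hb a ha, h.hnd⟩

theorem ObalDec.nd {Q : QuadraticForm E V} {W W' : Submodule E V} (h : ObalDec Q W W') :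
    ∀ x ∈ W, x ≠ 0 → ∃ y ∈ W, polar Q x y ≠ 0 := by
  intro x hx hx0
  obtain ⟨y, hy⟩ := h.hnd x hx0
  obtain ⟨a, ha, b, hb, rfl⟩ := h.hsum y
  refine ⟨a, ha, ?_⟩
  rwa [polar_add_right, h.horth x hx b hb, add_zero] at hy

theorem ObalDec.perp {Q : QuadraticForm E V} {W W' : Submodule E V} (h : ObalDec Q W W') (z : V)
    (hz : ∀ a ∈ W, polar Q z a = 0) : z ∈ W' := by
  obtain ⟨a, ha, b, hb, rfl⟩ := h.hsum z
  have ha0 : a = 0 := by
    by_contra ha0
    obtain ⟨y, hy, hy0⟩ := h.nd a ha ha0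
    have h1 := hz y hy
    have h2 : polar Q b y = 0 := by rw [polar_comm]; exact h.horth y hy b hb
    rw [polar_add_left, h2, add_zero] at h1
    exact hy0 h1
  rw [ha0, zero_add]
  exact hb

/-- the pointwise stabiliser of a subspace -/
def obalFix (T : Submodule E V) : Subgroup (V ≃ₗ[E] V) where
  carrier := {g | ∀ y ∈ T, g y = y}
  mul_mem' := by
    intro a b ha hb y hy
    rw [LinearEquiv.mul_apply, hb y hy, ha y hy]
  one_mem' := fun y _ => rfl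
  inv_mem' := by
    intro a ha y hy
    have h := ha y hy
    calc a⁻¹ y = a⁻¹ (a y) := by rw [h]
      _ = y := obal_inv_apply a y

theorem mem_obalFix (T : Submodule E V) (g : V ≃ₗ[E] V) : g ∈ obalFix T ↔ ∀ y ∈ T, g y = y :=
  Iff.rfl

theorem orfE_mem_obalFix (Q : QuadraticForm E V) (T : Submodule E V) (u : V)
    (hu : ∀ y ∈ T, polar Q u y = 0) : orfE Q u ∈ obalFix T := by
  intro y hy
  rw [orfE_apply]
  exact orf_of_orth Q u y (hu y hy)

theorem obal_sq_eq_one_of_iso (Q : QuadraticForm E V) (a : V) (hQa : Q a ≠ 0) (α : E)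
    (h : Q (α • a) = Q a) : α * α = 1 := by
  rw [QuadraticMap.map_smul, smul_eq_mul] at h
  have h' : (α * α - 1) * Q a = 0 := by linear_combination h
  rcases mul_eq_zero.mp h' with h1 | h1
  · exact sub_eq_zero.mp h1
  · exact absurd h1 hQa

theorem obal_ne_zero_of_Q (Q : QuadraticForm E V) (a : V) (hQa : Q a ≠ 0) : a ≠ 0 := by
  rintro rfl
  exact hQa (QuadraticMap.map_zero _)

/-- the side of a three-dimensional summand -/
theorem obal_A_fix3 [Finite E] (h2 : (2 : E) ≠ 0) (Q : QuadraticForm E V) (W W' : Submodule E V)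
    (hdec : ObalDec Q W W') (hT3 : ObalT3 Q W) (a' : V) (ha' : a' ∈ W') (hQa' : Q a' ≠ 0)
    (M : Subgroup (V ≃ₗ[E] V)) [Finite M] (hodd : Odd (Nat.card M))
    (hiso : ∀ m ∈ M, ∀ v, Q (m v) = Q v) (hW : ∀ m ∈ M, ∀ x ∈ W, m x ∈ W)
    (hW' : ∀ m ∈ M, ∀ x ∈ W', m x ∈ W')
    (hN : ∀ u b : V, (u ∈ W ∨ u ∈ W') → (b ∈ W ∨ b ∈ W') → IsSquare (Q u * Q b) → Q u * Q b ≠ 0 →
      ∀ m ∈ M, orfE Q u * orfE Q b * m * (orfE Q u * orfE Q b)⁻¹ ∈ M) :
    ∀ m ∈ M, ∀ x ∈ W, m x = x := by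
  classical
  have hndW := hdec.nd
  have h3 : ∀ u ∈ W, ∀ u' ∈ W, ∃ z ∈ W, z ≠ 0 ∧ polar Q z u = 0 ∧ polar Q z u' = 0 :=
    fun u _ u' _ => obal_h3_of_T3 h2 Q W hT3 u u'
  have hrW : ∀ u ∈ W, orfE Q u ∈ obalFix W' :=
    fun u hu => orfE_mem_obalFix Q W' u (fun y hy => hdec.horth u hu y hy)
  haveI hM₀fin : Finite ↥(M ⊓ obalFix W') :=
    Finite.of_injective _ (Subgroup.inclusion_injective (inf_le_left : M ⊓ obalFix W' ≤ M))
  have hM₀odd : Odd (Nat.card ↥(M ⊓ obalFix W')) :=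
    Odd.of_dvd_nat hodd (Subgroup.card_dvd_of_le inf_le_left)
  have hsq : ∀ u u' : V, Q u = Q u' → IsSquare (Q u * Q u') := fun u u' h => ⟨Q u, by rw [h]⟩
  have hcore := obal_core h2 Q W hndW h3 (M ⊓ obalFix W') hM₀odd (fun m hm => hiso m hm.1)
    (fun m hm => hW m hm.1)
    (by
      intro u hu u' hu' hQ hQ0 m hm
      refine ⟨hN u u' (Or.inl hu) (Or.inl hu') (hsq u u' hQ)
        (by rw [← hQ]; exact mul_ne_zero hQ0 hQ0) m hm.1, ?_⟩
      exact (obalFix W').mul_mem ((obalFix W').mul_mem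
        ((obalFix W').mul_mem (hrW u hu) (hrW u' hu')) hm.2)
        ((obalFix W').inv_mem ((obalFix W').mul_mem (hrW u hu) (hrW u' hu'))))
    (Q a') hQa'
    (by
      intro u hu hQu m hm
      refine ⟨?_, (obalFix W').mul_mem ((obalFix W').mul_mem (hrW u hu) hm.2)
        ((obalFix W').inv_mem (hrW u hu))⟩
      have h1 := hN u a' (Or.inl hu) (Or.inr ha') ⟨Q a', by rw [hQu]⟩
        (by rw [hQu]; exact mul_ne_zero hQa' hQa') m hm.1
      have h3' := orfE_conj Q m (hiso m hm.1) a'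
      rw [hm.2 a' ha'] at h3'
      have h4 : m * orfE Q a' = orfE Q a' * m := by
        calc m * orfE Q a' = (m * orfE Q a' * m⁻¹) * m := by group
          _ = orfE Q a' * m := by rw [h3']
      have h2' : orfE Q a' * m * (orfE Q a')⁻¹ = m := by
        calc orfE Q a' * m * (orfE Q a')⁻¹ = (m * orfE Q a') * (orfE Q a')⁻¹ := by rw [h4]
          _ = m := by group
      have h5 : orfE Q u * orfE Q a' * m * (orfE Q u * orfE Q a')⁻¹
          = orfE Q u * (orfE Q a' * m * (orfE Q a')⁻¹) * (orfE Q u)⁻¹ := by group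
      rw [h5, h2'] at h1
      exact h1)
  have hM₀ : ∀ m ∈ M ⊓ obalFix W', m = 1 := by
    intro m hm
    ext v
    obtain ⟨a, ha, b, hb, rfl⟩ := hdec.hsum v
    rw [map_add, hcore m hm a ha, hm.2 b hb]
    rfl
  intro m hm
  have hcomm : ∀ u ∈ W, ∀ u' ∈ W, Q u = Q u' → Q u ≠ 0 → ∀ v,
      (m : V →ₗ[E] V) (orf Q u (orf Q u' v)) = orf Q u (orf Q u' ((m : V →ₗ[E] V) v)) := by
    intro u hu u' hu' hQ hQ0 v
    have ht : orfE Q u * orfE Q u' ∈ obalFix W' := (obalFix W').mul_mem (hrW u hu) (hrW u' hu')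
    have hmem : orfE Q u * orfE Q u' * m * (orfE Q u * orfE Q u')⁻¹ * m⁻¹ ∈ M ⊓ obalFix W' := by
      refine ⟨M.mul_mem (hN u u' (Or.inl hu) (Or.inl hu') (hsq u u' hQ)
        (by rw [← hQ]; exact mul_ne_zero hQ0 hQ0) m hm) (M.inv_mem hm), ?_⟩
      intro y hy
      have h1 : m⁻¹ y ∈ W' := hW' m⁻¹ (M.inv_mem hm) y hy
      rw [LinearEquiv.mul_apply, LinearEquiv.mul_apply, LinearEquiv.mul_apply,
        (obalFix W').inv_mem ht (m⁻¹ y) h1, obal_apply_inv, ht y hy]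
    have h1' := hM₀ _ hmem
    have h2' : orfE Q u * orfE Q u' * m = m * (orfE Q u * orfE Q u') := by
      have e : orfE Q u * orfE Q u' * m
          = (orfE Q u * orfE Q u' * m * (orfE Q u * orfE Q u')⁻¹ * m⁻¹) * m
            * (orfE Q u * orfE Q u') := by group
      rw [e, h1', one_mul]
    have h3' := congrArg (fun f : V ≃ₗ[E] V => f v) h2'
    simp only [LinearEquiv.mul_apply, orfE_apply] at h3'
    rw [LinearEquiv.coe_coe]
    exact h3'.symm
  obtain ⟨α, hα⟩ := obal_commute_scalar h2 Q W hndW h3 (m : V →ₗ[E] V) hcomm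
  obtain ⟨a, ha, b, hb, z, hz, hQa, -⟩ := hT3
  have hma : m a = α • a := hα a ha
  have hαα : α * α = 1 := obal_sq_eq_one_of_iso Q a hQa α (by rw [← hma]; exact hiso m hm a)
  have hα1 := obal_eigen_one M hodd m hm α a (obal_ne_zero_of_Q Q a hQa) hma hαα
  intro x hx
  have h := hα x hx
  rw [hα1, one_smul] at h
  exact h

theorem obal_T1_span (h2 : (2 : E) ≠ 0) (Q : QuadraticForm E V) (W : Submodule E V) (a : V)
    (ha : a ∈ W) (hQa : Q a ≠ 0) (hT : ∀ x ∈ W, polar Q x a = 0 → x = 0) (x : V) (hx : x ∈ W) :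
    x = (polar Q x a / (2 * Q a)) • a := by
  have h := hT (x - (polar Q x a / (2 * Q a)) • a) (W.sub_mem hx (W.smul_mem _ ha)) (by
    rw [polar_sub_left, polar_smul_left, polar_self, smul_eq_mul, nsmul_eq_mul, Nat.cast_ofNat]
    field_simp
    ring)
  exact sub_eq_zero.mp h

/-- the side of a one-dimensional summand -/
theorem obal_A_fix1 (h2 : (2 : E) ≠ 0) (Q : QuadraticForm E V) (W : Submodule E V)
    (hT1 : ObalT1 Q W)
    (M : Subgroup (V ≃ₗ[E] V)) [Finite M] (hodd : Odd (Nat.card M))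
    (hiso : ∀ m ∈ M, ∀ v, Q (m v) = Q v) (hW : ∀ m ∈ M, ∀ x ∈ W, m x ∈ W) :
    ∀ m ∈ M, ∀ x ∈ W, m x = x := by
  obtain ⟨a, ha, hQa, hT⟩ := hT1
  intro m hm x hx
  obtain ⟨κ, hκ⟩ : ∃ κ : E, m a = κ • a := ⟨_, obal_T1_span h2 Q W a ha hQa hT (m a) (hW m hm a ha)⟩
  have hκκ : κ * κ = 1 := obal_sq_eq_one_of_iso Q a hQa κ (by rw [← hκ]; exact hiso m hm a)
  have hκ1 := obal_eigen_one M hodd m hm κ a (obal_ne_zero_of_Q Q a hQa) hκ hκκ
  rw [hκ1, one_smul] at hκ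
  obtain ⟨c, hc⟩ : ∃ c : E, x = c • a := ⟨_, obal_T1_span h2 Q W a ha hQa hT x hx⟩
  rw [hc, map_smul, hκ]

theorem ObalT1.exists_ns {Q : QuadraticForm E V} {W : Submodule E V} (h : ObalT1 Q W) :
    ∃ a ∈ W, Q a ≠ 0 := by
  obtain ⟨a, ha, hQa, -⟩ := h
  exact ⟨a, ha, hQa⟩

theorem ObalT3.exists_ns {Q : QuadraticForm E V} {W : Submodule E V} (h : ObalT3 Q W) :
    ∃ a ∈ W, Q a ≠ 0 := by
  obtain ⟨a, ha, b, hb, z, hz, hQa, -⟩ := h
  exact ⟨a, ha, hQa⟩

/-- an odd-order group of isometries preserving an orthogonal decomposition and normalised by the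
products of two reflections in vectors of the summands is trivial -/
theorem obal_A_core [Finite E] (h2 : (2 : E) ≠ 0) (Q : QuadraticForm E V) (W W' : Submodule E V)
    (hdec : ObalDec Q W W')
    (hty : (ObalT1 Q W ∨ ObalT3 Q W) ∧ (ObalT1 Q W' ∨ ObalT3 Q W'))
    (M : Subgroup (V ≃ₗ[E] V)) [Finite M] (hodd : Odd (Nat.card M))
    (hiso : ∀ m ∈ M, ∀ v, Q (m v) = Q v) (hW : ∀ m ∈ M, ∀ x ∈ W, m x ∈ W)
    (hW' : ∀ m ∈ M, ∀ x ∈ W', m x ∈ W')
    (hN : ∀ u b : V, (u ∈ W ∨ u ∈ W') → (b ∈ W ∨ b ∈ W') → IsSquare (Q u * Q b) → Q u * Q b ≠ 0 →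
      ∀ m ∈ M, orfE Q u * orfE Q b * m * (orfE Q u * orfE Q b)⁻¹ ∈ M) :
    ∀ m ∈ M, m = 1 := by
  obtain ⟨a, ha, hQa⟩ : ∃ a ∈ W, Q a ≠ 0 := by
    rcases hty.1 with h | h
    · exact h.exists_ns
    · exact h.exists_ns
  obtain ⟨a', ha', hQa'⟩ : ∃ a ∈ W', Q a ≠ 0 := by
    rcases hty.2 with h | h
    · exact h.exists_ns
    · exact h.exists_ns
  have k1 : ∀ m ∈ M, ∀ x ∈ W, m x = x := by
    rcases hty.1 with h | h
    · exact obal_A_fix1 h2 Q W h M hodd hiso hW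
    · exact obal_A_fix3 h2 Q W W' hdec h a' ha' hQa' M hodd hiso hW hW' hN
  have k2 : ∀ m ∈ M, ∀ x ∈ W', m x = x := by
    rcases hty.2 with h | h
    · exact obal_A_fix1 h2 Q W' h M hodd hiso hW'
    · exact obal_A_fix3 h2 Q W' W hdec.symm h a ha hQa M hodd hiso hW' hW
        (fun u b hu hb => hN u b hu.symm hb.symm)
  intro m hm
  ext v
  obtain ⟨x, hx, y, hy, rfl⟩ := hdec.hsum v
  rw [map_add, k1 m hm x hx, k2 m hm y hy]
  rfl

/-- a semilinear similarity commuting with the products of two reflections of equal norm in each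
summand is a scalar on each summand: the case where the first summand is large -/
theorem obal_A_cent_half [Finite E] (h2 : (2 : E) ≠ 0) (Q : QuadraticForm E V)
    (W W' : Submodule E V) (hdec : ObalDec Q W W') (hT3 : ObalT3 Q W)
    (hty' : ObalT1 Q W' ∨ ObalT3 Q W')
    (m : V → V) (hadd : ∀ u v, m (u + v) = m u + m v) (τ : E →+* E)
    (hτ : ∀ (l : E) (v : V), m (l • v) = τ l • m v) (hinj : ∀ v, m v = 0 → v = 0)
    (μ : E) (hsim : ∀ v, Q (m v) = μ * τ (Q v))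
    (hS : ∀ u u' : V, (u ∈ W ∧ u' ∈ W) ∨ (u ∈ W' ∧ u' ∈ W') → Q u = Q u' → Q u ≠ 0 → ∀ v,
      m (orf Q u (orf Q u' v)) = orf Q u (orf Q u' (m v))) :
    (∀ l, τ l = l) ∧ ∃ κ κ' : E, (∀ a ∈ W, m a = κ • a) ∧ (∀ b ∈ W', m b = κ' • b) ∧
      κ' * κ' = κ * κ := by
  have h3 : ∀ u ∈ W, ∀ u' ∈ W, ∃ z ∈ W, z ≠ 0 ∧ polar Q z u = 0 ∧ polar Q z u' = 0 :=
    fun u _ u' _ => obal_h3_of_T3 h2 Q W hT3 u u'
  obtain ⟨hτid, κ, hκ⟩ := obal_semilinear_scalar h2 Q W hdec.nd h3 m hadd τ hτ hinj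
    (fun u hu u' hu' => hS u u' (Or.inl ⟨hu, hu'⟩))
  refine ⟨hτid, ?_⟩
  have hsim' : ∀ v, Q (m v) = μ * Q v := by
    intro v
    rw [hsim, hτid]
  have hpol : ∀ u v, polar Q (m u) (m v) = μ * polar Q u v := by
    intro u v
    unfold polar
    rw [← hadd, hsim', hsim', hsim']
    ring
  have hscal : ∀ (κ₁ : E) (a : V), Q a ≠ 0 → m a = κ₁ • a → κ₁ * κ₁ = μ := by
    intro κ₁ a hQa hma
    have h := hsim' a
    rw [hma, QuadraticMap.map_smul, smul_eq_mul] at h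
    have h' : (κ₁ * κ₁ - μ) * Q a = 0 := by linear_combination h
    rcases mul_eq_zero.mp h' with h1 | h1
    · exact sub_eq_zero.mp h1
    · exact absurd h1 hQa
  obtain ⟨a, ha, hQa⟩ := hT3.exists_ns
  have hκκ := hscal κ a hQa (hκ a ha)
  have hκ0 : κ ≠ 0 := by
    rintro rfl
    have h := hκ a ha
    rw [zero_smul] at h
    exact obal_ne_zero_of_Q Q a hQa (hinj a h)
  have hmW' : ∀ b ∈ W', m b ∈ W' := by
    intro b hb
    apply hdec.perp
    intro x hx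
    have h := hpol b x
    rw [hκ x hx, polar_smul_right, smul_eq_mul] at h
    have h0 : polar Q b x = 0 := by rw [polar_comm]; exact hdec.horth x hx b hb
    rw [h0, mul_zero] at h
    rcases mul_eq_zero.mp h with h1 | h1
    · exact absurd h1 hκ0
    · exact h1
  rcases hty' with hT1 | hT3'
  · obtain ⟨a', ha', hQa', hT⟩ := hT1
    obtain ⟨κ', hκ'⟩ : ∃ κ' : E, m a' = κ' • a' :=
      ⟨_, obal_T1_span h2 Q W' a' ha' hQa' hT (m a') (hmW' a' ha')⟩
    refine ⟨κ, κ', hκ, ?_, ?_⟩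
    · intro b hb
      obtain ⟨c, hc⟩ : ∃ c : E, b = c • a' := ⟨_, obal_T1_span h2 Q W' a' ha' hQa' hT b hb⟩
      rw [hc, hτ, hτid, hκ', smul_comm]
    · rw [hscal κ' a' hQa' hκ', hκκ]
  · have h3' : ∀ u ∈ W', ∀ u' ∈ W', ∃ z ∈ W', z ≠ 0 ∧ polar Q z u = 0 ∧ polar Q z u' = 0 :=
      fun u _ u' _ => obal_h3_of_T3 h2 Q W' hT3' u u'
    obtain ⟨-, κ', hκ'⟩ := obal_semilinear_scalar h2 Q W' hdec.symm.nd h3' m hadd τ hτ hinj
      (fun u hu u' hu' => hS u u' (Or.inr ⟨hu, hu'⟩))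
    obtain ⟨a', ha', hQa'⟩ := hT3'.exists_ns
    exact ⟨κ, κ', hκ, hκ', by rw [hscal κ' a' hQa' (hκ' a' ha'), hκκ]⟩

theorem obal_A_cent [Finite E] (h2 : (2 : E) ≠ 0) (Q : QuadraticForm E V)
    (W W' : Submodule E V) (hdec : ObalDec Q W W')
    (hty : (ObalT1 Q W ∨ ObalT3 Q W) ∧ (ObalT1 Q W' ∨ ObalT3 Q W'))
    (hnot11 : ¬ (ObalT1 Q W ∧ ObalT1 Q W'))
    (m : V → V) (hadd : ∀ u v, m (u + v) = m u + m v) (τ : E →+* E)
    (hτ : ∀ (l : E) (v : V), m (l • v) = τ l • m v) (hinj : ∀ v, m v = 0 → v = 0)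
    (μ : E) (hsim : ∀ v, Q (m v) = μ * τ (Q v))
    (hS : ∀ u u' : V, (u ∈ W ∧ u' ∈ W) ∨ (u ∈ W' ∧ u' ∈ W') → Q u = Q u' → Q u ≠ 0 → ∀ v,
      m (orf Q u (orf Q u' v)) = orf Q u (orf Q u' (m v))) :
    (∀ l, τ l = l) ∧ ∃ κ κ' : E, (∀ a ∈ W, m a = κ • a) ∧ (∀ b ∈ W', m b = κ' • b) ∧
      κ' * κ' = κ * κ := by
  rcases hty.1 with h1 | h3
  · rcases hty.2 with h1' | h3'
    · exact absurd ⟨h1, h1'⟩ hnot11
    · obtain ⟨hτid, κ, κ', hκ, hκ', hκκ⟩ := obal_A_cent_half h2 Q W' W hdec.symm h3' (Or.inl h1)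
        m hadd τ hτ hinj μ hsim (fun u u' h => hS u u' h.symm)
      exact ⟨hτid, κ', κ, hκ', hκ, hκκ.symm⟩
  · exact obal_A_cent_half h2 Q W W' hdec h3 hty.2 m hadd τ hτ hinj μ hsim hS

end OBalE

end Cfsg.Agent.Lib.helper51
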