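/-
The eigenspace decomposition of a similarity `g` with `g² = d²`, and the two statements on the
centraliser of `g` in this case.
-/
import Mathlib
import Cfsg.Agent.Lib.helper51.OBalE

set_option autoImplicit false
set_option linter.unusedSectionVars false
set_option linter.unusedVariables false
set_option linter.unusedSimpArgs false

namespace Cfsg.Agent.Lib.helper51

open QuadraticMap

section OBalF

variable {E : Type*} [Field E] {V : Type*} [AddCommGroup V] [Module E V]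

/-- an eigenspace -/
def obalEig (g : V →ₗ[E] V) (d : E) : Submodule E V where
  carrier := {v | g v = d • v}
  add_mem' := by
    intro a b ha hb
    simp only [Set.mem_setOf_eq] at ha hb ⊢
    rw [map_add, ha, hb, smul_add]
  zero_mem' := by simp
  smul_mem' := by
    intro c x hx
    simp only [Set.mem_setOf_eq] at hx ⊢
    rw [map_smul, hx, smul_comm]

theorem mem_obalEig (g : V →ₗ[E] V) (d : E) (v : V) : v ∈ obalEig g d ↔ g v = d • v := Iff.rfl

theorem obal_g_polar (Q : QuadraticForm E V) (g : V →ₗ[E] V) (c : E)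
    (hgQ : ∀ v, Q (g v) = c * Q v) (u v : V) : polar Q (g u) (g v) = c * polar Q u v := by
  unfold polar
  rw [← map_add, hgQ, hgQ, hgQ]
  ring

theorem obal_eig_dec (h2 : (2 : E) ≠ 0) (Q : QuadraticForm E V)
    (hnd : ∀ x : V, x ≠ 0 → ∃ y, polar Q x y ≠ 0)
    (g : V →ₗ[E] V) (d : E) (hd : d ≠ 0) (hgg : ∀ v, g (g v) = (d * d) • v)
    (hgQ : ∀ v, Q (g v) = (d * d) * Q v) :
    ObalDec Q (obalEig g d) (obalEig g (-d)) := by
  refine ⟨?_, ?_, hnd⟩
  · intro v
    refine ⟨(2 * d)⁻¹ • (d • v + g v), ?_, (2 * d)⁻¹ • (d • v - g v), ?_, ?_⟩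
    · rw [mem_obalEig, map_smul, map_add, map_smul, hgg]
      module
    · rw [mem_obalEig, map_smul, map_sub, map_smul, hgg]
      module
    · rw [← smul_add]
      have e : d • v + g v + (d • v - g v) = (2 * d) • v := by module
      rw [e, smul_smul, inv_mul_cancel₀ (mul_ne_zero h2 hd), one_smul]
  · intro a ha b hb
    rw [mem_obalEig] at ha hb
    have h := obal_g_polar Q g (d * d) hgQ a b
    rw [ha, hb, polar_smul_left, polar_smul_right, smul_eq_mul, smul_eq_mul] at h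
    have h' : (2 * (d * d)) * polar Q a b = 0 := by linear_combination -h
    rcases mul_eq_zero.mp h' with h1 | h1
    · exact absurd h1 (mul_ne_zero h2 (mul_ne_zero hd hd))
    · exact h1

theorem obal_orf_comm_g (Q : QuadraticForm E V) (g : V →ₗ[E] V) (c δ : E) (hδ : δ ≠ 0)
    (hδδ : δ * δ = c) (hgQ : ∀ v, Q (g v) = c * Q v) (u : V) (hu : g u = δ • u) (v : V) :
    orf Q u (g v) = g (orf Q u v) := by
  have h := obal_g_polar Q g c hgQ u v
  rw [hu, polar_smul_left, smul_eq_mul, ← hδδ] at h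
  have h' : polar Q u (g v) = δ * polar Q u v := by
    have h0 : δ * (polar Q u (g v) - δ * polar Q u v) = 0 := by linear_combination h
    rcases mul_eq_zero.mp h0 with h1 | h1
    · exact absurd h1 hδ
    · exact sub_eq_zero.mp h1
  unfold orf
  rw [h', map_sub, map_smul, hu]
  module

theorem obal_T2_neg (h2 : (2 : E) ≠ 0) (Q : QuadraticForm E V) (W : Submodule E V) (a b : V)
    (ha : a ∈ W) (hb : b ∈ W) (hQa : Q a ≠ 0) (hQb : Q b ≠ 0) (hab : polar Q a b = 0)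
    (hT : ∀ x ∈ W, polar Q x a = 0 → polar Q x b = 0 → x = 0) (x : V) (hx : x ∈ W) :
    orf Q a (orf Q b x) = -x := by
  have hba : polar Q b a = 0 := by rw [polar_comm]; exact hab
  have h := hT (x - (polar Q x a / (2 * Q a)) • a - (polar Q x b / (2 * Q b)) • b)
    (W.sub_mem (W.sub_mem hx (W.smul_mem _ ha)) (W.smul_mem _ hb))
    (by
      rw [polar_sub_left, polar_sub_left, polar_smul_left, polar_smul_left, polar_self, hba,
        smul_eq_mul, smul_eq_mul, nsmul_eq_mul, Nat.cast_ofNat]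
      field_simp
      ring)
    (by
      rw [polar_sub_left, polar_sub_left, polar_smul_left, polar_smul_left, polar_self, hab,
        smul_eq_mul, smul_eq_mul, nsmul_eq_mul, Nat.cast_ofNat]
      field_simp
      ring)
  obtain ⟨α, β, hαβ⟩ : ∃ α β : E, x = α • a + β • b :=
    ⟨_, _, eq_add_of_sub_eq' (sub_eq_zero.mp h)⟩
  rw [hαβ, orf_add, orf_smul, orf_smul, orf_of_orth Q b a hba, orf_self Q b hQb, smul_neg,
    ← neg_smul, orf_add, orf_smul, orf_smul, orf_self Q a hQa, orf_of_orth Q a b hab]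
  module

theorem obal_eig_type_half (h2 : (2 : E) ≠ 0) (Q : QuadraticForm E V) (W W' : Submodule E V)
    (hdec : ObalDec Q W W') (g : V →ₗ[E] V) (δ : E) (hW : ∀ x ∈ W, g x = δ • x)
    (hW' : ∀ x ∈ W', g x = (-δ) • x)
    (hexs : ∀ κ : E, ¬ ∀ v, g v = κ • v)
    (hexr : ∀ (κ : E) (a b : V), Q a ≠ 0 → Q b ≠ 0 → polar Q a b = 0 →
      ¬ ∀ v, g v = κ • orf Q a (orf Q b v)) :
    ObalT1 Q W ∨ ObalT3 Q W := by
  rcases obal_types h2 Q W hdec.nd with h0 | h1 | h2' | h3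
  · exfalso
    apply hexs (-δ)
    intro v
    obtain ⟨a, ha, b, hb, rfl⟩ := hdec.hsum v
    rw [h0 a ha, zero_add]
    exact hW' b hb
  · exact Or.inl h1
  · exfalso
    obtain ⟨a, ha, b, hb, hQa, hQb, hab, hT⟩ := h2'
    apply hexr (-δ) a b hQa hQb hab
    intro v
    obtain ⟨x, hx, y, hy, rfl⟩ := hdec.hsum v
    have e1 : orf Q a (orf Q b x) = -x := obal_T2_neg h2 Q W a b ha hb hQa hQb hab hT x hx
    have e2 : orf Q a (orf Q b y) = y := by
      rw [orf_of_orth Q b y (hdec.horth b hb y hy), orf_of_orth Q a y (hdec.horth a ha y hy)]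
    rw [orf_add, orf_add, e1, e2, map_add, hW x hx, hW' y hy]
    module
  · exact Or.inr h3

theorem obal_not_T1_T1 (Q : QuadraticForm E V) (W W' : Submodule E V) (hdec : ObalDec Q W W')
    (hdim : ∀ a a' : V, ∃ v : V, v ≠ 0 ∧ polar Q v a = 0 ∧ polar Q v a' = 0) :
    ¬ (ObalT1 Q W ∧ ObalT1 Q W') := by
  rintro ⟨⟨a, ha, hQa, hT⟩, ⟨a', ha', hQa', hT'⟩⟩
  obtain ⟨v, hv, hva, hva'⟩ := hdim a a'
  obtain ⟨x, hx, y, hy, rfl⟩ := hdec.hsum v
  have h1 : x = 0 := hT x hx (by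
    rw [polar_add_left] at hva
    have h0 : polar Q y a = 0 := by rw [polar_comm]; exact hdec.horth a ha y hy
    rwa [h0, add_zero] at hva)
  have h2 : y = 0 := hT' y hy (by
    rw [polar_add_left, hdec.horth x hx a' ha', zero_add] at hva'
    exact hva')
  exact hv (by rw [h1, h2, add_zero])

/-- **The square case, core.** -/
theorem obal_caseA_core [Finite E] (h2 : (2 : E) ≠ 0) (Q : QuadraticForm E V)
    (hnd : ∀ x : V, x ≠ 0 → ∃ y, polar Q x y ≠ 0)
    (g : V →ₗ[E] V) (d : E) (hd : d ≠ 0) (hgg : ∀ v, g (g v) = (d * d) • v)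
    (hgQ : ∀ v, Q (g v) = (d * d) * Q v)
    (hexs : ∀ κ : E, ¬ ∀ v, g v = κ • v)
    (hexr : ∀ (κ : E) (a b : V), Q a ≠ 0 → Q b ≠ 0 → polar Q a b = 0 →
      ¬ ∀ v, g v = κ • orf Q a (orf Q b v))
    (M : Subgroup (V ≃ₗ[E] V)) [Finite M] (hodd : Odd (Nat.card M))
    (hiso : ∀ m ∈ M, ∀ v, Q (m v) = Q v) (hcomm : ∀ m ∈ M, ∀ v, m (g v) = g (m v))
    (hN2 : ∀ u b : V, IsSquare (Q u * Q b) → Q u * Q b ≠ 0 →
      (∀ v, orf Q u (orf Q b (g v)) = g (orf Q u (orf Q b v))) →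
      ∀ m ∈ M, orfE Q u * orfE Q b * m * (orfE Q u * orfE Q b)⁻¹ ∈ M) :
    ∀ m ∈ M, m = 1 := by
  have hdec := obal_eig_dec h2 Q hnd g d hd hgg hgQ
  have hty1 := obal_eig_type_half h2 Q _ _ hdec g d (fun x hx => hx) (fun x hx => hx) hexs hexr
  have hty2 := obal_eig_type_half h2 Q _ _ hdec.symm g (-d) (fun x hx => hx)
    (fun x hx => by rw [neg_neg]; exact hx) hexs hexr
  have hMW : ∀ δ : E, ∀ m ∈ M, ∀ x ∈ obalEig g δ, m x ∈ obalEig g δ := by
    intro δ m hm x hx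
    rw [mem_obalEig] at hx ⊢
    rw [← hcomm m hm, hx, map_smul]
  have hcomm_r : ∀ u : V, (u ∈ obalEig g d ∨ u ∈ obalEig g (-d)) → ∀ v,
      orf Q u (g v) = g (orf Q u v) := by
    intro u hu v
    rcases hu with hu | hu
    · exact obal_orf_comm_g Q g (d * d) d hd rfl hgQ u hu v
    · exact obal_orf_comm_g Q g (d * d) (-d) (neg_ne_zero.mpr hd) (by ring) hgQ u hu v
  exact obal_A_core h2 Q _ _ hdec ⟨hty1, hty2⟩ M hodd hiso (hMW d) (hMW (-d))
    (fun u b hu hb hsq hne => hN2 u b hsq hne (fun v => by rw [hcomm_r b hb, hcomm_r u hu]))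

/-- **The square case, centraliser.** -/
theorem obal_caseA_cent [Finite E] (h2 : (2 : E) ≠ 0) (Q : QuadraticForm E V)
    (hnd : ∀ x : V, x ≠ 0 → ∃ y, polar Q x y ≠ 0)
    (hdim : ∀ a a' : V, ∃ v : V, v ≠ 0 ∧ polar Q v a = 0 ∧ polar Q v a' = 0)
    (g : V →ₗ[E] V) (d : E) (hd : d ≠ 0) (hgg : ∀ v, g (g v) = (d * d) • v)
    (hgQ : ∀ v, Q (g v) = (d * d) * Q v)
    (hexs : ∀ κ : E, ¬ ∀ v, g v = κ • v)
    (hexr : ∀ (κ : E) (a b : V), Q a ≠ 0 → Q b ≠ 0 → polar Q a b = 0 →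
      ¬ ∀ v, g v = κ • orf Q a (orf Q b v))
    (m : V → V) (hadd : ∀ u v, m (u + v) = m u + m v) (τ : E →+* E)
    (hτ : ∀ (l : E) (v : V), m (l • v) = τ l • m v) (hinj : ∀ v, m v = 0 → v = 0)
    (μ : E) (hsim : ∀ v, Q (m v) = μ * τ (Q v))
    (hS : ∀ u b : V, IsSquare (Q u * Q b) → Q u * Q b ≠ 0 →
      (∀ v, orf Q u (orf Q b (g v)) = g (orf Q u (orf Q b v))) →
      ∀ v, m (orf Q u (orf Q b v)) = orf Q u (orf Q b (m v))) :
    (∀ l, τ l = l) ∧ ∃ κ : E, (∀ v, m v = κ • v) ∨ (∀ v, m v = κ • g v) := by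
  have hdec := obal_eig_dec h2 Q hnd g d hd hgg hgQ
  have hty1 := obal_eig_type_half h2 Q _ _ hdec g d (fun x hx => hx) (fun x hx => hx) hexs hexr
  have hty2 := obal_eig_type_half h2 Q _ _ hdec.symm g (-d) (fun x hx => hx)
    (fun x hx => by rw [neg_neg]; exact hx) hexs hexr
  have hnot := obal_not_T1_T1 Q _ _ hdec hdim
  have hcomm_r : ∀ u : V, (u ∈ obalEig g d ∨ u ∈ obalEig g (-d)) → ∀ v,
      orf Q u (g v) = g (orf Q u v) := by
    intro u hu v
    rcases hu with hu | hu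
    · exact obal_orf_comm_g Q g (d * d) d hd rfl hgQ u hu v
    · exact obal_orf_comm_g Q g (d * d) (-d) (neg_ne_zero.mpr hd) (by ring) hgQ u hu v
  obtain ⟨hτid, κ, κ', hκ, hκ', hκκ⟩ := obal_A_cent h2 Q _ _ hdec ⟨hty1, hty2⟩ hnot m hadd τ hτ
    hinj μ hsim
    (fun u u' h hQ hQ0 => hS u u' ⟨Q u, by rw [hQ]⟩ (by rw [← hQ]; exact mul_ne_zero hQ0 hQ0)
      (fun v => by
        have hu : u ∈ obalEig g d ∨ u ∈ obalEig g (-d) :=
          h.elim (fun h => Or.inl h.1) (fun h => Or.inr h.1)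
        have hu' : u' ∈ obalEig g d ∨ u' ∈ obalEig g (-d) :=
          h.elim (fun h => Or.inl h.2) (fun h => Or.inr h.2)
        rw [hcomm_r u' hu', hcomm_r u hu]))
  refine ⟨hτid, ?_⟩
  have hcases : κ' = κ ∨ κ' = -κ := by
    have h0 : (κ' - κ) * (κ' + κ) = 0 := by linear_combination hκκ
    rcases mul_eq_zero.mp h0 with h | h
    · exact Or.inl (sub_eq_zero.mp h)
    · exact Or.inr (eq_neg_of_add_eq_zero_left h)
  rcases hcases with h | h
  · refine ⟨κ, Or.inl ?_⟩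
    intro v
    obtain ⟨x, hx, y, hy, rfl⟩ := hdec.hsum v
    rw [hadd, hκ x hx, hκ' y hy, h, smul_add]
  · refine ⟨κ / d, Or.inr ?_⟩
    intro v
    obtain ⟨x, hx, y, hy, rfl⟩ := hdec.hsum v
    rw [hadd, hκ x hx, hκ' y hy, h, map_add, (mem_obalEig g d x).mp hx,
      (mem_obalEig g (-d) y).mp hy, smul_add, smul_smul, smul_smul, mul_neg,
      div_mul_cancel₀ κ hd]

end OBalF

end Cfsg.Agent.Lib.helper51
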