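/-
Group-theoretic skeleton for the triviality of the odd core of the centraliser of an involutory
automorphism: lifting an odd-order subgroup through a central quotient by a 2-group, and the
reduction to two statements on the fixed points.
-/
import Mathlib

set_option autoImplicit false
set_option linter.unusedSectionVars false
set_option linter.unusedVariables false
set_option linter.unusedSimpArgs false

namespace Cfsg.Agent.Lib.helper51

section OBalG

/-- lifting an odd-order subgroup through a quotient by a central subgroup of exponent two -/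
theorem obal_lift {G K : Type*} [Group G] [Group K] [Finite G] (π : G →* K)
    (hsurj : Function.Surjective π)
    (hker : ∀ z ∈ π.ker, z * z = 1 ∧ ∀ s : G, s * z = z * s)
    (M : Subgroup K) (hodd : Odd (Nat.card M)) :
    ∃ H : Subgroup G, Odd (Nat.card H) ∧ (∀ s ∈ H, π s ∈ M) ∧ (∀ k ∈ M, ∃ s ∈ H, π s = k) ∧
      (∀ s : G, π s ∈ M → Odd (orderOf s) → s ∈ H) := by
  classical
  obtain ⟨L, hL⟩ : ∃ L : Subgroup G, L = M.comap π := ⟨_, rfl⟩
  have hLmem : ∀ s : G, s ∈ L ↔ π s ∈ M := by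
    intro s
    rw [hL, Subgroup.mem_comap]
  obtain ⟨f, hf⟩ : ∃ f : ↥L →* K, f = π.comp L.subtype := ⟨_, rfl⟩
  have hfapp : ∀ z : ↥L, f z = π (z : G) := by
    intro z
    rw [hf]
    rfl
  have hpg : IsPGroup 2 ↥f.ker := by
    intro z
    refine ⟨1, ?_⟩
    have hz : ((z : ↥L) : G) ∈ π.ker := by
      rw [MonoidHom.mem_ker, ← hfapp]
      exact MonoidHom.mem_ker.mp z.2
    have h := (hker _ hz).1
    apply Subtype.ext
    apply Subtype.ext
    rw [pow_one, pow_two]
    exact h
  obtain ⟨j, hj⟩ := IsPGroup.exists_card_eq hpg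
  have hrange : f.range = M := by
    ext k
    constructor
    · rintro ⟨l, rfl⟩
      rw [hfapp]
      exact (hLmem _).mp l.2
    · intro hk
      obtain ⟨s, rfl⟩ := hsurj k
      exact ⟨⟨s, (hLmem s).mpr hk⟩, hfapp _⟩
  have hidx : f.ker.index = Nat.card M := by rw [Subgroup.index_ker, hrange]
  have hcop : Nat.Coprime (Nat.card ↥f.ker) f.ker.index := by
    rw [hj, hidx]
    exact Nat.Coprime.pow_left j (Nat.coprime_two_left.mpr hodd)
  obtain ⟨H', hH'⟩ := Subgroup.exists_right_complement'_of_coprime hcop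
  have hcardH' : Nat.card ↥H' = Nat.card M := by
    rw [← hidx]
    exact (hH'.symm.index_eq_card).symm
  have hoddH' : Odd (Nat.card ↥H') := by rw [hcardH']; exact hodd
  refine ⟨H'.map L.subtype, ?_, ?_, ?_, ?_⟩
  · rw [Subgroup.card_map_of_injective L.subtype_injective]
    exact hoddH'
  · rintro _ ⟨l, -, rfl⟩
    exact (hLmem _).mp l.2
  · intro k hk
    obtain ⟨s, rfl⟩ := hsurj k
    obtain ⟨⟨n, h⟩, hnh⟩ := hH'.2 ⟨s, (hLmem s).mpr hk⟩
    refine ⟨((h : ↥L) : G), ⟨(h : ↥L), h.2, rfl⟩, ?_⟩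
    have h1 : f ((n : ↥L) * (h : ↥L)) = π s := by
      have : (n : ↥L) * (h : ↥L) = ⟨s, (hLmem s).mpr hk⟩ := hnh
      rw [this, hfapp]
    rw [map_mul, MonoidHom.mem_ker.mp n.2, one_mul, hfapp] at h1
    exact h1
  · intro s hs hso
    obtain ⟨⟨n, h⟩, hnh⟩ := hH'.2 ⟨s, (hLmem s).mpr hs⟩
    have hnh' : (n : ↥L) * (h : ↥L) = ⟨s, (hLmem s).mpr hs⟩ := hnh
    have hnG : ((n : ↥L) : G) ∈ π.ker := by
      rw [MonoidHom.mem_ker, ← hfapp]
      exact MonoidHom.mem_ker.mp n.2
    obtain ⟨hn2, hncomm⟩ := hker _ hnG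
    have hsG : s = ((n : ↥L) : G) * ((h : ↥L) : G) := by
      have := congrArg (fun z : ↥L => (z : G)) hnh'
      exact this.symm
    -- the order of `s` divides the order of `H'`
    have hcardL : Nat.card ↥L = 2 ^ j * Nat.card ↥H' := by
      rw [← hj]
      exact hH'.card_mul.symm
    have hsL : orderOf (⟨s, (hLmem s).mpr hs⟩ : ↥L) = orderOf s := by
      rw [← Subgroup.orderOf_coe]
    have hdvd : orderOf s ∣ Nat.card ↥H' := by
      have h1 : orderOf s ∣ 2 ^ j * Nat.card ↥H' := by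
        rw [← hcardL, ← hsL]
        exact orderOf_dvd_natCard _
      exact (Nat.Coprime.pow_right j (Nat.coprime_two_right.mpr hso)).dvd_of_dvd_mul_left h1
    have hs1 : s ^ Nat.card ↥H' = 1 := orderOf_dvd_iff_pow_eq_one.mp hdvd
    have hh1 : ((h : ↥L) : G) ^ Nat.card ↥H' = 1 := by
      have h1 : h ^ Nat.card ↥H' = 1 := pow_card_eq_one'
      have h2 := congrArg (fun z : ↥H' => ((z : ↥L) : G)) h1
      simp only [Subgroup.coe_pow, Subgroup.coe_one] at h2
      exact h2
    have hcomm : Commute ((n : ↥L) : G) ((h : ↥L) : G) := (hncomm _).symm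
    have hn1 : ((n : ↥L) : G) ^ Nat.card ↥H' = 1 := by
      have h3 := hcomm.mul_pow (Nat.card ↥H')
      rw [← hsG, hs1, hh1, mul_one] at h3
      exact h3.symm
    have hnone : ((n : ↥L) : G) = 1 := by
      obtain ⟨i, hi⟩ := hoddH'
      rw [hi, pow_succ, pow_mul, pow_two, hn2, one_pow, one_mul] at hn1
      exact hn1
    rw [hsG, hnone, one_mul]
    exact ⟨(h : ↥L), h.2, rfl⟩

theorem obal_aut_conj {K : Type*} [Group K] (n : MulAut K) (k : K) :
    MulAut.conj (n k) = n * MulAut.conj k * n⁻¹ := by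
  ext y
  simp [MulAut.conj_apply]

/-- the reduction of the triviality of an odd-order normal subgroup of the centraliser of an
involutory automorphism to two statements on its fixed points -/
theorem obal_skeleton {K : Type*} [Group K]
    (hinj : Function.Injective (MulAut.conj : K →* MulAut K))
    (x : MulAut K) (hx2 : x * x = 1) (hx1 : x ≠ 1) (C N : Subgroup (MulAut K))
    (hC : C ≤ Subgroup.centralizer {x})
    (hinnC : ∀ k : K, x k = k → MulAut.conj k ∈ C)
    (hNC : N ≤ C) (hnorm : ∀ c ∈ C, ∀ n ∈ N, c * n * c⁻¹ ∈ N) (hodd : Odd (Nat.card N))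
    (hG1 : ∀ M : Subgroup K, Odd (Nat.card M) → (∀ k ∈ M, x k = k) →
      (∀ e : K, x e = e → ∀ k ∈ M, e * k * e⁻¹ ∈ M) → M = ⊥)
    (hG2 : ∀ n : MulAut K, n * x = x * n → (∀ k : K, x k = k → n k = k) →
      n * n = 1 ∨ n * n = x) :
    N = ⊥ := by
  classical
  obtain ⟨M, hMdef⟩ : ∃ M : Subgroup K, M = N.comap (MulAut.conj : K →* MulAut K) := ⟨_, rfl⟩
  have hMmem : ∀ k : K, k ∈ M ↔ MulAut.conj k ∈ N := by
    intro k
    rw [hMdef, Subgroup.mem_comap]
  have hcomm : ∀ c ∈ C, c * x = x * c := by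
    intro c hc
    exact (Subgroup.mem_centralizer_singleton_iff.mp (hC hc))
  have hMfix : ∀ k ∈ M, x k = k := by
    intro k hk
    have h1 := hcomm _ (hNC ((hMmem k).mp hk))
    apply hinj
    rw [obal_aut_conj x k]
    calc x * MulAut.conj k * x⁻¹ = (x * MulAut.conj k) * x⁻¹ := rfl
      _ = (MulAut.conj k * x) * x⁻¹ := by rw [h1]
      _ = MulAut.conj k := by group
  have hMnorm : ∀ e : K, x e = e → ∀ k ∈ M, e * k * e⁻¹ ∈ M := by
    intro e he k hk
    rw [hMmem, map_mul, map_mul, map_inv]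
    exact hnorm _ (hinnC e he) _ ((hMmem k).mp hk)
  have hModd : Odd (Nat.card M) := by
    have hinj' : Function.Injective
        (((MulAut.conj : K →* MulAut K).comp M.subtype).codRestrict N
          (fun k => (hMmem k.1).mp k.2)) := by
      intro a b hab
      have h1 : MulAut.conj (a : K) = MulAut.conj (b : K) := congrArg Subtype.val hab
      exact Subtype.ext (hinj h1)
    exact Odd.of_dvd_nat hodd (Subgroup.card_dvd_of_injective _ hinj')
  have hMbot : M = ⊥ := hG1 M hModd hMfix hMnorm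
  have hfix : ∀ n ∈ N, ∀ k : K, x k = k → n k = k := by
    intro n hn k hk
    have h1 : n k * k⁻¹ ∈ M := by
      rw [hMmem, map_mul, map_inv, obal_aut_conj n k]
      have h3 : MulAut.conj k * n⁻¹ * (MulAut.conj k)⁻¹ ∈ N :=
        hnorm _ (hinnC k hk) _ (N.inv_mem hn)
      have h4 := N.mul_mem hn h3
      have e : n * MulAut.conj k * n⁻¹ * (MulAut.conj k)⁻¹
          = n * (MulAut.conj k * n⁻¹ * (MulAut.conj k)⁻¹) := by group
      rw [e]
      exact h4
    rw [hMbot, Subgroup.mem_bot] at h1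
    exact mul_inv_eq_one.mp h1
  rw [Subgroup.eq_bot_iff_forall]
  intro n hn
  have hd : orderOf n ∣ Nat.card N := by
    have h1 : orderOf (⟨n, hn⟩ : ↥N) = orderOf n := by rw [← Subgroup.orderOf_coe]
    rw [← h1]
    exact orderOf_dvd_natCard _
  have hno : Odd (orderOf n) := Odd.of_dvd_nat hodd hd
  obtain ⟨i, hi⟩ := hno
  have hpow : n ^ (2 * i + 1) = 1 := by rw [← hi]; exact pow_orderOf_eq_one n
  rcases hG2 n (hcomm n (hNC hn)) (hfix n hn) with h | h
  · have h2 : n ^ (2 * i) = 1 := by rw [pow_mul, pow_two, h, one_pow]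
    rw [pow_succ, h2, one_mul] at hpow
    exact hpow
  · exfalso
    apply hx1
    have h2 : n ^ (2 * i) = x ^ i := by rw [pow_mul, pow_two, h]
    have h3 : x ^ (2 * i + 1) = 1 := by
      rw [← h, ← pow_two, ← pow_mul, mul_comm, pow_mul, hpow, one_pow]
    have h4 : x ^ (2 * i) = 1 := by rw [pow_mul, pow_two, hx2, one_pow]
    rw [pow_succ, h4, one_mul] at h3
    exact h3

end OBalG

end Cfsg.Agent.Lib.helper51
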