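/-
The bridge between matrices and linear maps for the orthogonal groups: elements of `Ω` realising
products of two reflections and commutators of isometries, and the linear-algebra hypotheses of
the abstract statements.
-/
import Mathlib
import Cfsg.Agent.Lib.helper51.OBalF
import Cfsg.Agent.Lib.helper49.Spinor
import Cfsg.Agent.Lib.helper42.AutImage3

set_option autoImplicit false
set_option linter.unusedSectionVars false
set_option linter.unusedVariables false
set_option linter.unusedSimpArgs false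

namespace Cfsg.Agent.Lib.helper51

open Cfsg Matrix QuadraticMap
open scoped commutatorElement

section OBalH

variable {ι : Type} [Fintype ι] [DecidableEq ι] {F : Type*} [Field F]

/-- invertible matrices as linear equivalences -/
noncomputable def obalRho : GL ι F →* ((ι → F) ≃ₗ[F] (ι → F)) where
  toFun A :=
    { toFun := fun v => (A : Matrix ι ι F) *ᵥ v
      map_add' := fun v w => Matrix.mulVec_add _ v w
      map_smul' := fun c v => Matrix.mulVec_smul _ c v
      invFun := fun v => ((A⁻¹ : GL ι F) : Matrix ι ι F) *ᵥ v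
      left_inv := fun v => by
        show ((A⁻¹ : GL ι F) : Matrix ι ι F) *ᵥ ((A : Matrix ι ι F) *ᵥ v) = v
        rw [Matrix.mulVec_mulVec, ← Units.val_mul, inv_mul_cancel, Units.val_one,
          Matrix.one_mulVec]
      right_inv := fun v => by
        show (A : Matrix ι ι F) *ᵥ (((A⁻¹ : GL ι F) : Matrix ι ι F) *ᵥ v) = v
        rw [Matrix.mulVec_mulVec, ← Units.val_mul, mul_inv_cancel, Units.val_one,
          Matrix.one_mulVec] }
  map_one' := by
    apply LinearEquiv.ext
    intro v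
    show ((1 : GL ι F) : Matrix ι ι F) *ᵥ v = v
    rw [Units.val_one, Matrix.one_mulVec]
  map_mul' := fun A B => by
    apply LinearEquiv.ext
    intro v
    show ((A * B : GL ι F) : Matrix ι ι F) *ᵥ v = (A : Matrix ι ι F) *ᵥ ((B : Matrix ι ι F) *ᵥ v)
    rw [Units.val_mul, Matrix.mulVec_mulVec]

theorem obalRho_apply (A : GL ι F) (v : ι → F) : obalRho A v = (A : Matrix ι ι F) *ᵥ v := rfl

theorem obal_matrix_ext (A B : Matrix ι ι F) (h : ∀ v, A *ᵥ v = B *ᵥ v) : A = B := by
  apply Matrix.toLin'.injective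
  apply LinearMap.ext
  intro v
  rw [Matrix.toLin'_apply, Matrix.toLin'_apply]
  exact h v

theorem obalRho_injective :
    Function.Injective (obalRho : GL ι F →* ((ι → F) ≃ₗ[F] (ι → F))) := by
  intro A B h
  apply Units.ext
  apply obal_matrix_ext
  intro v
  exact congrArg (fun f : (ι → F) ≃ₗ[F] (ι → F) => f v) h

theorem obal_toMatrix_mulVec (f : (ι → F) →ₗ[F] (ι → F)) (v : ι → F) :
    LinearMap.toMatrix' f *ᵥ v = f v := by
  rw [← Matrix.toLin'_apply, Matrix.toLin'_toMatrix']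

theorem obalRho_surj (s : (ι → F) ≃ₗ[F] (ι → F)) : ∃ A : GL ι F, obalRho A = s := by
  refine ⟨⟨LinearMap.toMatrix' (s : (ι → F) →ₗ[F] (ι → F)),
    LinearMap.toMatrix' (s.symm : (ι → F) →ₗ[F] (ι → F)), ?_, ?_⟩, ?_⟩
  · apply obal_matrix_ext
    intro v
    rw [← Matrix.mulVec_mulVec, obal_toMatrix_mulVec, obal_toMatrix_mulVec, Matrix.one_mulVec]
    exact s.apply_symm_apply v
  · apply obal_matrix_ext
    intro v
    rw [← Matrix.mulVec_mulVec, obal_toMatrix_mulVec, obal_toMatrix_mulVec, Matrix.one_mulVec]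
    exact s.symm_apply_apply v
  · apply LinearEquiv.ext
    intro v
    rw [obalRho_apply]
    exact obal_toMatrix_mulVec _ v

theorem obalRho_refl (Q : QuadraticForm F (ι → F)) (v : ι → F) (hv : Q v ≠ 0) :
    obalRho (Cfsg.Agent.Lib.helper49.reflGL Q v hv) = orfE Q v := by
  apply LinearEquiv.ext
  intro x
  rw [obalRho_apply, orfE_apply]
  exact Cfsg.Agent.Lib.helper49.refl_mulVec Q v x

/-- the elements of `Ω` as linear equivalences -/
noncomputable def obalPsi (Q : (ι → F) → F) : ↥(Omega F Q) →* ((ι → F) ≃ₗ[F] (ι → F)) :=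
  obalRho.comp ((isometryGroup F Q).subtype.comp (Omega F Q).subtype)

theorem obalPsi_apply (Q : (ι → F) → F) (t : ↥(Omega F Q)) (v : ι → F) :
    obalPsi Q t v = (((t : ↥(isometryGroup F Q)) : GL ι F) : Matrix ι ι F) *ᵥ v := rfl

theorem obalPsi_injective (Q : (ι → F) → F) : Function.Injective (obalPsi Q) := by
  intro a b h
  apply Subtype.ext
  apply Subtype.ext
  exact obalRho_injective h

/-- the product of two reflections with square product of norms, in `Ω` -/
theorem obal_exists_Omega_refl2 [Fintype F] (h2 : (2 : F) ≠ 0) (Q : QuadraticForm F (ι → F))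
    (u b : ι → F)
    (hsq : IsSquare (Q u * Q b)) (hne : Q u * Q b ≠ 0) :
    ∃ t : ↥(Omega F ⇑Q), obalPsi ⇑Q t = orfE Q u * orfE Q b := by
  have hu : Q u ≠ 0 := left_ne_zero_of_mul hne
  have hb : Q b ≠ 0 := right_ne_zero_of_mul hne
  have hmem : Cfsg.Agent.Lib.helper49.reflG Q u hu * Cfsg.Agent.Lib.helper49.reflG Q b hb
      ∈ Omega F ⇑Q := by
    rw [Cfsg.Agent.Lib.helper49.spinor_criterion h2 Q
      (Cfsg.Agent.Lib.helper49.reflG Q u hu * Cfsg.Agent.Lib.helper49.reflG Q b hb) [u, b]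
      (by
        intro v hv
        simp only [List.mem_cons, List.not_mem_nil, or_false] at hv
        rcases hv with rfl | rfl
        · exact hu
        · exact hb)
      (by
        simp only [List.map_cons, List.map_nil, List.prod_cons, List.prod_nil, mul_one]
        rfl)]
    refine ⟨⟨1, rfl⟩, ?_⟩
    simp only [List.map_cons, List.map_nil, List.prod_cons, List.prod_nil, mul_one]
    exact hsq
  refine ⟨⟨_, hmem⟩, ?_⟩
  apply LinearEquiv.ext
  intro v
  rw [obalPsi_apply, LinearEquiv.mul_apply, orfE_apply, orfE_apply]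
  show (reflectionMatrix ⇑Q u * reflectionMatrix ⇑Q b) *ᵥ v = _
  rw [← Matrix.mulVec_mulVec, Cfsg.Agent.Lib.helper49.refl_mulVec,
    Cfsg.Agent.Lib.helper49.refl_mulVec]
  rfl

/-- a commutator of two isometries, in `Ω` -/
theorem obal_exists_Omega_comm (Q : (ι → F) → F) (s₁ s₂ : (ι → F) ≃ₗ[F] (ι → F))
    (h₁ : ∀ v, Q (s₁ v) = Q v) (h₂ : ∀ v, Q (s₂ v) = Q v) :
    ∃ t : ↥(Omega F Q), obalPsi Q t = ⁅s₁, s₂⁆ := by
  obtain ⟨A₁, hA₁⟩ := obalRho_surj s₁
  obtain ⟨A₂, hA₂⟩ := obalRho_surj s₂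
  have m₁ : A₁ ∈ isometryGroup F Q :=
    (Cfsg.Agent.Lib.helper49.mem_isometryGroup_iff Q A₁).mpr (fun v => by
      rw [← obalRho_apply, hA₁]
      exact h₁ v)
  have m₂ : A₂ ∈ isometryGroup F Q :=
    (Cfsg.Agent.Lib.helper49.mem_isometryGroup_iff Q A₂).mpr (fun v => by
      rw [← obalRho_apply, hA₂]
      exact h₂ v)
  refine ⟨⟨⁅(⟨A₁, m₁⟩ : ↥(isometryGroup F Q)), ⟨A₂, m₂⟩⁆,
    Subgroup.commutator_mem_commutator (Subgroup.mem_top _) (Subgroup.mem_top _)⟩, ?_⟩
  show obalRho ⁅A₁, A₂⁆ = _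
  rw [map_commutatorElement, hA₁, hA₂]

theorem obal_hnd_of_nondeg (Q : QuadraticForm F (ι → F))
    (hQ : (QuadraticMap.polarBilin Q).Nondegenerate) :
    ∀ x : ι → F, x ≠ 0 → ∃ y, polar Q x y ≠ 0 := by
  intro x hx
  by_contra h
  push Not at h
  exact hx (hQ.1 x (fun y => by rw [QuadraticMap.polarBilin_apply_apply]; exact h y))

theorem obal_exists_ker {k : ℕ} (hk : k < Fintype.card ι) (f : (ι → F) →ₗ[F] (Fin k → F)) :
    ∃ z : ι → F, z ≠ 0 ∧ f z = 0 := by
  have h : LinearMap.ker f ≠ ⊥ := LinearMap.ker_ne_bot_of_finrank_lt (by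
    rw [Module.finrank_fin_fun, Module.finrank_fintype_fun_eq_card]
    exact hk)
  obtain ⟨z, hz, hz0⟩ := (Submodule.ne_bot_iff _).mp h
  exact ⟨z, hz0, LinearMap.mem_ker.mp hz⟩

theorem obal_hdim (Q : QuadraticForm F (ι → F)) (h3 : 3 ≤ Fintype.card ι) (a a' : ι → F) :
    ∃ v : ι → F, v ≠ 0 ∧ polar Q v a = 0 ∧ polar Q v a' = 0 := by
  obtain ⟨z, hz0, hz⟩ := obal_exists_ker (k := 2) (by omega)
    (LinearMap.pi ![(QuadraticMap.polarBilin Q).flip a, (QuadraticMap.polarBilin Q).flip a'])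
  refine ⟨z, hz0, ?_, ?_⟩
  · have := congrFun hz 0
    simpa [LinearMap.pi_apply] using this
  · have := congrFun hz 1
    simpa [LinearMap.pi_apply] using this

end OBalH

end Cfsg.Agent.Lib.helper51
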