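import Mathlib

set_option autoImplicit false

namespace Cfsg.Agent.Lib.helper51

open Matrix

section Order3

/-- Cayley–Hamilton for `3 × 3` matrices, written out. -/
theorem cayley_hamilton_fin_three {R : Type*} [CommRing R] (x : Matrix (Fin 3) (Fin 3) R) :
    x * x * x = (x 0 0 + x 1 1 + x 2 2) • (x * x) -
      (x 0 0 * x 1 1 - x 0 1 * x 1 0 + x 0 0 * x 2 2 - x 0 2 * x 2 0 + x 1 1 * x 2 2 -
        x 1 2 * x 2 1) • x + x.det • (1 : Matrix (Fin 3) (Fin 3) R) := by
  rw [Matrix.det_fin_three]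
  ext i j
  fin_cases i <;> fin_cases j <;>
    simp [Matrix.mul_apply, Fin.sum_univ_three] <;> ring

theorem trace_sq_fin_three {R : Type*} [CommRing R] (x : Matrix (Fin 3) (Fin 3) R) :
    (x * x) 0 0 + (x * x) 1 1 + (x * x) 2 2 = (x 0 0 + x 1 1 + x 2 2) ^ 2 -
      2 * (x 0 0 * x 1 1 - x 0 1 * x 1 0 + x 0 0 * x 2 2 - x 0 2 * x 2 0 + x 1 1 * x 2 2 -
        x 1 2 * x 2 1) := by
  simp only [Matrix.mul_apply, Fin.sum_univ_three]
  ring

variable {F : Type*} [Field F] [Fintype F]

theorem two_eq_zero_of_card_four (hF : Fintype.card F = 4) : (2 : F) = 0 := by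
  have h := FiniteField.cast_card_eq_zero F
  rw [hF] at h
  have h4 : (2 : F) * 2 = 0 := by
    have : ((4 : ℕ) : F) = 2 * 2 := by norm_num
    rw [← this]; exact h
  exact mul_self_eq_zero.mp h4

theorem cube_eq_one_of_card_four (hF : Fintype.card F = 4) {a : F} (ha : a ≠ 0) : a ^ 3 = 1 := by
  have h := FiniteField.pow_card_sub_one_eq_one a ha
  rwa [hF] at h

theorem exists_omega_of_card_four (hF : Fintype.card F = 4) : ∃ ω : F, ω ^ 2 + ω + 1 = 0 := by
  classical
  obtain ⟨a, ha0, ha1⟩ : ∃ a : F, a ≠ 0 ∧ a ≠ 1 := by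
    by_contra hcon
    have hcon' : ∀ a : F, a ≠ 0 → a = 1 := by
      intro a ha
      by_contra h1
      exact hcon ⟨a, ha, h1⟩
    have hle : Fintype.card F ≤ 2 := by
      have hsub : (Finset.univ : Finset F) ⊆ {0, 1} := by
        intro a _
        by_cases h : a = 0
        · simp [h]
        · simp [hcon' a h]
      calc Fintype.card F = (Finset.univ : Finset F).card := rfl
        _ ≤ ({0, 1} : Finset F).card := Finset.card_le_card hsub
        _ ≤ 2 := Finset.card_le_two
    omega
  refine ⟨a, ?_⟩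
  have h3 := cube_eq_one_of_card_four hF ha0
  have h : (a - 1) * (a ^ 2 + a + 1) = 0 := by linear_combination h3
  rcases mul_eq_zero.mp h with h | h
  · exact absurd (sub_eq_zero.mp h) ha1
  · exact h

/-- Over the field with four elements: a non-scalar `3 × 3` matrix of determinant `1` whose cube is
scalar is conjugate, by a matrix of determinant `1`, to `diag(1, ω, ω²)`. -/
theorem exists_diagonalize_of_card_four (hF : Fintype.card F = 4) {ω : F}
    (hω : ω ^ 2 + ω + 1 = 0) (x : Matrix (Fin 3) (Fin 3) F) (hdet : x.det = 1) {l : F}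
    (hx3 : x * x * x = l • (1 : Matrix (Fin 3) (Fin 3) F))
    (hns : ∀ c : F, x ≠ c • (1 : Matrix (Fin 3) (Fin 3) F)) :
    ∃ g : Matrix (Fin 3) (Fin 3) F, g.det = 1 ∧ x * g = g * Matrix.diagonal ![1, ω, ω ^ 2] := by
  have h2 : (2 : F) = 0 := two_eq_zero_of_card_four hF
  have hcube : ∀ a : F, a ≠ 0 → a ^ 3 = 1 := fun a ha => cube_eq_one_of_card_four hF ha
  obtain ⟨s, hs⟩ : ∃ s : F, s = x 0 0 + x 1 1 + x 2 2 := ⟨_, rfl⟩
  obtain ⟨m, hm⟩ : ∃ m : F, m = x 0 0 * x 1 1 - x 0 1 * x 1 0 + x 0 0 * x 2 2 - x 0 2 * x 2 0 +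
      x 1 1 * x 2 2 - x 1 2 * x 2 1 := ⟨_, rfl⟩
  have hCH := cayley_hamilton_fin_three x
  rw [hdet, ← hs, ← hm] at hCH
  have h2M : ∀ M : Matrix (Fin 3) (Fin 3) F, (2 : F) • M = 0 := by
    intro M; rw [h2, zero_smul]
  have E1 : s • (x * x) + m • x + (1 + l) • (1 : Matrix (Fin 3) (Fin 3) F) = 0 := by
    have h := hCH.symm.trans hx3
    linear_combination (norm := module) h + m • h2M x + l • h2M 1
  have E2 : (s * l) • (1 : Matrix (Fin 3) (Fin 3) F) + m • (x * x) + (1 + l) • x = 0 := by
    have h := congrArg (fun M => x * M) E1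
    simp only [mul_add, Matrix.mul_smul, mul_one, mul_zero, ← mul_assoc] at h
    rw [hx3] at h
    linear_combination (norm := module) h
  have E3 : (s * (1 + l) - m ^ 2) • x +
      (s ^ 2 * l - m * (1 + l)) • (1 : Matrix (Fin 3) (Fin 3) F) = 0 := by
    linear_combination (norm := module) s • E2 - m • E1
  have hlin : ∀ α β : F, α • x + β • (1 : Matrix (Fin 3) (Fin 3) F) = 0 → α = 0 := by
    intro α β h
    by_contra hα
    apply hns (-(α⁻¹ * β))
    have h' := congrArg (fun M => α⁻¹ • M) h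
    simp only [smul_add, smul_smul, smul_zero, inv_mul_cancel₀ hα, one_smul] at h'
    rw [neg_smul]
    exact eq_neg_of_add_eq_zero_left h'
  have hone : ∀ β : F, β • (1 : Matrix (Fin 3) (Fin 3) F) = 0 → β = 0 := by
    intro β h
    have h00 := congrFun (congrFun h 0) 0
    simpa using h00
  have C1 : s * (1 + l) - m ^ 2 = 0 := hlin _ _ E3
  have C2 : s ^ 2 * l - m * (1 + l) = 0 := by
    have h := E3
    rw [C1, zero_smul, zero_add] at h
    exact hone _ h
  have hl : l = 1 := by
    by_contra hl1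
    have hu : 1 + l ≠ 0 := by
      intro h; apply hl1; linear_combination h - h2
    have hu3 := hcube _ hu
    by_cases hm0 : m = 0
    · have hs0 : s = 0 := by
        have h : s * (1 + l) = 0 := by linear_combination C1 + m * hm0
        exact (mul_eq_zero.mp h).resolve_right hu
      have h := E1
      rw [hs0, hm0, zero_smul, zero_smul, zero_add, zero_add] at h
      exact hu (hone _ h)
    · have hm3 := hcube _ hm0
      have key : m ^ 4 * l = m := by
        linear_combination (-l * (s * (1 + l) + m ^ 2)) * C1 + (1 + l) ^ 2 * C2 + m * hu3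
      have key2 : m * (m ^ 3 * l - 1) = 0 := by linear_combination key
      rcases mul_eq_zero.mp key2 with h | h
      · exact hm0 h
      · apply hl1; linear_combination h - l * hm3
  subst hl
  have hm0 : m = 0 := by
    have h : m ^ 2 = 0 := by linear_combination -C1 + s * h2
    exact pow_eq_zero_iff (two_ne_zero) |>.mp h
  have hs0 : s = 0 := by
    have h : s ^ 2 = 0 := by linear_combination C2 + m * h2
    exact pow_eq_zero_iff (two_ne_zero) |>.mp h
  have hx3' : x * x * x = 1 := by rw [hx3, one_smul]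
  have htr2 : (x * x) 0 0 + (x * x) 1 1 + (x * x) 2 2 = 0 := by
    rw [trace_sq_fin_three, ← hs, ← hm, hs0, hm0]; ring
  -- eigenvectors
  have hev : ∀ μ : F, μ ^ 3 = 1 → ∃ v : Fin 3 → F, v ≠ 0 ∧ x *ᵥ v = μ • v := by
    intro μ hμ
    obtain ⟨e, he⟩ : ∃ e : Matrix (Fin 3) (Fin 3) F,
        e = 1 + μ ^ 2 • x + μ • (x * x) := ⟨_, rfl⟩
    have hxe : x * e = μ • e := by
      rw [he]
      simp only [mul_add, Matrix.mul_smul, mul_one, ← mul_assoc, hx3', smul_add, smul_smul]
      have h1 : μ * μ ^ 2 = 1 := by linear_combination hμ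
      have h2' : μ * μ = μ ^ 2 := by ring
      rw [h1, h2', one_smul]
      abel
    have htr : e 0 0 + e 1 1 + e 2 2 = 1 := by
      rw [he]
      simp only [Matrix.add_apply, Matrix.smul_apply, Matrix.one_apply_eq, smul_eq_mul]
      linear_combination μ ^ 2 * hs.symm + μ ^ 2 * hs0 + μ * htr2 + h2
    obtain ⟨j, hj⟩ : ∃ j : Fin 3, e j j ≠ 0 := by
      by_contra hcon
      have hcon' : ∀ j : Fin 3, e j j = 0 := by
        intro j
        by_contra h
        exact hcon ⟨j, h⟩
      rw [hcon' 0, hcon' 1, hcon' 2] at htr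
      simp at htr
    refine ⟨fun i => e i j, ?_, ?_⟩
    · intro h
      exact hj (congrFun h j)
    · funext i
      have h := congrFun (congrFun hxe i) j
      simp only [Matrix.mul_apply, Matrix.smul_apply, smul_eq_mul] at h
      simp only [Matrix.mulVec, dotProduct, Pi.smul_apply, smul_eq_mul]
      exact h
  have hω3 : ω ^ 3 = 1 := by linear_combination (ω - 1) * hω
  have hω6 : (ω ^ 2) ^ 3 = 1 := by rw [← pow_mul, mul_comm, pow_mul, hω3, one_pow]
  obtain ⟨v1, hv1, hv1e⟩ := hev 1 (one_pow 3)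
  obtain ⟨v2, hv2, hv2e⟩ := hev ω hω3
  obtain ⟨v3, hv3, hv3e⟩ := hev (ω ^ 2) hω6
  have hω0 : ω ≠ 0 := by
    intro h; rw [h] at hω; simp at hω
  have hω1 : ω ≠ 1 := by
    intro h; rw [h] at hω
    have : (1 : F) = 0 := by linear_combination hω - h2
    exact one_ne_zero this
  have h1ω : (1 : F) ≠ ω := fun h => hω1 h.symm
  have h1ω2 : (1 : F) ≠ ω ^ 2 := by
    intro hij
    apply hω1
    have h : (ω - 1) * (ω + 1) = 0 := by linear_combination -hij
    rcases mul_eq_zero.mp h with h | h
    · exact sub_eq_zero.mp h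
    · linear_combination h - h2
  have hωω2 : ω ≠ ω ^ 2 := by
    intro hij
    have h : ω * (ω - 1) = 0 := by linear_combination -hij
    rcases mul_eq_zero.mp h with h | h
    · exact hω0 h
    · exact hω1 (sub_eq_zero.mp h)
  have hinj : Function.Injective ![(1 : F), ω, ω ^ 2] := by
    intro i j hij
    fin_cases i <;> fin_cases j
    · rfl
    · exact absurd hij h1ω
    · exact absurd hij h1ω2
    · exact absurd hij.symm h1ω
    · rfl
    · exact absurd hij hωω2
    · exact absurd hij.symm h1ω2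
    · exact absurd hij.symm hωω2
    · rfl
  have hind : LinearIndependent F ![v1, v2, v3] := by
    apply Module.End.eigenvectors_linearIndependent' (Matrix.toLin' x) ![(1 : F), ω, ω ^ 2] hinj
    intro i
    fin_cases i
    · exact ⟨Module.End.mem_eigenspace_iff.mpr (by simpa using hv1e), hv1⟩
    · exact ⟨Module.End.mem_eigenspace_iff.mpr (by simpa using hv2e), hv2⟩
    · exact ⟨Module.End.mem_eigenspace_iff.mpr (by simpa using hv3e), hv3⟩
  obtain ⟨g₀, hg₀⟩ : ∃ g₀ : Matrix (Fin 3) (Fin 3) F,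
      g₀ = Matrix.of (fun i k => (![v1, v2, v3] k) i) := ⟨_, rfl⟩
  have hcol : g₀.col = ![v1, v2, v3] := by
    funext k
    rw [hg₀]
    rfl
  have hunit : IsUnit g₀ := Matrix.linearIndependent_cols_iff_isUnit.mp (by rw [hcol]; exact hind)
  have hdet0 : g₀.det ≠ 0 := ((Matrix.isUnit_iff_isUnit_det g₀).mp hunit).ne_zero
  have hxg : x * g₀ = g₀ * Matrix.diagonal ![1, ω, ω ^ 2] := by
    ext i k
    rw [Matrix.mul_diagonal, Matrix.mul_apply]
    fin_cases k
    · have h := congrFun hv1e i
      simp only [Matrix.mulVec, dotProduct, Pi.smul_apply, smul_eq_mul] at h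
      rw [hg₀]
      simpa [mul_comm] using h
    · have h := congrFun hv2e i
      simp only [Matrix.mulVec, dotProduct, Pi.smul_apply, smul_eq_mul] at h
      rw [hg₀]
      simpa [mul_comm] using h
    · have h := congrFun hv3e i
      simp only [Matrix.mulVec, dotProduct, Pi.smul_apply, smul_eq_mul] at h
      rw [hg₀]
      simpa [mul_comm] using h
  refine ⟨g₀ * Matrix.diagonal ![(g₀.det)⁻¹, 1, 1], ?_, ?_⟩
  · rw [Matrix.det_mul, Matrix.det_diagonal, Fin.prod_univ_three]
    simp [mul_inv_cancel₀ hdet0]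
  · rw [← mul_assoc, hxg, mul_assoc, mul_assoc, Matrix.diagonal_mul_diagonal,
      Matrix.diagonal_mul_diagonal]
    congr 2
    funext i
    exact mul_comm _ _

end Order3

end Cfsg.Agent.Lib.helper51
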