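import Mathlib

set_option autoImplicit false

namespace Cfsg.Agent.Lib.helper51

/-- Section lemma: on a characteristic section `V / U` of order `p`, the `(p - 1)`-st power of every
automorphism acts trivially. -/
theorem h51_sec_pow {E : Type*} [Group E] [Finite E] (p : ℕ) [Fact p.Prime]
    (U V : Subgroup E) [U.Normal] (hUV : U ≤ V)
    (hcard : Nat.card V = p * Nat.card U)
    (hpow : ∀ v ∈ V, v ^ p ∈ U)
    (hU : ∀ (β : MulAut E) (u : E), u ∈ U → β u ∈ U)
    (hV : ∀ (β : MulAut E) (v : E), v ∈ V → β v ∈ V)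
    (α : MulAut E) (v : E) (hv : v ∈ V) : v⁻¹ * (α ^ (p - 1)) v ∈ U := by
  have hp : p.Prime := Fact.out
  by_cases hvU : v ∈ U
  · exact U.mul_mem (U.inv_mem hvU) (hU _ v hvU)
  have hsup : U ⊔ Subgroup.zpowers v = V := by
    have hle : U ⊔ Subgroup.zpowers v ≤ V :=
      sup_le hUV (by rw [Subgroup.zpowers_le]; exact hv)
    have h1 : Nat.card U ∣ Nat.card (U ⊔ Subgroup.zpowers v : Subgroup E) :=
      Subgroup.card_dvd_of_le le_sup_left
    have h2 : Nat.card (U ⊔ Subgroup.zpowers v : Subgroup E) ∣ Nat.card V :=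
      Subgroup.card_dvd_of_le hle
    have h3 : Nat.card U ≠ Nat.card (U ⊔ Subgroup.zpowers v : Subgroup E) := by
      intro h
      have h4 : U = U ⊔ Subgroup.zpowers v := Subgroup.eq_of_le_of_card_ge le_sup_left h.ge
      apply hvU
      rw [h4]
      exact Subgroup.mem_sup_right (Subgroup.mem_zpowers v)
    obtain ⟨c, hc⟩ := h1
    rw [hc, hcard] at h2
    have hUpos : 0 < Nat.card U := Nat.card_pos
    have hcp : c ∣ p := by
      have h5 : Nat.card U * c ∣ Nat.card U * p := by rwa [mul_comm p] at h2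
      exact (Nat.mul_dvd_mul_iff_left hUpos).1 h5
    have hc1 : c ≠ 1 := by
      rintro rfl
      exact h3 (by rw [hc, mul_one])
    have hcp' : c = p := ((Nat.dvd_prime hp).1 hcp).resolve_left hc1
    exact Subgroup.eq_of_le_of_card_ge hle (by rw [hc, hcp', hcard, mul_comm])
  obtain ⟨π, hπ⟩ : ∃ π : E →* E ⧸ U, ∀ e, π e = 1 ↔ e ∈ U :=
    ⟨QuotientGroup.mk' U, fun e => QuotientGroup.eq_one_iff e⟩
  have hmem : π (α v) ∈ Subgroup.zpowers (π v) := by
    have h1 : α v ∈ U ⊔ Subgroup.zpowers v := hsup ▸ hV α v hv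
    have h2 : π (α v) ∈ (U ⊔ Subgroup.zpowers v).map π := Subgroup.mem_map_of_mem π h1
    rw [Subgroup.map_sup, MonoidHom.map_zpowers] at h2
    have h3 : U.map π = ⊥ := by
      rw [eq_bot_iff]
      rintro _ ⟨u, hu, rfl⟩
      exact (hπ u).2 hu
    rwa [h3, bot_sup_eq] at h2
  obtain ⟨b, hb⟩ : ∃ b : ℕ, (π v) ^ b = π (α v) := by
    have h := (mem_powers_iff_mem_zpowers).2 hmem
    exact (Submonoid.mem_powers_iff _ _).1 h
  have hvp : (π v) ^ p = 1 := by
    rw [← map_pow]; exact (hπ _).2 (hpow v hv)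
  have hbp : ¬ p ∣ b := by
    rintro ⟨t, rfl⟩
    have h1 : π (α v) = 1 := by rw [← hb, pow_mul, hvp, one_pow]
    have h2 : α v ∈ U := (hπ _).1 h1
    have h3 := hU α⁻¹ _ h2
    rw [MulAut.inv_apply_self] at h3
    exact hvU h3
  obtain ⟨u, hu, hαv⟩ : ∃ u ∈ U, α v = v ^ b * u := by
    refine ⟨(v ^ b)⁻¹ * α v, ?_, by group⟩
    apply (hπ _).1
    rw [map_mul, map_inv, map_pow, hb, inv_mul_cancel]
  have key : ∀ k : ℕ, π ((α ^ k) v) = (π v) ^ (b ^ k) := by
    intro k
    induction k with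
    | zero => simp
    | succ k ih =>
      have h3 : (α ^ (k + 1)) v = (α ^ k) (α v) := by
        rw [pow_succ α k, MulAut.mul_apply]
      rw [h3, hαv]
      simp only [map_mul, map_pow]
      rw [ih, (hπ _).2 (hU _ _ hu), mul_one, ← pow_mul, pow_succ b k]
  have hfer : b ^ (p - 1) ≡ 1 [MOD p] := by
    have hc : Nat.Coprime b p := ((Nat.Prime.coprime_iff_not_dvd hp).2 hbp).symm
    have h := Nat.ModEq.pow_totient hc
    rwa [Nat.totient_prime hp] at h
  have hfin : π ((α ^ (p - 1)) v) = π v := by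
    rw [key]
    have hord : orderOf (π v) ∣ p := orderOf_dvd_of_pow_eq_one hvp
    have h := (pow_eq_pow_iff_modEq (x := π v)).2 (Nat.ModEq.of_dvd hord hfer)
    rw [h, pow_one]
  apply (hπ _).1
  rw [map_mul, map_inv, hfin, inv_mul_cancel]

/-- An automorphism fixing `U` pointwise and stabilizing the section `V / U`, with `U` of exponent `p`:
its `p`-th power fixes `V` pointwise. -/
theorem h51_fix_pow {E : Type*} [Group E] (p : ℕ) (U V : Subgroup E) (hUp : ∀ u ∈ U, u ^ p = 1)
    (α : MulAut E) (hfix : ∀ u ∈ U, α u = u) (hst : ∀ v ∈ V, v⁻¹ * α v ∈ U) (v : E) (hv : v ∈ V) :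
    (α ^ p) v = v := by
  have hu := hst v hv
  have hαv : α v = v * (v⁻¹ * α v) := by group
  have key : ∀ k : ℕ, (α ^ k) v = v * (v⁻¹ * α v) ^ k := by
    intro k
    induction k with
    | zero => simp
    | succ k ih =>
      have h3 : (α ^ (k + 1)) v = α ((α ^ k) v) := by
        rw [pow_succ' α k, MulAut.mul_apply]
      rw [h3, ih, map_mul, map_pow, hfix _ hu, pow_succ' (v⁻¹ * α v) k, ← mul_assoc, ← hαv]
  rw [key, hUp _ hu, mul_one]

/-- The stabilizer of a characteristic section `V / U` in the automorphism group. -/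
def h51_secStab {E : Type*} [Group E] (U V : Subgroup E)
    (hU : ∀ (β : MulAut E) (u : E), u ∈ U → β u ∈ U)
    (hV : ∀ (β : MulAut E) (v : E), v ∈ V → β v ∈ V) : Subgroup (MulAut E) where
  carrier := {α | ∀ v ∈ V, v⁻¹ * α v ∈ U}
  one_mem' := by
    show ∀ v ∈ V, v⁻¹ * (1 : MulAut E) v ∈ U
    intro v _
    simp
  mul_mem' := by
    intro α β hα hβ
    show ∀ v ∈ V, v⁻¹ * (α * β) v ∈ U
    intro v hv
    have h1 : v⁻¹ * β v ∈ U := hβ v hv
    have h2 : v⁻¹ * α v ∈ U := hα v hv
    have h3 := hU α _ h1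
    have h4 : v⁻¹ * (α * β) v = (v⁻¹ * α v) * α (v⁻¹ * β v) := by
      rw [MulAut.mul_apply, map_mul, map_inv]; group
    rw [h4]; exact U.mul_mem h2 h3
  inv_mem' := by
    intro α hα
    show ∀ v ∈ V, v⁻¹ * α⁻¹ v ∈ U
    intro v hv
    have hv' := hV α⁻¹ v hv
    have h1 : (α⁻¹ v)⁻¹ * α (α⁻¹ v) ∈ U := hα _ hv'
    rw [MulAut.apply_inv_self] at h1
    have h4 : v⁻¹ * α⁻¹ v = ((α⁻¹ v)⁻¹ * v)⁻¹ := by group
    rw [h4]; exact U.inv_mem h1

theorem h51_secStab_mem {E : Type*} [Group E] (U V : Subgroup E)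
    (hU : ∀ (β : MulAut E) (u : E), u ∈ U → β u ∈ U)
    (hV : ∀ (β : MulAut E) (v : E), v ∈ V → β v ∈ V) (α : MulAut E) :
    α ∈ h51_secStab U V hU hV ↔ ∀ v ∈ V, v⁻¹ * α v ∈ U := Iff.rfl

theorem h51_secStab_normal {E : Type*} [Group E] (U V : Subgroup E)
    (hU : ∀ (β : MulAut E) (u : E), u ∈ U → β u ∈ U)
    (hV : ∀ (β : MulAut E) (v : E), v ∈ V → β v ∈ V) : (h51_secStab U V hU hV).Normal := by
  constructor
  intro α hα β
  rw [h51_secStab_mem] at hα ⊢
  intro v hv
  have hv' := hV β⁻¹ v hv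
  have h1 : (β⁻¹ v)⁻¹ * α (β⁻¹ v) ∈ U := hα _ hv'
  have h2 := hU β _ h1
  rw [map_mul, map_inv, MulAut.apply_inv_self] at h2
  have h3 : (β * α * β⁻¹) v = β (α (β⁻¹ v)) := by
    rw [MulAut.mul_apply, MulAut.mul_apply]
  rw [h3]; exact h2

/-- A nonabelian group of order `p ^ 3` (`p` odd) with an element of order `p ^ 2`: its automorphism
group has a normal `p`-subgroup `K` with quotient of exponent dividing `p - 1`. -/
theorem h51_aut_minus {E : Type*} [Group E] [Finite E] (p : ℕ) [Fact p.Prime] (hp2 : p ≠ 2)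
    (hE : Nat.card E = p ^ 3) (hna : ¬ IsMulCommutative E) (y : E) (hy : y ^ p ≠ 1) :
    ∃ K : Subgroup (MulAut E), K.Normal ∧ IsPGroup p K ∧ ∀ α : MulAut E, α ^ (p - 1) ∈ K := by
  have hp : p.Prime := Fact.out
  -- Step 1: the center has order p
  have hZ : Nat.card (Subgroup.center E) = p := by
    obtain ⟨k, hk0, hk⟩ := IsPGroup.card_center_eq_prime_pow hE (by norm_num)
    have hdvd : Nat.card (Subgroup.center E) ∣ Nat.card E := Subgroup.card_subgroup_dvd_card _
    rw [hk, hE] at hdvd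
    have hk3 : k ≤ 3 := (Nat.pow_dvd_pow_iff_le_right hp.one_lt).1 hdvd
    have hidx : Nat.card (Subgroup.center E) * (Subgroup.center E).index = Nat.card E :=
      Subgroup.card_mul_index _
    interval_cases k
    · rw [hk, pow_one]
    · exfalso
      have hi : (Subgroup.center E).index = p := by
        rw [hk, hE] at hidx
        have h5 : p ^ 2 * (Subgroup.center E).index = p ^ 2 * p := by rw [hidx]; ring
        exact Nat.eq_of_mul_eq_mul_left (pow_pos hp.pos 2) h5
      have hq : Nat.card (E ⧸ Subgroup.center E) = p := by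
        rw [← Subgroup.index_eq_card]
        exact hi
      have : IsCyclic (E ⧸ Subgroup.center E) := isCyclic_of_prime_card hq
      apply hna
      exact ⟨⟨commutative_of_cyclic_center_quotient (QuotientGroup.mk' (Subgroup.center E))
        (by rw [QuotientGroup.ker_mk'])⟩⟩
    · exfalso
      have htop : Subgroup.center E = ⊤ := Subgroup.eq_top_of_card_eq _ (by rw [hk, hE])
      apply hna
      refine ⟨⟨fun a b => ?_⟩⟩
      have ha : a ∈ Subgroup.center E := htop ▸ Subgroup.mem_top a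
      exact ((Subgroup.mem_center_iff.1 ha) b).symm
  have hidx : (Subgroup.center E).index = p ^ 2 := by
    have h := Subgroup.card_mul_index (Subgroup.center E)
    rw [hZ, hE] at h
    have h5 : p * (Subgroup.center E).index = p * p ^ 2 := by rw [h]; ring
    exact Nat.eq_of_mul_eq_mul_left hp.pos h5
  have hqcomm : ∀ a b : E ⧸ Subgroup.center E, a * b = b * a :=
    IsPGroup.commutative_of_card_eq_prime_sq (by rw [← Subgroup.index_eq_card]; exact hidx)
  have hcomm : ∀ a b : E, a⁻¹ * b⁻¹ * a * b ∈ Subgroup.center E := by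
    intro a b
    rw [← QuotientGroup.eq_one_iff]
    have hab := hqcomm (a : E ⧸ Subgroup.center E) (b : E ⧸ Subgroup.center E)
    simp only [QuotientGroup.mk_mul, QuotientGroup.mk_inv]
    calc (a : E ⧸ Subgroup.center E)⁻¹ * (b : E ⧸ Subgroup.center E)⁻¹ * a * b
        = (a : E ⧸ Subgroup.center E)⁻¹ * (b : E ⧸ Subgroup.center E)⁻¹ * (a * b) := by group
      _ = (a : E ⧸ Subgroup.center E)⁻¹ * (b : E ⧸ Subgroup.center E)⁻¹ * (b * a) := by rw [hab]
      _ = 1 := by group
  have hzp : ∀ z ∈ Subgroup.center E, z ^ p = 1 := by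
    intro z hz
    have h := pow_card_eq_one' (G := Subgroup.center E) (x := ⟨z, hz⟩)
    rw [hZ] at h
    simpa using congrArg Subtype.val h
  -- Step 2: the p-power map is multiplicative
  have hmul : ∀ a b : E, (a * b) ^ p = a ^ p * b ^ p := by
    intro a b
    obtain ⟨c, hcdef⟩ : ∃ c : E, c = b⁻¹ * a⁻¹ * b * a := ⟨_, rfl⟩
    have hcZ : c ∈ Subgroup.center E := hcdef ▸ hcomm b a
    have hcc : ∀ g : E, Commute c g := fun g => ((Subgroup.mem_center_iff.1 hcZ) g).symm
    have hba : b * a = a * b * c := by rw [hcdef]; group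
    have aux : ∀ n : ℕ, b ^ n * a = a * b ^ n * c ^ n := by
      intro n
      induction n with
      | zero => simp
      | succ n ih =>
        calc b ^ (n + 1) * a = b * (b ^ n * a) := by rw [pow_succ' b n, mul_assoc]
          _ = (b * a) * b ^ n * c ^ n := by rw [ih]; simp only [mul_assoc]
          _ = a * b * (c * b ^ n) * c ^ n := by rw [hba]; simp only [mul_assoc]
          _ = a * b * (b ^ n * c) * c ^ n := by rw [(hcc (b ^ n)).eq]
          _ = a * b ^ (n + 1) * c ^ (n + 1) := by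
              rw [pow_succ' b n, pow_succ' c n]; simp only [mul_assoc]
    have main : ∀ n : ℕ, (a * b) ^ n = a ^ n * b ^ n * c ^ (∑ i ∈ Finset.range n, i) := by
      intro n
      induction n with
      | zero => simp
      | succ n ih =>
        have hT : c ^ (∑ i ∈ Finset.range (n + 1), i) = c ^ n * c ^ (∑ i ∈ Finset.range n, i) := by
          rw [Finset.sum_range_succ, ← pow_add, add_comm]
        calc (a * b) ^ (n + 1) = (a * b) ^ n * (a * b) := pow_succ _ _
          _ = a ^ n * b ^ n * (c ^ (∑ i ∈ Finset.range n, i) * (a * b)) := by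
              rw [ih]; simp only [mul_assoc]
          _ = a ^ n * b ^ n * ((a * b) * c ^ (∑ i ∈ Finset.range n, i)) := by
              rw [((hcc (a * b)).pow_left _).eq]
          _ = a ^ n * (b ^ n * a) * b * c ^ (∑ i ∈ Finset.range n, i) := by simp only [mul_assoc]
          _ = a ^ n * (a * b ^ n * c ^ n) * b * c ^ (∑ i ∈ Finset.range n, i) := by rw [aux]
          _ = a ^ n * a * b ^ n * (c ^ n * b) * c ^ (∑ i ∈ Finset.range n, i) := by
              simp only [mul_assoc]
          _ = a ^ n * a * b ^ n * (b * c ^ n) * c ^ (∑ i ∈ Finset.range n, i) := by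
              rw [((hcc b).pow_left n).eq]
          _ = a ^ (n + 1) * b ^ (n + 1) * c ^ (∑ i ∈ Finset.range (n + 1), i) := by
              rw [hT, pow_succ a n, pow_succ b n]; simp only [mul_assoc]
    have hT : p ∣ ∑ i ∈ Finset.range p, i := by
      have h2 : p ∣ (∑ i ∈ Finset.range p, i) * 2 := by
        rw [Finset.sum_range_id_mul_two]; exact dvd_mul_right _ _
      rcases (Nat.Prime.dvd_mul hp).1 h2 with h | h
      · exact h
      · exact absurd ((Nat.prime_dvd_prime_iff_eq hp Nat.prime_two).1 h) hp2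
    obtain ⟨t, ht⟩ := hT
    rw [main p, ht, pow_mul, hzp c hcZ, one_pow, mul_one]
  have hpc : ∀ a : E, a ^ p ∈ Subgroup.center E := by
    intro a
    rw [Subgroup.mem_center_iff]
    intro g
    have h1 : g * a * g⁻¹ = a * (a⁻¹ * (g⁻¹)⁻¹ * a * g⁻¹) := by group
    have h2 : (g * a * g⁻¹) ^ p = a ^ p := by
      rw [h1, hmul, hzp _ (hcomm a g⁻¹), mul_one]
    rw [conj_pow] at h2
    calc g * a ^ p = (g * a ^ p * g⁻¹) * g := by group
      _ = a ^ p * g := by rw [h2]
  -- Step 3: W = kernel of the p-power map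
  obtain ⟨φ, hφ⟩ : ∃ φ : E →* E, ∀ x, φ x = x ^ p :=
    ⟨⟨⟨fun x => x ^ p, one_pow p⟩, hmul⟩, fun _ => rfl⟩
  have hWmem : ∀ x, x ∈ φ.ker ↔ x ^ p = 1 := by
    intro x; rw [MonoidHom.mem_ker, hφ]
  have hrange : Nat.card φ.range = p := by
    have hle : φ.range ≤ Subgroup.center E := by
      rintro _ ⟨a, rfl⟩
      rw [hφ]; exact hpc a
    have hd : Nat.card φ.range ∣ p := hZ ▸ Subgroup.card_dvd_of_le hle
    rcases (Nat.dvd_prime hp).1 hd with h | h
    · exfalso
      have hbot : φ.range = ⊥ := Subgroup.card_eq_one.1 h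
      have h6 : φ y ∈ φ.range := ⟨y, rfl⟩
      rw [hbot, Subgroup.mem_bot, hφ] at h6
      exact hy h6
    · exact h
  have hW : Nat.card φ.ker = p ^ 2 := by
    have h := Subgroup.card_mul_index φ.ker
    rw [Subgroup.index_ker φ, hrange, hE] at h
    have h5 : Nat.card φ.ker * p = p ^ 2 * p := by rw [h]; ring
    exact Nat.eq_of_mul_eq_mul_right hp.pos h5
  have hZW : Subgroup.center E ≤ φ.ker := fun z hz => (hWmem z).2 (hzp z hz)
  have hZinv : ∀ (β : MulAut E) (z : E), z ∈ Subgroup.center E → β z ∈ Subgroup.center E := by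
    intro β z hz
    rw [Subgroup.mem_center_iff] at hz ⊢
    intro g
    have h := congrArg β (hz (β⁻¹ g))
    simpa using h
  have hWinv : ∀ (β : MulAut E) (w : E), w ∈ φ.ker → β w ∈ φ.ker := by
    intro β w hw
    rw [hWmem] at hw ⊢
    rw [← map_pow, hw, map_one]
  have hBinv : ∀ (β : MulAut E) (u : E), u ∈ (⊥ : Subgroup E) → β u ∈ (⊥ : Subgroup E) := by
    intro β u hu
    rw [Subgroup.mem_bot] at hu ⊢
    rw [hu, map_one]
  have hTinv : ∀ (β : MulAut E) (u : E), u ∈ (⊤ : Subgroup E) → β u ∈ (⊤ : Subgroup E) :=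
    fun _ _ _ => Subgroup.mem_top _
  have n1 := h51_secStab_normal ⊥ (Subgroup.center E) hBinv hZinv
  have n2 := h51_secStab_normal (Subgroup.center E) φ.ker hZinv hWinv
  have n3 := h51_secStab_normal φ.ker ⊤ hWinv hTinv
  refine ⟨h51_secStab ⊥ (Subgroup.center E) hBinv hZinv ⊓
    h51_secStab (Subgroup.center E) φ.ker hZinv hWinv ⊓ h51_secStab φ.ker ⊤ hWinv hTinv,
    inferInstance, ?_, ?_⟩
  · -- p-group
    rintro ⟨α, hα⟩
    have h12 := (Subgroup.mem_inf.1 hα).1
    have h3 := (Subgroup.mem_inf.1 hα).2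
    have h1 := (Subgroup.mem_inf.1 h12).1
    have h2 := (Subgroup.mem_inf.1 h12).2
    rw [h51_secStab_mem] at h1 h2
    refine ⟨2, Subtype.ext ?_⟩
    show α ^ (p ^ 2) = 1
    have hfixZ : ∀ z ∈ Subgroup.center E, α z = z := by
      intro z hz
      exact (inv_mul_eq_one.1 (Subgroup.mem_bot.1 (h1 z hz))).symm
    have hfixW : ∀ w ∈ φ.ker, (α ^ p) w = w :=
      fun w hw => h51_fix_pow p (Subgroup.center E) φ.ker hzp α hfixZ h2 w hw
    have h3' : α ^ p ∈ h51_secStab φ.ker ⊤ hWinv hTinv := Subgroup.pow_mem _ h3 p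
    rw [h51_secStab_mem] at h3'
    apply MulEquiv.ext
    intro e
    rw [sq, pow_mul]
    exact h51_fix_pow p φ.ker ⊤ (fun w hw => (hWmem w).1 hw) (α ^ p) hfixW h3' e (Subgroup.mem_top e)
  · intro α
    refine Subgroup.mem_inf.2 ⟨Subgroup.mem_inf.2 ⟨?_, ?_⟩, ?_⟩
    · rw [h51_secStab_mem]
      intro v hv
      exact h51_sec_pow p ⊥ (Subgroup.center E) bot_le (by rw [hZ, Subgroup.card_bot, mul_one])
        (fun z hz => Subgroup.mem_bot.2 (hzp z hz)) hBinv hZinv α v hv
    · rw [h51_secStab_mem]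
      intro v hv
      exact h51_sec_pow p (Subgroup.center E) φ.ker hZW (by rw [hW, hZ, sq])
        (fun w hw => by rw [(hWmem w).1 hw]; exact Subgroup.one_mem _) hZinv hWinv α v hv
    · rw [h51_secStab_mem]
      intro v hv
      exact h51_sec_pow p φ.ker ⊤ le_top (by rw [Subgroup.card_top, hE, hW]; ring)
        (fun e _ => (hWmem _).2 (hzp _ (hpc e))) hWinv hTinv α v hv

end Cfsg.Agent.Lib.helper51
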