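import Mathlib
import Cfsg.Agent.Lib.helper69.StemSylow

/-! S2111 piece C: the norm argument for the preimage of the Sylow 2-subgroup of a Suzuki group in a
central extension. -/

set_option autoImplicit false

namespace Cfsg.Agent.Lib.helper51.S2111

open scoped commutatorElement

theorem helper51_comm_mul_left_of_comm {Γ : Type*} [Group Γ] (x y k : Γ) (h : k * y = y * k) :
    ⁅x * k, y⁆ = ⁅x, y⁆ := by
  rw [commutatorElement_def, commutatorElement_def]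
  calc x * k * y * (x * k)⁻¹ * y⁻¹ = x * (k * y) * k⁻¹ * x⁻¹ * y⁻¹ := by group
    _ = x * (y * k) * k⁻¹ * x⁻¹ * y⁻¹ := by rw [h]
    _ = x * y * x⁻¹ * y⁻¹ := by group

theorem helper51_comm_mul_right_of_comm {Γ : Type*} [Group Γ] (x y k : Γ) (h : k * x = x * k) :
    ⁅x, y * k⁆ = ⁅x, y⁆ := by
  have h' : k * x⁻¹ = x⁻¹ * k := by
    calc k * x⁻¹ = x⁻¹ * (x * k) * x⁻¹ := by group
      _ = x⁻¹ * (k * x) * x⁻¹ := by rw [h]
      _ = x⁻¹ * k := by group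
  rw [commutatorElement_def, commutatorElement_def]
  calc x * (y * k) * x⁻¹ * (y * k)⁻¹ = x * y * (k * x⁻¹) * k⁻¹ * y⁻¹ := by group
    _ = x * y * (x⁻¹ * k) * k⁻¹ * y⁻¹ := by rw [h']
    _ = x * y * x⁻¹ * y⁻¹ := by group

theorem helper51_comm_mul_left_split {Γ : Type*} [Group Γ] (x x' y : Γ)
    (h1 : ⁅x', y⁆ * x = x * ⁅x', y⁆) (h2 : ⁅x', y⁆ * ⁅x, y⁆ = ⁅x, y⁆ * ⁅x', y⁆) :
    ⁅x * x', y⁆ = ⁅x, y⁆ * ⁅x', y⁆ := by
  calc ⁅x * x', y⁆ = x * ⁅x', y⁆ * y * x⁻¹ * y⁻¹ := by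
        rw [commutatorElement_def, commutatorElement_def]; group
    _ = ⁅x', y⁆ * x * y * x⁻¹ * y⁻¹ := by rw [h1]
    _ = ⁅x', y⁆ * ⁅x, y⁆ := by rw [commutatorElement_def x y]; group
    _ = ⁅x, y⁆ * ⁅x', y⁆ := h2

theorem helper51_comm_mul_right_split {Γ : Type*} [Group Γ] (x y y' : Γ)
    (h1 : ⁅x, y'⁆ * y = y * ⁅x, y'⁆) :
    ⁅x, y * y'⁆ = ⁅x, y⁆ * ⁅x, y'⁆ := by
  have h' : ⁅x, y'⁆ * y⁻¹ = y⁻¹ * ⁅x, y'⁆ := by
    calc ⁅x, y'⁆ * y⁻¹ = y⁻¹ * (y * ⁅x, y'⁆) * y⁻¹ := by group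
      _ = y⁻¹ * (⁅x, y'⁆ * y) * y⁻¹ := by rw [h1]
      _ = y⁻¹ * ⁅x, y'⁆ := by group
  calc ⁅x, y * y'⁆ = x * y * x⁻¹ * (⁅x, y'⁆ * y⁻¹) := by
        rw [commutatorElement_def, commutatorElement_def]; group
    _ = x * y * x⁻¹ * (y⁻¹ * ⁅x, y'⁆) := by rw [h']
    _ = ⁅x, y⁆ * ⁅x, y'⁆ := by rw [commutatorElement_def x y]; group

theorem helper51_conj_commutatorElement {Γ : Type*} [Group Γ] (g x y : Γ) :
    g * ⁅x, y⁆ * g⁻¹ = ⁅g * x * g⁻¹, g * y * g⁻¹⁆ := by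
  rw [commutatorElement_def, commutatorElement_def]; group

/-- PIECE C: the norm argument. -/
theorem helper51_stepC {G Γ F : Type*} [Group G] [Group Γ] [Field F] [Fintype F] (σ : Γ →* G)
    (hsurj : Function.Surjective σ) (hc : σ.ker ≤ Subgroup.center Γ) (e : ℕ) (he : e ≠ 0)
    (h2 : (2 : F) = 0) (hodd : Odd (Nat.card Fˣ))
    (t : F → F → G) (ht : ∀ a b c d, t a b * t c d = t (a + c) (b + d + a ^ e * c))
    (htor : ∀ μ : F, μ ≠ 0 → ∃ h : G, ∀ a b, h * t a b * h⁻¹ = t (μ * a) (μ * μ ^ e * b))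
    (hB : ∀ x y : Γ, (∃ a b, σ x = t a b) → (∃ w, σ y = t 0 w) → x * y = y * x)
    (hpair : ∀ B : F → F → Γ, (∀ s s' t, B (s + s') t = B s t * B s' t) →
      (∀ s t t', B s (t + t') = B s t * B s t') →
      (∀ c s t, c ≠ 0 → B (c * s) (c * t) = B s t) → ∀ s t, B s t = 1)
    (P : Subgroup G) (hP : ∀ g, g ∈ P ↔ ∃ a b, g = t a b) :
    ∀ w ∈ σ.ker, w ∈ ⁅P.comap σ, P.comap σ⁆ → w = 1 := by
  classical
  obtain ⟨ℓ, hℓ⟩ := hsurj.hasRightInverse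
  have h0e : (0 : F) ^ e = 0 := zero_pow he
  have hadd2 : ∀ w : F, w + w = 0 := fun w => by rw [← two_mul, h2, zero_mul]
  -- basic identities in `G`
  have ht0 : ∀ a b w, t a b * t 0 w = t a (b + w) := by
    intro a b w
    rw [ht, add_zero, mul_zero, add_zero]
  have h00 : t 0 0 = 1 := by
    have h1 := ht0 0 0 0
    rw [add_zero] at h1
    exact mul_left_cancel (a := t 0 0) (by rw [h1, mul_one])
  have ht0' : ∀ a b w, t 0 w * t a b = t a (b + w) := by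
    intro a b w
    rw [ht, h0e, zero_mul, add_zero, zero_add, add_comm]
  have htinv : ∀ w, (t 0 w)⁻¹ = t 0 w := by
    intro w
    apply inv_eq_of_mul_eq_one_right
    rw [ht0, hadd2, h00]
  -- the centre subgroup
  let Z₀ : Subgroup G :=
    { carrier := {g | ∃ w, g = t 0 w}
      mul_mem' := by
        rintro _ _ ⟨w, rfl⟩ ⟨w', rfl⟩
        exact ⟨w + w', ht0 0 w w'⟩
      one_mem' := ⟨0, h00.symm⟩
      inv_mem' := by
        rintro _ ⟨w, rfl⟩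
        exact ⟨w, htinv w⟩ }
  let K : Subgroup Γ := Z₀.comap σ
  have hKmem : ∀ k : Γ, k ∈ K ↔ ∃ w, σ k = t 0 w := fun k => Iff.rfl
  have hPmem : ∀ x : Γ, x ∈ P.comap σ ↔ ∃ a b, σ x = t a b := fun x => by
    rw [Subgroup.mem_comap, hP]
  -- elements of `K` commute with lifts of `P`
  have hKc : ∀ (k x : Γ), k ∈ K → (∃ a b, σ x = t a b) → k * x = x * k :=
    fun k x hk hx => (hB x k hx ((hKmem k).1 hk)).symm
  have hKP : ∀ k : Γ, k ∈ K → ∃ a b, σ k = t a b := by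
    intro k hk
    obtain ⟨w, hw⟩ := (hKmem k).1 hk
    exact ⟨0, w, hw⟩
  -- commutators of lifts of `P` lie in `K`
  have hcomK : ∀ x y : Γ, (∃ a b, σ x = t a b) → (∃ a b, σ y = t a b) → ⁅x, y⁆ ∈ K := by
    rintro x y ⟨a, b, hx⟩ ⟨a', b', hy⟩
    rw [hKmem]
    refine ⟨a ^ e * a' - a' ^ e * a, ?_⟩
    rw [map_commutatorElement, hx, hy, commutatorElement_def]
    have e1 : t a b * t a' b' = t 0 (a ^ e * a' - a' ^ e * a) * (t a' b' * t a b) := by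
      rw [ht a' b' a b, ht0', ht]
      congr 1
      · rw [add_comm]
      · ring
    rw [e1]
    group
  -- the commutator only depends on the first coordinates
  have hdep : ∀ x x' y y' : Γ, ∀ a b b' c d d' : F, σ x = t a b → σ x' = t a b' → σ y = t c d →
      σ y' = t c d' → ⁅x, y⁆ = ⁅x', y'⁆ := by
    intro x x' y y' a b b' c d d' hx hx' hy hy'
    have hk1 : x⁻¹ * x' ∈ K := by
      rw [hKmem]
      refine ⟨b' - b, ?_⟩
      rw [map_mul, map_inv, hx, hx']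
      rw [inv_mul_eq_iff_eq_mul, ht0]
      congr 1
      ring
    have hk2 : y⁻¹ * y' ∈ K := by
      rw [hKmem]
      refine ⟨d' - d, ?_⟩
      rw [map_mul, map_inv, hy, hy']
      rw [inv_mul_eq_iff_eq_mul, ht0]
      congr 1
      ring
    have ex : x' = x * (x⁻¹ * x') := by group
    have ey : y' = y * (y⁻¹ * y') := by group
    rw [ex, ey]
    rw [helper51_comm_mul_left_of_comm _ _ _
      (hKc _ _ hk1 ⟨c, d', by rw [← ey]; exact hy'⟩)]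
    rw [helper51_comm_mul_right_of_comm _ _ _ (hKc _ _ hk2 ⟨a, b, hx⟩)]
  -- K is commutative
  have hKcomm : ∀ k k' : ↥K, k * k' = k' * k :=
    fun k k' => Subtype.ext (hKc k k' k.2 (hKP k' k'.2))
  let instK : CommGroup ↥K := { (inferInstance : Group ↥K) with mul_comm := hKcomm }
  -- the pairing
  let γ : F → F → ↥K := fun a a' =>
    ⟨⁅ℓ (t a 0), ℓ (t a' 0)⁆, hcomK _ _ ⟨a, 0, hℓ _⟩ ⟨a', 0, hℓ _⟩⟩
  have hγ : ∀ (x y : Γ) (a b a' b' : F), σ x = t a b → σ y = t a' b' →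
      ⁅x, y⁆ = (γ a a' : Γ) := by
    intro x y a b a' b' hx hy
    exact hdep x _ y _ a b 0 a' b' 0 hx (hℓ _) hy (hℓ _)
  have hγl : ∀ s s' u, γ (s + s') u = γ s u * γ s' u := by
    intro s s' u
    apply Subtype.ext
    rw [Subgroup.coe_mul]
    have e1 : ⁅ℓ (t s 0) * ℓ (t s' 0), ℓ (t u 0)⁆ = (γ (s + s') u : Γ) :=
      hγ _ _ (s + s') (0 + 0 + s ^ e * s') u 0 (by rw [map_mul, hℓ, hℓ, ht]) (hℓ _)
    rw [← e1]
    apply helper51_comm_mul_left_split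
    · exact hKc _ _ (γ s' u).2 ⟨s, 0, hℓ _⟩
    · exact hKc _ _ (γ s' u).2 (hKP _ (γ s u).2)
  have hγr : ∀ s u u', γ s (u + u') = γ s u * γ s u' := by
    intro s u u'
    apply Subtype.ext
    rw [Subgroup.coe_mul]
    have e1 : ⁅ℓ (t s 0), ℓ (t u 0) * ℓ (t u' 0)⁆ = (γ s (u + u') : Γ) :=
      hγ _ _ s 0 (u + u') (0 + 0 + u ^ e * u') (hℓ _) (by rw [map_mul, hℓ, hℓ, ht])
    rw [← e1]
    apply helper51_comm_mul_right_split
    exact hKc _ _ (γ s u').2 ⟨u, 0, hℓ _⟩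
  have hγ0 : ∀ u, γ 0 u = 1 := by
    intro u
    have h1 := hγl 0 0 u
    rw [add_zero] at h1
    exact mul_left_cancel (a := γ 0 u) (by rw [← h1, mul_one])
  have hγsq : ∀ s u, γ s u ^ 2 = 1 := by
    intro s u
    rw [pow_two, ← hγl, hadd2, hγ0]
  -- the torus
  choose H hH using fun ν : Fˣ => htor (ν : F) ν.ne_zero
  have hconjK : ∀ (ν : Fˣ) (k : Γ), k ∈ K → ℓ (H ν) * k * (ℓ (H ν))⁻¹ ∈ K := by
    intro ν k hk
    obtain ⟨w, hw⟩ := (hKmem k).1 hk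
    rw [hKmem]
    refine ⟨(ν : F) * (ν : F) ^ e * w, ?_⟩
    rw [map_mul, map_mul, map_inv, hℓ, hw, hH, mul_zero]
  let cj : Fˣ → (↥K →* ↥K) := fun ν =>
    MonoidHom.mk' (fun k => ⟨ℓ (H ν) * k * (ℓ (H ν))⁻¹, hconjK ν k k.2⟩)
      (fun a b => Subtype.ext (by
        show ℓ (H ν) * ((a : Γ) * (b : Γ)) * (ℓ (H ν))⁻¹ =
          ℓ (H ν) * (a : Γ) * (ℓ (H ν))⁻¹ * (ℓ (H ν) * (b : Γ) * (ℓ (H ν))⁻¹)
        group))
  have hcj : ∀ (ν : Fˣ) (k : ↥K), ((cj ν k : ↥K) : Γ) = ℓ (H ν) * k * (ℓ (H ν))⁻¹ :=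
    fun ν k => rfl
  have hcjγ : ∀ (ν : Fˣ) (s u : F), cj ν (γ s u) = γ ((ν : F) * s) ((ν : F) * u) := by
    intro ν s u
    apply Subtype.ext
    rw [hcj]
    show ℓ (H ν) * ⁅ℓ (t s 0), ℓ (t u 0)⁆ * (ℓ (H ν))⁻¹ = _
    rw [helper51_conj_commutatorElement]
    exact hγ _ _ ((ν : F) * s) ((ν : F) * (ν : F) ^ e * 0) ((ν : F) * u)
      ((ν : F) * (ν : F) ^ e * 0)
      (by rw [map_mul, map_mul, map_inv, hℓ, hℓ, hH])
      (by rw [map_mul, map_mul, map_inv, hℓ, hℓ, hH])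
  let N : ↥K →* ↥K := ∏ ν : Fˣ, cj ν
  have hN : ∀ k : ↥K, N k = ∏ ν : Fˣ, cj ν k := fun k => MonoidHom.finsetProd_apply _ _ _
  have hNγ : ∀ s u, N (γ s u) = 1 := by
    intro s u
    have key := hpair (fun a a' => ((N (γ a a') : ↥K) : Γ)) ?_ ?_ ?_ s u
    · exact Subtype.ext key
    · intro a a' b
      show ((N (γ (a + a') b) : ↥K) : Γ) = (N (γ a b) : ↥K) * (N (γ a' b) : ↥K)
      rw [hγl, map_mul, Subgroup.coe_mul]
    · intro a b b'
      show ((N (γ a (b + b')) : ↥K) : Γ) = (N (γ a b) : ↥K) * (N (γ a b') : ↥K)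
      rw [hγr, map_mul, Subgroup.coe_mul]
    · intro c a b hc0
      show ((N (γ (c * a) (c * b)) : ↥K) : Γ) = (N (γ a b) : ↥K)
      congr 1
      rw [hN, hN]
      have e1 : ∀ ν : Fˣ, cj ν (γ (c * a) (c * b)) =
          cj (ν * Units.mk0 c hc0) (γ a b) := by
        intro ν
        rw [hcjγ, hcjγ]
        congr 1
        · rw [Units.val_mul, Units.val_mk0, mul_assoc]
        · rw [Units.val_mul, Units.val_mk0, mul_assoc]
      rw [Finset.prod_congr rfl (fun ν _ => e1 ν)]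
      exact Equiv.prod_comp (Equiv.mulRight (Units.mk0 c hc0)) (fun ν => cj ν (γ a b))
  -- the commutator subgroup lies in the kernel of `N` and has exponent 2
  have hle : ⁅P.comap σ, P.comap σ⁆ ≤
      (N.ker ⊓ (powMonoidHom 2 : ↥K →* ↥K).ker).map K.subtype := by
    rw [Subgroup.commutator_le]
    intro x hx y hy
    obtain ⟨a, b, hxa⟩ := (hPmem x).1 hx
    obtain ⟨a', b', hya⟩ := (hPmem y).1 hy
    rw [hγ x y a b a' b' hxa hya]
    refine Subgroup.mem_map.2 ⟨γ a a', Subgroup.mem_inf.2 ⟨?_, ?_⟩, rfl⟩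
    · rw [MonoidHom.mem_ker]; exact hNγ a a'
    · rw [MonoidHom.mem_ker]; exact hγsq a a'
  intro w hwk hw
  obtain ⟨k, hk, hkw⟩ := Subgroup.mem_map.1 (hle hw)
  obtain ⟨hk1, hk2⟩ := Subgroup.mem_inf.1 hk
  rw [MonoidHom.mem_ker] at hk1 hk2
  have hkw' : (k : Γ) = w := hkw
  have hwc : w ∈ Subgroup.center Γ := hc hwk
  rw [Subgroup.mem_center_iff] at hwc
  have hfix : ∀ ν : Fˣ, cj ν k = k := by
    intro ν
    apply Subtype.ext
    rw [hcj, hkw', hwc (ℓ (H ν)), mul_inv_cancel_right]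
  have hpow : k ^ Fintype.card Fˣ = 1 := by
    rw [← hk1, hN, Finset.prod_congr rfl (fun ν _ => hfix ν), Finset.prod_const, Finset.card_univ]
  have hk2' : k ^ 2 = 1 := hk2
  rw [Nat.card_eq_fintype_card] at hodd
  obtain ⟨j, hj⟩ := hodd
  rw [hj, pow_succ, pow_mul, hk2', one_pow, one_mul] at hpow
  rw [← hkw', hpow]
  rfl

end Cfsg.Agent.Lib.helper51.S2111
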