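import Mathlib
import Cfsg.Agent.Lib.helper8.SzBase

/-! S2111 piece F2: the auxiliary field element for the mixed pairing. -/

set_option autoImplicit false

namespace Cfsg.Agent.Lib.helper51.S2111

open Cfsg.Agent.Lib.helper8

open Polynomial in
theorem helper51_field_pt_aux {F : Type*} [Field F] [Fintype F] (e : ℕ) (he : e ≠ 0)
    (hcard : 2 * e + 4 < Fintype.card F) :
    ∃ x : F, x ≠ 0 ∧ x + 1 ≠ 0 ∧
      x ^ (2 * e + 2) + x ^ (2 * e + 1) + x ^ (e + 2) + x ^ (e + 1) + x ^ e + x + 1 ≠ 0 := by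
  have h1 : (X + 1 : F[X]) ≠ 0 := fun h => by
    have := congrArg (eval 0) h
    simp at this
  have h3 : (X ^ (2 * e + 2) + X ^ (2 * e + 1) + X ^ (e + 2) + X ^ (e + 1) + X ^ e + X + 1 : F[X])
      ≠ 0 := fun h => by
    have := congrArg (eval 0) h
    simp [he] at this
  have hf : (X * (X + 1) * (X ^ (2 * e + 2) + X ^ (2 * e + 1) + X ^ (e + 2) + X ^ (e + 1) +
      X ^ e + X + 1) : F[X]) ≠ 0 := mul_ne_zero (mul_ne_zero X_ne_zero h1) h3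
  have hdeg : (X * (X + 1) * (X ^ (2 * e + 2) + X ^ (2 * e + 1) + X ^ (e + 2) + X ^ (e + 1) +
      X ^ e + X + 1) : F[X]).natDegree ≤ 2 * e + 4 := by
    compute_degree <;> omega
  obtain ⟨a, ha⟩ := exists_eval_ne_zero_of_natDegree_lt_card _ hf (by
    rw [Cardinal.mk_fintype]
    exact_mod_cast lt_of_le_of_lt hdeg hcard)
  simp only [eval_mul, eval_X, eval_add, eval_one, eval_pow] at ha
  have ha0 : a ≠ 0 := fun h => ha (by rw [h]; ring)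
  have ha1 : a + 1 ≠ 0 := fun h => ha (by rw [h]; ring)
  have ha2 : a ^ (2 * e + 2) + a ^ (2 * e + 1) + a ^ (e + 2) + a ^ (e + 1) + a ^ e + a + 1 ≠ 0 :=
    fun h => ha (by rw [h]; ring)
  exact ⟨a, ha0, ha1, ha2⟩

/-- PIECE F2. -/
theorem helper51_field_pt {F : Type*} [Field F] [Fintype F] {m : ℕ} (hm : 2 ≤ m)
    (hF : Fintype.card F = 2 ^ (2 * m + 1)) :
    ∃ x : F, x ≠ 0 ∧ x + 1 ≠ 0 ∧
      ((x + 1) * (x + 1) ^ 2 ^ (m + 1))⁻¹ + (x * x ^ 2 ^ (m + 1))⁻¹ + 1 ≠ 0 := by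
  have h := szHyp_of_card hF
  have h2 : (2 : F) = 0 := h.two
  have he : (2 : ℕ) ^ (m + 1) ≠ 0 := by positivity
  have hcard : 2 * 2 ^ (m + 1) + 4 < Fintype.card F := by
    rw [hF]
    obtain ⟨k, rfl⟩ : ∃ k, m = k + 2 := ⟨m - 2, by omega⟩
    have e1 : 2 ^ (2 * (k + 2) + 1) = 2 ^ (k + 2 + 1) * (4 * 2 ^ k) := by
      rw [show 2 * (k + 2) + 1 = (k + 2 + 1) + (2 + k) by ring, pow_add, pow_add 2 2 k]
      norm_num
    have e2 : 1 ≤ 2 ^ k := Nat.one_le_two_pow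
    have e3 : 8 ≤ 2 ^ (k + 2 + 1) := by
      calc 8 = 2 ^ 3 := by norm_num
        _ ≤ 2 ^ (k + 2 + 1) := Nat.pow_le_pow_right (by norm_num) (by omega)
    rw [e1]
    nlinarith
  obtain ⟨x, hx0, hx1, hp⟩ := helper51_field_pt_aux (F := F) (2 ^ (m + 1)) he hcard
  refine ⟨x, hx0, hx1, ?_⟩
  have hadd : (x + 1) ^ 2 ^ (m + 1) = x ^ 2 ^ (m + 1) + 1 := by
    have := th_add h x 1
    rw [th_one] at this
    exact this
  rw [hadd]
  have hxe : x ^ 2 ^ (m + 1) ≠ 0 := pow_ne_zero _ hx0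
  have hxe1 : x ^ 2 ^ (m + 1) + 1 ≠ 0 := by
    rw [← hadd]
    exact pow_ne_zero _ hx1
  have hA : (x + 1) * (x ^ 2 ^ (m + 1) + 1) ≠ 0 := mul_ne_zero hx1 hxe1
  have hB : x * x ^ 2 ^ (m + 1) ≠ 0 := mul_ne_zero hx0 hxe
  intro hκ
  apply hp
  have e1 : ((x + 1) * (x ^ 2 ^ (m + 1) + 1))⁻¹ + (x * x ^ 2 ^ (m + 1))⁻¹ + 1 =
      (x * x ^ 2 ^ (m + 1) + (x + 1) * (x ^ 2 ^ (m + 1) + 1) +
        (x + 1) * (x ^ 2 ^ (m + 1) + 1) * (x * x ^ 2 ^ (m + 1))) /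
        ((x + 1) * (x ^ 2 ^ (m + 1) + 1) * (x * x ^ 2 ^ (m + 1))) := by
    field_simp
  rw [e1, div_eq_zero_iff] at hκ
  rcases hκ with hκ | hκ
  · generalize (2 : ℕ) ^ (m + 1) = e at hκ ⊢
    linear_combination hκ - x ^ (e + 1) * h2
  · exact absurd hκ (mul_ne_zero hA hB)

end Cfsg.Agent.Lib.helper51.S2111
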