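import Mathlib
import Cfsg.Agent.Lib.helper8.SzPartition
import Cfsg.Agent.S0324

/-! S2111 piece ODD: for every odd prime `r` the Suzuki group has a cyclic subgroup of index prime
to `r` (one of the three tori). -/

set_option autoImplicit false

namespace Cfsg.Agent.Lib.helper51.S2111

open Cfsg.Agent.Lib.helper8

theorem helper51_odd_arith (q s c₂ N i₀ i₁ i₂ r : ℕ) (hr : r.Prime) (hr2 : r ≠ 2) (k j : ℕ)
    (hq : q = 2 ^ k) (hk : 1 ≤ k) (hs : s = 2 ^ j) (hss : s * s = 2 * q) (hc₂ : c₂ + s = q + 1)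
    (hN : N = q ^ 2 * (q ^ 2 + 1) * (q - 1))
    (h₀ : i₀ * (q - 1) = N) (h₁ : i₁ * (q + s + 1) = N) (h₂ : i₂ * c₂ = N) :
    ¬ r ∣ i₀ ∨ ¬ r ∣ i₁ ∨ ¬ r ∣ i₂ := by
  have hr2' : ¬ r ∣ 2 := fun hd => hr2 ((Nat.prime_dvd_prime_iff_eq hr Nat.prime_two).1 hd)
  have hrq : ¬ r ∣ q := by
    intro hd
    rw [hq] at hd
    exact hr2' (hr.dvd_of_dvd_pow hd)
  have hrq2 : ¬ r ∣ q ^ 2 := fun hd => hrq (hr.dvd_of_dvd_pow hd)
  have hrs : ¬ r ∣ 2 * s := by
    intro hd
    rw [hs] at hd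
    rcases hr.dvd_mul.1 hd with hd | hd
    · exact hr2' hd
    · exact hr2' (hr.dvd_of_dvd_pow hd)
  have hq2 : 2 ≤ q := by
    rw [hq]
    calc 2 = 2 ^ 1 := by norm_num
      _ ≤ 2 ^ k := Nat.pow_le_pow_right (by norm_num) hk
  have hfac : (q + s + 1) * c₂ = q ^ 2 + 1 := by
    have h1 : (c₂ : ℤ) = q + 1 - s := by
      have := congrArg (Nat.cast : ℕ → ℤ) hc₂
      push_cast at this
      linarith
    have h2 : (s : ℤ) * s = 2 * q := by exact_mod_cast hss
    have h3 : (((q + s + 1) * c₂ : ℕ) : ℤ) = ((q ^ 2 + 1 : ℕ) : ℤ) := by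
      push_cast
      rw [h1]
      linear_combination (-1 : ℤ) * h2
    exact_mod_cast h3
  have hc₂pos : 0 < c₂ := by
    rcases Nat.eq_zero_or_pos c₂ with h | h
    · rw [h, mul_zero] at hfac
      omega
    · exact h
  by_cases h0 : r ∣ q - 1
  · left
    intro hi
    have e : i₀ = q ^ 2 * (q ^ 2 + 1) := by
      apply Nat.eq_of_mul_eq_mul_right (show 0 < q - 1 by omega)
      rw [h₀, hN]
    rw [e] at hi
    rcases hr.dvd_mul.1 hi with hd | hd
    · exact hrq2 hd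
    · obtain ⟨u, rfl⟩ : ∃ u, q = u + 1 := ⟨q - 1, by omega⟩
      have e2 : (u + 1) ^ 2 + 1 = u * (u + 2) + 2 := by ring
      rw [e2] at hd
      have hu : r ∣ u := by simpa using h0
      exact hr2' ((Nat.dvd_add_right (Dvd.dvd.mul_right hu _)).1 hd)
  · by_cases h1 : r ∣ q + s + 1
    · right; left
      intro hi
      have e : i₁ = q ^ 2 * c₂ * (q - 1) := by
        apply Nat.eq_of_mul_eq_mul_right (show 0 < q + s + 1 by omega)
        rw [h₁, hN, ← hfac]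
        ring
      rw [e] at hi
      rcases hr.dvd_mul.1 hi with hd | hd
      · rcases hr.dvd_mul.1 hd with hd | hd
        · exact hrq2 hd
        · have e2 : q + s + 1 = c₂ + 2 * s := by omega
          rw [e2] at h1
          exact hrs ((Nat.dvd_add_right hd).1 h1)
      · exact h0 hd
    · right; right
      intro hi
      have e : i₂ = q ^ 2 * (q + s + 1) * (q - 1) := by
        apply Nat.eq_of_mul_eq_mul_right hc₂pos
        rw [h₂, hN, ← hfac]
        ring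
      rw [e] at hi
      rcases hr.dvd_mul.1 hi with hd | hd
      · rcases hr.dvd_mul.1 hd with hd | hd
        · exact hrq2 hd
        · exact h1 hd
      · exact h0 hd

/-- PIECE ODD: cyclic subgroups of index prime to `r` for every odd prime `r`. -/
theorem helper51_odd_cyclic {F : Type*} [Field F] [Fintype F] {m : ℕ} (hm : 1 ≤ m)
    (hF : Fintype.card F = 2 ^ (2 * m + 1)) (r : ℕ) (hr : r.Prime) (hr2 : r ≠ 2) :
    ∃ R : Subgroup ↥(Cfsg.Sz F m), IsCyclic ↥R ∧ ¬ r ∣ R.index := by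
  classical
  have h := szHyp_of_card hF
  have hG := Cfsg.Agent.S0324.result hm hF
  obtain ⟨g₁, g₂, hf₁, hf₂, hc₁, hc₂, -, -, -⟩ := tori_structure hm hF
  have hcy₁ := cent_cyclic_fpf hm hF g₁ hf₁
  have hcy₂ := cent_cyclic_fpf hm hF g₂ hf₂
  obtain ⟨z, hz⟩ : ∃ z : Fˣ, z ≠ 1 := by
    have : Nontrivial Fˣ := by
      rw [← Fintype.one_lt_card_iff_nontrivial, Fintype.card_units, hF]
      have : 2 ^ 3 ≤ 2 ^ (2 * m + 1) := Nat.pow_le_pow_right (by norm_num) (by omega)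
      omega
    exact exists_ne 1
  have hconj : (1 : Matrix.SpecialLinearGroup (Fin 4) F) * (gD h z).1 * 1⁻¹ = sD m z := by
    rw [one_mul, inv_one, mul_one]
    rfl
  have hc₀ := card_cent_torus hm hF (gD h z) (Subgroup.one_mem _) hz hconj
  have hcy₀ := cent_cyclic_torus hm hF (gD h z) (Subgroup.one_mem _) hz hconj
  have hi₀ := Subgroup.index_mul_card (Subgroup.centralizer ({gD h z} : Set ↥(Cfsg.Sz F m)))
  have hi₁ := Subgroup.index_mul_card (Subgroup.centralizer ({g₁} : Set ↥(Cfsg.Sz F m)))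
  have hi₂ := Subgroup.index_mul_card (Subgroup.centralizer ({g₂} : Set ↥(Cfsg.Sz F m)))
  rw [hc₀] at hi₀
  rw [hc₁] at hi₁
  have hss : 2 ^ (m + 1) * 2 ^ (m + 1) = 2 * 2 ^ (2 * m + 1) := by
    rw [← pow_add, ← pow_succ']
    congr 1
    omega
  rcases helper51_odd_arith (2 ^ (2 * m + 1)) (2 ^ (m + 1))
    (Nat.card (Subgroup.centralizer ({g₂} : Set ↥(Cfsg.Sz F m))))
    (Nat.card ↥(Cfsg.Sz F m)) _ _ _ r hr hr2 (2 * m + 1) (m + 1) rfl (by omega) rfl hss hc₂ hG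
    hi₀ hi₁ hi₂ with h0 | h1 | h2
  · exact ⟨_, hcy₀, h0⟩
  · exact ⟨_, hcy₁, h1⟩
  · exact ⟨_, hcy₂, h2⟩

end Cfsg.Agent.Lib.helper51.S2111
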