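import Mathlib
import Cfsg.Agent.Lib.helper69.StemSylow
import Cfsg.Agent.Lib.helper69.SL2Mult
import Cfsg.Agent.Lib.helper8.SzPartition
import Cfsg.Agent.Lib.helper8.SzAut2
import Cfsg.Agent.Lib.helper44.SzIso
import Cfsg.Agent.S0324
import Cfsg.Agent.Lib.helper61.S2111A
import Cfsg.Agent.Lib.helper61.S2111B
import Cfsg.Agent.Lib.helper97.S2111PAIR2
import Cfsg.Agent.Lib.helper51.S2111C
import Cfsg.Agent.Lib.helper51.S2111ODD
import Cfsg.Agent.Lib.helper51.S2111F2
import Cfsg.Agent.Lib.helper51.S2111SYL2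

/-! S2111 assembly: the Schur multiplier of `Sz(q)`, `q = 2^(2m+1) ≥ 32`, is trivial.
Transfer to the preimages of a Sylow 2-subgroup (pieces A, B, C with the field lemmas F2, PAIR2) and of
the three cyclic tori (piece ODD). -/

set_option autoImplicit false

namespace Cfsg.Agent.Lib.helper51.S2111

open scoped commutatorElement
open Cfsg.Agent.Lib.helper8

/-! ### Assembly (helper51) -/

theorem helper51_sz_model_tor {F : Type*} [Field F] [Fintype F] {m : ℕ} (h : SzHyp F m) :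
    ∀ μ : F, μ ≠ 0 → ∃ g : ↥(Cfsg.Sz F m), ∀ a b,
      g * gT h a b * g⁻¹ = gT h (μ * a) (μ * μ ^ 2 ^ (m + 1) * b) := by
  intro μ hμ
  obtain ⟨z, hz⟩ := th_surjective h μ
  have hz0 : z ≠ 0 := by
    rintro rfl
    rw [th_zero] at hz
    exact hμ hz.symm
  refine ⟨gD h (Units.mk0 z hz0), fun a b => ?_⟩
  rw [gD_conj_gT]
  have e1 : (z : F) ^ 2 = μ ^ 2 ^ (m + 1) := by
    rw [← hz]
    exact (th_th h z).symm
  show gT h (th m z * a) (th m z * z ^ 2 * b) = _
  rw [hz, e1]

theorem helper51_sz_stem_core {F : Type*} [Field F] [Fintype F] {m : ℕ} (hm : 2 ≤ m)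
    (hF : Fintype.card F = 2 ^ (2 * m + 1)) {Γ : Type*} [Group Γ] [Finite Γ]
    (σ : Γ →* ↥(Cfsg.Sz F m)) (hσ : Cfsg.IsStemExtension σ) : σ.ker = ⊥ := by
  classical
  have h := szHyp_of_card hF
  have hm1 : 1 ≤ m := by omega
  obtain ⟨hsurj, hc, -⟩ := id hσ
  have hq8 : 8 ≤ Fintype.card F := by
    rw [hF]
    calc 8 = 2 ^ 3 := by norm_num
      _ ≤ 2 ^ (2 * m + 1) := Nat.pow_le_pow_right (by norm_num) (by omega)
  obtain ⟨a₀, b₀, ha, hb, hab, hν⟩ := Cfsg.Agent.Lib.helper69.exists_pair_char_two h.two hq8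
  obtain ⟨x₀, hx0, hx1, hκ⟩ := helper51_field_pt hm hF
  have he : (2 : ℕ) ^ (m + 1) ≠ 0 := by positivity
  have ht : ∀ a b c d : F, gT h a b * gT h c d = gT h (a + c) (b + d + a ^ 2 ^ (m + 1) * c) :=
    fun a b c d => gT_mul h a b c d
  have htor := helper51_sz_model_tor (F := F) h
  apply Cfsg.Agent.Lib.helper69.stem_ker_eq_bot_of_forall_prime σ hσ
  intro r hr
  by_cases hr2 : r = 2
  · subst hr2
    refine ⟨(subT h).comap σ, MonoidHom.ker_le_comap _ _, ?_, ?_⟩
    · rw [Subgroup.index_comap_of_surjective _ hsurj]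
      exact helper51_subT_index_odd hm1 hF
    · have hA : ∀ x y : Γ, (∃ b, σ x = gT h 0 b) → (∃ b, σ y = gT h 0 b) → x * y = y * x :=
        fun x y hx hy => Cfsg.Agent.Lib.helper61.S2111.helper61_stepA σ hsurj hc (2 ^ (m + 1)) h.frob (gT h) ht htor a₀ b₀ ha hb hab hν
          x y hx hy
      have hB : ∀ x y : Γ, (∃ a b, σ x = gT h a b) → (∃ w, σ y = gT h 0 w) → x * y = y * x :=
        fun x y hx hy => Cfsg.Agent.Lib.helper61.S2111.helper61_stepB σ hsurj hc (2 ^ (m + 1)) he (gT h) ht htor hA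
          (fun B hl hr hinv => Cfsg.Agent.Lib.helper97.S2111.helper97_pairing2 h.two (2 ^ (m + 1)) B hl hr hinv x₀ hx0 hx1 hκ) x y hx hy
      have hodd : Odd (Nat.card Fˣ) := by
        rw [Nat.card_eq_fintype_card, Fintype.card_units, hF]
        have : 2 ^ (2 * m + 1) = 2 * 2 ^ (2 * m) := by ring
        rw [this]
        have h1 : 1 ≤ 2 ^ (2 * m) := Nat.one_le_two_pow
        exact ⟨2 ^ (2 * m) - 1, by omega⟩
      refine helper51_stepC σ hsurj hc (2 ^ (m + 1)) he h.two hodd (gT h) ht htor hB ?_ (subT h) ?_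
      · intro B hl hr hinv
        refine Cfsg.Agent.Lib.helper69.pairing_trivial B hl hr ?_ a₀ b₀ ha hb hab hν
        intro c s t hc0
        exact hinv (c ^ 2) s t (pow_ne_zero 2 hc0)
      · intro g
        rw [mem_subT]
        constructor
        · rintro ⟨a, b, e⟩
          exact ⟨a, b, Subtype.ext e⟩
        · rintro ⟨a, b, e⟩
          exact ⟨a, b, congrArg Subtype.val e⟩
  · obtain ⟨R, hcyc, hidx⟩ := helper51_odd_cyclic hm1 hF r hr hr2
    refine ⟨R.comap σ, MonoidHom.ker_le_comap _ _, ?_, ?_⟩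
    · rw [Subgroup.index_comap_of_surjective _ hsurj]
      exact hidx
    · exact Cfsg.Agent.Lib.helper69.eq_one_of_mem_commutator_comap_of_isCyclic σ hc R

theorem helper51_sz_mult_final {F : Type*} [Field F] [Fintype F] {m : ℕ} (hm : 2 ≤ m)
    (hF : Fintype.card F = 2 ^ (2 * m + 1)) :
    Cfsg.HasCyclicSchurMultiplier ↥(Cfsg.Lie.Sz F (2 ^ (m + 1))) 1 := by
  classical
  have hm1 : 1 ≤ m := by omega
  have hfin : Finite ↥(Cfsg.Lie.Sz F (2 ^ (m + 1))) :=
    Finite.of_equiv _ (Cfsg.Agent.Lib.helper44.szIso hm1 hF).toEquiv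
  constructor
  · refine ⟨↥(Cfsg.Lie.Sz F (2 ^ (m + 1))), inferInstance, hfin, MonoidHom.id _,
      ⟨Function.surjective_id, ?_, ?_⟩, ?_⟩
    · intro x hx
      rw [MonoidHom.mem_ker, MonoidHom.id_apply] at hx
      rw [hx]
      exact Subgroup.one_mem _
    · intro x hx
      rw [MonoidHom.mem_ker, MonoidHom.id_apply] at hx
      rw [hx]
      exact Subgroup.one_mem _
    · refine ⟨{
        toFun := fun _ => 1
        invFun := fun _ => 1
        left_inv := ?_
        right_inv := ?_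
        map_mul' := ?_ }⟩
      · intro x
        apply Subtype.ext
        exact (MonoidHom.mem_ker.mp x.2).symm
      · intro y
        exact Multiplicative.toAdd.injective (Subsingleton.elim _ _)
      · intro x y
        exact (mul_one 1).symm
  · intro Γ _ _ σ hσ
    obtain ⟨hsurj, hc, hst⟩ := hσ
    let ι := (Cfsg.Agent.Lib.helper44.szIso hm1 hF).symm
    let σ' : Γ →* ↥(Cfsg.Sz F m) := ι.toMonoidHom.comp σ
    have hker : σ'.ker = σ.ker := by
      ext x
      simp only [MonoidHom.mem_ker, σ', MonoidHom.comp_apply, MulEquiv.toMonoidHom_eq_coe,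
        MonoidHom.coe_coe]
      exact ι.map_eq_one_iff
    have hσ' : Cfsg.IsStemExtension σ' := by
      refine ⟨?_, ?_, ?_⟩
      · exact ι.surjective.comp hsurj
      · rw [hker]; exact hc
      · rw [hker]; exact hst
    have hk : σ.ker = ⊥ := by rw [← hker]; exact helper51_sz_stem_core hm hF σ' hσ'
    refine ⟨1, ?_⟩
    intro x
    refine ⟨1, ?_⟩
    have hx : (x : Γ) ∈ (⊥ : Subgroup Γ) := hk ▸ x.2
    rw [Subgroup.mem_bot] at hx
    exact (Subtype.ext hx).symm

end Cfsg.Agent.Lib.helper51.S2111
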