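import Mathlib
import Cfsg.Agent.Lib.helper8.SzSylow
import Cfsg.Agent.S0324

/-! S2111 piece SYL2: the translation subgroup of the Suzuki group has odd index. -/

set_option autoImplicit false

namespace Cfsg.Agent.Lib.helper51.S2111

open Cfsg.Agent.Lib.helper8

/-- PIECE SYL2: the translation subgroup has odd index. -/
theorem helper51_subT_index_odd {F : Type*} [Field F] [Fintype F] {m : ℕ} (hm : 1 ≤ m)
    (hF : Fintype.card F = 2 ^ (2 * m + 1)) :
    ¬ 2 ∣ (subT (szHyp_of_card hF)).index := by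
  have hi := Subgroup.index_mul_card (subT (szHyp_of_card hF))
  rw [card_subT hm hF, Cfsg.Agent.S0324.result hm hF] at hi
  have hq : 0 < (2 ^ (2 * m + 1)) ^ 2 := by positivity
  have e : (subT (szHyp_of_card hF)).index =
      ((2 ^ (2 * m + 1)) ^ 2 + 1) * (2 ^ (2 * m + 1) - 1) := by
    apply Nat.eq_of_mul_eq_mul_right hq
    rw [hi]
    ring
  rw [e]
  obtain ⟨u, hu⟩ : ∃ u, 2 ^ (2 * m + 1) = 2 * u + 2 := by
    refine ⟨2 ^ (2 * m) - 1, ?_⟩
    have h1 : 1 ≤ 2 ^ (2 * m) := Nat.one_le_two_pow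
    have h2 : 2 ^ (2 * m + 1) = 2 * 2 ^ (2 * m) := by ring
    omega
  rw [hu]
  intro hd
  rcases Nat.prime_two.dvd_mul.1 hd with h | h
  · have e2 : (2 * u + 2) ^ 2 + 1 = 2 * (2 * u * u + 4 * u + 2) + 1 := by ring
    rw [e2] at h
    omega
  · omega

end Cfsg.Agent.Lib.helper51.S2111
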