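import Mathlib
import Cfsg.Agent.Lib.helper51.S2113Defs
import Cfsg.Agent.Lib.helper51.S2111C
import Cfsg.Agent.Lib.helper69.StemSylow

/-! S2113 piece NORM3: the norm argument for the preimage of a Ree-type unipotent group. -/

set_option autoImplicit false
set_option maxHeartbeats 4000000

namespace Cfsg.Agent.Lib.helper51.S2113

open scoped commutatorElement
open Cfsg.Agent.Lib.helper51.S2111 Cfsg.Agent.Lib.helper69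

theorem helper51_comm_mul_left_conj {Γ : Type*} [Group Γ] (a a' b : Γ) :
    ⁅a * a', b⁆ = a * ⁅a', b⁆ * a⁻¹ * ⁅a, b⁆ := by
  rw [commutatorElement_def, commutatorElement_def, commutatorElement_def]; group

theorem helper51_comm4 {A : Type*} [CommGroup A] (a b c d : A) :
    a * b * c * d = c * b * (a * d) := by
  simp only [mul_comm, mul_left_comm, mul_assoc]

theorem helper51_cube_aux {A : Type*} [CommGroup A] (g d₁ d₂ : A)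
    (h : 1 = g * g * d₁ * g * d₂) : g ^ 3 = (d₁ * d₂)⁻¹ := by
  apply eq_inv_of_mul_eq_one_left
  rw [h, pow_succ, pow_two]
  simp only [mul_comm, mul_left_comm, mul_assoc]

theorem helper51_conj_eq_comm_mul {Γ : Type*} [Group Γ] (a k : Γ) : a * k * a⁻¹ = ⁅a, k⁆ * k := by
  rw [commutatorElement_def]; group

/-- PIECE NORM3: the norm argument on the abelian group of lifts of `T 0 u v`. -/
theorem helper51_norm3 {K G Γ : Type*} [Field K] [Fintype K] [Group G] [Group Γ] (σ : Γ →* G)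
    (hsurj : Function.Surjective σ) (hc : σ.ker ≤ Subgroup.center Γ) (T : K → K → K → G) (e : ℕ)
    (c : K → K → K) (D : UData K G T e c) (h3K : (3 : K) = 0) (hcop : ¬ 3 ∣ Nat.card Kˣ)
    (h3 : ∀ x y : Γ, (∃ t u v, σ x = T t u v) → (∃ w, σ y = T 0 0 w) → x * y = y * x)
    (h4 : ∀ x y : Γ, (∃ u v, σ x = T 0 u v) → (∃ u v, σ y = T 0 u v) → x * y = y * x)
    (hab : ∀ B : K → K → Γ, (∀ s s' t, B (s + s') t = B s t * B s' t) →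
      (∀ s t t', B s (t + t') = B s t * B s t') →
      (∀ ν s t, ν ≠ 0 → B (ν * s) (ν * (ν ^ e) ^ 3 * t) = B s t) → ∀ s t, B s t = 1)
    (hsq : ∀ B : K → K → Γ, (∀ s s' t, B (s + s') t = B s t * B s' t) →
      (∀ s t t', B s (t + t') = B s t * B s t') →
      (∀ a s t, a ≠ 0 → B (a ^ 2 * s) (a ^ 2 * t) = B s t) → ∀ s t, B s t = 1)
    (P : Subgroup G) (hP : ∀ g, g ∈ P ↔ ∃ t u v, g = T t u v) :
    ∀ w ∈ σ.ker, w ∈ ⁅P.comap σ, P.comap σ⁆ → w = 1 := by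
  classical
  obtain ⟨ℓ, hℓ⟩ := hsurj.hasRightInverse
  have h3s : ∀ s : K, s + s + s = 0 := fun s => by linear_combination s * h3K
  have h000 : T 0 0 0 = 1 := by
    have h1 := D.top_r 0 0 0 0
    rw [add_zero] at h1
    exact mul_left_cancel (a := T 0 0 0) (by rw [h1, mul_one])
  have hsplit : ∀ u v, T 0 u v = T 0 u 0 * T 0 0 v := by
    intro u v
    rw [D.top_r, zero_add]
  have hdec : ∀ t u v, ∃ w, T t u v = T t 0 0 * T 0 u w := by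
    intro t u v
    obtain ⟨w₁, hw₁⟩ := D.mul t 0 0 0 u 0
    rw [add_zero, zero_add, D.c_zero_right, add_zero] at hw₁
    refine ⟨v - w₁, ?_⟩
    rw [hsplit u (v - w₁), ← mul_assoc, hw₁, D.top_r]
    congr 1
    ring
  have hmul1 : ∀ u v u' v', ∃ w, T 0 u v * T 0 u' v' = T 0 (u + u') w := by
    intro u v u' v'
    obtain ⟨w, hw⟩ := D.mul 0 u v 0 u' v'
    rw [add_zero, D.c_zero_left, add_zero] at hw
    exact ⟨w, hw⟩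
  have hinv2 : ∀ w, (T 0 0 w)⁻¹ = T 0 0 (-w) := by
    intro w
    apply inv_eq_of_mul_eq_one_right
    rw [D.top_r, add_neg_cancel, h000]
  have hinv1 : ∀ u v, ∃ w, (T 0 u v)⁻¹ = T 0 (-u) w := by
    intro u v
    obtain ⟨w, hw⟩ := hmul1 u v (-u) 0
    rw [add_neg_cancel] at hw
    refine ⟨-w, ?_⟩
    apply inv_eq_of_mul_eq_one_right
    rw [hsplit (-u) (-w), ← mul_assoc, hw, D.top_r, add_neg_cancel, h000]
  let U₁ : Subgroup G :=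
    { carrier := {g | ∃ u v, g = T 0 u v}
      mul_mem' := by
        rintro _ _ ⟨u, v, rfl⟩ ⟨u', v', rfl⟩
        obtain ⟨w, hw⟩ := hmul1 u v u' v'
        exact ⟨_, w, hw⟩
      one_mem' := ⟨0, 0, h000.symm⟩
      inv_mem' := by
        rintro _ ⟨u, v, rfl⟩
        obtain ⟨w, hw⟩ := hinv1 u v
        exact ⟨_, w, hw⟩ }
  let K₁ : Subgroup Γ := U₁.comap σ
  have hK₁mem : ∀ k : Γ, k ∈ K₁ ↔ ∃ u v, σ k = T 0 u v := fun k => Iff.rfl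
  have hPmem : ∀ x : Γ, x ∈ P.comap σ ↔ ∃ t u v, σ x = T t u v := fun x => by
    rw [Subgroup.mem_comap, hP]
  have hK₁P : ∀ k : Γ, k ∈ K₁ → ∃ t u v, σ k = T t u v := by
    intro k hk
    obtain ⟨u, v, h⟩ := (hK₁mem k).1 hk
    exact ⟨0, u, v, h⟩
  have hK₂K₁ : ∀ k : Γ, (∃ w, σ k = T 0 0 w) → k ∈ K₁ := by
    rintro k ⟨w, hw⟩
    exact (hK₁mem k).2 ⟨0, w, hw⟩
  -- central elements
  have hcen : ∀ k x : Γ, (∃ w, σ k = T 0 0 w) → (∃ t u v, σ x = T t u v) → k * x = x * k :=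
    fun k x hk hx => (h3 x k hx hk).symm
  -- identities in `G`
  have hGA : ∀ t u v t' u' v', ∃ u'' w,
      T t u v * T t' u' v' = T 0 u'' w * (T t' u' v' * T t u v) := by
    intro t u v t' u' v'
    obtain ⟨w₁, hw₁⟩ := D.mul t u v t' u' v'
    obtain ⟨w₂, hw₂⟩ := D.mul t' u' v' t u v
    obtain ⟨w₄, hw₄⟩ := D.mul 0 ((u + u' + c t t') - (u' + u + c t' t)) 0 (t' + t)
      (u' + u + c t' t) w₂
    rw [D.c_zero_left, zero_add, add_zero, sub_add_cancel] at hw₄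
    refine ⟨(u + u' + c t t') - (u' + u + c t' t), w₁ - w₄, ?_⟩
    have e0 : T 0 ((u + u' + c t t') - (u' + u + c t' t)) (w₁ - w₄) =
        T 0 0 (w₁ - w₄) * T 0 ((u + u' + c t t') - (u' + u + c t' t)) 0 := by
      rw [D.top_l, zero_add]
    rw [hw₁, hw₂, e0, mul_assoc, hw₄, D.top_l, add_comm t' t, add_sub_cancel]
  have hGB : ∀ t u v u' v', ∃ w, T t u v * T 0 u' v' = T 0 0 w * (T 0 u' v' * T t u v) := by
    intro t u v u' v'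
    obtain ⟨w₁, hw₁⟩ := D.mul t u v 0 u' v'
    obtain ⟨w₂, hw₂⟩ := D.mul 0 u' v' t u v
    rw [add_zero, D.c_zero_right, add_zero] at hw₁
    rw [zero_add, D.c_zero_left, add_zero] at hw₂
    refine ⟨w₁ - w₂, ?_⟩
    rw [hw₁, hw₂, D.top_l, add_comm u' u, add_sub_cancel]
  -- commutators of lifts of `P` lie in `K₁`
  have hcomK₁ : ∀ x x' : Γ, (∃ t u v, σ x = T t u v) → (∃ t u v, σ x' = T t u v) →
      ⁅x, x'⁆ ∈ K₁ := by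
    rintro x x' ⟨t, u, v, hx⟩ ⟨t', u', v', hx'⟩
    rw [hK₁mem]
    obtain ⟨u'', w, e1⟩ := hGA t u v t' u' v'
    refine ⟨u'', w, ?_⟩
    rw [map_commutatorElement, hx, hx', commutatorElement_def, e1]
    group
  -- commutators of a lift of `P` with a lift of `U₁` lie over `T 0 0 w`
  have hcomK₂ : ∀ x y : Γ, (∃ t u v, σ x = T t u v) → (∃ u v, σ y = T 0 u v) →
      ∃ w, σ ⁅x, y⁆ = T 0 0 w := by
    rintro x y ⟨t, u, v, hx⟩ ⟨u', v', hy⟩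
    obtain ⟨w, e1⟩ := hGB t u v u' v'
    refine ⟨w, ?_⟩
    rw [map_commutatorElement, hx, hy, commutatorElement_def, e1]
    group
  have hcomK₂' : ∀ x y : Γ, (∃ t u v, σ x = T t u v) → (∃ u v, σ y = T 0 u v) →
      ∃ w, σ ⁅y, x⁆ = T 0 0 w := by
    intro x y hx hy
    obtain ⟨w, hw⟩ := hcomK₂ x y hx hy
    refine ⟨-w, ?_⟩
    rw [← commutatorElement_inv, map_inv, hw, hinv2]
  -- K₁ is commutative
  have hK₁comm : ∀ k k' : ↥K₁, k * k' = k' * k :=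
    fun k k' => Subtype.ext (h4 k k' k.2 k'.2)
  let instK : CommGroup ↥K₁ := { (inferInstance : Group ↥K₁) with mul_comm := hK₁comm }
  -- the pairings
  let γ₁ : K → K → ↥K₁ := fun s u =>
    ⟨⁅ℓ (T s 0 0), ℓ (T 0 u 0)⁆, hcomK₁ _ _ ⟨s, 0, 0, hℓ _⟩ ⟨0, u, 0, hℓ _⟩⟩
  let Γ₀ : K → K → ↥K₁ := fun s s' =>
    ⟨⁅ℓ (T s 0 0), ℓ (T s' 0 0)⁆, hcomK₁ _ _ ⟨s, 0, 0, hℓ _⟩ ⟨s', 0, 0, hℓ _⟩⟩
  have hγ₁K₂ : ∀ s u, ∃ w, σ (γ₁ s u : Γ) = T 0 0 w :=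
    fun s u => hcomK₂ _ _ ⟨s, 0, 0, hℓ _⟩ ⟨u, 0, hℓ _⟩
  -- (D1)
  have hγ₁ : ∀ (x y : Γ) (s u₀ v₀ u v : K), σ x = T s u₀ v₀ → σ y = T 0 u v →
      ⁅x, y⁆ = (γ₁ s u : Γ) := by
    intro x y s u₀ v₀ u v hx hy
    obtain ⟨w, hw⟩ := hdec s u₀ v₀
    have e1 : ⁅x, y⁆ = ⁅ℓ (T s 0 0) * ℓ (T 0 u₀ w), ℓ (T 0 u 0) * ℓ (T 0 0 v)⁆ := by
      apply commutatorElement_congr_of_central σ hc
      · rw [map_mul, hℓ, hℓ, hx, hw]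
      · rw [map_mul, hℓ, hℓ, hy, hsplit]
    rw [e1]
    rw [helper51_comm_mul_left_of_comm _ _ _
      (h4 _ _ ⟨u₀, w, hℓ _⟩ ⟨u, v, by rw [map_mul, hℓ, hℓ, ← hsplit]⟩)]
    rw [helper51_comm_mul_right_of_comm _ _ _ (hcen _ _ ⟨v, hℓ _⟩ ⟨s, 0, 0, hℓ _⟩)]
  -- (D2), (D3)
  have hγ₁l : ∀ s s' u, γ₁ (s + s') u = γ₁ s u * γ₁ s' u := by
    intro s s' u
    apply Subtype.ext
    rw [Subgroup.coe_mul]
    obtain ⟨w, hw⟩ := D.mul s 0 0 s' 0 0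
    have e1 : ⁅ℓ (T s 0 0) * ℓ (T s' 0 0), ℓ (T 0 u 0)⁆ = (γ₁ (s + s') u : Γ) :=
      hγ₁ _ _ (s + s') _ _ u 0 (by rw [map_mul, hℓ, hℓ, hw]) (hℓ _)
    rw [← e1]
    apply helper51_comm_mul_left_split
    · exact hcen _ _ (hγ₁K₂ s' u) ⟨s, 0, 0, hℓ _⟩
    · exact hcen _ _ (hγ₁K₂ s' u) (hK₁P _ (γ₁ s u).2)
  have hγ₁r : ∀ s u u', γ₁ s (u + u') = γ₁ s u * γ₁ s u' := by
    intro s u u'
    apply Subtype.ext
    rw [Subgroup.coe_mul]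
    have e1 : ⁅ℓ (T s 0 0), ℓ (T 0 u 0) * ℓ (T 0 u' 0)⁆ = (γ₁ s (u + u') : Γ) :=
      hγ₁ _ _ s 0 0 (u + u') 0 (hℓ _) (by rw [map_mul, hℓ, hℓ, D.mid])
    rw [← e1]
    apply helper51_comm_mul_right_split
    exact hcen _ _ (hγ₁K₂ s u') ⟨0, u, 0, hℓ _⟩
  have hγ₁0 : ∀ u, γ₁ 0 u = 1 := by
    intro u
    have h1 := hγ₁l 0 0 u
    rw [add_zero] at h1
    exact mul_left_cancel (a := γ₁ 0 u) (by rw [← h1, mul_one])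
  have hγ₁cube : ∀ s u, γ₁ s u ^ 3 = 1 := by
    intro s u
    rw [pow_succ, pow_two, ← hγ₁l, ← hγ₁l, h3s, hγ₁0]
  -- the torus
  choose H hH using fun ν : Kˣ => D.tor (ν : K) ν.ne_zero
  have hconjK : ∀ (ν : Kˣ) (k : Γ), k ∈ K₁ → ℓ (H ν) * k * (ℓ (H ν))⁻¹ ∈ K₁ := by
    intro ν k hk
    obtain ⟨u, v, huv⟩ := (hK₁mem k).1 hk
    rw [hK₁mem]
    refine ⟨(ν : K) * ((ν : K) ^ e) ^ 3 * u, (ν : K) ^ 2 * ((ν : K) ^ e) ^ 3 * v, ?_⟩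
    rw [map_mul, map_mul, map_inv, hℓ, huv, hH, mul_zero]
  let cj : Kˣ → (↥K₁ →* ↥K₁) := fun ν =>
    MonoidHom.mk' (fun k => ⟨ℓ (H ν) * k * (ℓ (H ν))⁻¹, hconjK ν k k.2⟩)
      (fun a b => Subtype.ext (by
        show ℓ (H ν) * ((a : Γ) * (b : Γ)) * (ℓ (H ν))⁻¹ =
          ℓ (H ν) * (a : Γ) * (ℓ (H ν))⁻¹ * (ℓ (H ν) * (b : Γ) * (ℓ (H ν))⁻¹)
        group))
  have hcj : ∀ (ν : Kˣ) (k : ↥K₁), ((cj ν k : ↥K₁) : Γ) = ℓ (H ν) * k * (ℓ (H ν))⁻¹ :=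
    fun ν k => rfl
  have hcjγ₁ : ∀ (ν : Kˣ) (s u : K),
      cj ν (γ₁ s u) = γ₁ ((ν : K) * s) ((ν : K) * ((ν : K) ^ e) ^ 3 * u) := by
    intro ν s u
    apply Subtype.ext
    rw [hcj]
    show ℓ (H ν) * ⁅ℓ (T s 0 0), ℓ (T 0 u 0)⁆ * (ℓ (H ν))⁻¹ = _
    rw [helper51_conj_commutatorElement]
    refine hγ₁ _ _ ((ν : K) * s) ((ν : K) * ((ν : K) ^ e) ^ 3 * 0)
      ((ν : K) ^ 2 * ((ν : K) ^ e) ^ 3 * 0) ((ν : K) * ((ν : K) ^ e) ^ 3 * u)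
      ((ν : K) ^ 2 * ((ν : K) ^ e) ^ 3 * 0) ?_ ?_
    · rw [map_mul, map_mul, map_inv, hℓ, hℓ, hH]
    · rw [map_mul, map_mul, map_inv, hℓ, hℓ, hH, mul_zero]
  have hcjΓ₀ : ∀ (ν : Kˣ) (s s' : K), cj ν (Γ₀ s s') = Γ₀ ((ν : K) * s) ((ν : K) * s') := by
    intro ν s s'
    apply Subtype.ext
    rw [hcj]
    show ℓ (H ν) * ⁅ℓ (T s 0 0), ℓ (T s' 0 0)⁆ * (ℓ (H ν))⁻¹ =
      ⁅ℓ (T ((ν : K) * s) 0 0), ℓ (T ((ν : K) * s') 0 0)⁆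
    rw [helper51_conj_commutatorElement]
    apply commutatorElement_congr_of_central σ hc
    · rw [map_mul, map_mul, map_inv, hℓ, hℓ, hH, hℓ, mul_zero, mul_zero]
    · rw [map_mul, map_mul, map_inv, hℓ, hℓ, hH, hℓ, mul_zero, mul_zero]
  let N : ↥K₁ →* ↥K₁ := ∏ ν : Kˣ, cj ν
  have hN : ∀ k : ↥K₁, N k = ∏ ν : Kˣ, cj ν k := fun k => MonoidHom.finsetProd_apply _ _ _
  -- (D5)
  have hNγ₁ : ∀ s u, N (γ₁ s u) = 1 := by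
    intro s u
    have key := hab (fun a a' => ((N (γ₁ a a') : ↥K₁) : Γ)) ?_ ?_ ?_ s u
    · exact Subtype.ext key
    · intro a a' b
      show ((N (γ₁ (a + a') b) : ↥K₁) : Γ) = (N (γ₁ a b) : ↥K₁) * (N (γ₁ a' b) : ↥K₁)
      rw [hγ₁l, map_mul, Subgroup.coe_mul]
    · intro a b b'
      show ((N (γ₁ a (b + b')) : ↥K₁) : Γ) = (N (γ₁ a b) : ↥K₁) * (N (γ₁ a b') : ↥K₁)
      rw [hγ₁r, map_mul, Subgroup.coe_mul]
    · intro ν₀ a b hν₀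
      show ((N (γ₁ (ν₀ * a) (ν₀ * (ν₀ ^ e) ^ 3 * b)) : ↥K₁) : Γ) = (N (γ₁ a b) : ↥K₁)
      congr 1
      rw [hN, hN]
      have e1 : ∀ ν : Kˣ, cj ν (γ₁ (ν₀ * a) (ν₀ * (ν₀ ^ e) ^ 3 * b)) =
          cj (ν * Units.mk0 ν₀ hν₀) (γ₁ a b) := by
        intro ν
        rw [hcjγ₁, hcjγ₁]
        congr 1
        · rw [Units.val_mul, Units.val_mk0, mul_assoc]
        · rw [Units.val_mul, Units.val_mk0]
          ring
      rw [Finset.prod_congr rfl (fun ν _ => e1 ν)]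
      exact Equiv.prod_comp (Equiv.mulRight (Units.mk0 ν₀ hν₀)) (fun ν => cj ν (γ₁ a b))
  -- the subgroup of elements killed by `N` of exponent 3
  let E₃ : Subgroup ↥K₁ := N.ker ⊓ (powMonoidHom 3 : ↥K₁ →* ↥K₁).ker
  have hE₃ : ∀ k : ↥K₁, k ∈ E₃ ↔ N k = 1 ∧ k ^ 3 = 1 := by
    intro k
    show k ∈ N.ker ⊓ (powMonoidHom 3 : ↥K₁ →* ↥K₁).ker ↔ _
    rw [Subgroup.mem_inf, MonoidHom.mem_ker, MonoidHom.mem_ker]
    rfl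
  have hγ₁E : ∀ s u, γ₁ s u ∈ E₃ := fun s u => (hE₃ _).2 ⟨hNγ₁ s u, hγ₁cube s u⟩
  -- (F1)
  have hΓ : ∀ (x x' : Γ) (s u v s' u' v' : K), σ x = T s u v → σ x' = T s' u' v' →
      ∃ d : ↥K₁, d ∈ E₃ ∧ ⁅x, x'⁆ = (Γ₀ s s' : Γ) * (d : Γ) := by
    intro x x' s u v s' u' v' hx hx'
    obtain ⟨w, hw⟩ := hdec s u v
    obtain ⟨w', hw'⟩ := hdec s' u' v'
    have hb : σ (ℓ (T s' 0 0) * ℓ (T 0 u' w')) = T s' u' v' := by rw [map_mul, hℓ, hℓ, hw']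
    have e1 : ⁅x, x'⁆ = ⁅ℓ (T s 0 0) * ℓ (T 0 u w), ℓ (T s' 0 0) * ℓ (T 0 u' w')⁆ := by
      apply commutatorElement_congr_of_central σ hc
      · rw [map_mul, hℓ, hℓ, hx, hw]
      · rw [hb, hx']
    have hyb : ⁅ℓ (T 0 u w), ℓ (T s' 0 0) * ℓ (T 0 u' w')⁆ = ((γ₁ s' u)⁻¹ : ↥K₁) := by
      rw [← commutatorElement_inv, hγ₁ _ _ s' u' v' u w hb (hℓ _)]
      rfl
    have hyb2 : ∃ w₀, σ ⁅ℓ (T 0 u w), ℓ (T s' 0 0) * ℓ (T 0 u' w')⁆ = T 0 0 w₀ :=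
      hcomK₂' _ _ ⟨s', u', v', hb⟩ ⟨u, w, hℓ _⟩
    have e2 : ⁅ℓ (T s 0 0) * ℓ (T 0 u w), ℓ (T s' 0 0) * ℓ (T 0 u' w')⁆ =
        ⁅ℓ (T s 0 0), ℓ (T s' 0 0) * ℓ (T 0 u' w')⁆ *
          ⁅ℓ (T 0 u w), ℓ (T s' 0 0) * ℓ (T 0 u' w')⁆ := by
      apply helper51_comm_mul_left_split
      · exact hcen _ _ hyb2 ⟨s, 0, 0, hℓ _⟩
      · exact hcen _ _ hyb2 (hK₁P _ (hcomK₁ _ _ ⟨s, 0, 0, hℓ _⟩ ⟨s', u', v', hb⟩))
    have e3 : ⁅ℓ (T s 0 0), ℓ (T s' 0 0) * ℓ (T 0 u' w')⁆ =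
        ⁅ℓ (T s 0 0), ℓ (T s' 0 0)⁆ * ⁅ℓ (T s 0 0), ℓ (T 0 u' w')⁆ := by
      apply helper51_comm_mul_right_split
      exact hcen _ _ (hcomK₂ _ _ ⟨s, 0, 0, hℓ _⟩ ⟨u', w', hℓ _⟩) ⟨s', 0, 0, hℓ _⟩
    have e4 : ⁅ℓ (T s 0 0), ℓ (T 0 u' w')⁆ = (γ₁ s u' : Γ) :=
      hγ₁ _ _ s 0 0 u' w' (hℓ _) (hℓ _)
    refine ⟨γ₁ s u' * (γ₁ s' u)⁻¹, E₃.mul_mem (hγ₁E s u') (E₃.inv_mem (hγ₁E s' u)), ?_⟩
    rw [e1, e2, e3, e4, hyb, Subgroup.coe_mul, mul_assoc]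
  -- (F2)
  have hΓadd : ∀ s s'' s', ∃ d : ↥K₁, d ∈ E₃ ∧ Γ₀ (s + s'') s' = Γ₀ s s' * Γ₀ s'' s' * d := by
    intro s s'' s'
    obtain ⟨w, hw⟩ := D.mul s 0 0 s'' 0 0
    obtain ⟨d₁, hd₁, hd₁e⟩ := hΓ (ℓ (T s 0 0) * ℓ (T s'' 0 0)) (ℓ (T s' 0 0)) (s + s'') _ _ s' 0 0
      (by rw [map_mul, hℓ, hℓ, hw]) (hℓ _)
    obtain ⟨uk, vk, hk⟩ := (hK₁mem _).1 (Γ₀ s'' s').2
    have e1 : ⁅ℓ (T s 0 0) * ℓ (T s'' 0 0), ℓ (T s' 0 0)⁆ =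
        (γ₁ s uk : Γ) * (Γ₀ s'' s' : Γ) * (Γ₀ s s' : Γ) := by
      rw [helper51_comm_mul_left_conj, helper51_conj_eq_comm_mul]
      have e2 : ⁅ℓ (T s 0 0), ⁅ℓ (T s'' 0 0), ℓ (T s' 0 0)⁆⁆ = (γ₁ s uk : Γ) :=
        hγ₁ _ _ s 0 0 uk vk (hℓ _) hk
      rw [e2]
    refine ⟨γ₁ s uk * d₁⁻¹, E₃.mul_mem (hγ₁E s uk) (E₃.inv_mem hd₁), ?_⟩
    have e3 : (Γ₀ (s + s'') s' * d₁ : ↥K₁) = γ₁ s uk * Γ₀ s'' s' * Γ₀ s s' := by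
      apply Subtype.ext
      rw [Subgroup.coe_mul, Subgroup.coe_mul, Subgroup.coe_mul, ← hd₁e, e1]
    calc Γ₀ (s + s'') s' = (Γ₀ (s + s'') s' * d₁) * d₁⁻¹ := by rw [mul_inv_cancel_right]
      _ = γ₁ s uk * Γ₀ s'' s' * Γ₀ s s' * d₁⁻¹ := by rw [e3]
      _ = Γ₀ s s' * Γ₀ s'' s' * (γ₁ s uk * d₁⁻¹) := helper51_comm4 _ _ _ _
  have hNE : ∀ d : ↥K₁, d ∈ E₃ → N d = 1 := fun d hd => ((hE₃ d).1 hd).1
  have hNΓl : ∀ s s'' s', N (Γ₀ (s + s'') s') = N (Γ₀ s s') * N (Γ₀ s'' s') := by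
    intro s s'' s'
    obtain ⟨d, hd, hde⟩ := hΓadd s s'' s'
    rw [hde, map_mul, map_mul, hNE d hd, mul_one]
  have hΓanti : ∀ s s', Γ₀ s s' = (Γ₀ s' s)⁻¹ := by
    intro s s'
    apply Subtype.ext
    rw [Subgroup.coe_inv]
    show ⁅ℓ (T s 0 0), ℓ (T s' 0 0)⁆ = ⁅ℓ (T s' 0 0), ℓ (T s 0 0)⁆⁻¹
    rw [commutatorElement_inv]
  have hNΓr : ∀ s s' s'', N (Γ₀ s (s' + s'')) = N (Γ₀ s s') * N (Γ₀ s s'') := by
    intro s s' s''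
    rw [hΓanti s (s' + s''), hΓanti s s', hΓanti s s'', map_inv, map_inv, map_inv, hNΓl,
      mul_inv]
  -- (F5)
  have hNΓ : ∀ s s', N (Γ₀ s s') = 1 := by
    intro s s'
    have key := hsq (fun a a' => ((N (Γ₀ a a') : ↥K₁) : Γ)) ?_ ?_ ?_ s s'
    · exact Subtype.ext key
    · intro a a' b
      show ((N (Γ₀ (a + a') b) : ↥K₁) : Γ) = (N (Γ₀ a b) : ↥K₁) * (N (Γ₀ a' b) : ↥K₁)
      rw [hNΓl, Subgroup.coe_mul]
    · intro a b b'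
      show ((N (Γ₀ a (b + b')) : ↥K₁) : Γ) = (N (Γ₀ a b) : ↥K₁) * (N (Γ₀ a b') : ↥K₁)
      rw [hNΓr, Subgroup.coe_mul]
    · intro a₀ a b ha₀
      show ((N (Γ₀ (a₀ ^ 2 * a) (a₀ ^ 2 * b)) : ↥K₁) : Γ) = (N (Γ₀ a b) : ↥K₁)
      congr 1
      rw [hN, hN]
      have e1 : ∀ ν : Kˣ, cj ν (Γ₀ (a₀ ^ 2 * a) (a₀ ^ 2 * b)) =
          cj (ν * Units.mk0 (a₀ ^ 2) (pow_ne_zero 2 ha₀)) (Γ₀ a b) := by
        intro ν
        rw [hcjΓ₀, hcjΓ₀]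
        congr 1
        · rw [Units.val_mul, Units.val_mk0, mul_assoc]
        · rw [Units.val_mul, Units.val_mk0, mul_assoc]
      rw [Finset.prod_congr rfl (fun ν _ => e1 ν)]
      exact Equiv.prod_comp (Equiv.mulRight (Units.mk0 (a₀ ^ 2) (pow_ne_zero 2 ha₀)))
        (fun ν => cj ν (Γ₀ a b))
  -- (F6)
  have hΓ00 : ∀ s', Γ₀ 0 s' = 1 := by
    intro s'
    apply Subtype.ext
    show ⁅ℓ (T 0 0 0), ℓ (T s' 0 0)⁆ = 1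
    have hz : ℓ (T 0 0 0) ∈ Subgroup.center Γ := by
      apply hc
      rw [MonoidHom.mem_ker, hℓ, h000]
    rw [Subgroup.mem_center_iff] at hz
    rw [commutatorElement_eq_one_iff_mul_comm]
    exact (hz _).symm
  have hΓcube : ∀ s s', Γ₀ s s' ^ 3 ∈ E₃ := by
    intro s s'
    obtain ⟨d₁, hd₁, e1⟩ := hΓadd s s s'
    obtain ⟨d₂, hd₂, e2⟩ := hΓadd (s + s) s s'
    rw [h3s, hΓ00, e1] at e2
    have e3 : Γ₀ s s' ^ 3 = (d₁ * d₂)⁻¹ := helper51_cube_aux _ _ _ e2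
    rw [e3]
    exact E₃.inv_mem (E₃.mul_mem hd₁ hd₂)
  have hΓ9 : ∀ s s', Γ₀ s s' ^ 9 = 1 := by
    intro s s'
    have h1 := ((hE₃ _).1 (hΓcube s s')).2
    rw [← pow_mul] at h1
    exact h1
  -- the commutator subgroup lies in the kernel of `N` and has exponent 9
  have hle : ⁅P.comap σ, P.comap σ⁆ ≤
      (N.ker ⊓ (powMonoidHom 9 : ↥K₁ →* ↥K₁).ker).map K₁.subtype := by
    rw [Subgroup.commutator_le]
    intro x hx y hy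
    obtain ⟨s, u, v, hxa⟩ := (hPmem x).1 hx
    obtain ⟨s', u', v', hya⟩ := (hPmem y).1 hy
    obtain ⟨d, hd, hde⟩ := hΓ x y s u v s' u' v' hxa hya
    refine Subgroup.mem_map.2 ⟨Γ₀ s s' * d, Subgroup.mem_inf.2 ⟨?_, ?_⟩, ?_⟩
    · rw [MonoidHom.mem_ker, map_mul, hNΓ, hNE d hd, one_mul]
    · rw [MonoidHom.mem_ker]
      show (Γ₀ s s' * d) ^ 9 = 1
      have hd3 : d ^ 3 = 1 := ((hE₃ d).1 hd).2
      rw [mul_pow, hΓ9, one_mul, show (9 : ℕ) = 3 * 3 from rfl, pow_mul, hd3, one_pow]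
    · rw [hde]
      rfl
  intro w hwk hw
  obtain ⟨k, hk, hkw⟩ := Subgroup.mem_map.1 (hle hw)
  obtain ⟨hk1, hk2⟩ := Subgroup.mem_inf.1 hk
  rw [MonoidHom.mem_ker] at hk1 hk2
  have hkw' : (k : Γ) = w := hkw
  have hwc : w ∈ Subgroup.center Γ := hc hwk
  rw [Subgroup.mem_center_iff] at hwc
  have hfix : ∀ ν : Kˣ, cj ν k = k := by
    intro ν
    apply Subtype.ext
    rw [hcj, hkw', hwc (ℓ (H ν)), mul_inv_cancel_right]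
  have hpow : k ^ Fintype.card Kˣ = 1 := by
    rw [← hk1, hN, Finset.prod_congr rfl (fun ν _ => hfix ν), Finset.prod_const, Finset.card_univ]
  have hk9 : k ^ 9 = 1 := hk2
  rw [Nat.card_eq_fintype_card] at hcop
  have hcop' : Nat.Coprime 9 (Fintype.card Kˣ) := by
    have h1 : Nat.Coprime 3 (Fintype.card Kˣ) := (Nat.Prime.coprime_iff_not_dvd Nat.prime_three).2 hcop
    exact Nat.Coprime.pow_left 2 h1
  have ho : orderOf k ∣ 1 := by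
    rw [← hcop']
    exact Nat.dvd_gcd (orderOf_dvd_of_pow_eq_one hk9) (orderOf_dvd_of_pow_eq_one hpow)
  have hk1' : k = 1 := orderOf_eq_one_iff.1 (Nat.dvd_one.1 ho)
  rw [← hkw', hk1']
  rfl

end Cfsg.Agent.Lib.helper51.S2113
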