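import Mathlib
import Cfsg.Agent.Lib.helper51.S2113Defs
import Cfsg.Agent.Lib.helper51.S2113NORM3
import Cfsg.Agent.Lib.helper52.S2113MODEL
import Cfsg.Agent.Lib.helper97.S2113FLAB
import Cfsg.Agent.Lib.helper97.S2113FLAC
import Cfsg.Agent.Lib.helper4.S2113FLBC
import Cfsg.Agent.Lib.helper4.S2113R1
import Cfsg.Agent.Lib.helper6.S2113R2
import Cfsg.Agent.Lib.helper98.S2113R3
import Cfsg.Agent.Lib.helper61.S2113R4
import Cfsg.Agent.Lib.helper37.S2113TWOF
import Cfsg.Agent.Lib.helper37.S2113TWOC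
import Cfsg.Agent.Lib.helper50.S2113TWOM
import Cfsg.Agent.Lib.helper69.StemSylow
import Cfsg.Agent.Lib.helper69.SL2Mult
import Cfsg.Agent.Lib.helper44.ReeOutB
import Cfsg.Agent.Lib.helper44.ReeSyl
import Cfsg.Agent.Lib.helper44.ReeCent3
import Cfsg.Agent.S1152
import Cfsg.Agent.S1157
import Cfsg.Agent.S1069

/-! S2113: the Schur multiplier of the small Ree groups `²G₂(3^(2m+1))`, `m ≥ 1`, is trivial.
Assembly of the pieces (field lemmas, the 3-part on the unipotent subgroup, the 2-part on the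
self-centralising `2³`, cyclic Sylow subgroups for the other primes). -/

set_option autoImplicit false

namespace Cfsg.Agent.Lib.helper51.S2113

open scoped commutatorElement
open Cfsg Cfsg.Lie Cfsg.Agent.Lib.helper23 Cfsg.Agent.Lib.helper44

theorem helper51_ree_udata {K : Type*} [Field K] {e : ℕ} (R : ReeData K e) :
    UData K ↥(twistedG2 K e) (uEl e) e (fun t t' => -(t * (t' ^ e) ^ 3)) where
  top_r := uEl_mul_top R
  top_l := fun t u v w => by rw [uEl_top_comm R w (uEl_pos R t u v), uEl_mul_top R]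
  mid := uEl_mid_add R
  mul := Cfsg.Agent.Lib.helper52.S2113.helper52_model_mul R
  c_zero_right := fun t => by
    have he : e ≠ 0 := R.hodd.pos.ne'
    simp [zero_pow he]
  c_zero_left := fun t => by simp
  frob := R.hφ
  tor := Cfsg.Agent.Lib.helper52.S2113.helper52_model_tor R

theorem helper51_ree_core3 {K : Type*} [Field K] [Fintype K] {m : ℕ} (hm : 1 ≤ m)
    (hK : Fintype.card K = 3 ^ (2 * m + 1)) (R : ReeData K (3 ^ m)) {Γ : Type*} [Group Γ]
    (σ : Γ →* ↥(twistedG2 K (3 ^ m))) (hsurj : Function.Surjective σ)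
    (hc : σ.ker ≤ Subgroup.center Γ) :
    ∀ w ∈ σ.ker, w ∈ ⁅((chevG2.posUnipotent K).subgroupOf (twistedG2 K (3 ^ m))).comap σ,
      ((chevG2.posUnipotent K).subgroupOf (twistedG2 K (3 ^ m))).comap σ⁆ → w = 1 := by
  classical
  have D := helper51_ree_udata R
  haveI := R.char3
  have h3K : (3 : K) = 0 := by exact_mod_cast CharP.cast_eq_zero K 3
  have h2K : (2 : K) ≠ 0 := by
    intro h2
    have h1 : (1 : K) = 0 := by linear_combination h3K - h2
    exact one_ne_zero h1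
  have hq27 : 27 ≤ Fintype.card K := by
    rw [hK]
    calc 27 = 3 ^ 3 := by norm_num
      _ ≤ 3 ^ (2 * m + 1) := Nat.pow_le_pow_right (by norm_num) (by omega)
  obtain ⟨a₀, b₀, ha, hb, hab, hν⟩ :=
    Cfsg.Agent.Lib.helper69.exists_pair_char_odd h2K (by omega)
  have hsq : ∀ B : K → K → Γ, (∀ s s' t, B (s + s') t = B s t * B s' t) →
      (∀ s t t', B s (t + t') = B s t * B s t') →
      (∀ a s t, a ≠ 0 → B (a ^ 2 * s) (a ^ 2 * t) = B s t) → ∀ s t, B s t = 1 :=
    fun B hl hr hinv => Cfsg.Agent.Lib.helper69.pairing_trivial B hl hr hinv a₀ b₀ ha hb hab hν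
  have h1 : ∀ x y : Γ, (∃ w, σ x = uEl (3 ^ m) 0 0 w) → (∃ w, σ y = uEl (3 ^ m) 0 0 w) →
      x * y = y * x :=
    fun x y hx hy => Cfsg.Agent.Lib.helper4.S2113.helper4_r1 σ hsurj hc _ _ _ D hsq x y hx hy
  have h2 : ∀ x y : Γ, (∃ u v, σ x = uEl (3 ^ m) 0 u v) → (∃ w, σ y = uEl (3 ^ m) 0 0 w) →
      x * y = y * x :=
    fun x y hx hy => Cfsg.Agent.Lib.helper6.S2113.helper6_r2 σ hsurj hc _ _ _ D h1
      (fun B hl hr hinv => Cfsg.Agent.Lib.helper4.S2113.helper4_fl_bc hm hK B hl hr hinv) x y hx hy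
  have h3 : ∀ x y : Γ, (∃ t u v, σ x = uEl (3 ^ m) t u v) → (∃ w, σ y = uEl (3 ^ m) 0 0 w) →
      x * y = y * x :=
    fun x y hx hy => Cfsg.Agent.Lib.helper98.S2113.helper98_r3 σ hsurj hc _ _ _ D h2
      (fun B hl hr hinv => Cfsg.Agent.Lib.helper97.S2113.helper97_fl_ac hm hK B hl hr hinv)
      x y hx hy
  have h4 : ∀ x y : Γ, (∃ u v, σ x = uEl (3 ^ m) 0 u v) → (∃ u v, σ y = uEl (3 ^ m) 0 u v) →
      x * y = y * x :=
    fun x y hx hy => Cfsg.Agent.Lib.helper61.S2113.helper61_r4 σ hsurj hc _ _ _ D h2 hsq x y hx hy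
  have hcop : ¬ 3 ∣ Nat.card Kˣ := by
    rw [Nat.card_eq_fintype_card, Fintype.card_units, hK]
    have h3 : 3 ∣ 3 ^ (2 * m + 1) := dvd_pow_self 3 (by omega)
    have hpos : 1 ≤ 3 ^ (2 * m + 1) := Nat.one_le_pow _ _ (by norm_num)
    omega
  refine helper51_norm3 σ hsurj hc _ _ _ D h3K hcop h3 h4
    (fun B hl hr hinv => Cfsg.Agent.Lib.helper97.S2113.helper97_fl_ab hm hK B hl hr hinv) hsq _ ?_
  intro g
  rw [Subgroup.mem_subgroupOf]
  constructor
  · intro hg
    exact exists_uEl R hg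
  · rintro ⟨t, u, v, rfl⟩
    exact uEl_pos R t u v

theorem helper51_ree_stem_core {K : Type*} [Field K] [Fintype K] {m : ℕ} (hm : 1 ≤ m)
    (hK : Fintype.card K = 3 ^ (2 * m + 1)) {Γ : Type*} [Group Γ] [Finite Γ]
    (σ : Γ →* ↥(twistedG2 K (3 ^ m))) (hσ : Cfsg.IsStemExtension σ) : σ.ker = ⊥ := by
  classical
  obtain ⟨R⟩ := exists_reeData hK
  obtain ⟨hsurj, hc, -⟩ := id hσ
  have hfin : Finite ↥(twistedG2 K (3 ^ m)) := by
    apply Nat.finite_of_card_ne_zero
    rw [Cfsg.Agent.S1069.result hK]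
    have h1 : 1 < 3 ^ (2 * m + 1) := Nat.one_lt_pow (by omega) (by norm_num)
    have h2 : 0 < 3 ^ (2 * m + 1) - 1 := by omega
    positivity
  apply Cfsg.Agent.Lib.helper69.stem_ker_eq_bot_of_forall_prime σ hσ
  intro r hr
  by_cases h2 : r = 2
  · subst h2
    haveI : Fact (Nat.Prime 2) := ⟨Nat.prime_two⟩
    obtain ⟨a, haH, ha1, ha2⟩ := ree_exists_invol2 R
    let S : Sylow 2 ↥(twistedG2 K (3 ^ m)) := default
    have hS := (Cfsg.Agent.S1152.result hK ⟨a, (Subgroup.mem_inf.1 haH).2⟩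
      (Subgroup.mem_inf.1 haH).1 (fun h => ha1 (congrArg Subtype.val h))
      (Subtype.ext ha2)).2 S
    have hN := Cfsg.Agent.S1157.result hm hK S
    obtain ⟨g, hg, hg7, hfix⟩ := Cfsg.Agent.Lib.helper50.S2113.helper50_two_model
      (S : Subgroup ↥(twistedG2 K (3 ^ m))) hS.1 hS.2 hN.1 hN.2
    refine ⟨(S : Subgroup ↥(twistedG2 K (3 ^ m))).comap σ, MonoidHom.ker_le_comap _ _, ?_, ?_⟩
    · rw [Subgroup.index_comap_of_surjective _ hsurj]
      exact S.not_dvd_index
    · apply Cfsg.Agent.Lib.helper69.eq_one_of_mem_commutator_comap_of_comm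
      intro x y hx hy
      exact Cfsg.Agent.Lib.helper37.S2113.helper37_two_comm σ hsurj hc
        (S : Subgroup ↥(twistedG2 K (3 ^ m))) hS.1 hS.2 g hg hg7 hfix
        (fun f j => Cfsg.Agent.Lib.helper37.S2113.helper37_two_f f j) x y hx hy
  · by_cases h3 : r = 3
    · subst h3
      refine ⟨((chevG2.posUnipotent K).subgroupOf (twistedG2 K (3 ^ m))).comap σ,
        MonoidHom.ker_le_comap _ _, ?_, helper51_ree_core3 hm hK R σ hsurj hc⟩
      rw [Subgroup.index_comap_of_surjective _ hsurj]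
      exact Cfsg.Agent.Lib.helper52.S2113.helper52_syl3 hm hK
    · haveI : Fact r.Prime := ⟨hr⟩
      have hr3 : 3 < r := by
        have := hr.two_le
        omega
      let Pr : Sylow r ↥(twistedG2 K (3 ^ m)) := default
      refine ⟨(Pr : Subgroup ↥(twistedG2 K (3 ^ m))).comap σ, MonoidHom.ker_le_comap _ _, ?_, ?_⟩
      · rw [Subgroup.index_comap_of_surjective _ hsurj]
        exact Pr.not_dvd_index
      · haveI := ree_sylow_cyclic hm hK hr3 Pr
        exact Cfsg.Agent.Lib.helper69.eq_one_of_mem_commutator_comap_of_isCyclic σ hc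
          (Pr : Subgroup ↥(twistedG2 K (3 ^ m)))

theorem helper51_ree_mult_final {K : Type*} [Field K] [Fintype K] {m : ℕ} (hm : 1 ≤ m)
    (hK : Fintype.card K = 3 ^ (2 * m + 1)) :
    Cfsg.HasCyclicSchurMultiplier ↥(Cfsg.Lie.twistedG2 K (3 ^ m)) 1 := by
  classical
  have hfin : Finite ↥(twistedG2 K (3 ^ m)) := by
    apply Nat.finite_of_card_ne_zero
    rw [Cfsg.Agent.S1069.result hK]
    have h1 : 1 < 3 ^ (2 * m + 1) := Nat.one_lt_pow (by omega) (by norm_num)
    have h2 : 0 < 3 ^ (2 * m + 1) - 1 := by omega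
    positivity
  constructor
  · refine ⟨↥(twistedG2 K (3 ^ m)), inferInstance, hfin, MonoidHom.id _,
      ⟨Function.surjective_id, ?_, ?_⟩, ?_⟩
    · intro x hx
      rw [MonoidHom.mem_ker, MonoidHom.id_apply] at hx
      rw [hx]
      exact Subgroup.one_mem _
    · intro x hx
      rw [MonoidHom.mem_ker, MonoidHom.id_apply] at hx
      rw [hx]
      exact Subgroup.one_mem _
    · refine ⟨{
        toFun := fun _ => 1
        invFun := fun _ => 1
        left_inv := ?_
        right_inv := ?_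
        map_mul' := ?_ }⟩
      · intro x
        apply Subtype.ext
        exact (MonoidHom.mem_ker.mp x.2).symm
      · intro y
        exact Multiplicative.toAdd.injective (Subsingleton.elim _ _)
      · intro x y
        exact (mul_one 1).symm
  · intro Γ _ _ σ hσ
    have hk : σ.ker = ⊥ := helper51_ree_stem_core hm hK σ hσ
    refine ⟨1, ?_⟩
    intro x
    refine ⟨1, ?_⟩
    have hx : (x : Γ) ∈ (⊥ : Subgroup Γ) := hk ▸ x.2
    rw [Subgroup.mem_bot] at hx
    exact (Subtype.ext hx).symm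

end Cfsg.Agent.Lib.helper51.S2113
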