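import Mathlib
import Cfsg.Agent.Lib.helper51.TEven2

/-!
# Thompson's normal `p`-complement theorem (abelian-version `J`, `p` odd or `S₄`-free)
-/

set_option autoImplicit false

namespace Cfsg.Agent.Lib.helper51

universe u

/-- **Thompson's normal `p`-complement theorem**, in the `PNil` form: if `p` is odd or `S₄` is
not involved in `G`, and `C_G(Z(S))` and `N_G(J(S))` are `p`-nilpotent, then so is `G`. -/
theorem thompson_pnil {p : ℕ} [Fact p.Prime] : ∀ (n : ℕ) (G : Type u) [Group G] [Finite G],
    Nat.card G = n → ∀ S : Sylow p G, (p ≠ 2 ∨ ¬ Cfsg.Involves (Equiv.Perm (Fin 4)) G) →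
      ThHyp p (S : Subgroup G) → PNil p G := by
  intro n
  induction n using Nat.strong_induction_on with
  | _ n ih =>
    intro G _ _ hn S s4 hTh
    by_contra hnot
    have ih' : ThIH.{u} p (Nat.card G) := by
      intro G' _ _ hlt S' s4' hTh'
      exact ih (Nat.card G') (hn ▸ hlt) G' rfl S' s4' hTh'
    obtain ⟨H, K, hc⟩ := exists_minConf ih' s4 S hTh hnot
    by_cases hp2 : p = 2
    · subst hp2
      rcases s4 with h | h
      · exact h rfl
      · exact h hc.involves_s4
    · exact hc.false_of_odd hp2

/-- **Thompson's normal `p`-complement theorem.** -/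
theorem thompson_normal_complement {G : Type u} [Group G] [Finite G] {p : ℕ} [Fact p.Prime]
    (S : Sylow p G) (h : p ≠ 2 ∨ ¬ Cfsg.Involves (Equiv.Perm (Fin 4)) G)
    (hC : Cfsg.HasNormalPComplement p ↥(Subgroup.centralizer
      (((S : Subgroup G) ⊓ Subgroup.centralizer ((S : Subgroup G) : Set G) : Subgroup G) : Set G)))
    (hN : Cfsg.HasNormalPComplement p
      ↥(Subgroup.normalizer ((Cfsg.thompsonSubgroupAOf (S : Subgroup G)) : Set G))) :
    Cfsg.HasNormalPComplement p G := by
  have hTh : ThHyp p (S : Subgroup G) :=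
    ⟨pnil_of_hasNormalPComplement hC, pnil_of_hasNormalPComplement hN⟩
  exact (thompson_pnil (Nat.card G) G rfl S h hTh).hasNormalPComplement

end Cfsg.Agent.Lib.helper51
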